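import Mathlib
import Cfsg.Agent.Lib.Helper78.CharMore
import Cfsg.Agent.Lib.Helper81.IrrTwist

/-!
# Clifford theory for the Prelude character vocabulary (helper75)

* `sum_extendByZero_mul`, `frobenius_reciprocity` : Frobenius reciprocity for
  `Cfsg.classInner` / `Cfsg.indFun` (any subgroup, `ψ` a class function of `G`).
* `conjFun`, conjugate characters of a normal subgroup.
* Clifford's theorem.
-/

set_option autoImplicit false

namespace Cfsg.Agent.Lib.Helper75

open Cfsg
open scoped ComplexConjugate

universe u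

section Frobenius

variable {G : Type u} [Group G] [Fintype G]

/-- summing an extension by zero against a function reduces to a sum over the subgroup -/
theorem sum_extendByZero_mul (H : Subgroup G) [Fintype H] (θ : H → ℂ) (F : G → ℂ) :
    ∑ g : G, extendByZero H θ g * F g = ∑ h : H, θ h * F h := by
  classical
  have h1 : ∑ g : G, extendByZero H θ g * F g =
      ∑ g ∈ Finset.univ.filter (· ∈ H), extendByZero H θ g * F g := by
    symm
    apply Finset.sum_filter_of_ne
    intro g _ hne
    by_contra hg
    apply hne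
    have : extendByZero H θ g = 0 := by
      unfold extendByZero
      rw [Function.extend_apply']
      · rfl
      · rintro ⟨a, ha⟩
        exact hg (ha ▸ a.2)
    rw [this, zero_mul]
  rw [h1, Finset.sum_subtype (Finset.univ.filter (· ∈ H)) (p := (· ∈ H)) (by simp)]
  apply Finset.sum_congr rfl
  intro h _
  have : extendByZero H θ (h : G) = θ h := by
    unfold extendByZero
    exact Subtype.val_injective.extend_apply θ 0 h
  rw [this]

omit [Fintype G] in
theorem extendByZero_coe (H : Subgroup G) (θ : H → ℂ) (h : H) :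
    extendByZero H θ (h : G) = θ h := by
  unfold extendByZero
  exact Subtype.val_injective.extend_apply θ 0 h

omit [Fintype G] in
theorem extendByZero_of_not_mem (H : Subgroup G) (θ : H → ℂ) {g : G} (hg : g ∉ H) :
    extendByZero H θ g = 0 := by
  unfold extendByZero
  rw [Function.extend_apply']
  · rfl
  · rintro ⟨a, ha⟩
    exact hg (ha ▸ a.2)

omit [Fintype G] in
theorem extendByZero_of_mem (H : Subgroup G) (θ : H → ℂ) {g : G} (hg : g ∈ H) :
    extendByZero H θ g = θ ⟨g, hg⟩ :=
  extendByZero_coe H θ ⟨g, hg⟩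

/-- **Frobenius reciprocity** for class functions. -/
theorem frobenius_reciprocity (H : Subgroup G) [Fintype H] (θ : H → ℂ) {ψ : G → ℂ}
    (hψ : IsClassFunction G ψ) :
    classInner (indFun H θ) ψ = classInner θ (fun h : H => ψ h) := by
  unfold classInner indFun
  have hG : (Nat.card G : ℂ) ≠ 0 := by
    have : Nat.card G ≠ 0 := Nat.card_pos.ne'
    exact_mod_cast this
  have key : ∀ x : G, ∑ g : G, extendByZero H θ (x⁻¹ * g * x) * conj (ψ g) =
      ∑ h : H, θ h * conj (ψ h) := by
    intro x
    rw [← sum_extendByZero_mul H θ (fun g => conj (ψ g))]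
    apply Fintype.sum_equiv (MulAut.conj x⁻¹).toEquiv
    intro g
    have h1 : (MulAut.conj x⁻¹).toEquiv g = x⁻¹ * g * x := by simp
    rw [h1]
    congr 2
    have := hψ g x⁻¹
    rw [inv_inv] at this
    exact this.symm
  calc (Nat.card G : ℂ)⁻¹ * ∑ g : G, ((Nat.card H : ℂ)⁻¹ *
        ∑ x : G, extendByZero H θ (x⁻¹ * g * x)) * conj (ψ g)
      = (Nat.card G : ℂ)⁻¹ * ((Nat.card H : ℂ)⁻¹ *
        ∑ x : G, ∑ g : G, extendByZero H θ (x⁻¹ * g * x) * conj (ψ g)) := by
        congr 1
        rw [Finset.sum_comm, Finset.mul_sum]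
        apply Finset.sum_congr rfl
        intro g _
        rw [mul_assoc, Finset.sum_mul]
    _ = (Nat.card G : ℂ)⁻¹ * ((Nat.card H : ℂ)⁻¹ *
        ∑ _x : G, ∑ h : H, θ h * conj (ψ h)) := by
        congr 2
        apply Finset.sum_congr rfl
        intro x _
        exact key x
    _ = (Nat.card H : ℂ)⁻¹ * ∑ h : H, θ h * conj (ψ h) := by
        rw [Finset.sum_const, Finset.card_univ, nsmul_eq_mul, ← Nat.card_eq_fintype_card]
        field_simp

/-- Frobenius reciprocity, induced function in the second slot. -/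
theorem frobenius_reciprocity' (H : Subgroup G) [Fintype H] (θ : H → ℂ) {ψ : G → ℂ}
    (hψ : IsClassFunction G ψ) :
    classInner ψ (indFun H θ) = classInner (fun h : H => ψ h) θ := by
  rw [← Cfsg.Agent.Lib.Helper78.classInner_conj_symm, frobenius_reciprocity H θ hψ,
    Cfsg.Agent.Lib.Helper78.classInner_conj_symm]

end Frobenius

section Induced

variable {G : Type u} [Group G] [Fintype G]

/-- an induced function is a class function -/
theorem isClassFunction_indFun (H : Subgroup G) (θ : H → ℂ) : IsClassFunction G (indFun H θ) := by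
  intro g h
  unfold indFun
  congr 1
  apply Fintype.sum_equiv (Equiv.mulLeft h⁻¹)
  intro x
  congr 1
  simp only [Equiv.coe_mulLeft, mul_inv_rev, inv_inv]
  group

/-- the value of an induced function at `1` -/
theorem indFun_one (H : Subgroup G) (θ : H → ℂ) :
    indFun H θ 1 = (H.index : ℂ) * θ 1 := by
  unfold indFun
  have h1 : ∀ x : G, extendByZero H θ (x⁻¹ * 1 * x) = θ 1 := by
    intro x
    have : x⁻¹ * 1 * x = ((1 : H) : G) := by simp
    rw [this, extendByZero_coe]
  simp only [h1, Finset.sum_const, Finset.card_univ, nsmul_eq_mul]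
  have hH : (Nat.card H : ℂ) ≠ 0 := by
    have : Nat.card H ≠ 0 := Nat.card_pos.ne'
    exact_mod_cast this
  have hidx : (Nat.card H : ℂ) * (H.index : ℂ) = (Fintype.card G : ℂ) := by
    rw [← Nat.card_eq_fintype_card, ← H.card_mul_index]; push_cast; ring
  rw [← hidx]
  field_simp

end Induced

section Normal

variable {G : Type u} [Group G] (N : Subgroup G) [hN : N.Normal]

/-- the conjugate `θ^g : n ↦ θ (g n g⁻¹)` of a function on a normal subgroup -/
def conjFun (g : G) (θ : N → ℂ) : N → ℂ :=
  fun n => θ ⟨g * n * g⁻¹, hN.conj_mem n n.2 g⟩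

theorem conjFun_apply (g : G) (θ : N → ℂ) (n : N) :
    conjFun N g θ n = θ ⟨g * n * g⁻¹, hN.conj_mem n n.2 g⟩ := rfl

theorem conjFun_one (θ : N → ℂ) : conjFun N 1 θ = θ := by
  funext n
  rw [conjFun_apply]
  congr 1
  apply Subtype.ext
  simp

theorem conjFun_mul (g h : G) (θ : N → ℂ) :
    conjFun N (g * h) θ = conjFun N h (conjFun N g θ) := by
  funext n
  simp only [conjFun_apply]
  congr 1
  apply Subtype.ext
  simp only [mul_inv_rev]
  group

theorem conjFun_inv_conjFun (g : G) (θ : N → ℂ) : conjFun N g⁻¹ (conjFun N g θ) = θ := by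
  rw [← conjFun_mul, mul_inv_cancel, conjFun_one]

theorem conjFun_conjFun_inv (g : G) (θ : N → ℂ) : conjFun N g (conjFun N g⁻¹ θ) = θ := by
  rw [← conjFun_mul, inv_mul_cancel, conjFun_one]

/-- conjugation by an element of `N` fixes class functions of `N` -/
theorem conjFun_of_mem {θ : N → ℂ} (hθ : IsClassFunction N θ) (m : N) :
    conjFun N (m : G) θ = θ := by
  funext n
  rw [conjFun_apply]
  have := hθ n m
  rw [← this]
  congr 1

/-- conjugates of irreducible characters are irreducible characters -/
theorem isIrrCharacter_conjFun {θ : N → ℂ} (hθ : IsIrrCharacter N θ) (g : G) :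
    IsIrrCharacter N (conjFun N g θ) := by
  have := Cfsg.Agent.Lib.Helper81.isIrrCharacter_conjNormal N hθ g
  convert this using 1
  funext n
  rw [conjFun_apply]
  congr 1

/-- conjugates of characters are characters -/
theorem isCharacter_conjFun {θ : N → ℂ} (hθ : IsCharacter N θ) (g : G) :
    IsCharacter N (conjFun N g θ) := by
  have := Cfsg.Agent.Lib.Helper81.isCharacter_comp hθ (MulAut.conjNormal (H := N) g).toMonoidHom
  convert this using 1
  funext n
  rw [conjFun_apply]
  congr 1

/-- restriction of a character is a character -/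
theorem isCharacter_res (H : Subgroup G) {χ : G → ℂ} (hχ : IsCharacter G χ) :
    IsCharacter H (fun h : H => χ h) :=
  Cfsg.Agent.Lib.Helper81.isCharacter_comp hχ H.subtype

/-- restriction of a class function is a class function -/
theorem isClassFunction_res (H : Subgroup G) {χ : G → ℂ} (hχ : IsClassFunction G χ) :
    IsClassFunction H (fun h : H => χ h) := by
  intro g h
  exact hχ g h

variable [Fintype N]

/-- conjugation is an isometry for `classInner` -/
theorem classInner_conjFun_conjFun (g : G) (φ θ : N → ℂ) :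
    classInner (conjFun N g φ) (conjFun N g θ) = classInner φ θ := by
  unfold classInner
  congr 1
  apply Fintype.sum_equiv (MulAut.conjNormal (H := N) g).toEquiv
  intro n
  rfl

/-- the restriction of a class function of `G` has the same inner product with all conjugates -/
theorem classInner_res_conjFun {χ : G → ℂ} (hχ : IsClassFunction G χ) (g : G) (θ : N → ℂ) :
    classInner (fun n : N => χ n) (conjFun N g θ) = classInner (fun n : N => χ n) θ := by
  rw [← classInner_conjFun_conjFun N g (fun n : N => χ n) θ]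
  congr 1
  funext n
  rw [conjFun_apply]
  exact (hχ n g).symm

variable [Fintype G]

omit [Fintype N] in
/-- the restriction to `N` of a function induced from `N` is the average of the conjugates -/
theorem indFun_res_normal (θ : N → ℂ) (n : N) :
    indFun N θ n = (Nat.card N : ℂ)⁻¹ * ∑ x : G, conjFun N x⁻¹ θ n := by
  unfold indFun
  congr 1
  apply Finset.sum_congr rfl
  intro x _
  rw [conjFun_apply]
  have hmem : x⁻¹ * (n : G) * x ∈ N := by
    have := hN.conj_mem n n.2 x⁻¹
    rwa [inv_inv] at this
  rw [extendByZero_of_mem N θ hmem]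
  congr 1
  apply Subtype.ext
  simp

end Normal

section CliffordThm

open Cfsg.Agent.Lib.Helper78

variable {G : Type u} [Group G] [Fintype G] (N : Subgroup G) [hN : N.Normal] [Fintype N]

/-- `(ind θ)|_N` is orthogonal to every irreducible character of `N` not conjugate to `θ` -/
theorem classInner_indFun_res_eq_zero {θ φ : N → ℂ} (hθ : IsIrrCharacter N θ)
    (hφ : IsIrrCharacter N φ) (hne : ∀ g : G, conjFun N g θ ≠ φ) :
    classInner (fun n : N => indFun N θ n) φ = 0 := by
  have h1 : (fun n : N => indFun N θ n) =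
      (Nat.card N : ℂ)⁻¹ • ∑ x : G, conjFun N x⁻¹ θ := by
    funext n
    rw [indFun_res_normal N θ n, Pi.smul_apply, Finset.sum_apply, smul_eq_mul]
  rw [h1, classInner_smul_left, classInner_sum_left]
  have h2 : ∀ x : G, classInner (conjFun N x⁻¹ θ) φ = 0 := by
    intro x
    exact classInner_irr_ne (isIrrCharacter_conjFun N hθ x⁻¹) hφ (hne x⁻¹)
  simp only [h2, Finset.sum_const_zero, mul_zero]

/-- **Clifford**: an irreducible constituent of `χ|_N` not conjugate to `θ` does not exist. -/
theorem clifford_orthogonal {χ : G → ℂ} (hχ : IsIrrCharacter G χ) {θ φ : N → ℂ}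
    (hθ : IsIrrCharacter N θ) (hφ : IsIrrCharacter N φ)
    (hconst : classInner (fun n : N => χ n) θ ≠ 0) (hne : ∀ g : G, conjFun N g θ ≠ φ) :
    classInner (fun n : N => χ n) φ = 0 := by
  classical
  have h0 := classInner_indFun_res_eq_zero N hθ hφ hne
  have hexp := classFunction_eq_sum_irr (isClassFunction_indFun N θ)
  have hres : (fun n : N => indFun N θ n) =
      ∑ ψ : IrrCharacter G, classInner (indFun N θ) (ψ : G → ℂ) • (fun n : N => (ψ : G → ℂ) n) := by
    funext n
    have := congrFun hexp (n : G)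
    rw [Finset.sum_apply] at this
    rw [Finset.sum_apply]
    exact this
  rw [hres, classInner_sum_left] at h0
  simp only [classInner_smul_left] at h0
  choose a ha using fun ψ : IrrCharacter G =>
    IsCharacter.exists_nat_classInner (isCharacter_res N (IsIrrCharacter.isCharacter ψ.2)) ⟨θ, hθ⟩
  choose b hb using fun ψ : IrrCharacter G =>
    IsCharacter.exists_nat_classInner (isCharacter_res N (IsIrrCharacter.isCharacter ψ.2)) ⟨φ, hφ⟩
  have hcoef : ∀ ψ : IrrCharacter G, classInner (indFun N θ) (ψ : G → ℂ) = (a ψ : ℂ) := by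
    intro ψ
    rw [frobenius_reciprocity N θ (isClassFunction_irr ψ), ← classInner_conj_symm]
    have := ha ψ
    simp only at this
    rw [this]
    simp
  have hsum : ∑ ψ : IrrCharacter G, a ψ * b ψ = 0 := by
    have h3 : ((∑ ψ : IrrCharacter G, a ψ * b ψ : ℕ) : ℂ) = 0 := by
      push_cast
      rw [← h0]
      apply Finset.sum_congr rfl
      intro ψ _
      rw [hcoef ψ]
      have := hb ψ
      simp only at this
      rw [this]
    exact_mod_cast h3
  have hzero := (Finset.sum_eq_zero_iff.mp hsum) ⟨χ, hχ⟩ (Finset.mem_univ _)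
  have haχ : a ⟨χ, hχ⟩ ≠ 0 := by
    intro h
    apply hconst
    have := ha ⟨χ, hχ⟩
    simp only at this
    rw [this, h]; simp
  have hbχ : b ⟨χ, hχ⟩ = 0 := by
    rcases Nat.mul_eq_zero.mp hzero with h | h
    · exact absurd h haχ
    · exact h
  have := hb ⟨χ, hχ⟩
  simp only at this
  rw [this, hbχ]; simp

/-- **Clifford**: every irreducible constituent of `χ|_N` is conjugate to `θ`. -/
theorem clifford_conj {χ : G → ℂ} (hχ : IsIrrCharacter G χ) {θ φ : N → ℂ}
    (hθ : IsIrrCharacter N θ) (hφ : IsIrrCharacter N φ)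
    (hconst : classInner (fun n : N => χ n) θ ≠ 0)
    (hconst' : classInner (fun n : N => χ n) φ ≠ 0) : ∃ g : G, conjFun N g θ = φ := by
  by_contra h
  push Not at h
  exact hconst' (clifford_orthogonal N hχ hθ hφ hconst h)

/-- the finset of irreducible characters of `N` conjugate to `θ` -/
noncomputable def conjOrbit (θ : N → ℂ) : Finset (IrrCharacter N) := by
  classical
  exact Finset.univ.filter (fun φ : IrrCharacter N => ∃ g : G, conjFun N g θ = (φ : N → ℂ))

theorem mem_conjOrbit {θ : N → ℂ} {φ : IrrCharacter N} :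
    φ ∈ conjOrbit N θ ↔ ∃ g : G, conjFun N g θ = (φ : N → ℂ) := by
  classical
  unfold conjOrbit
  simp

/-- **Clifford's theorem**, finset form. -/
theorem clifford_finset {χ : G → ℂ} (hχ : IsIrrCharacter G χ) {θ : N → ℂ}
    (hθ : IsIrrCharacter N θ) (hconst : classInner (fun n : N => χ n) θ ≠ 0) :
    (fun n : N => χ n) =
      classInner (fun n : N => χ n) θ • ∑ φ ∈ conjOrbit N θ, (φ : N → ℂ) := by
  classical
  have hres : IsCharacter N (fun n : N => χ n) :=
    isCharacter_res N (IsIrrCharacter.isCharacter hχ)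
  have hcl : IsClassFunction G χ := IsCharacter.isClassFunction (IsIrrCharacter.isCharacter hχ)
  conv_lhs => rw [IsCharacter.eq_sum_irr hres]
  rw [Finset.smul_sum, ← Finset.sum_subset (Finset.subset_univ (conjOrbit N θ))]
  · apply Finset.sum_congr rfl
    intro φ hφ
    obtain ⟨g, hg⟩ := (mem_conjOrbit N).mp hφ
    rw [← hg, classInner_res_conjFun N hcl g θ]
  · intro φ _ hφ
    have hne : ∀ g : G, conjFun N g θ ≠ (φ : N → ℂ) := by
      intro g hg
      exact hφ ((mem_conjOrbit N).mpr ⟨g, hg⟩)
    rw [clifford_orthogonal N hχ hθ φ.2 hconst hne, zero_smul]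

omit hN in
/-- the set of conjugates of `θ` as a set of functions, and the finsum over it -/
theorem finsum_conj_eq_sum_conjOrbit {θ : N → ℂ} (hθ : IsIrrCharacter N θ) (hN' : N.Normal) :
    ∑ᶠ ψ ∈ {ψ : N → ℂ | ∃ g : G, ψ = fun n : N => θ ⟨g * n * g⁻¹, hN'.conj_mem n n.2 g⟩}, ψ =
      ∑ φ ∈ conjOrbit N θ, (φ : N → ℂ) := by
  classical
  have hset : {ψ : N → ℂ | ∃ g : G, ψ = fun n : N => θ ⟨g * n * g⁻¹, hN'.conj_mem n n.2 g⟩} =
      ((conjOrbit N θ).image (fun φ : IrrCharacter N => (φ : N → ℂ)) : Finset (N → ℂ)) := by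
    ext ψ
    simp only [Set.mem_ofPred_eq, Finset.coe_image, Set.mem_image, Finset.mem_coe]
    constructor
    · rintro ⟨g, rfl⟩
      refine ⟨⟨conjFun N g θ, isIrrCharacter_conjFun N hθ g⟩, (mem_conjOrbit N).mpr ⟨g, rfl⟩, rfl⟩
    · rintro ⟨φ, hφ, rfl⟩
      obtain ⟨g, hg⟩ := (mem_conjOrbit N).mp hφ
      exact ⟨g, hg.symm⟩
  rw [hset, finsum_mem_coe_finset, Finset.sum_image]
  intro φ _ φ' _ h
  exact Subtype.ext h

omit hN in
/-- **Clifford's theorem** in the form of statement S0174. -/
theorem clifford_theorem (hN' : N.Normal) {χ : G → ℂ} (hχ : IsIrrCharacter G χ) {θ : N → ℂ}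
    (hθ : IsIrrCharacter N θ) (hconst : classInner (fun n : N => χ n) θ ≠ 0) :
    (fun n : N => χ n) = classInner (fun n : N => χ n) θ •
      ∑ᶠ ψ ∈ {ψ : N → ℂ | ∃ g : G, ψ = fun n : N => θ ⟨g * n * g⁻¹, hN'.conj_mem n n.2 g⟩}, ψ := by
  rw [finsum_conj_eq_sum_conjOrbit N hθ hN']
  exact clifford_finset N hχ hθ hconst

end CliffordThm

end Cfsg.Agent.Lib.Helper75
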