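import Mathlib
import Cfsg.Agent.Lib.Helper75.Clifford

/-!
# The Clifford correspondence (helper75)

`N ≤ T ≤ G`, `N` normal in `G`, `θ` an irreducible character of `N` with inertia group `T`.
Induction gives a bijection from the irreducible characters of `T` over `θ` to those of `G`
over `θ`, preserving the multiplicity of `θ`.
-/

set_option autoImplicit false

namespace Cfsg.Agent.Lib.Helper75

open Cfsg
open scoped ComplexConjugate

universe u

section Combinatorics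

variable {I J : Type*} [Fintype I] [Fintype J]

/-- square of a sum of naturals dominates the sum of squares -/
theorem sq_sum_ge_sum_sq (a : I → ℕ) : ∑ i, a i ^ 2 ≤ (∑ i, a i) ^ 2 := by
  rw [pow_two, Finset.sum_mul_sum]
  apply Finset.sum_le_sum
  intro i _
  rw [pow_two]
  exact Finset.single_le_sum (f := fun i' => a i * a i') (fun _ _ => Nat.zero_le _)
    (Finset.mem_univ i)

variable [DecidableEq I] [DecidableEq J]

omit [Fintype J] [DecidableEq J] in
/-- equality case -/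
theorem mul_eq_zero_of_sq_sum_eq (a : I → ℕ) (h : (∑ i, a i) ^ 2 = ∑ i, a i ^ 2)
    {i i' : I} (hne : i ≠ i') : a i * a i' = 0 := by
  rw [pow_two, Finset.sum_mul_sum] at h
  have hle : ∀ i ∈ Finset.univ, a i ^ 2 ≤ ∑ i', a i * a i' := by
    intro i _
    rw [pow_two]
    exact Finset.single_le_sum (f := fun i' => a i * a i') (fun _ _ => Nat.zero_le _)
      (Finset.mem_univ i)
  have heq := (Finset.sum_eq_sum_iff_of_le hle).mp h.symm i (Finset.mem_univ i)
  rw [← Finset.add_sum_erase Finset.univ (fun i' => a i * a i') (Finset.mem_univ i), pow_two] at heq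
  have hz : ∑ x ∈ Finset.univ.erase i, a i * a x = 0 := by omega
  exact (Finset.sum_eq_zero_iff.mp hz) i' (Finset.mem_erase.mpr ⟨hne.symm, Finset.mem_univ i'⟩)

/-- the combinatorial core of the Clifford correspondence -/
theorem clifford_comb (f : I → ℕ) (c : I → J → ℕ) (hc : ∀ i, ∃ j, c i j ≠ 0)
    (h : ∑ j, (∑ i, f i * c i j) ^ 2 = ∑ i, f i ^ 2) :
    (∀ i, f i ≠ 0 → ∃ j₀, c i j₀ = 1 ∧ ∀ j, j ≠ j₀ → c i j = 0) ∧
      (∀ i i', i ≠ i' → f i ≠ 0 → f i' ≠ 0 → ∀ j, c i j * c i' j = 0) := by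
  -- chain of inequalities
  have h1 : ∀ j ∈ Finset.univ, ∑ i, (f i * c i j) ^ 2 ≤ (∑ i, f i * c i j) ^ 2 :=
    fun j _ => sq_sum_ge_sum_sq (fun i => f i * c i j)
  have h2 : ∑ j, ∑ i, (f i * c i j) ^ 2 = ∑ i, f i ^ 2 * ∑ j, c i j ^ 2 := by
    rw [Finset.sum_comm]
    apply Finset.sum_congr rfl
    intro i _
    rw [Finset.mul_sum]
    apply Finset.sum_congr rfl
    intro j _
    ring
  have h3 : ∀ i ∈ Finset.univ, f i ^ 2 ≤ f i ^ 2 * ∑ j, c i j ^ 2 := by
    intro i _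
    obtain ⟨j, hj⟩ := hc i
    have : 1 ≤ ∑ j, c i j ^ 2 := by
      have h4 : c i j ^ 2 ≤ ∑ j, c i j ^ 2 :=
        Finset.single_le_sum (f := fun j => c i j ^ 2) (fun _ _ => Nat.zero_le _)
          (Finset.mem_univ j)
      have h5 : 1 ≤ c i j ^ 2 := Nat.one_le_pow _ _ (Nat.pos_of_ne_zero hj)
      omega
    exact Nat.le_mul_of_pos_right _ this
  have hA : ∑ j, ∑ i, (f i * c i j) ^ 2 ≤ ∑ j, (∑ i, f i * c i j) ^ 2 := Finset.sum_le_sum h1
  have hB : ∑ i, f i ^ 2 ≤ ∑ i, f i ^ 2 * ∑ j, c i j ^ 2 := Finset.sum_le_sum h3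
  have hA' : ∑ j, ∑ i, (f i * c i j) ^ 2 = ∑ j, (∑ i, f i * c i j) ^ 2 := by
    apply le_antisymm hA
    rw [h, h2]; exact hB
  have hB' : ∑ i, f i ^ 2 = ∑ i, f i ^ 2 * ∑ j, c i j ^ 2 := by
    apply le_antisymm hB
    rw [← h2, hA', h]
  constructor
  · intro i hi
    have heq := (Finset.sum_eq_sum_iff_of_le h3).mp hB' i (Finset.mem_univ i)
    have hpos : 0 < f i ^ 2 := by positivity
    have hsum : ∑ j, c i j ^ 2 = 1 := by
      have : f i ^ 2 * 1 = f i ^ 2 * ∑ j, c i j ^ 2 := by rw [mul_one]; exact heq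
      exact (Nat.eq_of_mul_eq_mul_left hpos this).symm
    obtain ⟨j₀, hj₀⟩ := hc i
    have hsplit := Finset.add_sum_erase Finset.univ (fun j => c i j ^ 2) (Finset.mem_univ j₀)
    rw [hsum] at hsplit
    have h5 : 1 ≤ c i j₀ ^ 2 := Nat.one_le_pow _ _ (Nat.pos_of_ne_zero hj₀)
    have h6 : c i j₀ ^ 2 = 1 := by omega
    have h7 : ∑ x ∈ Finset.univ.erase j₀, c i x ^ 2 = 0 := by omega
    refine ⟨j₀, ?_, ?_⟩
    · exact Nat.pow_left_injective (n := 2) (by norm_num) (by simpa using h6)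
    · intro j hj
      have := (Finset.sum_eq_zero_iff.mp h7) j (Finset.mem_erase.mpr ⟨hj, Finset.mem_univ j⟩)
      exact pow_eq_zero_iff (two_ne_zero) |>.mp this
  · intro i i' hne hi hi' j
    have heq := (Finset.sum_eq_sum_iff_of_le h1).mp hA' j (Finset.mem_univ j)
    have := mul_eq_zero_of_sq_sum_eq (fun i => f i * c i j) heq.symm hne
    rcases Nat.mul_eq_zero.mp this with h8 | h8
    · rcases Nat.mul_eq_zero.mp h8 with h9 | h9
      · exact absurd h9 hi
      · rw [h9, zero_mul]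
    · rcases Nat.mul_eq_zero.mp h8 with h9 | h9
      · exact absurd h9 hi'
      · rw [h9, mul_zero]

end Combinatorics

section Transport

/-- `classInner` is invariant under transport along a bijection -/
theorem classInner_comp_equiv {A B : Type u} [Group A] [Group B] [Fintype A] [Fintype B]
    (e : A ≃ B) (f h : B → ℂ) : classInner (f ∘ e) (h ∘ e) = classInner f h := by
  unfold classInner
  rw [Nat.card_congr e]
  congr 1
  exact Fintype.sum_equiv e _ _ (fun a => rfl)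

end Transport

section Correspondence

open Cfsg.Agent.Lib.Helper78

variable {G : Type u} [Group G] [Fintype G] (N T : Subgroup G) [hN : N.Normal] [Fintype N]
  [Fintype T]

/-- restriction from `T` to `N ≤ T` -/
def resNT (hNT : N ≤ T) (ψ : T → ℂ) : N → ℂ := fun n => ψ ⟨(n : G), hNT n.2⟩

/-- `θ` transported to `N.subgroupOf T` -/
def liftNT (θ : N → ℂ) : N.subgroupOf T → ℂ :=
  fun x => θ ⟨((x : T) : G), Subgroup.mem_subgroupOf.mp x.2⟩

omit [Fintype G] hN [Fintype N] [Fintype T] in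
theorem liftNT_eq_comp (hNT : N ≤ T) (θ : N → ℂ) :
    liftNT N T θ = θ ∘ (Subgroup.subgroupOfEquivOfLe hNT).toEquiv := rfl

omit [Fintype G] hN [Fintype N] [Fintype T] in
theorem res_eq_comp (hNT : N ≤ T) (ψ : T → ℂ) :
    (fun m : N.subgroupOf T => ψ m) = resNT N T hNT ψ ∘ (Subgroup.subgroupOfEquivOfLe hNT).toEquiv :=
  rfl

omit [Fintype G] hN [Fintype N] [Fintype T] in
theorem isCharacter_resNT (hNT : N ≤ T) {ψ : T → ℂ} (hψ : IsCharacter T ψ) :
    IsCharacter N (resNT N T hNT ψ) :=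
  Cfsg.Agent.Lib.Helper81.isCharacter_comp hψ (Subgroup.inclusion hNT)

omit [Fintype G] hN [Fintype N] [Fintype T] in
theorem isIrrCharacter_liftNT (hNT : N ≤ T) {θ : N → ℂ} (hθ : IsIrrCharacter N θ) :
    IsIrrCharacter (N.subgroupOf T) (liftNT N T θ) :=
  Cfsg.Agent.Lib.Helper81.isIrrCharacter_comp_mulEquiv hθ (Subgroup.subgroupOfEquivOfLe hNT)

omit [Fintype G] [Fintype N] [Fintype T] in
/-- `θ` transported to `N.subgroupOf T` is `T`-invariant when `T` stabilizes `θ` -/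
theorem conjFun_liftNT {θ : N → ℂ} (hT : ∀ g : G, g ∈ T → conjFun N g θ = θ) (t : T) :
    conjFun (N.subgroupOf T) t (liftNT N T θ) = liftNT N T θ := by
  funext m
  have h1 := congrFun (hT t t.2) ⟨((m : T) : G), Subgroup.mem_subgroupOf.mp m.2⟩
  rw [conjFun_apply] at h1
  exact h1

omit hN in
/-- Frobenius reciprocity from `N.subgroupOf T` to `T`, transported to `N` -/
theorem classInner_indFun_liftNT (hNT : N ≤ T) (θ : N → ℂ) {ψ : T → ℂ}
    (hψ : IsClassFunction T ψ) :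
    classInner (indFun (N.subgroupOf T) (liftNT N T θ)) ψ =
      conj (classInner (resNT N T hNT ψ) θ) := by
  let _ : Fintype (N.subgroupOf T) := Fintype.ofFinite _
  rw [frobenius_reciprocity (N.subgroupOf T) _ hψ, liftNT_eq_comp N T hNT, res_eq_comp N T hNT,
    classInner_comp_equiv, classInner_conj_symm]

omit hN in
/-- transitivity of induction, in inner product form -/
theorem classInner_indFun_eq (hNT : N ≤ T) (θ : N → ℂ) {F : G → ℂ} (hF : IsClassFunction G F) :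
    classInner (indFun N θ) F =
      classInner (indFun (N.subgroupOf T) (liftNT N T θ)) (fun t : T => F t) := by
  rw [frobenius_reciprocity N θ hF,
    classInner_indFun_liftNT N T hNT θ (isClassFunction_res T hF), classInner_conj_symm]
  rfl

omit [Fintype N] in
/-- the norm of `ind_N^T θ` when `θ` is `T`-invariant -/
theorem classInner_indFun_liftNT_self (hNT : N ≤ T) {θ : N → ℂ} (hθ : IsIrrCharacter N θ)
    (hT : ∀ g : G, g ∈ T → conjFun N g θ = θ) :
    classInner (indFun (N.subgroupOf T) (liftNT N T θ))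
      (indFun (N.subgroupOf T) (liftNT N T θ)) = (Nat.card T : ℂ) / (Nat.card N : ℂ) := by
  let _ : Fintype (N.subgroupOf T) := Fintype.ofFinite _
  have hirr := isIrrCharacter_liftNT N T hNT hθ
  rw [frobenius_reciprocity (N.subgroupOf T) _ (isClassFunction_indFun _ _)]
  have h1 : (fun m : N.subgroupOf T => indFun (N.subgroupOf T) (liftNT N T θ) m) =
      ((Nat.card (N.subgroupOf T) : ℂ)⁻¹ * (Nat.card T : ℂ)) • liftNT N T θ := by
    funext m
    rw [indFun_res_normal (N.subgroupOf T) (liftNT N T θ) m]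
    simp only [conjFun_liftNT N T hT, Finset.sum_const, Finset.card_univ, nsmul_eq_mul,
      Pi.smul_apply, smul_eq_mul, Nat.card_eq_fintype_card]
    ring
  rw [h1, classInner_smul_right, classInner_irr_self hirr, mul_one,
    Nat.card_congr (Subgroup.subgroupOfEquivOfLe hNT).toEquiv]
  simp only [map_mul, map_inv₀, Complex.conj_natCast]
  rw [div_eq_mul_inv, mul_comm]

/-- the norm of `ind_N^G θ` when `T` is the inertia group -/
theorem classInner_indFun_self {θ : N → ℂ} (hθ : IsIrrCharacter N θ)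
    (hT : ∀ g : G, g ∈ T ↔ conjFun N g θ = θ) :
    classInner (indFun N θ) (indFun N θ) = (Nat.card T : ℂ) / (Nat.card N : ℂ) := by
  classical
  rw [frobenius_reciprocity N θ (isClassFunction_indFun _ _), ← classInner_conj_symm]
  have h1 : (fun n : N => indFun N θ n) = (Nat.card N : ℂ)⁻¹ • ∑ x : G, conjFun N x⁻¹ θ := by
    funext n
    rw [indFun_res_normal N θ n, Pi.smul_apply, Finset.sum_apply, smul_eq_mul]
  rw [h1, classInner_smul_left, classInner_sum_left]
  have h2 : ∀ x : G, classInner (conjFun N x⁻¹ θ) θ = if x⁻¹ ∈ T then 1 else 0 := by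
    intro x
    rw [classInner_irr (isIrrCharacter_conjFun N hθ x⁻¹) hθ]
    simp only [← hT x⁻¹]
  simp only [h2]
  have h3 : ∑ x : G, (if x⁻¹ ∈ T then (1 : ℂ) else 0) = (Nat.card T : ℂ) := by
    rw [Fintype.sum_equiv (Equiv.inv G) (fun x => if x⁻¹ ∈ T then (1 : ℂ) else 0)
      (fun x => if x ∈ T then (1 : ℂ) else 0) (fun x => by simp)]
    rw [Finset.sum_boole, Nat.card_eq_fintype_card, Fintype.card_subtype]
  rw [h3]
  simp only [map_mul, map_inv₀, Complex.conj_natCast]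
  rw [div_eq_mul_inv, mul_comm]

end Correspondence

section Main

open Cfsg.Agent.Lib.Helper78

variable {G : Type u} [Group G] [Fintype G] (N T : Subgroup G) [hN : N.Normal] [Fintype N]
  [Fintype T]

omit hN [Fintype N] [Fintype T] in
/-- an induced irreducible character has a constituent -/
theorem exists_classInner_indFun_ne_zero {ψ : T → ℂ} (hψ : IsIrrCharacter T ψ) :
    ∃ χ : IrrCharacter G, classInner (indFun T ψ) (χ : G → ℂ) ≠ 0 := by
  by_contra h
  push Not at h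
  have h0 := eq_zero_of_forall_classInner_irr_eq_zero (isClassFunction_indFun T ψ) h
  have h1 := congrFun h0 1
  rw [indFun_one] at h1
  have hidx : (T.index : ℂ) ≠ 0 := by
    have : T.index ≠ 0 := Subgroup.index_ne_zero_of_finite
    exact_mod_cast this
  rcases mul_eq_zero.mp h1 with h2 | h2
  · exact hidx h2
  · exact IsIrrCharacter.apply_one_ne_zero hψ h2

/-- The data of the Clifford correspondence: multiplicities `f ψ = [ψ_N, θ]`,
`c ψ χ = [ind ψ, χ]`, with the orthogonality properties. -/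
theorem clifford_corr_aux (hNT : N ≤ T) {θ : N → ℂ} (hθ : IsIrrCharacter N θ)
    (hT : ∀ g : G, g ∈ T ↔ conjFun N g θ = θ) :
    ∃ (f : IrrCharacter T → ℕ) (c : IrrCharacter T → IrrCharacter G → ℕ),
      (∀ ψ : IrrCharacter T, classInner (resNT N T hNT (ψ : T → ℂ)) θ = (f ψ : ℂ)) ∧
      (∀ (ψ : IrrCharacter T) (χ : IrrCharacter G),
        classInner (indFun T (ψ : T → ℂ)) (χ : G → ℂ) = (c ψ χ : ℂ)) ∧
      (∀ χ : IrrCharacter G, classInner (fun n : N => (χ : G → ℂ) n) θ =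
        ((∑ ψ : IrrCharacter T, f ψ * c ψ χ : ℕ) : ℂ)) ∧
      (∀ ψ, f ψ ≠ 0 → ∃ χ₀, c ψ χ₀ = 1 ∧ ∀ χ, χ ≠ χ₀ → c ψ χ = 0) ∧
      (∀ ψ ψ', ψ ≠ ψ' → f ψ ≠ 0 → f ψ' ≠ 0 → ∀ χ, c ψ χ * c ψ' χ = 0) := by
  classical
  -- the multiplicities
  choose f hf using fun ψ : IrrCharacter T =>
    IsCharacter.exists_nat_classInner
      (isCharacter_resNT N T hNT (IsIrrCharacter.isCharacter ψ.2)) ⟨θ, hθ⟩
  choose c' hc' using fun (ψ : IrrCharacter T) (χ : IrrCharacter G) =>
    IsCharacter.exists_nat_classInner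
      (isCharacter_res T (IsIrrCharacter.isCharacter χ.2)) ψ
  have hc : ∀ (ψ : IrrCharacter T) (χ : IrrCharacter G),
      classInner (indFun T (ψ : T → ℂ)) (χ : G → ℂ) = (c' ψ χ : ℂ) := by
    intro ψ χ
    rw [frobenius_reciprocity T _ (isClassFunction_irr χ), ← classInner_conj_symm]
    have := hc' ψ χ
    rw [this]; simp
  -- Ψ = ind_N^T θ and its coefficients
  set Ψ : T → ℂ := indFun (N.subgroupOf T) (liftNT N T θ) with hΨ
  have hΨcl : IsClassFunction T Ψ := isClassFunction_indFun _ _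
  have hΨf : ∀ ψ : IrrCharacter T, classInner Ψ (ψ : T → ℂ) = (f ψ : ℂ) := by
    intro ψ
    rw [hΨ, classInner_indFun_liftNT N T hNT θ (isClassFunction_irr ψ)]
    have := hf ψ
    simp only at this
    rw [this]; simp
  -- d_χ
  have hd : ∀ χ : IrrCharacter G, classInner (indFun N θ) (χ : G → ℂ) =
      ((∑ ψ : IrrCharacter T, f ψ * c' ψ χ : ℕ) : ℂ) := by
    intro χ
    rw [classInner_indFun_eq N T hNT θ (isClassFunction_irr χ), ← hΨ,
      classInner_eq_sum_mul_conj _ hΨcl]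
    push_cast
    apply Finset.sum_congr rfl
    intro ψ _
    rw [hΨf ψ]
    have := hc' ψ χ
    rw [this]; simp
  -- the two norms
  have hT' : ∀ g : G, g ∈ T → conjFun N g θ = θ := fun g hg => (hT g).mp hg
  have hnorm1 := classInner_indFun_liftNT_self N T hNT hθ hT'
  have hnorm2 := classInner_indFun_self N T hθ hT
  rw [← hΨ, classInner_eq_sum_mul_conj _ hΨcl] at hnorm1
  rw [classInner_eq_sum_mul_conj _ (isClassFunction_indFun N θ)] at hnorm2
  have hkey : ∑ χ : IrrCharacter G, (∑ ψ : IrrCharacter T, f ψ * c' ψ χ) ^ 2 =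
      ∑ ψ : IrrCharacter T, f ψ ^ 2 := by
    have h1 : ((∑ χ : IrrCharacter G, (∑ ψ : IrrCharacter T, f ψ * c' ψ χ) ^ 2 : ℕ) : ℂ) =
        ((∑ ψ : IrrCharacter T, f ψ ^ 2 : ℕ) : ℂ) := by
      have e1 : ((∑ χ : IrrCharacter G, (∑ ψ : IrrCharacter T, f ψ * c' ψ χ) ^ 2 : ℕ) : ℂ) =
          (Nat.card T : ℂ) / (Nat.card N : ℂ) := by
        rw [← hnorm2]
        push_cast
        apply Finset.sum_congr rfl
        intro χ _
        rw [hd χ]
        push_cast
        simp only [map_sum, map_mul, Complex.conj_natCast]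
        ring
      have e2 : ((∑ ψ : IrrCharacter T, f ψ ^ 2 : ℕ) : ℂ) =
          (Nat.card T : ℂ) / (Nat.card N : ℂ) := by
        rw [← hnorm1]
        push_cast
        apply Finset.sum_congr rfl
        intro ψ _
        rw [hΨf ψ]
        simp only [Complex.conj_natCast]
        ring
      rw [e1, e2]
    exact_mod_cast h1
  have hcne : ∀ ψ : IrrCharacter T, ∃ χ : IrrCharacter G, c' ψ χ ≠ 0 := by
    intro ψ
    obtain ⟨χ, hχ⟩ := exists_classInner_indFun_ne_zero T ψ.2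
    refine ⟨χ, ?_⟩
    intro h
    apply hχ
    rw [hc ψ χ, h]; simp
  obtain ⟨hcomb1, hcomb2⟩ := clifford_comb f c' hcne hkey
  refine ⟨f, c', ?_, hc, ?_, hcomb1, hcomb2⟩
  · intro ψ
    have := hf ψ
    simp only at this
    exact this
  · intro χ
    rw [← classInner_conj_symm, ← frobenius_reciprocity N θ (isClassFunction_irr χ), hd χ]
    simp

end Main

section Theorems

open Cfsg.Agent.Lib.Helper78

variable {G : Type u} [Group G] [Fintype G] (N T : Subgroup G) [hN : N.Normal] [Fintype N]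
  [Fintype T]

/-- **Clifford correspondence**: induction from the inertia group preserves irreducibility. -/
theorem isIrrCharacter_indFun_of_over (hNT : N ≤ T) {θ : N → ℂ} (hθ : IsIrrCharacter N θ)
    (hT : ∀ g : G, g ∈ T ↔ conjFun N g θ = θ) {ψ : T → ℂ} (hψ : IsIrrCharacter T ψ)
    (hover : classInner (resNT N T hNT ψ) θ ≠ 0) : IsIrrCharacter G (indFun T ψ) := by
  classical
  obtain ⟨f, c, hf, hc, -, h1, -⟩ := clifford_corr_aux N T hNT hθ hT
  have hfψ : f ⟨ψ, hψ⟩ ≠ 0 := by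
    intro h
    apply hover
    rw [hf ⟨ψ, hψ⟩, h]; simp
  obtain ⟨χ₀, hχ₀, hother⟩ := h1 ⟨ψ, hψ⟩ hfψ
  have hexp := classFunction_eq_sum_irr (isClassFunction_indFun T ψ)
  rw [Finset.sum_eq_single χ₀] at hexp
  · rw [hexp, hc ⟨ψ, hψ⟩ χ₀, hχ₀]
    simp only [Nat.cast_one, one_smul]
    exact χ₀.2
  · intro χ _ hne
    rw [hc ⟨ψ, hψ⟩ χ, hother χ hne]; simp
  · intro h; exact absurd (Finset.mem_univ _) h

/-- **Clifford correspondence**: induction from the inertia group is injective on the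
irreducible characters over `θ`. -/
theorem indFun_injective_of_over (hNT : N ≤ T) {θ : N → ℂ} (hθ : IsIrrCharacter N θ)
    (hT : ∀ g : G, g ∈ T ↔ conjFun N g θ = θ) {ψ ψ' : T → ℂ} (hψ : IsIrrCharacter T ψ)
    (hψ' : IsIrrCharacter T ψ')
    (hover : classInner (resNT N T hNT ψ) θ ≠ 0)
    (hover' : classInner (resNT N T hNT ψ') θ ≠ 0)
    (heq : indFun T ψ = indFun T ψ') : ψ = ψ' := by
  classical
  obtain ⟨f, c, hf, hc, -, h1, h2⟩ := clifford_corr_aux N T hNT hθ hT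
  have hfψ : f ⟨ψ, hψ⟩ ≠ 0 := by
    intro h
    apply hover
    rw [hf ⟨ψ, hψ⟩, h]; simp
  have hfψ' : f ⟨ψ', hψ'⟩ ≠ 0 := by
    intro h
    apply hover'
    rw [hf ⟨ψ', hψ'⟩, h]; simp
  by_contra hne
  have hne' : (⟨ψ, hψ⟩ : IrrCharacter T) ≠ ⟨ψ', hψ'⟩ := fun h => hne (congrArg Subtype.val h)
  obtain ⟨χ₀, hχ₀, -⟩ := h1 ⟨ψ, hψ⟩ hfψ
  have h3 := h2 _ _ hne' hfψ hfψ' χ₀
  have h4 : (c ⟨ψ', hψ'⟩ χ₀ : ℂ) = (c ⟨ψ, hψ⟩ χ₀ : ℂ) := by
    rw [← hc, ← hc]
    change classInner (indFun T ψ') _ = classInner (indFun T ψ) _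
    rw [heq]
  have h5 : c ⟨ψ', hψ'⟩ χ₀ = c ⟨ψ, hψ⟩ χ₀ := by exact_mod_cast h4
  rw [h5, hχ₀] at h3
  exact one_ne_zero h3

/-- **Clifford correspondence**: every irreducible character of `G` over `θ` is induced from
an irreducible character of the inertia group over `θ`, with the same multiplicity. -/
theorem exists_indFun_eq_of_over (hNT : N ≤ T) {θ : N → ℂ} (hθ : IsIrrCharacter N θ)
    (hT : ∀ g : G, g ∈ T ↔ conjFun N g θ = θ) {χ : G → ℂ} (hχ : IsIrrCharacter G χ)
    (hover : classInner (fun n : N => χ n) θ ≠ 0) :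
    ∃ ψ : T → ℂ, IsIrrCharacter T ψ ∧ indFun T ψ = χ ∧
      classInner (resNT N T hNT ψ) θ = classInner (fun n : N => χ n) θ := by
  classical
  obtain ⟨f, c, hf, hc, hd, h1, h2⟩ := clifford_corr_aux N T hNT hθ hT
  have hsum : ∑ ψ : IrrCharacter T, f ψ * c ψ ⟨χ, hχ⟩ ≠ 0 := by
    intro h
    apply hover
    have := hd ⟨χ, hχ⟩
    rw [h] at this
    simpa using this
  obtain ⟨ψ, -, hψ⟩ := Finset.exists_ne_zero_of_sum_ne_zero hsum
  have hfψ : f ψ ≠ 0 := fun h => hψ (by rw [h, zero_mul])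
  have hcψ : c ψ ⟨χ, hχ⟩ ≠ 0 := fun h => hψ (by rw [h, mul_zero])
  obtain ⟨χ₀, hχ₀, hother⟩ := h1 ψ hfψ
  have hχχ₀ : (⟨χ, hχ⟩ : IrrCharacter G) = χ₀ := by
    by_contra hne
    exact hcψ (hother _ hne)
  have hind : indFun T (ψ : T → ℂ) = χ := by
    have hexp := classFunction_eq_sum_irr (isClassFunction_indFun T (ψ : T → ℂ))
    rw [Finset.sum_eq_single χ₀] at hexp
    · rw [hexp, hc ψ χ₀, hχ₀, ← hχχ₀]
      simp
    · intro χ' _ hne
      rw [hc ψ χ', hother χ' hne]; simp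
    · intro h; exact absurd (Finset.mem_univ _) h
  refine ⟨ψ, ψ.2, hind, ?_⟩
  have hd' := hd ⟨χ, hχ⟩
  simp only at hd'
  rw [hd', hf ψ]
  congr 1
  rw [Finset.sum_eq_single ψ]
  · rw [hχχ₀, hχ₀, mul_one]
  · intro ψ' _ hne
    by_cases hfψ' : f ψ' = 0
    · rw [hfψ', zero_mul]
    · have h3 := h2 ψ ψ' (Ne.symm hne) hfψ hfψ' ⟨χ, hχ⟩
      rcases Nat.mul_eq_zero.mp h3 with h4 | h4
      · exact absurd h4 hcψ
      · rw [h4, mul_zero]
  · intro h; exact absurd (Finset.mem_univ _) h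

/-- **Clifford correspondence**: the multiplicity of `θ` is preserved by induction from the
inertia group. -/
theorem classInner_res_indFun_of_over (hNT : N ≤ T) {θ : N → ℂ} (hθ : IsIrrCharacter N θ)
    (hT : ∀ g : G, g ∈ T ↔ conjFun N g θ = θ) {ψ : T → ℂ} (hψ : IsIrrCharacter T ψ)
    (hover : classInner (resNT N T hNT ψ) θ ≠ 0) :
    classInner (fun n : N => indFun T ψ n) θ = classInner (resNT N T hNT ψ) θ := by
  classical
  have hirr := isIrrCharacter_indFun_of_over N T hNT hθ hT hψ hover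
  obtain ⟨f, c, hf, hc, hd, h1, h2⟩ := clifford_corr_aux N T hNT hθ hT
  have hfψ : f ⟨ψ, hψ⟩ ≠ 0 := by
    intro h
    apply hover
    rw [hf ⟨ψ, hψ⟩, h]; simp
  obtain ⟨χ₀, hχ₀, hother⟩ := h1 ⟨ψ, hψ⟩ hfψ
  -- ind ψ = χ₀
  have hcc : c ⟨ψ, hψ⟩ ⟨indFun T ψ, hirr⟩ ≠ 0 := by
    intro h
    have h3 := hc ⟨ψ, hψ⟩ ⟨indFun T ψ, hirr⟩
    rw [h] at h3
    simp only [Nat.cast_zero] at h3
    rw [classInner_irr_self hirr] at h3
    exact one_ne_zero h3
  have hover2 : classInner (fun n : N => indFun T ψ n) θ ≠ 0 := by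
    have hd' := hd ⟨indFun T ψ, hirr⟩
    simp only at hd'
    rw [hd']
    have : f ⟨ψ, hψ⟩ * c ⟨ψ, hψ⟩ ⟨indFun T ψ, hirr⟩ ≤
        ∑ ψ' : IrrCharacter T, f ψ' * c ψ' ⟨indFun T ψ, hirr⟩ :=
      Finset.single_le_sum (f := fun ψ' => f ψ' * c ψ' ⟨indFun T ψ, hirr⟩)
        (fun _ _ => Nat.zero_le _) (Finset.mem_univ _)
    have hpos : 0 < f ⟨ψ, hψ⟩ * c ⟨ψ, hψ⟩ ⟨indFun T ψ, hirr⟩ :=
      Nat.mul_pos (Nat.pos_of_ne_zero hfψ) (Nat.pos_of_ne_zero hcc)
    have : (∑ ψ' : IrrCharacter T, f ψ' * c ψ' ⟨indFun T ψ, hirr⟩) ≠ 0 := by omega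
    exact_mod_cast this
  obtain ⟨ψ', hψ', hind', hmult⟩ := exists_indFun_eq_of_over N T hNT hθ hT hirr hover2
  have hover' : classInner (resNT N T hNT ψ') θ ≠ 0 := by rw [hmult]; exact hover2
  have := indFun_injective_of_over N T hNT hθ hT hψ' hψ hover' hover hind'
  rw [← hmult, this]

omit hN in
/-- the hypothesis "`ψ` lies over `θ`" in the induced form used by statement S1489 -/
theorem classInner_indFun_liftNT_ne_zero_iff (hNT : N ≤ T) (θ : N → ℂ) {ψ : T → ℂ}
    (hψ : IsClassFunction T ψ) :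
    classInner (indFun (N.subgroupOf T) (liftNT N T θ)) ψ ≠ 0 ↔
      classInner (resNT N T hNT ψ) θ ≠ 0 := by
  rw [classInner_indFun_liftNT N T hNT θ hψ]
  simp

end Theorems

end Cfsg.Agent.Lib.Helper75
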