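import Mathlib
import Cfsg.Agent.Lib.Helper76.Galois
import Cfsg.Agent.Lib.Helper81.IrrTwist
import Cfsg.Agent.Lib.Helper78.CharMore

/-!
# Power maps `g ↦ g ^ k` as Galois automorphisms on character values (helper75)

* `exists_ringEquiv_extending` : a ring automorphism of a subring `L ⊆ ℂ` (subalgebra over `ℚ`)
  extends to a ring automorphism of `ℂ`.
* `exists_ringEquiv_pow` : for `k` coprime to `N` there is `σ : ℂ ≃+* ℂ` with `σ μ = μ ^ k` for
  all `N`-th roots of unity `μ`.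
* `exists_ringEquiv_character_pow` : `σ (χ g) = χ (g ^ k)` for all characters of a finite group
  whose order is coprime to `k`.
* `isIrrCharacter_pow`, `isCharacter_pow`.
-/

set_option autoImplicit false

namespace Cfsg.Agent.Lib.Helper75

open Cfsg

section Extend

/-- A ring automorphism of a `ℚ`-subalgebra of `ℂ` extends to a ring automorphism of `ℂ`. -/
theorem exists_ringEquiv_extending (L : Subalgebra ℚ ℂ) (τ : L ≃+* L) :
    ∃ σ : ℂ ≃+* ℂ, ∀ z : L, σ (z : ℂ) = (τ z : ℂ) := by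
  obtain ⟨ι, x, hx⟩ := exists_isTranscendenceBasis' (R := L) (A := ℂ)
  have hcl : IsAlgClosure (Algebra.adjoin L (Set.range x)) ℂ :=
    IsAlgClosed.isAlgClosure_of_transcendence_basis x hx
  let e₁ : MvPolynomial ι L ≃ₐ[L] Algebra.adjoin L (Set.range x) := hx.1.aevalEquiv
  let e₂ : MvPolynomial ι L ≃+* MvPolynomial ι L := MvPolynomial.mapEquiv ι τ
  let e : Algebra.adjoin L (Set.range x) ≃+* Algebra.adjoin L (Set.range x) :=
    e₁.symm.toRingEquiv.trans (e₂.trans e₁.toRingEquiv)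
  refine ⟨IsAlgClosure.equivOfEquiv ℂ ℂ e, ?_⟩
  intro z
  have h1 : (z : ℂ) = algebraMap (Algebra.adjoin L (Set.range x)) ℂ
      (algebraMap L (Algebra.adjoin L (Set.range x)) z) := rfl
  rw [h1, IsAlgClosure.equivOfEquiv_algebraMap]
  have h2 : e (algebraMap L (Algebra.adjoin L (Set.range x)) z) =
      algebraMap L (Algebra.adjoin L (Set.range x)) (τ z) := by
    change e₁ (e₂ (e₁.symm (algebraMap L _ z))) = _
    rw [AlgEquiv.commutes, MvPolynomial.algebraMap_eq, MvPolynomial.mapEquiv_apply,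
      MvPolynomial.map_C, ← MvPolynomial.algebraMap_eq, AlgEquiv.commutes]
    rfl
  rw [h2]
  rfl

end Extend

section Cyclotomic

/-- For `k` coprime to `N` some ring automorphism of `ℂ` raises every `N`-th root of unity to
its `k`-th power. -/
theorem exists_ringEquiv_pow (N : ℕ) (hN : 0 < N) (k : ℕ) (hk : k.Coprime N) :
    ∃ σ : ℂ ≃+* ℂ, ∀ μ : ℂ, μ ^ N = 1 → σ μ = μ ^ k := by
  have : NeZero N := ⟨hN.ne'⟩
  let ζ : ℂ := Complex.exp (2 * Real.pi * Complex.I / N)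
  have hζ : IsPrimitiveRoot ζ N := Complex.isPrimitiveRoot_exp N hN.ne'
  let L : Subalgebra ℚ ℂ := Algebra.adjoin ℚ {ζ}
  have hcyc : IsCyclotomicExtension {N} ℚ L := hζ.adjoin_isCyclotomicExtension ℚ
  let ζ' : L := ⟨ζ, Algebra.subset_adjoin (Set.mem_singleton ζ)⟩
  have hζ' : IsPrimitiveRoot ζ' N := by
    have hinj : Function.Injective (L.val : L →ₐ[ℚ] ℂ) := Subtype.val_injective
    exact IsPrimitiveRoot.of_map_of_injective (f := (L.val : L →ₐ[ℚ] ℂ)) hζ hinj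
  have hζk : IsPrimitiveRoot (ζ' ^ k) N := hζ'.pow_of_coprime k hk
  have hirr : Irreducible (Polynomial.cyclotomic N ℚ) := Polynomial.cyclotomic.irreducible_rat hN
  have hmin : minpoly ℚ (hζ'.powerBasis ℚ).gen = minpoly ℚ (hζk.powerBasis ℚ).gen := by
    rw [IsPrimitiveRoot.powerBasis_gen, IsPrimitiveRoot.powerBasis_gen,
      ← hζ'.minpoly_eq_cyclotomic_of_irreducible hirr,
      ← hζk.minpoly_eq_cyclotomic_of_irreducible hirr]
  let τ : L ≃ₐ[ℚ] L := (hζ'.powerBasis ℚ).equivOfMinpoly (hζk.powerBasis ℚ) hmin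
  have hτ : τ ζ' = ζ' ^ k := by
    have h1 := (hζ'.powerBasis ℚ).equivOfMinpoly_gen (hζk.powerBasis ℚ) hmin
    rw [IsPrimitiveRoot.powerBasis_gen, IsPrimitiveRoot.powerBasis_gen] at h1
    exact h1
  obtain ⟨σ, hσ⟩ := exists_ringEquiv_extending L τ.toRingEquiv
  refine ⟨σ, ?_⟩
  intro μ hμ
  obtain ⟨j, -, hj⟩ := hζ.eq_pow_of_pow_eq_one hμ
  have h2 : σ ζ = ζ ^ k := by
    have h3 := hσ ζ'
    have h4 : (τ.toRingEquiv ζ' : ℂ) = ζ ^ k := by
      change ((τ ζ' : L) : ℂ) = ζ ^ k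
      rw [hτ]
      rfl
    rw [h4] at h3
    exact h3
  rw [← hj, map_pow, h2, ← pow_mul, ← pow_mul, mul_comm]

end Cyclotomic

section Characters

variable {G : Type*} [Group G] [Finite G]

/-- For `k` coprime to `|G|` there is a ring automorphism `σ` of `ℂ` with
`σ (χ g) = χ (g ^ k)` for every character `χ` of `G` and every `g`. -/
theorem exists_ringEquiv_character_pow (k : ℕ) (hk : k.Coprime (Nat.card G)) :
    ∃ σ : ℂ ≃+* ℂ, (∀ μ : ℂ, μ ^ Nat.card G = 1 → σ μ = μ ^ k) ∧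
      ∀ χ : G → ℂ, IsCharacter G χ → ∀ g : G, σ (χ g) = χ (g ^ k) := by
  have hN : 0 < Nat.card G := Nat.card_pos
  obtain ⟨σ, hσ⟩ := exists_ringEquiv_pow (Nat.card G) hN k hk
  refine ⟨σ, hσ, ?_⟩
  rintro χ ⟨n, ρ, rfl⟩ g
  obtain ⟨μ, hμ, hpow⟩ := Cfsg.Agent.Lib.Helper76.exists_character_pow_eq_sum ρ g (Nat.card G) hN
    (pow_card_eq_one')
  have h1 := hpow 1
  rw [pow_one] at h1
  rw [h1, hpow k, map_sum]
  apply Finset.sum_congr rfl
  intro i _
  rw [pow_one, hσ (μ i) (hμ i)]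

/-- `g ↦ χ (g ^ k)` is an irreducible character when `k` is coprime to `|G|`. -/
theorem isIrrCharacter_pow {χ : G → ℂ} (hχ : IsIrrCharacter G χ) (k : ℕ)
    (hk : k.Coprime (Nat.card G)) : IsIrrCharacter G (fun g => χ (g ^ k)) := by
  obtain ⟨σ, -, hσ⟩ := exists_ringEquiv_character_pow (G := G) k hk
  have h1 := Cfsg.Agent.Lib.Helper81.isIrrCharacter_galois hχ σ
  have h2 : (fun g => σ (χ g)) = fun g => χ (g ^ k) := by
    funext g
    exact hσ χ (Cfsg.Agent.Lib.Helper78.IsIrrCharacter.isCharacter hχ) g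
  rwa [h2] at h1

/-- `g ↦ χ (g ^ k)` is a character when `k` is coprime to `|G|`. -/
theorem isCharacter_pow {χ : G → ℂ} (hχ : IsCharacter G χ) (k : ℕ)
    (hk : k.Coprime (Nat.card G)) : IsCharacter G (fun g => χ (g ^ k)) := by
  obtain ⟨σ, -, hσ⟩ := exists_ringEquiv_character_pow (G := G) k hk
  have h1 := Cfsg.Agent.Lib.Helper81.isCharacter_galois hχ (σ : ℂ →+* ℂ)
  have h2 : (fun g => (σ : ℂ →+* ℂ) (χ g)) = fun g => χ (g ^ k) := by
    funext g
    exact hσ χ hχ g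
  rwa [h2] at h1

end Characters

end Cfsg.Agent.Lib.Helper75
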