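import Mathlib
import Cfsg.Agent.Lib.Helper75.Clifford
import Cfsg.Agent.Lib.Helper75.GaloisPow

/-!
# Clifford theory, part 3 (helper75): counting the constituents of `χ|_N`, and the action of
power maps (Galois automorphisms) on them.
-/

set_option autoImplicit false

namespace Cfsg.Agent.Lib.Helper75

open Cfsg
open scoped ComplexConjugate

universe u

section FixedPoint

/-- a self-map of `p`-power order on a finite set of size prime to `p` has a fixed point -/
theorem exists_fixed_of_iterate_pow_eq {α : Type*} [Finite α] (p n : ℕ) [Fact p.Prime]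
    (f : α → α) (hf : ∀ a, f^[p ^ n] a = a) (hcard : ¬ p ∣ Nat.card α) : ∃ a, f a = a := by
  classical
  have := Fintype.ofFinite α
  by_contra hne
  push Not at hne
  let f' : Function.End α := f
  have hf' : f' ^ p ^ n = 1 := by
    funext a
    have : (f' ^ p ^ n) = f^[p ^ n] :=
      hom_coe_pow (fun g : Function.End α => g) rfl (fun g h => rfl) f' (p ^ n)
    rw [this, hf a]
    rfl
  have h1 := Equiv.Perm.card_fixedPoints_modEq (p := p) (n := n) (f := f') hf'
  have h2 : Fintype.card (Function.fixedPoints f') = 0 := by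
    rw [Fintype.card_eq_zero_iff]
    constructor
    rintro ⟨a, ha⟩
    exact hne a ha
  rw [h2] at h1
  apply hcard
  rw [Nat.card_eq_fintype_card]
  exact (Nat.modEq_zero_iff_dvd).mp h1

end FixedPoint

section Count

open Cfsg.Agent.Lib.Helper78

variable {G : Type u} [Group G] [Fintype G] (N : Subgroup G) [hN : N.Normal] [Fintype N]

omit [Fintype G] hN in
/-- the restriction of an irreducible character has an irreducible constituent -/
theorem exists_constituent_res {χ : G → ℂ} (hχ : IsIrrCharacter G χ) :
    ∃ θ : IrrCharacter N, classInner (fun n : N => χ n) (θ : N → ℂ) ≠ 0 := by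
  by_contra h
  push Not at h
  have hres : IsCharacter N (fun n : N => χ n) :=
    isCharacter_res N (IsIrrCharacter.isCharacter hχ)
  have h0 := eq_zero_of_forall_classInner_irr_eq_zero (IsCharacter.isClassFunction hres) h
  have h1 := congrFun h0 1
  exact IsIrrCharacter.apply_one_ne_zero hχ h1

/-- the number of irreducible constituents of `χ|_N` divides `|G : N|` -/
theorem card_constituents_dvd_index {χ : G → ℂ} (hχ : IsIrrCharacter G χ) :
    Nat.card {φ : IrrCharacter N // classInner (fun n : N => χ n) (φ : N → ℂ) ≠ 0} ∣ N.index := by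
  classical
  have hcl : IsClassFunction G χ := IsCharacter.isClassFunction (IsIrrCharacter.isCharacter hχ)
  obtain ⟨θ, hθ⟩ := exists_constituent_res N hχ
  · let _ : MulAction G (IrrCharacter N) := Cfsg.Agent.Lib.Helper81.conjIrrMulAction N
    have hsmul : ∀ (g : G) (φ : IrrCharacter N), ((g • φ : IrrCharacter N) : N → ℂ) =
        conjFun N g⁻¹ (φ : N → ℂ) := by
      intro g φ
      funext n
      rfl
    have hset : {φ : IrrCharacter N | classInner (fun n : N => χ n) (φ : N → ℂ) ≠ 0} =
        MulAction.orbit G θ := by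
      ext φ
      simp only [Set.mem_ofPred_eq, MulAction.mem_orbit_iff]
      constructor
      · intro hφ
        obtain ⟨g, hg⟩ := clifford_conj N hχ θ.2 φ.2 hθ hφ
        refine ⟨g⁻¹, Subtype.ext ?_⟩
        rw [hsmul, inv_inv, hg]
      · rintro ⟨g, rfl⟩
        rw [hsmul, classInner_res_conjFun N hcl]
        exact hθ
    have hcard : Nat.card {φ : IrrCharacter N // classInner (fun n : N => χ n) (φ : N → ℂ) ≠ 0} =
        (MulAction.stabilizer G θ).index := by
      rw [MulAction.index_stabilizer, ← Nat.card_coe_set_eq, ← hset]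
      rfl
    rw [hcard]
    apply Subgroup.index_dvd_of_le
    intro m hm
    rw [MulAction.mem_stabilizer_iff]
    apply Subtype.ext
    rw [hsmul]
    exact conjFun_of_mem N (IsCharacter.isClassFunction (IsIrrCharacter.isCharacter θ.2))
      ⟨m⁻¹, N.inv_mem hm⟩

end Count

section PowFun

/-- the power map on functions on a group -/
def powFun {H : Type*} [Group H] (k : ℕ) (φ : H → ℂ) : H → ℂ := fun h => φ (h ^ k)

theorem powFun_apply {H : Type*} [Group H] (k : ℕ) (φ : H → ℂ) (h : H) :
    powFun k φ h = φ (h ^ k) := rfl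

/-- power maps coprime to the group order are isometries for `classInner` -/
theorem classInner_powFun_powFun {H : Type u} [Group H] [Fintype H] (k : ℕ)
    (hk : k.Coprime (Nat.card H)) (f h : H → ℂ) :
    classInner (powFun k f) (powFun k h) = classInner f h := by
  unfold classInner
  congr 1
  exact Fintype.sum_equiv (powCoprime hk.symm) _ _ (fun a => rfl)

theorem powFun_powFun {H : Type*} [Group H] (k m : ℕ) (φ : H → ℂ) :
    powFun k (powFun m φ) = powFun (k * m) φ := by
  funext h
  simp only [powFun_apply, pow_mul]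

/-- a power congruent to one modulo the group order acts trivially -/
theorem powFun_of_modEq_one {H : Type*} [Group H] [Finite H] (m : ℕ)
    (hm : m ≡ 1 [MOD Nat.card H]) (φ : H → ℂ) : powFun m φ = φ := by
  funext h
  rw [powFun_apply]
  congr 1
  have h1 : m ≡ 1 [MOD orderOf h] := hm.of_dvd (orderOf_dvd_natCard h)
  have := (pow_eq_pow_iff_modEq (x := h)).mpr h1
  rwa [pow_one] at this

theorem iterate_powFun {H : Type*} [Group H] (k m : ℕ) (φ : H → ℂ) :
    (powFun k)^[m] φ = powFun (k ^ m) φ := by
  induction m with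
  | zero =>
    funext h
    simp [powFun_apply]
  | succ m ih =>
    rw [Function.iterate_succ_apply', ih, powFun_powFun, pow_succ, mul_comm]

end PowFun

section PowAction

open Cfsg.Agent.Lib.Helper78

variable {G : Type u} [Group G] [Fintype G] (N : Subgroup G) [hN : N.Normal] [Fintype N]

omit [Fintype G] [Fintype N] in
/-- power maps commute with conjugation -/
theorem conjFun_powFun (g : G) (k : ℕ) (φ : N → ℂ) :
    conjFun N g (powFun k φ) = powFun k (conjFun N g φ) := by
  funext n
  simp only [conjFun_apply, powFun_apply]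
  congr 1
  apply Subtype.ext
  simp only [Subgroup.coe_pow]
  rw [conj_pow]

/-- **Galois-invariance of Clifford constituents.** If `p ∤ |G : N|`, the power map `k`
(coprime to `|G|`) has `p`-power order and fixes the irreducible character `χ` of `G`, then it
fixes every irreducible constituent of `χ|_N`. -/
theorem constituent_pow_invariant (p : ℕ) [Fact p.Prime] (hidx : ¬ p ∣ N.index) (k e : ℕ)
    (hk : k.Coprime (Nat.card G)) (hke : k ^ (p ^ e) ≡ 1 [MOD Nat.card G])
    {χ : G → ℂ} (hχ : IsIrrCharacter G χ) (hχk : ∀ g : G, χ (g ^ k) = χ g)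
    {θ : N → ℂ} (hθ : IsIrrCharacter N θ)
    (hconst : classInner (fun n : N => χ n) θ ≠ 0) : ∀ n : N, θ (n ^ k) = θ n := by
  classical
  have hkN : k.Coprime (Nat.card N) :=
    Nat.Coprime.coprime_dvd_right (Subgroup.card_subgroup_dvd_card N) hk
  have hkeN : k ^ (p ^ e) ≡ 1 [MOD Nat.card N] :=
    hke.of_dvd (Subgroup.card_subgroup_dvd_card N)
  have hresk : powFun k (fun n : N => χ n) = fun n : N => χ n := by
    funext n
    rw [powFun_apply]
    have := hχk (n : G)
    rw [← this]
    rfl
  -- the set of constituents and the power map on it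
  let α := {φ : IrrCharacter N // classInner (fun n : N => χ n) (φ : N → ℂ) ≠ 0}
  have hmem : ∀ φ : α, classInner (fun n : N => χ n) (powFun k (φ.1 : N → ℂ)) ≠ 0 := by
    intro φ
    have h1 := classInner_powFun_powFun k hkN (fun n : N => χ n) (φ.1 : N → ℂ)
    rw [hresk] at h1
    rw [h1]
    exact φ.2
  let f : α → α := fun φ =>
    ⟨⟨powFun k (φ.1 : N → ℂ), isIrrCharacter_pow φ.1.2 k hkN⟩, hmem φ⟩
  have hfval : ∀ (m : ℕ) (φ : α), ((f^[m] φ).1 : N → ℂ) = (powFun k)^[m] (φ.1 : N → ℂ) := by
    intro m
    induction m with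
    | zero => intro φ; rfl
    | succ m ih =>
      intro φ
      rw [Function.iterate_succ_apply', Function.iterate_succ_apply', ← ih φ]
  have hfiter : ∀ φ : α, f^[p ^ e] φ = φ := by
    intro φ
    apply Subtype.ext
    apply Subtype.ext
    rw [hfval, iterate_powFun, powFun_of_modEq_one _ hkeN]
  have hcard : ¬ p ∣ Nat.card α := by
    intro h
    exact hidx (h.trans (card_constituents_dvd_index N hχ))
  obtain ⟨θ₀, hθ₀⟩ := exists_fixed_of_iterate_pow_eq p e f hfiter hcard
  have hθ₀' : powFun k (θ₀.1 : N → ℂ) = (θ₀.1 : N → ℂ) :=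
    congrArg (fun φ : α => (φ.1 : N → ℂ)) hθ₀
  obtain ⟨g, hg⟩ := clifford_conj N hχ θ₀.1.2 hθ θ₀.2 hconst
  have hfix : powFun k θ = θ := by
    rw [← hg, ← conjFun_powFun, hθ₀']
  intro n
  exact congrFun hfix n

end PowAction

end Cfsg.Agent.Lib.Helper75
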