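import Mathlib
import Cfsg.Prelude.Def_Characters
import Cfsg.Agent.Lib.Helper75.Clifford

/-!
# Transitivity of induction at the level of functions (helper75)

* `indFun_top`: inducing a class function from `⊤` gives it back.
* `indFun_indFun`: `ind_T^G (ind_H^T f) = ind_{H'}^G f'`, with `H' = H.map T.subtype` and `f'` the
  transport of `f` along `H ≃* H'`.
-/

set_option autoImplicit false
open Cfsg
open scoped ComplexConjugate

universe u

namespace Cfsg.Agent.Lib.Helper75

section IndTrans

variable {G : Type u} [Group G] [Fintype G]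

/-- inducing a class function from the whole group gives it back -/
theorem indFun_top {F : G → ℂ} (hF : IsClassFunction G F) :
    indFun (⊤ : Subgroup G) (fun h : (⊤ : Subgroup G) => F h) = F := by
  funext g
  unfold indFun
  have h1 : ∀ x : G, extendByZero (⊤ : Subgroup G) (fun h : (⊤ : Subgroup G) => F h)
      (x⁻¹ * g * x) = F g := by
    intro x
    rw [extendByZero_of_mem _ _ (Subgroup.mem_top _)]
    have := hF g x⁻¹
    rw [inv_inv] at this
    exact this
  rw [Finset.sum_congr rfl (fun x _ => h1 x), Finset.sum_const, Finset.card_univ, nsmul_eq_mul,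
    Nat.card_congr (Subgroup.topEquiv (G := G)).toEquiv, Nat.card_eq_fintype_card, ← mul_assoc,
    inv_mul_cancel₀, one_mul]
  exact_mod_cast Fintype.card_ne_zero

/-- the transport of a function on `H ≤ T` to the image of `H` in `G` -/
noncomputable def mapFun (T : Subgroup G) (H : Subgroup T) (f : H → ℂ) :
    (H.map T.subtype) → ℂ :=
  fun x => f ((H.equivMapOfInjective T.subtype T.subtype_injective).symm x)

omit [Fintype G] in
theorem extendByZero_mapFun (T : Subgroup G) (H : Subgroup T) (f : H → ℂ) (t : T) :
    extendByZero (H.map T.subtype) (mapFun T H f) (t : G) = extendByZero H f t := by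
  by_cases ht : t ∈ H
  · have ht' : (t : G) ∈ H.map T.subtype := ⟨t, ht, rfl⟩
    rw [extendByZero_of_mem _ _ ht', extendByZero_of_mem _ _ ht]
    unfold mapFun
    congr 1
    rw [MulEquiv.symm_apply_eq]
    apply Subtype.ext
    rw [Subgroup.coe_equivMapOfInjective_apply]
    rfl
  · have ht' : (t : G) ∉ H.map T.subtype := by
      rintro ⟨s, hs, hst⟩
      have : s = t := Subtype.ext hst
      exact ht (this ▸ hs)
    rw [extendByZero_of_not_mem _ _ ht', extendByZero_of_not_mem _ _ ht]

omit [Fintype G] in
theorem extendByZero_mapFun_of_not_mem (T : Subgroup G) (H : Subgroup T) (f : H → ℂ) {y : G}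
    (hy : y ∉ T) : extendByZero (H.map T.subtype) (mapFun T H f) y = 0 := by
  apply extendByZero_of_not_mem
  rintro ⟨s, -, rfl⟩
  exact hy s.2

/-- **transitivity of induction** -/
theorem indFun_indFun (T : Subgroup G) [Fintype T] (H : Subgroup T) (f : H → ℂ) :
    indFun T (indFun H f) = indFun (H.map T.subtype) (mapFun T H f) := by
  classical
  funext g
  set Φ : G → ℂ := extendByZero (H.map T.subtype) (mapFun T H f) with hΦ
  have hcard : Nat.card (H.map T.subtype) = Nat.card H :=
    (Nat.card_congr (H.equivMapOfInjective T.subtype T.subtype_injective).toEquiv).symm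
  -- the inner induced function, extended by zero
  have h1 : ∀ y : G, extendByZero T (indFun H f) y =
      (Nat.card H : ℂ)⁻¹ * ∑ t : T, Φ ((t : G)⁻¹ * y * t) := by
    intro y
    by_cases hy : y ∈ T
    · rw [extendByZero_of_mem _ _ hy]
      unfold indFun
      congr 1
      apply Finset.sum_congr rfl
      intro t _
      rw [hΦ]
      have := extendByZero_mapFun T H f (t⁻¹ * ⟨y, hy⟩ * t)
      rw [← this]
      rfl
    · rw [extendByZero_of_not_mem _ _ hy]
      have : ∀ t : T, Φ ((t : G)⁻¹ * y * t) = 0 := by
        intro t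
        apply extendByZero_mapFun_of_not_mem
        intro h
        apply hy
        have := T.mul_mem (T.mul_mem t.2 h) (T.inv_mem t.2)
        simpa [mul_assoc] using this
      rw [Finset.sum_congr rfl (fun t _ => this t)]
      simp
  have h2 : ∀ t : T, ∑ x : G, Φ ((t : G)⁻¹ * (x⁻¹ * g * x) * t) = ∑ x : G, Φ (x⁻¹ * g * x) := by
    intro t
    apply Fintype.sum_equiv (Equiv.mulRight (t : G))
    intro x
    congr 1
    simp [mul_assoc]
  have hT : (Nat.card T : ℂ) ≠ 0 := by
    exact_mod_cast Nat.card_pos.ne'
  show (Nat.card T : ℂ)⁻¹ * ∑ x : G, extendByZero T (indFun H f) (x⁻¹ * g * x) =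
    (Nat.card (H.map T.subtype) : ℂ)⁻¹ * ∑ x : G, Φ (x⁻¹ * g * x)
  rw [Finset.sum_congr rfl (fun x _ => h1 (x⁻¹ * g * x)), ← Finset.mul_sum, Finset.sum_comm,
    Finset.sum_congr rfl (fun t _ => h2 t), Finset.sum_const, Finset.card_univ, nsmul_eq_mul,
    hcard, ← Nat.card_eq_fintype_card]
  field_simp

end IndTrans

end Cfsg.Agent.Lib.Helper75
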