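import Mathlib
import Cfsg.Prelude.Def_Characters
import Cfsg.Agent.Lib.Helper75.Clifford
import Cfsg.Agent.Lib.Helper75.Clifford2
import Cfsg.Agent.Lib.Helper75.Clifford3
import Cfsg.Agent.Lib.Helper75.IndTrans
import Cfsg.Agent.Lib.Helper77.CenterIrr
import Cfsg.Agent.Lib.Helper77.Linear

/-!
# Nilpotent groups are M-groups (helper75)

* `inertia N θ`: the inertia subgroup of a function `θ` on a normal subgroup.
* `exists_normal_abelian_mod`: in a nilpotent group, if `Z/K = Z(G/K)` is proper, there is a normal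
  subgroup `A > Z` with `A/K` abelian.
* `inertia_ne_top`: for such an `A` (relative to `Z(χ)`, `ker χ`), no irreducible constituent of
  `χ|_A` is `G`-invariant.
* `nilpotent_monomial`: every irreducible character of a finite nilpotent group is induced from a
  linear character of a subgroup.
-/

set_option autoImplicit false
open Cfsg
open scoped ComplexConjugate commutatorElement

universe u

namespace Cfsg.Agent.Lib.Helper75

section Inertia

variable {G : Type u} [Group G] (N : Subgroup G) [hN : N.Normal]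

/-- the inertia subgroup of a function on a normal subgroup -/
def inertia (θ : N → ℂ) : Subgroup G where
  carrier := {g | conjFun N g θ = θ}
  mul_mem' := by
    intro a b ha hb
    change conjFun N a θ = θ at ha
    change conjFun N b θ = θ at hb
    change conjFun N (a * b) θ = θ
    rw [conjFun_mul, ha, hb]
  one_mem' := conjFun_one N θ
  inv_mem' := by
    intro a ha
    change conjFun N a θ = θ at ha
    change conjFun N a⁻¹ θ = θ
    have := conjFun_inv_conjFun N a θ
    rw [ha] at this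
    exact this

theorem mem_inertia {θ : N → ℂ} {g : G} : g ∈ inertia N θ ↔ conjFun N g θ = θ := Iff.rfl

theorem le_inertia {θ : N → ℂ} (hθ : IsClassFunction N θ) : N ≤ inertia N θ :=
  fun n hn => conjFun_of_mem N hθ ⟨n, hn⟩

end Inertia

section GroupTheory

variable {G : Type u} [Group G]

theorem zpowers_normal_of_mem_center {c : G} (hc : c ∈ Subgroup.center G) :
    (Subgroup.zpowers c).Normal := by
  constructor
  intro n hn g
  obtain ⟨i, rfl⟩ := Subgroup.mem_zpowers_iff.mp hn
  have h1 : c ^ i ∈ Subgroup.center G := Subgroup.zpow_mem _ hc i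
  have h2 : g * c ^ i = c ^ i * g := (Subgroup.mem_center_iff.mp h1 g)
  rw [h2, mul_inv_cancel_right]
  exact Subgroup.zpow_mem_zpowers c i

/-- In a nilpotent group, if `Z/K = Z(G/K)` is proper, there is a normal subgroup `A` strictly
containing `Z` with `A/K` abelian. -/
theorem exists_normal_abelian_mod [Group.IsNilpotent G] (K Z : Subgroup G) [K.Normal] [Z.Normal]
    (hZ : ∀ g, g ∈ Z ↔ ∀ h, ⁅g, h⁆ ∈ K) (hne : Z ≠ ⊤) :
    ∃ A : Subgroup G, A.Normal ∧ Z ≤ A ∧ ¬ A ≤ Z ∧ ∀ x ∈ A, ∀ y ∈ A, ⁅x, y⁆ ∈ K := by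
  have hnt : Nontrivial (G ⧸ Z) := by
    by_contra h
    rw [not_nontrivial_iff_subsingleton] at h
    apply hne
    rw [eq_top_iff]
    intro g _
    rw [← QuotientGroup.eq_one_iff]
    exact Subsingleton.elim _ _
  have hcen := Group.IsNilpotent.center_ne_bot (G ⧸ Z)
  obtain ⟨c, hc, hc1⟩ : ∃ c : G ⧸ Z, c ∈ Subgroup.center (G ⧸ Z) ∧ c ≠ 1 := by
    obtain ⟨c, h⟩ := (Subgroup.ne_bot_iff_exists_ne_one).mp hcen
    exact ⟨(c : G ⧸ Z), c.2, fun h' => h (Subtype.ext h')⟩
  obtain ⟨b, rfl⟩ := QuotientGroup.mk_surjective c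
  have hn : (Subgroup.zpowers (b : G ⧸ Z)).Normal := zpowers_normal_of_mem_center hc
  refine ⟨(Subgroup.zpowers (b : G ⧸ Z)).comap (QuotientGroup.mk' Z), hn.comap _, ?_, ?_, ?_⟩
  · intro z hz
    rw [Subgroup.mem_comap, QuotientGroup.mk'_apply, (QuotientGroup.eq_one_iff z).mpr hz]
    exact Subgroup.one_mem _
  · intro h
    have : b ∈ Z := h (by
      rw [Subgroup.mem_comap, QuotientGroup.mk'_apply]
      exact Subgroup.mem_zpowers _)
    exact hc1 ((QuotientGroup.eq_one_iff b).mpr this)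
  · -- commutators
    have hcenK : ∀ z ∈ Z, (QuotientGroup.mk' K z) ∈ Subgroup.center (G ⧸ K) := by
      intro z hz
      rw [Subgroup.mem_center_iff]
      intro q
      obtain ⟨g, rfl⟩ := QuotientGroup.mk'_surjective K q
      have h1 := (hZ z).mp hz g
      rw [← QuotientGroup.eq_one_iff, ← QuotientGroup.mk'_apply, map_commutatorElement,
        commutatorElement_eq_one_iff_mul_comm] at h1
      exact h1.symm
    have hdecomp : ∀ x, x ∈ (Subgroup.zpowers (b : G ⧸ Z)).comap (QuotientGroup.mk' Z) →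
        ∃ (i : ℤ) (z : G), z ∈ Z ∧ x = b ^ i * z := by
      intro x hx
      rw [Subgroup.mem_comap, QuotientGroup.mk'_apply] at hx
      obtain ⟨i, hi⟩ := Subgroup.mem_zpowers_iff.mp hx
      refine ⟨i, (b ^ i)⁻¹ * x, ?_, by group⟩
      rw [← QuotientGroup.eq, QuotientGroup.mk_zpow]
      exact hi
    intro x hx y hy
    obtain ⟨i, z, hz, rfl⟩ := hdecomp x hx
    obtain ⟨j, w, hw, rfl⟩ := hdecomp y hy
    rw [← QuotientGroup.eq_one_iff, ← QuotientGroup.mk'_apply, map_commutatorElement,
      commutatorElement_eq_one_iff_commute, map_mul, map_mul, map_zpow, map_zpow]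
    have hzc : ∀ q : G ⧸ K, Commute q (QuotientGroup.mk' K z) :=
      fun q => Subgroup.mem_center_iff.mp (hcenK z hz) q
    have hwc : ∀ q : G ⧸ K, Commute q (QuotientGroup.mk' K w) :=
      fun q => Subgroup.mem_center_iff.mp (hcenK w hw) q
    apply Commute.mul_left
    · apply Commute.mul_right
      · exact Commute.zpow_zpow_self _ _ _
      · exact hwc _
    · exact (hzc _).symm

end GroupTheory

section Core

open Cfsg.Agent.Lib.Helper77 Cfsg.Agent.Lib.Helper78

variable {G : Type u} [Group G] [Fintype G]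

/-- If `A ⊴ G` strictly contains `Z(χ)` and `A/ker χ` is abelian, then no irreducible constituent
of `χ|_A` is `G`-invariant. -/
theorem inertia_ne_top (χ : IrrCharacter G) (A : Subgroup G) [hA : A.Normal] [Fintype A]
    (hAZ : ¬ A ≤ irrCenter χ) (hcomm : ∀ x ∈ A, ∀ y ∈ A, ⁅x, y⁆ ∈ irrKer χ)
    (θ : IrrCharacter A) (hθ : classInner (fun n : A => (χ : G → ℂ) n) (θ : A → ℂ) ≠ 0) :
    inertia A (θ : A → ℂ) ≠ ⊤ := by
  classical
  intro hT
  have hinv : ∀ g : G, conjFun A g (θ : A → ℂ) = (θ : A → ℂ) := by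
    intro g
    have : g ∈ inertia A (θ : A → ℂ) := by rw [hT]; exact Subgroup.mem_top g
    exact this
  have horb : conjOrbit A (θ : A → ℂ) = {θ} := by
    ext φ
    rw [mem_conjOrbit, Finset.mem_singleton]
    constructor
    · rintro ⟨g, hg⟩
      rw [hinv g] at hg
      exact (Subtype.ext hg).symm
    · rintro rfl
      exact ⟨1, hinv 1⟩
  have hcl := clifford_finset A χ.2 θ.2 hθ
  rw [horb, Finset.sum_singleton] at hcl
  set e := classInner (fun n : A => (χ : G → ℂ) n) (θ : A → ℂ) with he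
  have hval : ∀ a : A, (χ : G → ℂ) a = e * (θ : A → ℂ) a := fun a => congrFun hcl a
  -- `ker χ ≤ ker θ`
  have hker : ∀ k : A, (k : G) ∈ irrKer χ → k ∈ irrKer θ := by
    intro k hk
    rw [mem_irrKer] at hk ⊢
    have h1 := hval k
    have h2 := hval 1
    rw [Subgroup.coe_one] at h2
    rw [hk, h2] at h1
    exact (mul_left_cancel₀ hθ h1).symm
  -- everything in `A` is in `Z(θ)`
  have hcen : ∀ x : A, x ∈ irrCenter θ := by
    intro x
    rw [mem_irrCenter_iff_commutator]
    intro h
    apply hker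
    exact hcomm x x.2 h h.2
  obtain ⟨a, haA, haZ⟩ := Set.not_subset.mp hAZ
  apply haZ
  show a ∈ irrCenter χ
  rw [mem_irrCenter]
  have h1 := hval ⟨a, haA⟩
  have h2 := hval 1
  have h3 := (mem_irrCenter θ ⟨a, haA⟩).mp (hcen ⟨a, haA⟩)
  rw [Subgroup.coe_one] at h2
  change (χ : G → ℂ) a = _ at h1
  rw [h1, h2, norm_mul, norm_mul, h3]

/-- a linear character is induced from itself -/
theorem monomial_of_apply_one_eq_one {χ : G → ℂ} (hχ : IsCharacter G χ) (h1 : χ 1 = 1) :
    ∃ (H : Subgroup G) (lam : H →* ℂˣ), χ = indFun H (fun h => (lam h : ℂ)) := by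
  obtain ⟨φ, hφ⟩ := exists_monoidHom_of_degree_one hχ h1
  refine ⟨⊤, φ.comp (⊤ : Subgroup G).subtype, ?_⟩
  have h2 := indFun_top (IsCharacter.isClassFunction hχ)
  conv_lhs => rw [← h2]
  congr 1
  funext h
  exact hφ h

/-- `Z(χ) = G` forces `χ(1) = 1` -/
theorem apply_one_eq_one_of_irrCenter_eq_top (χ : IrrCharacter G) (h : irrCenter χ = ⊤) :
    (χ : G → ℂ) 1 = 1 := by
  have h1 := card_irrCenter_mul_sq_le χ
  rw [h, Nat.card_congr (Subgroup.topEquiv (G := G)).toEquiv, irr_apply_one] at h1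
  have hpos : (0 : ℝ) < (Nat.card G : ℝ) := by exact_mod_cast Nat.card_pos
  have h2 : ((irrDim χ : ℝ)) ^ 2 ≤ 1 := by
    have : ‖((irrDim χ : ℕ) : ℂ)‖ = (irrDim χ : ℝ) := by simp
    rw [this] at h1
    nlinarith
  have h3 : irrDim χ ≤ 1 := by
    by_contra hlt
    push Not at hlt
    have : (2 : ℝ) ≤ (irrDim χ : ℝ) := by exact_mod_cast hlt
    nlinarith
  have h4 : irrDim χ = 1 := le_antisymm h3 (Nat.one_le_iff_ne_zero.mpr (irrDim_ne_zero χ))
  rw [irr_apply_one, h4, Nat.cast_one]

end Core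

section Main

open Cfsg.Agent.Lib.Helper77 Cfsg.Agent.Lib.Helper78

/-- **Nilpotent groups are M-groups** (induction form). -/
theorem nilpotent_monomial_aux (n : ℕ) : ∀ (G : Type u) [Group G] [Fintype G]
    [Group.IsNilpotent G], Nat.card G = n → ∀ χ : G → ℂ, IsIrrCharacter G χ →
    ∃ (H : Subgroup G) (lam : H →* ℂˣ), χ = indFun H (fun h => (lam h : ℂ)) := by
  induction n using Nat.strong_induction_on with
  | _ n ih =>
  intro G _ _ _ hcard χ hχ
  classical
  set χ' : IrrCharacter G := ⟨χ, hχ⟩ with hχ'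
  by_cases hZ : irrCenter χ' = ⊤
  · exact monomial_of_apply_one_eq_one (IsIrrCharacter.isCharacter hχ)
      (apply_one_eq_one_of_irrCenter_eq_top χ' hZ)
  · obtain ⟨A, hAn, hZA, hAZ, hcomm⟩ := exists_normal_abelian_mod (irrKer χ') (irrCenter χ')
      (mem_irrCenter_iff_commutator χ') hZ
    obtain ⟨θ, hθ⟩ := exists_constituent_res A hχ
    have hT := inertia_ne_top χ' A hAZ hcomm θ hθ
    set T := inertia A (θ : A → ℂ) with hTdef
    have hAT : A ≤ T :=
      le_inertia A (IsCharacter.isClassFunction (IsIrrCharacter.isCharacter θ.2))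
    obtain ⟨ψ, hψ, hind, -⟩ := exists_indFun_eq_of_over A T hAT θ.2 (fun g => Iff.rfl) hχ hθ
    have hlt : Nat.card T < n := by
      rw [← hcard]
      apply lt_of_le_of_ne (Subgroup.card_le_card_group T)
      intro h
      exact hT (Subgroup.card_eq_iff_eq_top T |>.mp h)
    obtain ⟨H, lam, hlam⟩ := ih (Nat.card T) hlt T rfl ψ hψ
    refine ⟨H.map T.subtype,
      lam.comp (H.equivMapOfInjective T.subtype T.subtype_injective).symm.toMonoidHom, ?_⟩
    rw [← hind, hlam, indFun_indFun]
    rfl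

/-- **Nilpotent groups are M-groups.** -/
theorem nilpotent_monomial {G : Type u} [Group G] [Fintype G] [Group.IsNilpotent G] (χ : G → ℂ)
    (hχ : IsIrrCharacter G χ) :
    ∃ (H : Subgroup G) (lam : H →* ℂˣ), χ = indFun H (fun h => (lam h : ℂ)) :=
  nilpotent_monomial_aux (Nat.card G) G rfl χ hχ

end Main

end Cfsg.Agent.Lib.Helper75
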