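import Mathlib
import Cfsg.Prelude.Def_Characters
import Cfsg.Prelude.Def_Blocks
import Cfsg.Agent.Lib.Helper75.Clifford
import Cfsg.Agent.Lib.Helper75.Monomial
import Cfsg.Agent.Lib.Helper79.Integrality

/-!
# Induction from a normal subgroup (helper75)

* `indFun_conjFun`: conjugate functions induce the same function.
* `classInner_indFun_indFun_eq_zero`: non-conjugate irreducible characters induce orthogonal
  functions.
* `sum_conjFun_eq`: `∑_x θ^x = |T| • ∑ (distinct conjugates)`.
* `indFun_res_eq_smul_sum_conjOrbit`: `(ind θ)|_N = (|T|/|N|) • ∑ (distinct conjugates)`.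
* `indFun_smul`, `indFun_add`, `indFun_sum`: linearity of induction.
-/

set_option autoImplicit false
open Cfsg
open scoped ComplexConjugate

universe u

namespace Cfsg.Agent.Lib.Helper75

section Linear

variable {G : Type u} [Group G] [Fintype G] (H : Subgroup G)

omit [Fintype G] in
theorem extendByZero_smul (c : ℂ) (f : H → ℂ) (g : G) :
    extendByZero H (c • f) g = c * extendByZero H f g := by
  by_cases hg : g ∈ H
  · rw [extendByZero_of_mem _ _ hg, extendByZero_of_mem _ _ hg]
    rfl
  · rw [extendByZero_of_not_mem _ _ hg, extendByZero_of_not_mem _ _ hg, mul_zero]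

omit [Fintype G] in
theorem extendByZero_add (f₁ f₂ : H → ℂ) (g : G) :
    extendByZero H (f₁ + f₂) g = extendByZero H f₁ g + extendByZero H f₂ g := by
  by_cases hg : g ∈ H
  · rw [extendByZero_of_mem _ _ hg, extendByZero_of_mem _ _ hg, extendByZero_of_mem _ _ hg]
    rfl
  · rw [extendByZero_of_not_mem _ _ hg, extendByZero_of_not_mem _ _ hg,
      extendByZero_of_not_mem _ _ hg, add_zero]

omit [Fintype G] in
theorem extendByZero_zero (g : G) : extendByZero H (0 : H → ℂ) g = 0 := by
  by_cases hg : g ∈ H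
  · rw [extendByZero_of_mem _ _ hg]
    rfl
  · rw [extendByZero_of_not_mem _ _ hg]

theorem indFun_smul (c : ℂ) (f : H → ℂ) : indFun H (c • f) = c • indFun H f := by
  funext g
  unfold indFun
  simp only [extendByZero_smul, Pi.smul_apply, smul_eq_mul, ← Finset.mul_sum]
  ring

theorem indFun_add (f₁ f₂ : H → ℂ) : indFun H (f₁ + f₂) = indFun H f₁ + indFun H f₂ := by
  funext g
  unfold indFun
  simp only [extendByZero_add, Pi.add_apply, Finset.sum_add_distrib]
  ring

theorem indFun_zero : indFun H (0 : H → ℂ) = 0 := by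
  funext g
  unfold indFun
  simp only [extendByZero_zero, Finset.sum_const_zero, mul_zero, Pi.zero_apply]

theorem indFun_sum {ι : Type*} (s : Finset ι) (f : ι → H → ℂ) :
    indFun H (∑ i ∈ s, f i) = ∑ i ∈ s, indFun H (f i) := by
  classical
  induction s using Finset.induction_on with
  | empty => simp [indFun_zero]
  | insert a s ha ih => rw [Finset.sum_insert ha, Finset.sum_insert ha, indFun_add, ih]

/-- induction only depends on the subgroup and the function up to the obvious identification -/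
theorem indFun_congr {H₁ H₂ : Subgroup G} (h : H₁ = H₂) (f₁ : H₁ → ℂ) (f₂ : H₂ → ℂ)
    (hf : ∀ (x : G) (h₁ : x ∈ H₁) (h₂ : x ∈ H₂), f₁ ⟨x, h₁⟩ = f₂ ⟨x, h₂⟩) :
    indFun H₁ f₁ = indFun H₂ f₂ := by
  subst h
  congr 1
  funext x
  exact hf x x.2 x.2

/-- multiplying an induced function by a class function -/
theorem indFun_mul_classFunction (f : H → ℂ) {F : G → ℂ} (hF : IsClassFunction G F) :
    indFun H f * F = indFun H (f * fun h : H => F h) := by
  funext g
  unfold indFun
  rw [Pi.mul_apply, mul_assoc, Finset.sum_mul]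
  congr 1
  apply Finset.sum_congr rfl
  intro x _
  by_cases hx : x⁻¹ * g * x ∈ H
  · rw [extendByZero_of_mem _ _ hx, extendByZero_of_mem _ _ hx, Pi.mul_apply]
    congr 1
    have := hF g x⁻¹
    rw [inv_inv] at this
    exact this.symm
  · rw [extendByZero_of_not_mem _ _ hx, extendByZero_of_not_mem _ _ hx, zero_mul]

end Linear

section Conj

open Cfsg.Agent.Lib.Helper78

variable {G : Type u} [Group G] [Fintype G] (N : Subgroup G) [hN : N.Normal]

omit [Fintype G] in
theorem extendByZero_conjFun (g : G) (θ : N → ℂ) (z : G) :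
    extendByZero N (conjFun N g θ) z = extendByZero N θ (g * z * g⁻¹) := by
  by_cases hz : z ∈ N
  · rw [extendByZero_of_mem _ _ hz, extendByZero_of_mem _ _ (hN.conj_mem z hz g)]
    rfl
  · have hz' : g * z * g⁻¹ ∉ N := by
      intro h
      apply hz
      have := hN.conj_mem _ h g⁻¹
      simpa [mul_assoc] using this
    rw [extendByZero_of_not_mem _ _ hz, extendByZero_of_not_mem _ _ hz']

/-- conjugate functions induce the same function -/
theorem indFun_conjFun (g : G) (θ : N → ℂ) : indFun N (conjFun N g θ) = indFun N θ := by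
  funext x
  unfold indFun
  congr 1
  simp only [extendByZero_conjFun]
  apply Fintype.sum_equiv (Equiv.mulRight g⁻¹)
  intro y
  congr 1
  simp [mul_assoc]

variable [Fintype N]

/-- non-conjugate irreducible characters of a normal subgroup induce orthogonal functions -/
theorem classInner_indFun_indFun_eq_zero {θ φ : N → ℂ} (hθ : IsIrrCharacter N θ)
    (hφ : IsIrrCharacter N φ) (hne : ∀ g : G, conjFun N g θ ≠ φ) :
    classInner (indFun N φ) (indFun N θ) = 0 := by
  rw [frobenius_reciprocity N φ (isClassFunction_indFun N θ), ← classInner_conj_symm,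
    classInner_indFun_res_eq_zero N hθ hφ hne, map_zero]

/-- the sum of all conjugates is `|T|` times the sum of the distinct conjugates -/
theorem sum_conjFun_eq {θ : N → ℂ} (hθ : IsIrrCharacter N θ) :
    ∑ x : G, conjFun N x θ =
      (Nat.card (inertia N θ) : ℂ) • ∑ φ ∈ conjOrbit N θ, (φ : N → ℂ) := by
  classical
  let F : G → IrrCharacter N := fun x => ⟨conjFun N x θ, isIrrCharacter_conjFun N hθ x⟩
  have himg : Finset.univ.image F = conjOrbit N θ := by
    ext φ
    rw [mem_conjOrbit, Finset.mem_image]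
    constructor
    · rintro ⟨x, -, rfl⟩
      exact ⟨x, rfl⟩
    · rintro ⟨x, hx⟩
      exact ⟨x, Finset.mem_univ _, Subtype.ext hx⟩
  have h1 : ∑ x : G, conjFun N x θ = ∑ x : G, ((F x : IrrCharacter N) : N → ℂ) := rfl
  rw [h1, Finset.sum_comp (fun φ : IrrCharacter N => (φ : N → ℂ)) F, himg, Finset.smul_sum]
  apply Finset.sum_congr rfl
  intro φ hφ
  obtain ⟨x₀, hx₀⟩ := (mem_conjOrbit N).mp hφ
  have hcard : (Finset.univ.filter (fun a : G => F a = φ)).card = Nat.card (inertia N θ) := by
    rw [Nat.card_eq_fintype_card, ← Fintype.card_subtype]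
    apply Fintype.card_congr
    refine ⟨fun a => ⟨a.1 * x₀⁻¹, ?_⟩, fun t => ⟨t.1 * x₀, ?_⟩, ?_, ?_⟩
    · -- `a x₀⁻¹ ∈ T`
      have ha : conjFun N a.1 θ = conjFun N x₀ θ := by
        rw [hx₀]
        exact congrArg Subtype.val a.2
      rw [mem_inertia, conjFun_mul, ha, conjFun_inv_conjFun]
    · have ht : conjFun N t.1 θ = θ := t.2
      apply Subtype.ext
      change conjFun N (t.1 * x₀) θ = _
      rw [conjFun_mul, ht, hx₀]
    · intro a
      apply Subtype.ext
      simp
    · intro t
      apply Subtype.ext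
      simp
  rw [hcard, Nat.cast_smul_eq_nsmul]

omit [Fintype N] in
theorem sum_conjFun_inv (θ : N → ℂ) : ∑ x : G, conjFun N x⁻¹ θ = ∑ x : G, conjFun N x θ :=
  Fintype.sum_equiv (Equiv.inv G) _ _ (fun _ => rfl)

/-- `(ind θ)|_N = (|T| / |N|) • ∑ (distinct conjugates of θ)` -/
theorem indFun_res_eq_smul_sum_conjOrbit {θ : N → ℂ} (hθ : IsIrrCharacter N θ) :
    (fun n : N => indFun N θ n) =
      ((Nat.card (inertia N θ) : ℂ) / (Nat.card N : ℂ)) • ∑ φ ∈ conjOrbit N θ, (φ : N → ℂ) := by
  funext n
  rw [indFun_res_normal]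
  have h1 := congrFun (sum_conjFun_eq N hθ) n
  rw [← sum_conjFun_inv] at h1
  simp only [Finset.sum_apply, Pi.smul_apply, smul_eq_mul] at h1 ⊢
  rw [h1]
  ring

end Conj

section Kernel

open Cfsg.Agent.Lib.Helper78

variable {G : Type u} [Group G] [Fintype G] (N : Subgroup G) [hN : N.Normal]

theorem complex_eq_of_re_eq_of_norm_le {z : ℂ} {d : ℝ} (h1 : z.re = d) (h2 : ‖z‖ ≤ d) :
    z = (d : ℂ) := by
  have hd : 0 ≤ d := le_trans (norm_nonneg z) h2
  have h3 : ‖z‖ ^ 2 ≤ d ^ 2 := pow_le_pow_left₀ (norm_nonneg z) h2 2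
  rw [Complex.sq_norm, Complex.normSq_apply, h1] at h3
  have h4 : z.im = 0 := by nlinarith [mul_self_nonneg z.im]
  apply Complex.ext
  · simpa using h1
  · simpa using h4

omit hN in
/-- if `θ` is constant `θ 1` on the normal subgroup `A ≤ N` then so is `ind θ` -/
theorem indFun_eq_of_forall_eq (A : Subgroup G) [hA : A.Normal] (hAN : A ≤ N) (θ : N → ℂ)
    (h : ∀ a : N, (a : G) ∈ A → θ a = θ 1) (a : G) (ha : a ∈ A) :
    indFun N θ a = indFun N θ 1 := by
  unfold indFun
  congr 1
  apply Finset.sum_congr rfl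
  intro x _
  have h1 : x⁻¹ * a * x ∈ A := by
    have := hA.conj_mem a ha x⁻¹
    rwa [inv_inv] at this
  have h2 : x⁻¹ * 1 * x ∈ N := by
    rw [mul_one, inv_mul_cancel]
    exact N.one_mem
  rw [extendByZero_of_mem _ _ (hAN h1), extendByZero_of_mem _ _ h2, h ⟨_, hAN h1⟩ h1]
  congr 1
  apply Subtype.ext
  simp

/-- if `ind θ` takes its value at `1` at `a ∈ N` then so does the character `θ` -/
theorem eq_of_indFun_eq {θ : N → ℂ} (hθ : IsCharacter N θ) (a : N)
    (h : indFun N θ a = indFun N θ 1) : θ a = θ 1 := by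
  classical
  have hfin : Finite N := inferInstance
  set d : ℝ := (charDegree θ : ℝ) with hd
  have hθ1 : θ 1 = (d : ℂ) := by
    rw [IsCharacter.apply_one_eq_charDegree hθ, hd]
    simp
  have hbound : ∀ y : N, ‖θ y‖ ≤ d := fun y => Cfsg.Agent.Lib.Helper79.isCharacter_norm_le hθ y
  unfold indFun at h
  have hN0 : (Nat.card N : ℂ)⁻¹ ≠ 0 := by
    apply inv_ne_zero
    exact_mod_cast Nat.card_pos.ne'
  have h1 := mul_left_cancel₀ hN0 h
  -- every term on the right is `d`
  have hR : ∀ x : G, extendByZero N θ (x⁻¹ * 1 * x) = (d : ℂ) := by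
    intro x
    have h2 : x⁻¹ * 1 * x ∈ N := by
      rw [mul_one, inv_mul_cancel]
      exact N.one_mem
    rw [extendByZero_of_mem _ _ h2, ← hθ1]
    congr 1
    apply Subtype.ext
    simp
  -- every term on the left has real part at most `d`
  have hL : ∀ x : G, (extendByZero N θ (x⁻¹ * (a : G) * x)).re ≤ d := by
    intro x
    have hmem : x⁻¹ * (a : G) * x ∈ N := by
      have := hN.conj_mem a a.2 x⁻¹
      rwa [inv_inv] at this
    rw [extendByZero_of_mem _ _ hmem]
    exact le_trans (Complex.re_le_norm _) (hbound _)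
  have h2 : ∑ x : G, (d - (extendByZero N θ (x⁻¹ * (a : G) * x)).re) = 0 := by
    have h3 := congrArg Complex.re h1
    rw [Complex.re_sum, Complex.re_sum] at h3
    rw [Finset.sum_sub_distrib, h3]
    simp only [hR, Complex.ofReal_re]
    ring
  have h3 := (Finset.sum_eq_zero_iff_of_nonneg (fun x _ => sub_nonneg.mpr (hL x))).mp h2 1
    (Finset.mem_univ _)
  have h4 : (θ a).re = d := by
    have h5 : (1 : G)⁻¹ * (a : G) * 1 ∈ N := by simp
    rw [extendByZero_of_mem _ _ h5] at h3
    have h6 : (⟨(1 : G)⁻¹ * (a : G) * 1, h5⟩ : N) = a := by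
      apply Subtype.ext
      simp
    rw [h6] at h3
    linarith
  rw [hθ1]
  exact complex_eq_of_re_eq_of_norm_le h4 (hbound a)

end Kernel

end Cfsg.Agent.Lib.Helper75
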