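import Mathlib
import Cfsg.Prelude.Def_Characters
import Cfsg.Prelude.Def_Blocks
import Cfsg.Agent.Lib.Helper75.Clifford
import Cfsg.Agent.Lib.Helper78.CharMore
import Cfsg.Agent.S0148

/-!
# Fully ramified characters (helper75)

`N ⊴ G`, `χ ∈ Irr(G)` over `ϑ ∈ Irr(N)`.  Equivalence of
(a) `χ_N = e ϑ` with `e² = |G:N|`, (b) `χ` vanishes off `N` and `ϑ` is invariant,
(c) `ϑ` is invariant and `χ` is the only irreducible constituent of `ind ϑ`.
-/

set_option autoImplicit false
open Cfsg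
open scoped ComplexConjugate

universe u

namespace Cfsg.Agent.Lib.Helper75

section Ramified

open Cfsg.Agent.Lib.Helper78

variable {G : Type u} [Group G] [Fintype G] (N : Subgroup G) [hN : N.Normal] [Fintype N]

omit [Fintype G] [Fintype N] in
/-- the restriction of a class function to a normal subgroup is invariant -/
theorem conjFun_res {χ : G → ℂ} (hχ : IsClassFunction G χ) (g : G) :
    conjFun N g (fun n : N => χ n) = fun n : N => χ n := by
  funext n
  rw [conjFun_apply]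
  exact hχ n g

omit [Fintype G] [Fintype N] in
theorem conjFun_smul (c : ℂ) (θ : N → ℂ) (g : G) : conjFun N g (c • θ) = c • conjFun N g θ := rfl

/-- if `ϑ` is invariant then `χ_N = e ϑ` with `e = ⟨χ_N, ϑ⟩` a positive natural number -/
theorem res_eq_smul_of_invariant {χ : G → ℂ} (hχ : IsIrrCharacter G χ) {ϑ : N → ℂ}
    (hϑ : IsIrrCharacter N ϑ) (hcon : classInner (fun n : N => χ n) ϑ ≠ 0)
    (hinv : ∀ g : G, conjFun N g ϑ = ϑ) :
    ∃ e : ℕ, e ≠ 0 ∧ classInner (fun n : N => χ n) ϑ = (e : ℂ) ∧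
      (fun n : N => χ n) = (e : ℂ) • ϑ := by
  classical
  have horb : conjOrbit N ϑ = {⟨ϑ, hϑ⟩} := by
    ext φ
    rw [mem_conjOrbit, Finset.mem_singleton]
    constructor
    · rintro ⟨g, hg⟩
      rw [hinv g] at hg
      exact (Subtype.ext hg).symm
    · rintro rfl
      exact ⟨1, hinv 1⟩
  have hcl := clifford_finset N hχ hϑ hcon
  rw [horb, Finset.sum_singleton] at hcl
  obtain ⟨e, he⟩ := IsCharacter.exists_nat_classInner
    (isCharacter_res N (IsIrrCharacter.isCharacter hχ)) ⟨ϑ, hϑ⟩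
  refine ⟨e, ?_, he, ?_⟩
  · rintro rfl
    apply hcon
    rw [he, Nat.cast_zero]
  · rw [← he]
    exact hcl

omit hN in
open Classical in
/-- splitting the norm of a function on `G` into the part on `N` and the part off `N` -/
theorem card_mul_classInner_self_split (χ : G → ℂ) :
    (Nat.card G : ℂ) * classInner χ χ =
      (Nat.card N : ℂ) * classInner (fun n : N => χ n) (fun n : N => χ n) +
        ((∑ g ∈ Finset.univ.filter (fun g : G => g ∉ N), Complex.normSq (χ g) : ℝ) : ℂ) := by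
  classical
  unfold classInner
  have hG : (Nat.card G : ℂ) ≠ 0 := by exact_mod_cast Nat.card_pos.ne'
  have hN' : (Nat.card N : ℂ) ≠ 0 := by exact_mod_cast Nat.card_pos.ne'
  rw [← mul_assoc, mul_inv_cancel₀ hG, one_mul, ← mul_assoc, mul_inv_cancel₀ hN', one_mul,
    ← Finset.sum_filter_add_sum_filter_not Finset.univ (fun g : G => g ∈ N)]
  congr 1
  · exact Finset.sum_subtype (Finset.univ.filter (fun g : G => g ∈ N)) (by simp)
      (fun g => χ g * conj (χ g))
  · push_cast
    apply Finset.sum_congr rfl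
    intro g _
    rw [Complex.mul_conj]

/-- **(a) ⇒ (b)** -/
theorem ramified_a_to_b {χ : G → ℂ} (hχ : IsIrrCharacter G χ) {ϑ : N → ℂ}
    (hϑ : IsIrrCharacter N ϑ) (e : ℕ) (he : (fun n : N => χ n) = (e : ℂ) • ϑ)
    (he2 : e ^ 2 = N.index) :
    (∀ g : G, g ∉ N → χ g = 0) ∧ ∀ g : G, conjFun N g ϑ = ϑ := by
  classical
  have he0 : (e : ℂ) ≠ 0 := by
    have : e ≠ 0 := by
      rintro rfl
      have := Subgroup.index_ne_zero_of_finite (H := N)
      simp at he2
      exact this he2.symm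
    exact_mod_cast this
  constructor
  · have h1 := card_mul_classInner_self_split N χ
    rw [classInner_irr_self hχ, he, classInner_smul_left, classInner_smul_right,
      classInner_irr_self hϑ, Complex.conj_natCast, mul_one, mul_one] at h1
    have h2 : (Nat.card G : ℂ) = (Nat.card N : ℂ) * ((e : ℂ) * (e : ℂ)) := by
      rw [← Subgroup.card_mul_index N, ← he2]
      push_cast
      ring
    rw [h2] at h1
    have h3 : ((∑ g ∈ Finset.univ.filter (fun g : G => g ∉ N), Complex.normSq (χ g) : ℝ) : ℂ)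
        = 0 := by
      have := h1
      linear_combination -this
    have h4 : ∑ g ∈ Finset.univ.filter (fun g : G => g ∉ N), Complex.normSq (χ g) = 0 := by
      exact_mod_cast h3
    intro g hg
    have h5 := (Finset.sum_eq_zero_iff_of_nonneg (fun g _ => Complex.normSq_nonneg (χ g))).mp h4 g
      (Finset.mem_filter.mpr ⟨Finset.mem_univ g, hg⟩)
    exact Complex.normSq_eq_zero.mp h5
  · intro g
    have h1 := conjFun_res N (IsCharacter.isClassFunction (IsIrrCharacter.isCharacter hχ)) g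
    rw [he, conjFun_smul] at h1
    funext n
    have h2 := congrFun h1 n
    simp only [Pi.smul_apply, smul_eq_mul] at h2
    exact mul_left_cancel₀ he0 h2

/-- **(b) ⇒ (a)** -/
theorem ramified_b_to_a {χ : G → ℂ} (hχ : IsIrrCharacter G χ) {ϑ : N → ℂ}
    (hϑ : IsIrrCharacter N ϑ) (hcon : classInner (fun n : N => χ n) ϑ ≠ 0)
    (hvan : ∀ g : G, g ∉ N → χ g = 0) (hinv : ∀ g : G, conjFun N g ϑ = ϑ) :
    ∃ e : ℕ, (fun n : N => χ n) = (e : ℂ) • ϑ ∧ e ^ 2 = N.index := by
  classical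
  obtain ⟨e, -, -, he⟩ := res_eq_smul_of_invariant N hχ hϑ hcon hinv
  refine ⟨e, he, ?_⟩
  have h1 := card_mul_classInner_self_split N χ
  have h0 : ∑ g ∈ Finset.univ.filter (fun g : G => g ∉ N), Complex.normSq (χ g) = 0 := by
    apply Finset.sum_eq_zero
    intro g hg
    rw [hvan g (Finset.mem_filter.mp hg).2, map_zero]
  rw [h0, classInner_irr_self hχ, he, classInner_smul_left, classInner_smul_right,
    classInner_irr_self hϑ, Complex.conj_natCast, mul_one, mul_one, Complex.ofReal_zero, add_zero,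
    ← Subgroup.card_mul_index N] at h1
  have hN' : (Nat.card N : ℂ) ≠ 0 := by exact_mod_cast Nat.card_pos.ne'
  push_cast at h1
  have h2 := mul_left_cancel₀ hN' h1
  have h3 : ((e ^ 2 : ℕ) : ℂ) = (N.index : ℂ) := by
    push_cast
    rw [h2]
    ring
  exact_mod_cast h3

omit hN in
/-- the multiplicity of `χ` in `ind ϑ` when `χ_N = e ϑ` -/
theorem classInner_indFun_of_res_eq {χ : G → ℂ} (hχ : IsIrrCharacter G χ) {ϑ : N → ℂ}
    (hϑ : IsIrrCharacter N ϑ) (e : ℕ) (he : (fun n : N => χ n) = (e : ℂ) • ϑ) :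
    classInner (indFun N ϑ) χ = (e : ℂ) := by
  rw [frobenius_reciprocity N ϑ (IsCharacter.isClassFunction (IsIrrCharacter.isCharacter hχ)), he,
    classInner_smul_right, classInner_irr_self hϑ, Complex.conj_natCast, mul_one]

/-- **(a) ⇒ (c)**: uniqueness of the constituent -/
theorem ramified_a_to_c {χ : G → ℂ} (hχ : IsIrrCharacter G χ) {ϑ : N → ℂ}
    (hϑ : IsIrrCharacter N ϑ) (e : ℕ) (he : (fun n : N => χ n) = (e : ℂ) • ϑ)
    (he2 : e ^ 2 = N.index) (ψ : G → ℂ) (hψ : IsIrrCharacter G ψ)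
    (hne : classInner (indFun N ϑ) ψ ≠ 0) : ψ = χ := by
  classical
  by_contra hψχ
  have hIND : IsCharacter G (indFun N ϑ) :=
    Cfsg.Agent.S0148.result N ϑ (IsIrrCharacter.isCharacter hϑ)
  obtain ⟨m, hm⟩ := (isCharacter_iff_exists_nat_combination _).mp hIND
  have hmeq : ∀ φ : IrrCharacter G, classInner (indFun N ϑ) (φ : G → ℂ) = (m φ : ℂ) := by
    intro φ
    rw [hm]
    exact classInner_nat_combination (fun φ : IrrCharacter G => (m φ : ℂ)) φ
  have hmχ : m ⟨χ, hχ⟩ = e := by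
    have := hmeq ⟨χ, hχ⟩
    rw [classInner_indFun_of_res_eq N hχ hϑ e he] at this
    exact_mod_cast this.symm
  have hmψ : m ⟨ψ, hψ⟩ ≠ 0 := by
    intro h0
    apply hne
    have := hmeq ⟨ψ, hψ⟩
    rw [h0, Nat.cast_zero] at this
    exact this
  -- degrees
  have hdϑ := IsCharacter.apply_one_eq_charDegree (IsIrrCharacter.isCharacter hϑ)
  have hdχ : charDegree χ = e * charDegree ϑ := by
    have h1 := congrFun he 1
    simp only [Pi.smul_apply, smul_eq_mul, Subgroup.coe_one] at h1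
    rw [IsCharacter.apply_one_eq_charDegree (IsIrrCharacter.isCharacter hχ), hdϑ] at h1
    exact_mod_cast h1
  have hsum : ∑ φ : IrrCharacter G, m φ * charDegree (φ : G → ℂ) = N.index * charDegree ϑ := by
    have h1 := congrFun hm 1
    rw [indFun_one, hdϑ, Finset.sum_apply] at h1
    have h2 : ∀ φ : IrrCharacter G, ((m φ : ℂ) • (φ : G → ℂ)) 1 =
        ((m φ * charDegree (φ : G → ℂ) : ℕ) : ℂ) := by
      intro φ
      rw [Pi.smul_apply, smul_eq_mul, IsCharacter.apply_one_eq_charDegree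
        (IsIrrCharacter.isCharacter φ.2), Nat.cast_mul]
    rw [Finset.sum_congr rfl (fun φ _ => h2 φ), ← Nat.cast_sum] at h1
    exact_mod_cast h1.symm
  rw [← Finset.add_sum_erase Finset.univ _ (Finset.mem_univ (⟨χ, hχ⟩ : IrrCharacter G)), hmχ] at hsum
  change e * charDegree χ + _ = _ at hsum
  rw [hdχ, ← he2] at hsum
  have h0 : ∑ φ ∈ Finset.univ.erase (⟨χ, hχ⟩ : IrrCharacter G), m φ * charDegree (φ : G → ℂ) = 0 := by
    have : e * (e * charDegree ϑ) = e ^ 2 * charDegree ϑ := by ring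
    omega
  have h1 := (Finset.sum_eq_zero_iff.mp h0) ⟨ψ, hψ⟩ (Finset.mem_erase.mpr
    ⟨fun h => hψχ (congrArg Subtype.val h), Finset.mem_univ _⟩)
  rcases Nat.mul_eq_zero.mp h1 with h2 | h2
  · exact hmψ h2
  · exact absurd h2 (IsIrrCharacter.charDegree_pos hψ).ne'

/-- **(c) ⇒ (a)** -/
theorem ramified_c_to_a {χ : G → ℂ} (hχ : IsIrrCharacter G χ) {ϑ : N → ℂ}
    (hϑ : IsIrrCharacter N ϑ) (hcon : classInner (fun n : N => χ n) ϑ ≠ 0)
    (hinv : ∀ g : G, conjFun N g ϑ = ϑ)
    (huniq : ∀ ψ : G → ℂ, IsIrrCharacter G ψ → classInner (indFun N ϑ) ψ ≠ 0 → ψ = χ) :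
    ∃ e : ℕ, (fun n : N => χ n) = (e : ℂ) • ϑ ∧ e ^ 2 = N.index := by
  classical
  obtain ⟨e, -, -, he⟩ := res_eq_smul_of_invariant N hχ hϑ hcon hinv
  refine ⟨e, he, ?_⟩
  have hIND : IsCharacter G (indFun N ϑ) :=
    Cfsg.Agent.S0148.result N ϑ (IsIrrCharacter.isCharacter hϑ)
  have hm := IsCharacter.eq_sum_irr hIND
  have hsingle : ∑ φ : IrrCharacter G, classInner (indFun N ϑ) (φ : G → ℂ) • (φ : G → ℂ) =
      classInner (indFun N ϑ) χ • χ := by
    rw [Finset.sum_eq_single (⟨χ, hχ⟩ : IrrCharacter G)]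
    · intro φ _ hφ
      have : classInner (indFun N ϑ) (φ : G → ℂ) = 0 := by
        by_contra h
        exact hφ (Subtype.ext (huniq φ.1 φ.2 h))
      rw [this, zero_smul]
    · intro h
      exact absurd (Finset.mem_univ _) h
  rw [hsingle, classInner_indFun_of_res_eq N hχ hϑ e he] at hm
  have h1 := congrFun hm 1
  have h2 := congrFun he 1
  simp only [Pi.smul_apply, smul_eq_mul, Subgroup.coe_one] at h1 h2
  rw [indFun_one, h2] at h1
  have hϑ1 : ϑ 1 ≠ 0 := IsIrrCharacter.apply_one_ne_zero hϑ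
  have h3 : (N.index : ℂ) = (e : ℂ) * (e : ℂ) := by
    apply mul_right_cancel₀ hϑ1
    rw [h1]
    ring
  have h4 : ((e ^ 2 : ℕ) : ℂ) = (N.index : ℂ) := by
    push_cast
    rw [h3]
    ring
  exact_mod_cast h4

end Ramified

end Cfsg.Agent.Lib.Helper75
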