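import Mathlib
import Cfsg.Prelude.Def_Characters
import Cfsg.Prelude.Def_Blocks
import Cfsg.Agent.Lib.Helper75.Clifford
import Cfsg.Agent.Lib.Helper75.Clifford2
import Cfsg.Agent.Lib.Helper75.IndTrans
import Cfsg.Agent.Lib.Helper75.IndNormal
import Cfsg.Agent.Lib.Helper75.Ramified
import Cfsg.Agent.Lib.Helper77.Deflation
import Cfsg.Agent.Lib.Helper77.Linear
import Cfsg.Agent.Lib.Helper81.Gallagher
import Cfsg.Agent.S0148

/-!
# Characters over an invariant character with abelian quotient (helper75)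

`N ⊴ T`, `T/N` abelian, `θ ∈ Irr(N)` invariant in `T`.  Then all members of `Irr(T | θ)` are
twists of each other by linear characters of `T/N`; in particular they have the same ramification
`e`, `ind θ = e ∑ ψ` and `e² |Irr(T|θ)| = |T:N|`.
-/

set_option autoImplicit false
open Cfsg
open scoped ComplexConjugate

universe u

namespace Cfsg.Agent.Lib.Helper75

section AbelianQuot

open Cfsg.Agent.Lib.Helper77 Cfsg.Agent.Lib.Helper78

variable {T : Type u} [Group T] [Fintype T] (N : Subgroup T) [hN : N.Normal] [Fintype N]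

/-- an irreducible constituent of `ind_N^T 1` is a linear character when `T/N` is abelian -/
theorem exists_monoidHom_of_constituent_indFun_one (hab : ∀ x y : T, x * y * x⁻¹ * y⁻¹ ∈ N)
    {μ : T → ℂ} (hμ : IsIrrCharacter T μ)
    (hne : classInner (indFun N (fun _ : N => (1 : ℂ))) μ ≠ 0) :
    ∃ ν : T →* ℂˣ, (∀ t, μ t = ((ν t : ℂˣ) : ℂ)) ∧ ∀ n : N, ν n = 1 := by
  classical
  have hμcl := IsCharacter.isClassFunction (IsIrrCharacter.isCharacter hμ)
  have h1N : IsIrrCharacter N (fun _ : N => (1 : ℂ)) := isIrrCharacter_one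
  -- `1_N` is a constituent of `μ_N`
  have hcon : classInner (fun n : N => μ n) (fun _ : N => (1 : ℂ)) ≠ 0 := by
    rw [frobenius_reciprocity N _ hμcl, ← classInner_conj_symm] at hne
    intro h
    apply hne
    rw [h, map_zero]
  obtain ⟨f, -, -, hf⟩ := res_eq_smul_of_invariant N hμ h1N hcon (fun g => rfl)
  have hker : ∀ n ∈ N, μ n = μ 1 := by
    intro n hn
    have h1 := congrFun hf ⟨n, hn⟩
    have h2 := congrFun hf 1
    simp only [Pi.smul_apply, smul_eq_mul, mul_one, Subgroup.coe_one] at h1 h2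
    rw [h1, h2]
  -- deflate to the abelian quotient
  obtain ⟨μ', hμ', hμ'eq⟩ := isIrrCharacter_deflate N hμ hker
  have hcomm : IsMulCommutative (T ⧸ N) := by
    refine ⟨⟨fun a b => ?_⟩⟩
    obtain ⟨x, rfl⟩ := QuotientGroup.mk_surjective a
    obtain ⟨y, rfl⟩ := QuotientGroup.mk_surjective b
    rw [← QuotientGroup.mk_mul, ← QuotientGroup.mk_mul, QuotientGroup.eq]
    have := hab y⁻¹ x⁻¹
    simpa [mul_assoc] using this
  have hμ1 : μ 1 = 1 := by
    have h1 := hμ'eq 1
    rw [QuotientGroup.mk_one, IsIrrCharacter.map_one_of_comm hμ'] at h1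
    exact h1.symm
  obtain ⟨ν, hν⟩ := exists_monoidHom_of_degree_one (IsIrrCharacter.isCharacter hμ) hμ1
  refine ⟨ν, hν, fun n => ?_⟩
  have h1 := hker n n.2
  rw [hν, hν, map_one, Units.val_one] at h1
  exact Units.ext (by simpa using h1)

/-- **uniform ramification over an abelian quotient** -/
theorem exists_uniform_ramification (hab : ∀ x y : T, x * y * x⁻¹ * y⁻¹ ∈ N)
    {θ : N → ℂ} (hθ : IsIrrCharacter N θ) (hinv : ∀ t : T, conjFun N t θ = θ) :
    ∃ (e : ℕ) (D : Finset (IrrCharacter T)), 0 < e ∧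
      indFun N θ = (e : ℂ) • ∑ ψ ∈ D, (ψ : T → ℂ) ∧
      (∀ ψ ∈ D, (fun n : N => (ψ : T → ℂ) n) = (e : ℂ) • θ) ∧
      e ^ 2 * D.card = N.index := by
  classical
  have hIND : IsCharacter T (indFun N θ) :=
    Cfsg.Agent.S0148.result N θ (IsIrrCharacter.isCharacter hθ)
  have hINDcl := isClassFunction_indFun N θ
  -- relation between the multiplicity in `ind θ` and in the restriction
  have hfrob : ∀ ψ : IrrCharacter T, classInner (indFun N θ) (ψ : T → ℂ) =
      conj (classInner (fun n : N => (ψ : T → ℂ) n) θ) := by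
    intro ψ
    rw [frobenius_reciprocity N θ (isClassFunction_irr ψ), classInner_conj_symm]
  obtain ⟨ψ₀, hψ₀⟩ := exists_classInner_indFun_ne_zero (G := T) N hθ
  have hcon₀ : classInner (fun n : N => (ψ₀ : T → ℂ) n) θ ≠ 0 := by
    intro h
    apply hψ₀
    rw [hfrob, h, map_zero]
  obtain ⟨e, he0, hee, he⟩ := res_eq_smul_of_invariant N ψ₀.2 hθ hcon₀ hinv
  set D : Finset (IrrCharacter T) :=
    Finset.univ.filter (fun ψ : IrrCharacter T => classInner (indFun N θ) (ψ : T → ℂ) ≠ 0) with hD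
  -- the twisting identity
  have hIND₁ : IsCharacter T (indFun N (fun _ : N => (1 : ℂ))) :=
    Cfsg.Agent.S0148.result N _ (IsIrrCharacter.isCharacter (isIrrCharacter_one (G := N)))
  have htwist : indFun N (fun _ : N => (1 : ℂ)) * (ψ₀ : T → ℂ) = (e : ℂ) • indFun N θ := by
    rw [indFun_mul_classFunction N _ (isClassFunction_irr ψ₀), ← indFun_smul]
    congr 1
    rw [← he]
    funext n
    simp
  have hdec := IsCharacter.eq_sum_irr hIND₁
  -- every member of `D` restricts like `ψ₀`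
  have hres : ∀ ψ ∈ D, (fun n : N => (ψ : T → ℂ) n) = (e : ℂ) • θ := by
    intro ψ hψ
    have hψne : classInner (indFun N θ) (ψ : T → ℂ) ≠ 0 := (Finset.mem_filter.mp hψ).2
    have h1 : classInner ((e : ℂ) • indFun N θ) (ψ : T → ℂ) ≠ 0 := by
      rw [classInner_smul_left]
      exact mul_ne_zero (by exact_mod_cast he0) hψne
    rw [← htwist, hdec, Finset.sum_mul, classInner_sum_left] at h1
    obtain ⟨μ, -, hμ⟩ := Finset.exists_ne_zero_of_sum_ne_zero h1
    rw [smul_mul_assoc, classInner_smul_left] at hμ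
    have hμ1 : classInner (indFun N (fun _ : N => (1 : ℂ))) (μ : T → ℂ) ≠ 0 := left_ne_zero_of_mul hμ
    have hμ2 : classInner ((μ : T → ℂ) * (ψ₀ : T → ℂ)) (ψ : T → ℂ) ≠ 0 := right_ne_zero_of_mul hμ
    obtain ⟨ν, hν, hνN⟩ := exists_monoidHom_of_constituent_indFun_one N hab μ.2 hμ1
    have hirr : IsIrrCharacter T ((μ : T → ℂ) * (ψ₀ : T → ℂ)) := by
      have := Cfsg.Agent.Lib.Helper81.isIrrCharacter_monoidHom_mul ν ψ₀.2
      convert this using 1
      funext t
      rw [Pi.mul_apply, hν]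
    have heq : (μ : T → ℂ) * (ψ₀ : T → ℂ) = (ψ : T → ℂ) := by
      by_contra hne
      exact hμ2 (classInner_irr_ne hirr ψ.2 hne)
    rw [← he]
    funext n
    rw [← heq, Pi.mul_apply, hν, hνN n]
    simp
  -- multiplicities
  have hmult : ∀ ψ ∈ D, classInner (indFun N θ) (ψ : T → ℂ) = (e : ℂ) := by
    intro ψ hψ
    rw [hfrob, hres ψ hψ, classInner_smul_left, classInner_irr_self hθ, mul_one,
      Complex.conj_natCast]
  have hINDeq : indFun N θ = (e : ℂ) • ∑ ψ ∈ D, (ψ : T → ℂ) := by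
    conv_lhs => rw [IsCharacter.eq_sum_irr hIND]
    rw [Finset.smul_sum, hD, Finset.sum_filter]
    apply Finset.sum_congr rfl
    intro ψ _
    by_cases hψ : classInner (indFun N θ) (ψ : T → ℂ) ≠ 0
    · rw [if_pos hψ, hmult ψ (Finset.mem_filter.mpr ⟨Finset.mem_univ _, hψ⟩)]
    · push Not at hψ
      rw [if_neg (by simpa using hψ), hψ, zero_smul]
  refine ⟨e, D, Nat.pos_of_ne_zero he0, hINDeq, hres, ?_⟩
  -- the norm
  have hnorm := classInner_indFun_self N (⊤ : Subgroup T) hθ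
    (fun g => ⟨fun _ => hinv g, fun _ => Subgroup.mem_top g⟩)
  have h2 : classInner (indFun N θ) (indFun N θ) = ((e ^ 2 * D.card : ℕ) : ℂ) := by
    conv_lhs => rw [hINDeq]
    rw [classInner_smul_left, classInner_sum_left]
    have : ∀ ψ ∈ D, classInner (ψ : T → ℂ) ((e : ℂ) • ∑ ψ ∈ D, (ψ : T → ℂ)) = (e : ℂ) := by
      intro ψ hψ
      rw [← hINDeq, ← classInner_conj_symm, hmult ψ hψ, Complex.conj_natCast]
    rw [Finset.sum_congr rfl this, Finset.sum_const, nsmul_eq_mul]
    push_cast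
    ring
  rw [h2, Nat.card_congr (Subgroup.topEquiv (G := T)).toEquiv, ← Subgroup.card_mul_index N] at hnorm
  have hN0 : (Nat.card N : ℂ) ≠ 0 := by exact_mod_cast Nat.card_pos.ne'
  have h3 : ((e ^ 2 * D.card : ℕ) : ℂ) = (N.index : ℂ) := by
    rw [hnorm]
    push_cast
    field_simp
  exact_mod_cast h3

end AbelianQuot

section AbelianInertia

open Cfsg.Agent.Lib.Helper77 Cfsg.Agent.Lib.Helper78

variable {G : Type u} [Group G] [Fintype G] (H T : Subgroup G) [hN : H.Normal] [Fintype H]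
  [Fintype T]

omit [Fintype H] hN in
/-- `ind_H^G θ = ind_T^G (ind_{H ∩ T}^T θ)` for `H ≤ T` -/
theorem indFun_eq_indFun_indFun_liftNT (hHT : H ≤ T) (θ : H → ℂ) :
    indFun H θ = indFun T (indFun (H.subgroupOf T) (liftNT H T θ)) := by
  rw [indFun_indFun]
  apply indFun_congr (Subgroup.map_subgroupOf_eq_of_le hHT).symm
  intro x h₁ h₂
  unfold mapFun liftNT
  congr 1
  apply Subtype.ext
  have h3 := Subgroup.coe_equivMapOfInjective_apply (H.subgroupOf T) T.subtype
    T.subtype_injective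
    (((H.subgroupOf T).equivMapOfInjective T.subtype T.subtype_injective).symm ⟨x, h₂⟩)
  rw [MulEquiv.apply_symm_apply] at h3
  exact h3

/-- **characters over `θ` when the inertia quotient is abelian** -/
theorem exists_uniform_ramification_inertia {θ : H → ℂ} (hθ : IsIrrCharacter H θ)
    (hT : ∀ g : G, g ∈ T ↔ conjFun H g θ = θ)
    (hab : ∀ x ∈ T, ∀ y ∈ T, x * y * x⁻¹ * y⁻¹ ∈ H) :
    ∃ (e : ℕ) (C : Finset (G → ℂ)), 0 < e ∧ (∀ χ ∈ C, IsIrrCharacter G χ) ∧
      e ^ 2 * C.card * Nat.card H = Nat.card T ∧ indFun H θ = (e : ℂ) • ∑ χ ∈ C, χ ∧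
      ∀ χ ∈ C, χ 1 = (T.index : ℂ) * e * θ 1 := by
  classical
  have hHT : H ≤ T := by
    intro h hh
    rw [hT]
    exact conjFun_of_mem H (IsCharacter.isClassFunction (IsIrrCharacter.isCharacter hθ)) ⟨h, hh⟩
  let _ : Fintype (H.subgroupOf T) := Fintype.ofFinite _
  have hθ' := isIrrCharacter_liftNT H T hHT hθ
  have hinv' : ∀ t : T, conjFun (H.subgroupOf T) t (liftNT H T θ) = liftNT H T θ :=
    conjFun_liftNT H T (fun g hg => (hT g).mp hg)
  have hab' : ∀ x y : T, x * y * x⁻¹ * y⁻¹ ∈ H.subgroupOf T := by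
    intro x y
    rw [Subgroup.mem_subgroupOf]
    exact hab x x.2 y y.2
  obtain ⟨e, D, he, hind, hres, hcount⟩ :=
    exists_uniform_ramification (H.subgroupOf T) hab' hθ' hinv'
  have he0 : (e : ℂ) ≠ 0 := by exact_mod_cast he.ne'
  -- members of `D` lie over `θ`
  have hover : ∀ ψ ∈ D, classInner (resNT H T hHT (ψ : T → ℂ)) θ ≠ 0 := by
    intro ψ hψ
    have h1 : classInner (fun m : H.subgroupOf T => (ψ : T → ℂ) m) (liftNT H T θ) = (e : ℂ) := by
      rw [hres ψ hψ, classInner_smul_left, classInner_irr_self hθ', mul_one]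
    rw [res_eq_comp H T hHT, liftNT_eq_comp H T hHT, classInner_comp_equiv] at h1
    rw [h1]
    exact he0
  have hinj : Set.InjOn (fun ψ : IrrCharacter T => indFun T (ψ : T → ℂ)) (D : Set (IrrCharacter T)) := by
    intro ψ hψ ψ' hψ' heq
    exact Subtype.ext (indFun_injective_of_over H T hHT hθ hT ψ.2 ψ'.2 (hover ψ hψ) (hover ψ' hψ') heq)
  refine ⟨e, D.image (fun ψ : IrrCharacter T => indFun T (ψ : T → ℂ)), he, ?_, ?_, ?_, ?_⟩
  · intro χ hχ
    obtain ⟨ψ, hψ, rfl⟩ := Finset.mem_image.mp hχ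
    exact isIrrCharacter_indFun_of_over H T hHT hθ hT ψ.2 (hover ψ hψ)
  · rw [Finset.card_image_of_injOn hinj, hcount, ← Subgroup.index_mul_card (H.subgroupOf T),
      Nat.card_congr (Subgroup.subgroupOfEquivOfLe hHT).toEquiv]
  · rw [indFun_eq_indFun_indFun_liftNT H T hHT θ, hind, indFun_smul, indFun_sum,
      Finset.sum_image hinj]
  · intro χ hχ
    obtain ⟨ψ, hψ, rfl⟩ := Finset.mem_image.mp hχ
    rw [indFun_one]
    have h1 := congrFun (hres ψ hψ) 1
    simp only [Pi.smul_apply, smul_eq_mul, Subgroup.coe_one] at h1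
    rw [h1, mul_assoc]
    congr 2

end AbelianInertia

end Cfsg.Agent.Lib.Helper75
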