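import Mathlib
import Cfsg.Prelude.Def_Characters
import Cfsg.Prelude.Def_Blocks
import Cfsg.Agent.Lib.Helper75.Clifford
import Cfsg.Agent.Lib.Helper78.CharMore
import Cfsg.Agent.Lib.Helper15.PermChar
import Cfsg.Agent.S0148

/-!
# Taketa's theorem: M-groups are solvable (helper75)
-/

set_option autoImplicit false
open Cfsg
open scoped ComplexConjugate commutatorElement

universe u

namespace Cfsg.Agent.Lib.Helper75

section Taketa

open Cfsg.Agent.Lib.Helper78

variable {G : Type u} [Group G] [Fintype G]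

/-- a function induced from a homomorphism `lam` takes its value at `1` on any normal subgroup
of `G` contained in the kernel of `lam` -/
theorem indFun_hom_eq_of_normal (H : Subgroup G) (lam : H →* ℂˣ) (M : Subgroup G) [hMn : M.Normal]
    (hM : ∀ y, y ∈ M → ∃ hyH : y ∈ H, lam ⟨y, hyH⟩ = 1) (x : G) (hx : x ∈ M) :
    indFun H (fun h => (lam h : ℂ)) x = indFun H (fun h => (lam h : ℂ)) 1 := by
  unfold indFun
  congr 1
  apply Finset.sum_congr rfl
  intro g _
  have h1 : g⁻¹ * x * g ∈ M := by
    have := hMn.conj_mem x hx g⁻¹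
    rwa [inv_inv] at this
  obtain ⟨h2, h3⟩ := hM _ h1
  have h4 : g⁻¹ * 1 * g ∈ M := by
    rw [mul_one, inv_mul_cancel]
    exact M.one_mem
  obtain ⟨h5, h6⟩ := hM _ h4
  rw [extendByZero_of_mem _ _ h2, extendByZero_of_mem _ _ h5, h3, h6]

omit [Fintype G] in
/-- a homomorphism from `H` to `ℂˣ` is trivial on the commutator subgroup of `H` -/
theorem hom_eq_one_of_mem_commutator (H : Subgroup G) (lam : H →* ℂˣ) (y : G) (hy : y ∈ ⁅H, H⁆) :
    ∃ hyH : y ∈ H, lam ⟨y, hyH⟩ = 1 := by
  have hle : ⁅H, H⁆ ≤ (lam.ker).map H.subtype := by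
    rw [Subgroup.commutator_le]
    intro g₁ hg₁ g₂ hg₂
    refine ⟨⁅(⟨g₁, hg₁⟩ : H), (⟨g₂, hg₂⟩ : H)⁆, ?_, rfl⟩
    rw [SetLike.mem_coe, MonoidHom.mem_ker, map_commutatorElement,
      commutatorElement_eq_one_iff_commute]
    exact Commute.all _ _
  obtain ⟨h, hh, rfl⟩ := hle hy
  exact ⟨h.2, MonoidHom.mem_ker.mp hh⟩

/-- the degree of an irreducible character is at most `|G|` -/
theorem charDegree_le_card (χ : IrrCharacter G) : charDegree (χ : G → ℂ) ≤ Nat.card G := by
  rw [← sum_irr_charDegree_sq (G := G)]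
  calc charDegree (χ : G → ℂ) ≤ charDegree (χ : G → ℂ) ^ 2 := Nat.le_self_pow two_ne_zero _
    _ ≤ _ := Finset.single_le_sum (f := fun ψ : IrrCharacter G => charDegree (ψ : G → ℂ) ^ 2)
        (fun _ _ => Nat.zero_le _) (Finset.mem_univ χ)

/-- if the permutation character on `G/H` takes its degree at `x` then `x ∈ H` -/
theorem mem_of_indFun_one_eq (H : Subgroup G) (x : G)
    (hx : indFun H (fun _ => (1 : ℂ)) x = indFun H (fun _ => (1 : ℂ)) 1) : x ∈ H := by
  classical
  rw [Cfsg.Agent.Lib.Helper15.indFun_one_apply, Cfsg.Agent.Lib.Helper15.indFun_one_apply] at hx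
  have hH : (Nat.card H : ℂ)⁻¹ ≠ 0 := by
    apply inv_ne_zero
    exact_mod_cast Nat.card_pos.ne'
  have h1 := mul_left_cancel₀ hH hx
  have h2 : Nat.card {y : G // y⁻¹ * x * y ∈ H} = Nat.card {y : G // y⁻¹ * 1 * y ∈ H} := by
    exact_mod_cast h1
  have h3 : Nat.card {y : G // y⁻¹ * 1 * y ∈ H} = Nat.card G := by
    apply Nat.card_congr
    apply Equiv.subtypeUnivEquiv
    intro y
    rw [mul_one, inv_mul_cancel]
    exact H.one_mem
  by_contra hxH
  have h4 : Fintype.card {y : G // y⁻¹ * x * y ∈ H} < Fintype.card G := by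
    apply Fintype.card_subtype_lt (x := (1 : G))
    simpa using hxH
  rw [h3, Nat.card_eq_fintype_card, Nat.card_eq_fintype_card] at h2
  omega

/-- the trivial character as an element of `IrrCharacter G` -/
noncomputable def trivIrr (G : Type u) [Group G] : IrrCharacter G :=
  ⟨fun _ => 1, isIrrCharacter_one⟩

omit [Fintype G] in
theorem charDegree_trivIrr : charDegree ((trivIrr G : IrrCharacter G) : G → ℂ) = 1 := by
  unfold charDegree trivIrr
  simp

/-- constituents of the permutation character on `G/H`, `H` of index `d + 1 ≥ 2`, have degree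
at most `d` -/
theorem charDegree_le_of_perm_constituent (H : Subgroup G) (d : ℕ) (hd : 1 ≤ d)
    (hidx : H.index = d + 1) (m : IrrCharacter G → ℕ)
    (hm : indFun H (fun _ => (1 : ℂ)) = ∑ ψ : IrrCharacter G, (m ψ : ℂ) • (ψ : G → ℂ))
    (ψ : IrrCharacter G) (hψ : m ψ ≠ 0) : charDegree (ψ : G → ℂ) ≤ d := by
  classical
  let _ : Fintype H := Fintype.ofFinite H
  -- multiplicity of the trivial character
  have hA : m (trivIrr G) = 1 := by
    have h1 := classInner_nat_combination (fun ψ : IrrCharacter G => (m ψ : ℂ)) (trivIrr G)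
    rw [← hm, frobenius_reciprocity H _ (isClassFunction_irr (trivIrr G))] at h1
    have h2 : classInner (fun _ : H => (1 : ℂ)) (fun h : H => ((trivIrr G : IrrCharacter G) : G → ℂ) h)
        = 1 := classInner_irr_self (isIrrCharacter_one (G := H))
    rw [h2] at h1
    exact_mod_cast h1.symm
  -- degree count
  have hC : ∑ φ : IrrCharacter G, m φ * charDegree (φ : G → ℂ) = d + 1 := by
    have h1 := congrFun hm 1
    rw [indFun_one, hidx, Finset.sum_apply] at h1
    have h2 : ∀ φ : IrrCharacter G, ((m φ : ℂ) • (φ : G → ℂ)) 1 =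
        ((m φ * charDegree (φ : G → ℂ) : ℕ) : ℂ) := by
      intro φ
      rw [Pi.smul_apply, smul_eq_mul, IsCharacter.apply_one_eq_charDegree
        (IsIrrCharacter.isCharacter φ.2), Nat.cast_mul]
    rw [Finset.sum_congr rfl (fun φ _ => h2 φ), mul_one, ← Nat.cast_sum] at h1
    exact_mod_cast h1.symm
  by_cases hψ1 : ψ = trivIrr G
  · rw [hψ1, charDegree_trivIrr]
    exact hd
  · have h1 : ∑ φ ∈ ({trivIrr G, ψ} : Finset (IrrCharacter G)), m φ * charDegree (φ : G → ℂ) ≤
        ∑ φ : IrrCharacter G, m φ * charDegree (φ : G → ℂ) :=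
      Finset.sum_le_sum_of_subset (Finset.subset_univ _)
    rw [Finset.sum_pair (Ne.symm hψ1), hC, hA, charDegree_trivIrr] at h1
    have h2 : charDegree (ψ : G → ℂ) ≤ m ψ * charDegree (ψ : G → ℂ) :=
      Nat.le_mul_of_pos_left _ (Nat.pos_of_ne_zero hψ)
    omega

/-- **Taketa**: key induction. -/
theorem taketa_aux (hM : ∀ χ : G → ℂ, IsIrrCharacter G χ →
      ∃ (H : Subgroup G) (lam : H →* ℂˣ), χ = indFun H (fun h => (lam h : ℂ))) :
    ∀ d : ℕ, ∀ χ : G → ℂ, IsIrrCharacter G χ → charDegree χ ≤ d →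
      ∀ x ∈ derivedSeries G d, χ x = χ 1 := by
  classical
  intro d
  induction d with
  | zero =>
    intro χ hχ hle
    exact absurd (IsIrrCharacter.charDegree_pos hχ) (by omega)
  | succ d ih =>
    intro χ hχ hle x hx
    by_cases hlt : charDegree χ ≤ d
    · exact ih χ hχ hlt x (derivedSeries_antitone G (Nat.le_succ d) hx)
    · have hdeg : charDegree χ = d + 1 := by omega
      obtain ⟨H, lam, hlam⟩ := hM χ hχ
      have hidx : H.index = d + 1 := by
        have h1 := IsCharacter.apply_one_eq_charDegree (IsIrrCharacter.isCharacter hχ)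
        rw [hdeg] at h1
        have h2 := congrFun hlam 1
        rw [indFun_one, h1] at h2
        simp only [map_one, Units.val_one, mul_one] at h2
        exact_mod_cast h2.symm
      -- (i) `G^(d) ≤ H`
      have hi : derivedSeries G d ≤ H := by
        rcases Nat.eq_zero_or_pos d with hd0 | hdpos
        · subst hd0
          have : H = ⊤ := Subgroup.index_eq_one.mp (by simpa using hidx)
          rw [this]
          exact le_top
        · intro y hy
          have hπ : IsCharacter G (indFun H (fun _ => (1 : ℂ))) :=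
            Cfsg.Agent.S0148.result H _ (IsIrrCharacter.isCharacter (isIrrCharacter_one (G := H)))
          obtain ⟨m, hm⟩ := (isCharacter_iff_exists_nat_combination _).mp hπ
          apply mem_of_indFun_one_eq H y
          rw [hm, Finset.sum_apply, Finset.sum_apply]
          apply Finset.sum_congr rfl
          intro ψ _
          by_cases hmψ : m ψ = 0
          · simp [hmψ]
          · rw [Pi.smul_apply, Pi.smul_apply,
              ih ψ ψ.2 (charDegree_le_of_perm_constituent H d hdpos hidx m hm ψ hmψ) y hy]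
      -- (ii)
      have hii : derivedSeries G (d + 1) ≤ ⁅H, H⁆ := by
        rw [derivedSeries_succ]
        exact Subgroup.commutator_mono hi hi
      have hn : (derivedSeries G (d + 1)).Normal := derivedSeries_normal G (d + 1)
      rw [hlam]
      exact indFun_hom_eq_of_normal H lam (derivedSeries G (d + 1))
        (fun y hy => hom_eq_one_of_mem_commutator H lam y (hii hy)) x hx

/-- **Taketa's theorem**: a finite M-group is solvable. -/
theorem taketa (hM : ∀ χ : G → ℂ, IsIrrCharacter G χ →
      ∃ (H : Subgroup G) (lam : H →* ℂˣ), χ = indFun H (fun h => (lam h : ℂ))) :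
    Group.IsSolvable G := by
  rw [Group.isSolvable_def]
  refine ⟨Nat.card G, ?_⟩
  rw [eq_bot_iff]
  intro x hx
  rw [Subgroup.mem_bot]
  have h1 : ∀ χ : IrrCharacter G, (χ : G → ℂ) x = (χ : G → ℂ) 1 :=
    fun χ => taketa_aux hM (Nat.card G) χ.1 χ.2 (charDegree_le_card χ) x hx
  have h2 := isConj_of_forall_irr_eq h1
  exact isConj_one_right.mp h2.symm

end Taketa

end Cfsg.Agent.Lib.Helper75
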