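import Mathlib
import Cfsg.Agent.Lib.Helper80.CharBasic
import Cfsg.Agent.Lib.Helper78.CharMore
import Cfsg.Agent.Lib.Helper79.Integrality
import Cfsg.Agent.Lib.Helper81.IrrTwist
import Cfsg.Agent.Lib.Helper15.PermChar
import Cfsg.Agent.Lib.Helper75.Clifford
import Cfsg.Agent.Lib.Helper75.IndNormal
import Cfsg.Agent.Lib.Helper75.Taketa
import Cfsg.Agent.S0148

/-!
# Character-theoretic core of the Broline–Garrison theorem (helper75)

Let `χ ∈ Irr(G)`, `H ≤ ker χ`, `M` a maximal subgroup with `HM = G`.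

* `isIrrCharacter_res_of_sup_eq_top` : `χ_M ∈ Irr(M)`.
* `constituent_degree`, `constituent_ker`, `exists_constituent` : facts on constituents.
* `ker_le_of_degree_lt` : a constituent `ψ` of `(χ_M)^G` with `ψ(1) > χ(1)` has
  `ker ψ ≤ M ∩ ker χ`.
* `exists_constituent_degree_gt` : if the normal closure of `H ∩ M` is `H`, such a `ψ` exists.
* `vanish_off_core` : if no such `ψ` exists, `χ` vanishes on `M` off `core_G(M)`.
-/

set_option autoImplicit false

namespace Cfsg.Agent.Lib.Helper75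

open Cfsg Representation
open scoped ComplexConjugate


section ResIrr

variable {G : Type*} [Group G]

/-- If `ρ` is irreducible, trivial on `H`, and `H ⊔ M = ⊤`, then `ρ` restricted to `M` is
irreducible. -/
theorem isIrreducible_comp_subtype_of_sup_eq_top {k : Type*} [Field k] {V : Type*}
    [AddCommGroup V] [Module k V] (ρ : Representation k G V) (hρ : ρ.IsIrreducible)
    (H M : Subgroup G) (hH : ∀ h ∈ H, ρ h = 1) (hHM : H ⊔ M = ⊤) :
    Representation.IsIrreducible (MonoidHom.comp ρ M.subtype : Representation k M V) := by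
  -- every `M`-subrepresentation is a `G`-subrepresentation
  have key : ∀ W : Subrepresentation (MonoidHom.comp ρ M.subtype : Representation k M V),
      ∀ g : G, ∀ v ∈ W.toSubmodule, ρ g v ∈ W.toSubmodule := by
    intro W
    let S : Subgroup G :=
      { carrier := {g | ∀ v ∈ W.toSubmodule, ρ g v ∈ W.toSubmodule ∧ ρ g⁻¹ v ∈ W.toSubmodule}
        one_mem' := by
          intro v hv
          simp [hv]
        mul_mem' := by
          intro a b ha hb v hv
          constructor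
          · rw [map_mul]
            exact (ha _ (hb v hv).1).1
          · rw [mul_inv_rev, map_mul]
            exact (hb _ (ha v hv).2).2
        inv_mem' := by
          intro a ha v hv
          rw [inv_inv]
          exact ⟨(ha v hv).2, (ha v hv).1⟩ }
    have hHS : H ≤ S := by
      intro h hh v hv
      have h1 : ρ h = 1 := hH h hh
      have h2 : ρ h⁻¹ = 1 := hH h⁻¹ (H.inv_mem hh)
      simp [h1, h2, hv]
    have hMS : M ≤ S := by
      intro m hm v hv
      exact ⟨W.apply_mem_toSubmodule (⟨m, hm⟩ : M) hv,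
        W.apply_mem_toSubmodule (⟨m⁻¹, M.inv_mem hm⟩ : M) hv⟩
    have hS : S = ⊤ := by
      rw [eq_top_iff, ← hHM]
      exact sup_le hHS hMS
    intro g v hv
    have hg : g ∈ S := by rw [hS]; exact Subgroup.mem_top g
    exact (hg v hv).1
  let Ψ : Subrepresentation (MonoidHom.comp ρ M.subtype : Representation k M V) →
      Subrepresentation ρ := fun W => ⟨W.toSubmodule, fun g v hv => key W g v hv⟩
  have hΨinj : Function.Injective Ψ := by
    intro W W' hWW'
    apply Subrepresentation.toSubmodule_injective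
    exact congrArg (fun X : Subrepresentation ρ => X.toSubmodule) hWW'
  have hbot : Ψ ⊥ = ⊥ := by
    apply Subrepresentation.toSubmodule_injective
    rfl
  have htop : Ψ ⊤ = ⊤ := by
    apply Subrepresentation.toSubmodule_injective
    rfl
  refine { exists_pair_ne := ⟨⊥, ⊤, ?_⟩, eq_bot_or_eq_top := fun a => ?_ }
  · intro hbt
    have : (⊥ : Subrepresentation ρ) = ⊤ := by
      rw [← hbot, ← htop, hbt]
    exact bot_ne_top this
  · rcases hρ.eq_bot_or_eq_top (Ψ a) with h1 | h1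
    · left; apply hΨinj; rw [h1, hbot]
    · right; apply hΨinj; rw [h1, htop]

/-- If `χ ∈ Irr(G)`, `H ≤ ker χ` and `H ⊔ M = ⊤` then `χ_M ∈ Irr(M)`. -/
theorem isIrrCharacter_res_of_sup_eq_top [Finite G] {χ : G → ℂ} (hχ : IsIrrCharacter G χ)
    (H M : Subgroup G) (hH : ∀ h ∈ H, χ h = χ 1) (hHM : H ⊔ M = ⊤) :
    IsIrrCharacter M (fun m : M => χ m) := by
  obtain ⟨n, ρ, hρ, rfl⟩ := hχ
  refine ⟨n, MonoidHom.comp ρ M.subtype, ?_, rfl⟩
  apply isIrreducible_comp_subtype_of_sup_eq_top ρ hρ H M _ hHM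
  intro h hh
  exact (Cfsg.Agent.Lib.Helper80.rep_char_eq_char_one_iff ρ h).mp (hH h hh)

end ResIrr


section Mult

variable {G : Type*} [Group G] [Fintype G]

open Cfsg.Agent.Lib.Helper78

/-- Degree of a natural combination of irreducible characters. -/
theorem charDegree_nat_combination (m : IrrCharacter G → ℕ) {η : G → ℂ} (hη : IsCharacter G η)
    (hm : η = ∑ φ : IrrCharacter G, (m φ : ℂ) • (φ : G → ℂ)) :
    charDegree η = ∑ φ : IrrCharacter G, m φ * charDegree (φ : G → ℂ) := by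
  have h1 := congrFun hm 1
  rw [Finset.sum_apply] at h1
  have h2 : ∀ φ : IrrCharacter G, ((m φ : ℂ) • (φ : G → ℂ)) 1 =
      ((m φ * charDegree (φ : G → ℂ) : ℕ) : ℂ) := by
    intro φ
    rw [Pi.smul_apply, smul_eq_mul, IsCharacter.apply_one_eq_charDegree
      (IsIrrCharacter.isCharacter φ.2), Nat.cast_mul]
  rw [Finset.sum_congr rfl (fun φ _ => h2 φ), IsCharacter.apply_one_eq_charDegree hη,
    ← Nat.cast_sum] at h1
  exact_mod_cast h1

/-- An irreducible constituent has degree at most the degree of the character, with equality only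
if the character is that constituent. -/
theorem constituent_degree {η : G → ℂ} (hη : IsCharacter G η) (θ : IrrCharacter G)
    (hθ : classInner η (θ : G → ℂ) ≠ 0) :
    charDegree (θ : G → ℂ) ≤ charDegree η ∧
      (charDegree η ≤ charDegree (θ : G → ℂ) → η = (θ : G → ℂ)) := by
  classical
  obtain ⟨m, hm⟩ := (isCharacter_iff_exists_nat_combination η).mp hη
  have hmθ : m θ ≠ 0 := by
    intro h0
    apply hθ
    rw [hm, classInner_nat_combination (fun φ => (m φ : ℂ)) θ, h0]
    simp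
  have hdeg := charDegree_nat_combination m hη hm
  have hsplit : ∑ φ : IrrCharacter G, m φ * charDegree (φ : G → ℂ) =
      m θ * charDegree (θ : G → ℂ) +
        ∑ φ ∈ Finset.univ.erase θ, m φ * charDegree (φ : G → ℂ) := by
    exact (Finset.add_sum_erase _ (fun φ : IrrCharacter G => m φ * charDegree (φ : G → ℂ))
      (Finset.mem_univ θ)).symm
  have hle : charDegree (θ : G → ℂ) ≤ m θ * charDegree (θ : G → ℂ) :=
    Nat.le_mul_of_pos_left _ (Nat.pos_of_ne_zero hmθ)
  refine ⟨by rw [hdeg, hsplit]; omega, ?_⟩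
  intro hle2
  have hpos : 0 < charDegree (θ : G → ℂ) := Cfsg.Agent.Lib.Helper79.irr_charDegree_pos θ
  have hrest : ∑ φ ∈ Finset.univ.erase θ, m φ * charDegree (φ : G → ℂ) = 0 := by
    rw [hdeg, hsplit] at hle2; omega
  have hmθ1 : m θ = 1 := by
    rw [hdeg, hsplit, hrest, add_zero] at hle2
    by_contra hne
    have h2 : 2 ≤ m θ := by omega
    have : 2 * charDegree (θ : G → ℂ) ≤ m θ * charDegree (θ : G → ℂ) :=
      Nat.mul_le_mul_right _ h2
    omega
  have hzero : ∀ φ ∈ Finset.univ.erase θ, m φ = 0 := by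
    intro φ hφ
    have h3 := (Finset.sum_eq_zero_iff.mp hrest) φ hφ
    have hposφ : 0 < charDegree (φ : G → ℂ) := Cfsg.Agent.Lib.Helper79.irr_charDegree_pos φ
    rcases Nat.mul_eq_zero.mp h3 with h4 | h4
    · exact h4
    · omega
  rw [hm, ← Finset.add_sum_erase _ _ (Finset.mem_univ θ), hmθ1]
  rw [Finset.sum_eq_zero (fun φ hφ => by rw [hzero φ hφ]; simp)]
  simp

/-- A character of nonzero degree has an irreducible constituent. -/
theorem exists_constituent {η : G → ℂ} (hη : IsCharacter G η) (h1 : η 1 ≠ 0) :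
    ∃ ψ : IrrCharacter G, classInner η (ψ : G → ℂ) ≠ 0 := by
  by_contra hcon
  push Not at hcon
  apply h1
  rw [IsCharacter.eq_sum_irr hη]
  simp [hcon]

/-- `[χξ, ψ] = [ξ, χ̄ψ]`. -/
theorem classInner_mul_left (χ ξ ψ : G → ℂ) :
    classInner (χ * ξ) ψ = classInner ξ (fun g => conj (χ g) * ψ g) := by
  unfold classInner
  congr 1
  apply Finset.sum_congr rfl
  intro g _
  simp only [Pi.mul_apply, map_mul, Complex.conj_conj]
  ring

/-- If `θ` is a constituent of the character `η` then `ker η ≤ ker θ`. -/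
theorem constituent_ker {η : G → ℂ} (hη : IsCharacter G η) (θ : IrrCharacter G)
    (hθ : classInner η (θ : G → ℂ) ≠ 0) (k : G) (hk : η k = η 1) :
    (θ : G → ℂ) k = (θ : G → ℂ) 1 := by
  classical
  obtain ⟨m, hm⟩ := (isCharacter_iff_exists_nat_combination η).mp hη
  have hmθ : m θ ≠ 0 := by
    intro h0
    apply hθ
    rw [hm, classInner_nat_combination (fun φ => (m φ : ℂ)) θ, h0]
    simp
  have hk' : ∑ φ : IrrCharacter G, (m φ : ℂ) * (φ : G → ℂ) k =
      ∑ φ : IrrCharacter G, (m φ : ℂ) * (φ : G → ℂ) 1 := by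
    have h1 := congrFun hm k
    have h2 := congrFun hm 1
    rw [Finset.sum_apply] at h1 h2
    simp only [Pi.smul_apply, smul_eq_mul] at h1 h2
    rw [← h1, ← h2, hk]
  have hre : ∑ φ : IrrCharacter G, (m φ : ℝ) *
      ((charDegree (φ : G → ℂ) : ℝ) - ((φ : G → ℂ) k).re) = 0 := by
    have h3 := congrArg Complex.re hk'
    rw [Complex.re_sum, Complex.re_sum] at h3
    have h4 : ∀ φ : IrrCharacter G, ((m φ : ℂ) * (φ : G → ℂ) 1).re =
        (m φ : ℝ) * (charDegree (φ : G → ℂ) : ℝ) := by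
      intro φ
      rw [IsCharacter.apply_one_eq_charDegree (IsIrrCharacter.isCharacter φ.2)]
      simp
    have h5 : ∀ φ : IrrCharacter G, ((m φ : ℂ) * (φ : G → ℂ) k).re =
        (m φ : ℝ) * ((φ : G → ℂ) k).re := by
      intro φ
      simp
    rw [Finset.sum_congr rfl (fun φ _ => h4 φ), Finset.sum_congr rfl (fun φ _ => h5 φ)] at h3
    simp only [mul_sub, Finset.sum_sub_distrib]
    linarith
  have hnonneg : ∀ φ ∈ (Finset.univ : Finset (IrrCharacter G)), 0 ≤ (m φ : ℝ) *
      ((charDegree (φ : G → ℂ) : ℝ) - ((φ : G → ℂ) k).re) := by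
    intro φ _
    apply mul_nonneg (Nat.cast_nonneg _)
    have h6 := Cfsg.Agent.Lib.Helper79.irr_norm_le φ k
    have h7 : ((φ : G → ℂ) k).re ≤ ‖(φ : G → ℂ) k‖ := Complex.re_le_norm _
    linarith
  have h8 := (Finset.sum_eq_zero_iff_of_nonneg hnonneg).mp hre θ (Finset.mem_univ θ)
  have hmθ' : (m θ : ℝ) ≠ 0 := by exact_mod_cast hmθ
  have h9 : ((θ : G → ℂ) k).re = (charDegree (θ : G → ℂ) : ℝ) := by
    rcases mul_eq_zero.mp h8 with h | h
    · exact absurd h hmθ'
    · linarith
  rw [IsCharacter.apply_one_eq_charDegree (IsIrrCharacter.isCharacter θ.2)]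
  have := complex_eq_of_re_eq_of_norm_le h9 (Cfsg.Agent.Lib.Helper79.irr_norm_le θ k)
  rw [this]
  simp

end Mult

section Core

variable {G : Type*} [Group G] [Fintype G]

open Cfsg.Agent.Lib.Helper78

/-- Step 6: a constituent `ψ` of `(χ_M)^G` of degree larger than `χ(1)` has kernel inside
`M ∩ ker χ`. -/
theorem ker_le_of_degree_lt (χ ψ : IrrCharacter G) (H M : Subgroup G) [Fintype M]
    (hH : ∀ h ∈ H, (χ : G → ℂ) h = (χ : G → ℂ) 1) (hHM : H ⊔ M = ⊤)
    (hM : ∀ L : Subgroup G, M ≤ L → L = M ∨ L = ⊤)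
    (hcons : classInner (fun m : M => (ψ : G → ℂ) m) (fun m : M => (χ : G → ℂ) m) ≠ 0)
    (hdeg : charDegree (χ : G → ℂ) < charDegree (ψ : G → ℂ)) :
    ∀ k : G, (ψ : G → ℂ) k = (ψ : G → ℂ) 1 → k ∈ M ∧ (χ : G → ℂ) k = (χ : G → ℂ) 1 := by
  have hψc : IsCharacter G (ψ : G → ℂ) := IsIrrCharacter.isCharacter ψ.2
  have hχM : IsIrrCharacter M (fun m : M => (χ : G → ℂ) m) :=
    isIrrCharacter_res_of_sup_eq_top χ.2 H M hH hHM
  by_cases hKM : Cfsg.Agent.Lib.Helper80.charKer (ψ : G → ℂ) hψc ≤ M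
  · intro k hk
    have hkM : k ∈ M := hKM hk
    refine ⟨hkM, ?_⟩
    have := constituent_ker (G := M) (η := fun m : M => (ψ : G → ℂ) m) (isCharacter_res M hψc)
      ⟨_, hχM⟩ hcons ⟨k, hkM⟩ hk
    exact this
  · exfalso
    have hsup : Cfsg.Agent.Lib.Helper80.charKer (ψ : G → ℂ) hψc ⊔ M = ⊤ := by
      rcases hM _ (le_sup_right : M ≤ Cfsg.Agent.Lib.Helper80.charKer (ψ : G → ℂ) hψc ⊔ M)
        with h | h
      · exfalso
        apply hKM
        rw [← h]
        exact le_sup_left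
      · exact h
    have hψM : IsIrrCharacter M (fun m : M => (ψ : G → ℂ) m) :=
      isIrrCharacter_res_of_sup_eq_top ψ.2 _ M (fun h hh => hh) hsup
    have heq : (fun m : M => (ψ : G → ℂ) m) = (fun m : M => (χ : G → ℂ) m) := by
      by_contra hne
      exact hcons (classInner_irr_ne hψM hχM hne)
    have h1 := congrFun heq 1
    simp only [OneMemClass.coe_one] at h1
    unfold charDegree at hdeg
    rw [h1] at hdeg
    exact lt_irrefl _ hdeg

/-- Case 1: under the Frattini-type hypothesis, `(χ_M)^G` has a constituent of larger degree. -/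
theorem exists_constituent_degree_gt (χ : IrrCharacter G) (H M : Subgroup G) [hHn : H.Normal]
    [Fintype M] (hH : ∀ h ∈ H, (χ : G → ℂ) h = (χ : G → ℂ) 1) (hHM : H ⊔ M = ⊤) (hMtop : M ≠ ⊤)
    (hfrat : ∀ R : Subgroup G, R.Normal → H ⊓ M ≤ R → R ≤ H → R = H) :
    ∃ ψ : IrrCharacter G,
      classInner (fun m : M => (ψ : G → ℂ) m) (fun m : M => (χ : G → ℂ) m) ≠ 0 ∧
      charDegree (χ : G → ℂ) < charDegree (ψ : G → ℂ) := by
  classical
  have hχc : IsCharacter G (χ : G → ℂ) := IsIrrCharacter.isCharacter χ.2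
  have hχM : IsIrrCharacter M (fun m : M => (χ : G → ℂ) m) :=
    isIrrCharacter_res_of_sup_eq_top χ.2 H M hH hHM
  set π : G → ℂ := indFun M (fun _ => (1 : ℂ)) with hπdef
  have hπ : IsCharacter G π :=
    Cfsg.Agent.S0148.result M _ (IsIrrCharacter.isCharacter (isIrrCharacter_one (G := M)))
  obtain ⟨mπ, hmπ⟩ := (isCharacter_iff_exists_nat_combination π).mp hπ
  have hmπeq : ∀ φ : IrrCharacter G, classInner π (φ : G → ℂ) = (mπ φ : ℂ) := by
    intro φ
    rw [hmπ]
    exact classInner_nat_combination (fun φ : IrrCharacter G => (mπ φ : ℂ)) φ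
  -- Step a
  obtain ⟨ξ, hξ, h₀, hh₀, hξh₀⟩ : ∃ ξ : IrrCharacter G, mπ ξ ≠ 0 ∧
      ∃ h ∈ H, (ξ : G → ℂ) h ≠ (ξ : G → ℂ) 1 := by
    by_contra hcon
    push Not at hcon
    apply hMtop
    have hHleM : H ≤ M := by
      intro h hh
      apply mem_of_indFun_one_eq M h
      change π h = π 1
      rw [hmπ, Finset.sum_apply, Finset.sum_apply]
      apply Finset.sum_congr rfl
      intro φ _
      simp only [Pi.smul_apply, smul_eq_mul]
      by_cases hφ : mπ φ = 0
      · rw [hφ]; simp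
      · rw [hcon φ hφ h hh]
    rw [← hHM]
    exact (sup_eq_right.mpr hHleM).symm
  -- Step b
  have hχξ : IsCharacter G ((χ : G → ℂ) * (ξ : G → ℂ)) :=
    Cfsg.Agent.Lib.Helper80.isCharacter_mul hχc (IsIrrCharacter.isCharacter ξ.2)
  have hχ1 : (χ : G → ℂ) 1 ≠ 0 := by
    rw [IsCharacter.apply_one_eq_charDegree hχc]
    have := Cfsg.Agent.Lib.Helper79.irr_charDegree_pos χ
    exact_mod_cast this.ne'
  have hξ1 : (ξ : G → ℂ) 1 ≠ 0 := by
    rw [IsCharacter.apply_one_eq_charDegree (IsIrrCharacter.isCharacter ξ.2)]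
    have := Cfsg.Agent.Lib.Helper79.irr_charDegree_pos ξ
    exact_mod_cast this.ne'
  obtain ⟨ψ, hψ⟩ := exists_constituent hχξ (by
    rw [Pi.mul_apply]; exact mul_ne_zero hχ1 hξ1)
  have hψc : IsCharacter G (ψ : G → ℂ) := IsIrrCharacter.isCharacter ψ.2
  -- Step c
  have hind : indFun M (fun m : M => (χ : G → ℂ) m) = π * (χ : G → ℂ) := by
    rw [hπdef, indFun_mul_classFunction M (fun _ => (1 : ℂ)) (isClassFunction_irr χ)]
    congr 1
    funext m
    simp
  have hcons' : classInner (π * (χ : G → ℂ)) (ψ : G → ℂ) ≠ 0 := by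
    have h1 : π * (χ : G → ℂ) =
        ∑ φ : IrrCharacter G, (mπ φ : ℂ) • ((χ : G → ℂ) * (φ : G → ℂ)) := by
      rw [hmπ, Finset.sum_mul]
      apply Finset.sum_congr rfl
      intro φ _
      funext g
      simp only [Pi.mul_apply, Pi.smul_apply, smul_eq_mul]
      ring
    rw [h1, classInner_sum_left]
    have h2 : ∀ φ : IrrCharacter G, ∃ n : ℕ,
        classInner ((mπ φ : ℂ) • ((χ : G → ℂ) * (φ : G → ℂ))) (ψ : G → ℂ) = n ∧
        (φ = ξ → n ≠ 0) := by
      intro φ
      obtain ⟨n, hn⟩ := IsCharacter.exists_nat_classInner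
        (Cfsg.Agent.Lib.Helper80.isCharacter_mul hχc (IsIrrCharacter.isCharacter φ.2)) ψ
      refine ⟨mπ φ * n, ?_, ?_⟩
      · rw [classInner_smul_left, hn]; push_cast; ring
      · rintro rfl
        apply Nat.mul_ne_zero hξ
        intro hn0
        apply hψ
        rw [hn, hn0]; simp
    choose n hn hnξ using h2
    rw [Finset.sum_congr rfl (fun φ _ => hn φ), ← Nat.cast_sum]
    have : ∑ φ : IrrCharacter G, n φ ≠ 0 := by
      intro h0
      exact hnξ ξ rfl ((Finset.sum_eq_zero_iff.mp h0) ξ (Finset.mem_univ ξ))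
    exact_mod_cast this
  have hcons : classInner (fun m : M => (ψ : G → ℂ) m) (fun m : M => (χ : G → ℂ) m) ≠ 0 := by
    rw [← frobenius_reciprocity' M _ (isClassFunction_irr ψ), hind]
    intro h0
    apply hcons'
    rw [← classInner_conj_symm, h0]
    simp
  refine ⟨ψ, hcons, ?_⟩
  -- Step d, e
  obtain ⟨hle, heq⟩ := constituent_degree (G := M) (η := fun m : M => (ψ : G → ℂ) m)
    (isCharacter_res M hψc) ⟨_, hχM⟩ hcons
  have hdM : ∀ f : G → ℂ, charDegree (fun m : M => f m) = charDegree f := by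
    intro f
    unfold charDegree
    simp
  rw [hdM, hdM] at hle heq
  by_contra hnot
  have hle' : charDegree (ψ : G → ℂ) ≤ charDegree (χ : G → ℂ) := by omega
  have hres := heq hle'
  have hres' : ∀ m ∈ M, (ψ : G → ℂ) m = (χ : G → ℂ) m := by
    intro m hm
    exact congrFun hres ⟨m, hm⟩
  have hψ1 : (ψ : G → ℂ) 1 = (χ : G → ℂ) 1 := hres' 1 M.one_mem
  -- `H ⊓ ker ψ` is normal, contains `H ⊓ M`
  have hR := hfrat (H ⊓ Cfsg.Agent.Lib.Helper80.charKer (ψ : G → ℂ) hψc) inferInstance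
    (by
      intro m hm
      refine ⟨hm.1, ?_⟩
      change (ψ : G → ℂ) m = (ψ : G → ℂ) 1
      rw [hres' m hm.2, hψ1, hH m hm.1]) inf_le_left
  have hHker : ∀ h ∈ H, (ψ : G → ℂ) h = (ψ : G → ℂ) 1 := by
    intro h hh
    have : h ∈ H ⊓ Cfsg.Agent.Lib.Helper80.charKer (ψ : G → ℂ) hψc := by rw [hR]; exact hh
    exact this.2
  -- F5
  have hη : IsCharacter G (fun g => conj ((χ : G → ℂ) g) * (ψ : G → ℂ) g) :=
    Cfsg.Agent.Lib.Helper80.isCharacter_mul
      (Cfsg.Agent.Lib.Helper81.isCharacter_galois hχc (starRingEnd ℂ)) hψc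
  have hξη : classInner (fun g => conj ((χ : G → ℂ) g) * (ψ : G → ℂ) g) (ξ : G → ℂ) ≠ 0 := by
    intro h0
    apply hψ
    rw [classInner_mul_left, ← classInner_conj_symm, h0]
    simp
  apply hξh₀
  apply constituent_ker hη ξ hξη h₀
  rw [hH h₀ hh₀, hHker h₀ hh₀]

/-- Case 2: if all constituents of `(χ_M)^G` have degree at most `χ(1)` then `χ` vanishes on
`M` off the core of `M`. -/
theorem vanish_off_core (χ : IrrCharacter G) (H M : Subgroup G) [Fintype M]
    (hH : ∀ h ∈ H, (χ : G → ℂ) h = (χ : G → ℂ) 1) (hHM : H ⊔ M = ⊤)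
    (hall : ∀ ψ : IrrCharacter G,
      classInner (fun m : M => (ψ : G → ℂ) m) (fun m : M => (χ : G → ℂ) m) ≠ 0 →
      charDegree (ψ : G → ℂ) ≤ charDegree (χ : G → ℂ)) :
    ∀ m ∈ M, (χ : G → ℂ) m ≠ 0 → ∀ y : G, y⁻¹ * m * y ∈ M := by
  classical
  have hχc : IsCharacter G (χ : G → ℂ) := IsIrrCharacter.isCharacter χ.2
  have hχM : IsIrrCharacter M (fun m : M => (χ : G → ℂ) m) :=
    isIrrCharacter_res_of_sup_eq_top χ.2 H M hH hHM
  set π : G → ℂ := indFun M (fun _ => (1 : ℂ)) with hπdef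
  set Θ : G → ℂ := indFun M (fun m : M => (χ : G → ℂ) m) with hΘdef
  have hΘ : IsCharacter G Θ :=
    Cfsg.Agent.S0148.result M _ (IsIrrCharacter.isCharacter hχM)
  have hind : Θ = π * (χ : G → ℂ) := by
    rw [hΘdef, hπdef, indFun_mul_classFunction M (fun _ => (1 : ℂ)) (isClassFunction_irr χ)]
    congr 1
    funext m
    rw [Pi.mul_apply, one_mul]
  have hdM : ∀ f : G → ℂ, charDegree (fun m : M => f m) = charDegree f := by
    intro f
    unfold charDegree
    simp
  have hχ1 : (χ : G → ℂ) 1 ≠ 0 := by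
    rw [IsCharacter.apply_one_eq_charDegree hχc]
    have := Cfsg.Agent.Lib.Helper79.irr_charDegree_pos χ
    exact_mod_cast this.ne'
  -- multiplicities are 0 or 1
  have hmult : ∀ ψ : IrrCharacter G, classInner Θ (ψ : G → ℂ) = 0 ∨
      (classInner Θ (ψ : G → ℂ) = 1 ∧ (ψ : G → ℂ) 1 = (χ : G → ℂ) 1) := by
    intro ψ
    by_cases h0 : classInner Θ (ψ : G → ℂ) = 0
    · left; exact h0
    · right
      have hψc : IsCharacter G (ψ : G → ℂ) := IsIrrCharacter.isCharacter ψ.2
      rw [hΘdef, frobenius_reciprocity M _ (isClassFunction_irr ψ)] at h0 ⊢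
      have hcons : classInner (fun m : M => (ψ : G → ℂ) m) (fun m : M => (χ : G → ℂ) m) ≠ 0 := by
        intro h1
        apply h0
        rw [← classInner_conj_symm, h1]
        simp
      obtain ⟨hle, heq⟩ := constituent_degree (G := M) (η := fun m : M => (ψ : G → ℂ) m)
        (isCharacter_res M hψc) ⟨_, hχM⟩ hcons
      rw [hdM, hdM] at hle heq
      have hres := heq (hall ψ hcons)
      refine ⟨?_, ?_⟩
      · rw [hres]
        exact classInner_irr_self hχM
      · have := congrFun hres 1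
        simpa using this
  -- `[Θ, Θ] = index`
  have hΘΘ : classInner Θ Θ = (M.index : ℂ) := by
    rw [classInner_eq_sum_mul_conj Θ (IsCharacter.isClassFunction hΘ)]
    have h1 : ∀ ψ : IrrCharacter G, classInner Θ (ψ : G → ℂ) * conj (classInner Θ (ψ : G → ℂ)) =
        classInner Θ (ψ : G → ℂ) := by
      intro ψ
      rcases hmult ψ with h | ⟨h, -⟩
      · rw [h]; simp
      · rw [h]; simp
    rw [Finset.sum_congr rfl (fun ψ _ => h1 ψ)]
    -- degree count
    have h2 := congrFun (IsCharacter.eq_sum_irr hΘ) 1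
    rw [Finset.sum_apply] at h2
    have h3 : ∀ ψ : IrrCharacter G, (classInner Θ (ψ : G → ℂ) • (ψ : G → ℂ)) 1 =
        classInner Θ (ψ : G → ℂ) * (χ : G → ℂ) 1 := by
      intro ψ
      rw [Pi.smul_apply, smul_eq_mul]
      rcases hmult ψ with h | ⟨-, h⟩
      · rw [h]; simp
      · rw [h]
    rw [Finset.sum_congr rfl (fun ψ _ => h3 ψ), ← Finset.sum_mul, hΘdef, indFun_one] at h2
    exact (mul_right_cancel₀ hχ1 h2).symm
  -- the other computation of `[Θ, Θ]`
  have hfp : ∀ g : G, π g = (Nat.card {q : G ⧸ M // g • q = q} : ℂ) :=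
    fun g => Cfsg.Agent.Lib.Helper15.indFun_one_eq_card_fixed M g
  have hfple : ∀ g : G, Nat.card {q : G ⧸ M // g • q = q} ≤ M.index := by
    intro g
    rw [Subgroup.index_eq_card]
    exact Nat.card_le_card_of_injective _ Subtype.val_injective
  have hM0 : (Nat.card M : ℂ) ≠ 0 := by
    have : Nat.card M ≠ 0 := Nat.card_pos.ne'
    exact_mod_cast this
  have h4 : classInner Θ Θ = (Nat.card M : ℂ)⁻¹ * ∑ m : M,
      (Nat.card {q : G ⧸ M // (m : G) • q = q} : ℂ) *
        ((χ : G → ℂ) m * conj ((χ : G → ℂ) m)) := by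
    conv_lhs => rw [hΘdef, frobenius_reciprocity M _ (IsCharacter.isClassFunction hΘ)]
    unfold classInner
    congr 1
    apply Finset.sum_congr rfl
    intro m _
    change (χ : G → ℂ) m * conj (Θ m) = _
    rw [hind, Pi.mul_apply, hfp, map_mul, Complex.conj_natCast]
    ring
  have h5 : (1 : ℂ) = (Nat.card M : ℂ)⁻¹ * ∑ m : M,
      ((χ : G → ℂ) m * conj ((χ : G → ℂ) m)) := by
    have := classInner_irr_self hχM
    unfold classInner at this
    exact this.symm
  have h6 : ∑ m : M, ((M.index : ℂ) - (Nat.card {q : G ⧸ M // (m : G) • q = q} : ℂ)) *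
      ((χ : G → ℂ) m * conj ((χ : G → ℂ) m)) = 0 := by
    simp only [sub_mul, Finset.sum_sub_distrib, ← Finset.mul_sum]
    rw [hΘΘ] at h4
    have h7 : ∑ m : M, (Nat.card {q : G ⧸ M // (m : G) • q = q} : ℂ) *
        ((χ : G → ℂ) m * conj ((χ : G → ℂ) m)) = (Nat.card M : ℂ) * (M.index : ℂ) := by
      rw [h4, ← mul_assoc, mul_inv_cancel₀ hM0, one_mul]
    have h8 : ∑ m : M, ((χ : G → ℂ) m * conj ((χ : G → ℂ) m)) = (Nat.card M : ℂ) := by
      have := congrArg (fun z => (Nat.card M : ℂ) * z) h5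
      simp only [mul_one] at this
      rw [this, ← mul_assoc, mul_inv_cancel₀ hM0, one_mul]
    rw [h7, h8]
    ring
  -- pass to reals
  have h9 : ∑ m : M, (((M.index - Nat.card {q : G ⧸ M // (m : G) • q = q} : ℕ) : ℝ) *
      Complex.normSq ((χ : G → ℂ) m)) = 0 := by
    have h10 : ∀ m : M, ((M.index : ℂ) - (Nat.card {q : G ⧸ M // (m : G) • q = q} : ℂ)) *
        ((χ : G → ℂ) m * conj ((χ : G → ℂ) m)) =
        (((((M.index - Nat.card {q : G ⧸ M // (m : G) • q = q} : ℕ) : ℝ) *
          Complex.normSq ((χ : G → ℂ) m) : ℝ)) : ℂ) := by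
      intro m
      rw [Complex.mul_conj, Nat.cast_sub (hfple m)]
      push_cast
      ring
    rw [Finset.sum_congr rfl (fun m _ => h10 m), ← Complex.ofReal_sum] at h6
    exact_mod_cast h6
  have hnonneg : ∀ m ∈ (Finset.univ : Finset M),
      0 ≤ (((M.index - Nat.card {q : G ⧸ M // (m : G) • q = q} : ℕ) : ℝ) *
        Complex.normSq ((χ : G → ℂ) m)) := by
    intro m _
    exact mul_nonneg (Nat.cast_nonneg _) (Complex.normSq_nonneg _)
  intro m hm hχm y
  have h11 := (Finset.sum_eq_zero_iff_of_nonneg hnonneg).mp h9 ⟨m, hm⟩ (Finset.mem_univ _)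
  have h12 : Complex.normSq ((χ : G → ℂ) m) ≠ 0 := by
    rw [Ne, Complex.normSq_eq_zero]
    exact hχm
  have h13 : M.index - Nat.card {q : G ⧸ M // m • q = q} = 0 := by
    rcases mul_eq_zero.mp h11 with h | h
    · exact_mod_cast h
    · exact absurd h h12
  have h14 : Nat.card {q : G ⧸ M // m • q = q} = M.index := by
    have := hfple m
    omega
  apply mem_of_indFun_one_eq M (y⁻¹ * m * y)
  change π (y⁻¹ * m * y) = π 1
  have hcl : π (y⁻¹ * m * y) = π m := by
    have := isClassFunction_indFun M (fun _ => (1 : ℂ)) m y⁻¹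
    rw [inv_inv] at this
    exact this
  rw [hcl, hfp, h14, hπdef, indFun_one]
  simp

end Core

end Cfsg.Agent.Lib.Helper75
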