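import Mathlib
import Cfsg.Prelude.Def_Characters
import Cfsg.Prelude.Def_Blocks
import Cfsg.Agent.Lib.Helper75.Clifford
import Cfsg.Agent.Lib.Helper75.Clifford2
import Cfsg.Agent.Lib.Helper75.Clifford3
import Cfsg.Agent.Lib.Helper75.Monomial
import Cfsg.Agent.Lib.Helper75.Ramified
import Cfsg.Agent.Lib.Helper77.Center
import Cfsg.Agent.S0179

/-!
# Itô's theorem (helper75)

* `finrank_dvd_index_repCenter`: `χ(1) ∣ |G : Z(χ)|`.
* `ito`: `χ(1) ∣ |G : A|` for an abelian normal subgroup `A`.
-/

set_option autoImplicit false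
open Cfsg
open scoped ComplexConjugate commutatorElement

universe u v

namespace Cfsg.Agent.Lib.Helper75

section RepCenter

open Cfsg.Agent.Lib.Helper77

variable {G : Type u} [Group G] [Finite G] {V : Type v} [AddCommGroup V] [Module ℂ V]
  [FiniteDimensional ℂ V]

/-- `χ(1)` divides `|G : Z(χ)|` -/
theorem finrank_dvd_index_repCenter (ρ : Representation ℂ G V) [hρ : ρ.IsIrreducible] :
    Module.finrank ℂ V ∣ (repCenter ρ).index := by
  have hirr : (quotientRep ρ (MonoidHom.ker ρ) le_rfl).IsIrreducible :=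
    quotientRep_isIrreducible ρ (MonoidHom.ker ρ) le_rfl
  have h1 := Cfsg.Agent.S0179.result (quotientRep ρ (MonoidHom.ker ρ) le_rfl)
  have h2 : (Subgroup.center (G ⧸ MonoidHom.ker ρ)).comap (QuotientGroup.mk' (MonoidHom.ker ρ)) =
      repCenter ρ := by
    ext g
    rw [Subgroup.mem_comap, Subgroup.mem_center_iff, mem_repCenter_iff_comm]
    constructor
    · intro h x
      have h3 := h (QuotientGroup.mk' (MonoidHom.ker ρ) x)
      have h4 := congrArg (quotientRep ρ (MonoidHom.ker ρ) le_rfl) h3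
      rw [map_mul, map_mul] at h4
      exact h4.symm
    · intro h q
      obtain ⟨x, rfl⟩ := QuotientGroup.mk'_surjective (MonoidHom.ker ρ) q
      rw [← map_mul, ← map_mul, QuotientGroup.mk'_apply, QuotientGroup.mk'_apply, QuotientGroup.eq,
        ← MonoidHom.eq_iff, map_mul, map_mul]
      exact h x
  rw [← h2, Subgroup.index_comap_of_surjective _ (QuotientGroup.mk'_surjective _)]
  exact h1

end RepCenter

section Ito

open Cfsg.Agent.Lib.Helper77 Cfsg.Agent.Lib.Helper78

variable {G : Type u} [Group G] [Fintype G]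

/-- **Itô's theorem**: the degree of an irreducible character divides the index of an abelian
normal subgroup. -/
theorem ito (A : Subgroup G) [hAn : A.Normal] (hA : ∀ a ∈ A, ∀ b ∈ A, a * b = b * a)
    (χ : G → ℂ) (hχ : IsIrrCharacter G χ) : charDegree χ ∣ A.index := by
  classical
  let _ : Fintype A := Fintype.ofFinite A
  have hAc : IsMulCommutative A := ⟨⟨fun a b => Subtype.ext (hA a a.2 b b.2)⟩⟩
  obtain ⟨θ, hθ⟩ := exists_constituent_res A hχ
  set T := inertia A (θ : A → ℂ) with hTdef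
  have hAT : A ≤ T :=
    le_inertia A (IsCharacter.isClassFunction (IsIrrCharacter.isCharacter θ.2))
  let _ : Fintype T := Fintype.ofFinite T
  obtain ⟨ψ, hψ, hind, hmult⟩ := exists_indFun_eq_of_over A T hAT θ.2 (fun g => Iff.rfl) hχ hθ
  -- `ψ` restricted to `A' = A.subgroupOf T`
  let _ : Fintype (A.subgroupOf T) := Fintype.ofFinite _
  have hθ' : IsIrrCharacter (A.subgroupOf T) (liftNT A T (θ : A → ℂ)) :=
    isIrrCharacter_liftNT A T hAT θ.2
  have hinv' : ∀ t : T, conjFun (A.subgroupOf T) t (liftNT A T (θ : A → ℂ)) =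
      liftNT A T (θ : A → ℂ) :=
    conjFun_liftNT A T (fun g hg => hg)
  have hcon' : classInner (fun m : A.subgroupOf T => ψ m) (liftNT A T (θ : A → ℂ)) ≠ 0 := by
    rw [res_eq_comp A T hAT ψ, liftNT_eq_comp A T hAT, classInner_comp_equiv, hmult]
    exact hθ
  obtain ⟨e, he0, -, he⟩ := res_eq_smul_of_invariant (A.subgroupOf T) hψ hθ' hcon' hinv'
  -- unpack `ψ`
  obtain ⟨n, σ, hσirr, hσ⟩ := hψ
  have hθ1 : (θ : A → ℂ) 1 = 1 := IsIrrCharacter.map_one_of_comm θ.2
  have hψ1 : ψ 1 = (e : ℂ) := by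
    have := congrFun he 1
    simp only [Pi.smul_apply, smul_eq_mul] at this
    have h2 : liftNT A T (θ : A → ℂ) 1 = 1 := by
      unfold liftNT
      rw [← hθ1]
      congr 1
    rw [h2, mul_one] at this
    exact this
  have hn : (n : ℂ) = (e : ℂ) := by
    rw [← hψ1, ← hσ, Representation.char_one]
    simp
  have hne : n = e := by exact_mod_cast hn
  -- `A.subgroupOf T ≤ Z(σ)`
  have hle : A.subgroupOf T ≤ repCenter σ := by
    intro a ha
    rw [mem_repCenter_iff_norm, hσ]
    have h1 := congrFun he ⟨a, ha⟩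
    simp only [Pi.smul_apply, smul_eq_mul] at h1
    change ψ a = _ at h1
    rw [h1, norm_mul]
    have h2 : ‖liftNT A T (θ : A → ℂ) ⟨a, ha⟩‖ = 1 := IsIrrCharacter.norm_eq_one_of_comm θ.2 _
    rw [h2, mul_one]
    simp [hne]
  have hdvd1 : n ∣ (A.subgroupOf T).index := by
    have h1 := finrank_dvd_index_repCenter σ
    rw [Module.finrank_fin_fun] at h1
    exact dvd_trans h1 (Subgroup.index_dvd_of_le hle)
  -- degrees
  have hdeg : charDegree χ = T.index * n := by
    have h1 := congrFun hind 1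
    rw [indFun_one, hψ1, ← hn, IsCharacter.apply_one_eq_charDegree
      (IsIrrCharacter.isCharacter hχ)] at h1
    exact_mod_cast h1.symm
  rw [hdeg, ← Subgroup.relIndex_mul_index hAT, mul_comm]
  exact Nat.mul_dvd_mul hdvd1 (dvd_refl _)

end Ito

end Cfsg.Agent.Lib.Helper75
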