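import Mathlib
import Cfsg.Agent.Lib.Helper16.Osima
import Cfsg.Agent.Lib.Helper16.BlockBasic
import Cfsg.Agent.Lib.Helper16.Induced
import Cfsg.Agent.Lib.Helper78.WBO
import Cfsg.Agent.Lib.Helper78.BlockSums
import Cfsg.Agent.Lib.Helper78.CharMore
import Cfsg.Agent.Lib.Helper79.Integrality

/-!
# Galois-stable 2-blocks of full defect are principal (helper75)

Tools for S4517: a sum over an involution modulo the local ideal, vanishing of block idempotent
coefficients at `p`-singular elements, invariance of the coefficients under a Galois twist that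
stabilises the block, the involution `c ↦ c⁻¹` on conjugacy classes, and the final congruence
`[ψ ∈ B] ≡ blockCoeff B 1`.
-/

set_option autoImplicit false
set_option linter.style.haveILetI false

namespace Cfsg.Agent.Lib.Helper75

open Cfsg
open scoped ComplexConjugate



section Involution

variable {M : Ideal AlgInt}

/-- The local ideal as an additive subgroup of `ℂ`. -/
def localIdealAddSubgroup (M : Ideal AlgInt) [hMp : M.IsPrime] : AddSubgroup ℂ where
  carrier := {z | MemLocalIdeal M z}
  zero_mem' := Cfsg.Agent.Lib.Helper16.memLocalIdeal_zero hMp.ne_top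
  add_mem' := fun hx hy => Cfsg.Agent.Lib.Helper16.memLocalIdeal_add hx hy
  neg_mem' := fun hx => Cfsg.Agent.Lib.Helper16.memLocalIdeal_neg hx

/-- A sum over a finset with an involution lies in the local ideal if the paired sums do and the
terms at fixed points do. -/
theorem memLocalIdeal_sum_involution [hMp : M.IsPrime] {ι : Type*} (s : Finset ι) (f : ι → ℂ)
    (τ : ι → ι) (hτ : ∀ a ∈ s, τ a ∈ s) (hinv : ∀ a ∈ s, τ (τ a) = a)
    (hpair : ∀ a ∈ s, MemLocalIdeal M (f a + f (τ a)))
    (hfix : ∀ a ∈ s, τ a = a → MemLocalIdeal M (f a)) :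
    MemLocalIdeal M (∑ a ∈ s, f a) := by
  classical
  set I := localIdealAddSubgroup M with hI
  have hmem : ∀ z : ℂ, z ∈ I ↔ MemLocalIdeal M z := fun z => Iff.rfl
  rw [← hmem, ← QuotientAddGroup.eq_zero_iff, QuotientAddGroup.mk_sum]
  apply Finset.sum_involution (fun a _ => τ a)
  · intro a ha
    rw [← QuotientAddGroup.mk_add, QuotientAddGroup.eq_zero_iff, hmem]
    exact hpair a ha
  · intro a ha hne heq
    apply hne
    rw [QuotientAddGroup.eq_zero_iff, hmem]
    exact hfix a ha heq
  · intro a ha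
    exact hτ a ha
  · intro a ha
    exact hinv a ha

end Involution




section Basic

variable {G : Type*} [Group G]

/-- The idempotent coefficients of a `p`-block vanish on `p`-singular elements. -/
theorem blockCoeff_eq_zero_of_singular [Finite G] {p : ℕ} {M : Ideal AlgInt}
    (hM : IsPModular p M) {B : Set (IrrCharacter G)} (hB : IsPBlock M B) (g : G)
    (hg : p ∣ orderOf g) : blockCoeff B g = 0 := by
  classical
  haveI : Fact p.Prime := ⟨hM.1⟩
  have := Fintype.ofFinite G
  unfold blockCoeff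
  rw [Cfsg.Agent.Lib.Helper78.weak_block_orthogonality hM hB 1 g
    (by rw [orderOf_one]; exact hM.1.one_lt.ne' ∘ Nat.dvd_one.mp) hg, mul_zero]

/-- A block of full defect contains a character of degree prime to `p`. -/
theorem exists_degree_not_dvd_of_full_defect [Finite G] {p : ℕ} (hp : p.Prime)
    {B : Set (IrrCharacter G)} (hne : B.Nonempty)
    (hdef : blockDefect p B = (Nat.card G).factorization p) :
    ∃ χ ∈ B, ¬ p ∣ charDegree (χ : G → ℂ) := by
  unfold blockDefect at hdef
  set S := (fun χ : IrrCharacter G => (charDegree (χ : G → ℂ)).factorization p) '' B with hS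
  have hSne : S.Nonempty := hne.image _
  obtain ⟨χ, hχB, hχ⟩ := Nat.sInf_mem hSne
  have hpos := Cfsg.Agent.Lib.Helper79.irr_charDegree_pos χ
  have hle : (charDegree (χ : G → ℂ)).factorization p ≤ (Nat.card G).factorization p :=
    (Nat.factorization_le_iff_dvd hpos.ne' Nat.card_pos.ne').mpr
      (Cfsg.Agent.Lib.Helper79.irr_charDegree_dvd_card χ) p
  have h0 : (charDegree (χ : G → ℂ)).factorization p = 0 := by
    simp only at hχ
    omega
  refine ⟨χ, hχB, ?_⟩
  rcases (Nat.factorization_eq_zero_iff _ _).mp h0 with h | h | h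
  · exact absurd hp h
  · exact h
  · omega

end Basic




section Basic

variable {G : Type*} [Group G]

/-- If `B` is stable under `χ ↦ χ ∘ (· ^ k)` with `k` prime to `|G|`, the idempotent coefficients
of `B` are invariant under `g ↦ g ^ k`. -/
theorem blockCoeff_pow_of_stable [Finite G] (k : ℕ) (hk : Nat.Coprime k (Nat.card G))
    (B : Set (IrrCharacter G))
    (hstab : ∀ χ ∈ B, ∃ ψ ∈ B, ∀ g : G, (ψ : G → ℂ) g = (χ : G → ℂ) (g ^ k)) (g : G) :
    blockCoeff B (g ^ k) = blockCoeff B g := by
  classical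
  have := Fintype.ofFinite G
  rw [Cfsg.Agent.Lib.Helper16.blockCoeff_eq_sum, Cfsg.Agent.Lib.Helper16.blockCoeff_eq_sum]
  congr 1
  set s := Finset.univ.filter (fun χ : IrrCharacter G => χ ∈ B) with hs
  have hmem : ∀ χ, χ ∈ s ↔ χ ∈ B := fun χ => by simp [hs]
  have hsurj : Function.Surjective (fun x : G => x ^ k) :=
    (powCoprime hk.symm).surjective
  -- the map `σ`
  let σ : ∀ χ ∈ s, IrrCharacter G := fun χ hχ => Classical.choose (hstab χ ((hmem χ).mp hχ))
  have hσ : ∀ χ (hχ : χ ∈ s), σ χ hχ ∈ B ∧ ∀ g : G, (σ χ hχ : G → ℂ) g = (χ : G → ℂ) (g ^ k) :=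
    fun χ hχ => Classical.choose_spec (hstab χ ((hmem χ).mp hχ))
  have hinj : ∀ a₁ a₂ ha₁ ha₂, σ a₁ ha₁ = σ a₂ ha₂ → a₁ = a₂ := by
    intro a₁ a₂ ha₁ ha₂ h
    apply Subtype.ext
    funext x
    obtain ⟨y, rfl⟩ := hsurj x
    change (a₁ : G → ℂ) (y ^ k) = (a₂ : G → ℂ) (y ^ k)
    rw [← (hσ a₁ ha₁).2 y, ← (hσ a₂ ha₂).2 y, h]
  have hsur := Finset.surj_on_of_inj_on_of_card_le σ
    (fun a ha => (hmem _).mpr (hσ a ha).1) hinj le_rfl
  refine Finset.sum_bij σ (fun a ha => (hmem _).mpr (hσ a ha).1)
    (fun a₁ ha₁ a₂ ha₂ h => hinj a₁ a₂ ha₁ ha₂ h)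
    (fun b hb => by obtain ⟨a, ha, h⟩ := hsur b hb; exact ⟨a, ha, h.symm⟩) ?_
  intro a ha
  rw [(hσ a ha).2 g, (hσ a ha).2 1, one_pow]

end Basic




section Basic

variable {G : Type*} [Group G]

open scoped Classical in
/-- `ω_ψ(e_B) = [ψ ∈ B]` as a sum over conjugacy classes (with `Helper16.classRep`). -/
theorem sum_classes_blockCoeff_mul_centralChar [Fintype G] (B : Set (IrrCharacter G))
    (ψ : IrrCharacter G) :
    ∑ c : ConjClasses G, blockCoeff B (Cfsg.Agent.Lib.Helper16.classRep c) *
        centralChar (ψ : G → ℂ) (Cfsg.Agent.Lib.Helper16.classRep c) =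
      if ψ ∈ B then 1 else 0 := by
  have h1 := Cfsg.Agent.Lib.Helper16.sum_blockCoeff_mul B ψ
  rw [Cfsg.Agent.Lib.Helper16.sum_eq_sum_classes (fun g => blockCoeff B g * (ψ : G → ℂ) g)
    (fun g h => by
      simp only [Cfsg.Agent.Lib.Helper16.blockCoeff_conj, Cfsg.Agent.Lib.Helper16.irr_conj])] at h1
  have hne : (ψ : G → ℂ) 1 ≠ 0 := Cfsg.Agent.Lib.Helper79.irr_apply_one_ne_zero ψ
  have h2 : ∑ c : ConjClasses G, blockCoeff B (Cfsg.Agent.Lib.Helper16.classRep c) *
        centralChar (ψ : G → ℂ) (Cfsg.Agent.Lib.Helper16.classRep c) =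
      (∑ c : ConjClasses G,
        ((Subgroup.centralizer ({Cfsg.Agent.Lib.Helper16.classRep c} : Set G)).index : ℂ) *
          (blockCoeff B (Cfsg.Agent.Lib.Helper16.classRep c) *
            (ψ : G → ℂ) (Cfsg.Agent.Lib.Helper16.classRep c))) / (ψ : G → ℂ) 1 := by
    rw [Finset.sum_div]
    refine Finset.sum_congr rfl fun c _ => ?_
    unfold centralChar
    ring
  rw [h2, h1]
  split_ifs
  · exact div_self hne
  · exact zero_div _

/-- A nontrivial real class of elements of odd order has even size. -/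
theorem even_index_centralizer_of_isConj_inv [Finite G] {g : G} (hodd : Odd (orderOf g))
    (hg1 : g ≠ 1) (hreal : IsConj g g⁻¹) :
    Even (Subgroup.centralizer ({g} : Set G)).index := by
  classical
  have := Fintype.ofFinite G
  rw [← Cfsg.Agent.Lib.Helper79.card_conjFinset g, ← ZMod.natCast_eq_zero_iff_even]
  have h : ∑ x ∈ Cfsg.Agent.Lib.Helper79.conjFinset g, (1 : ZMod 2) = 0 := by
    refine Finset.sum_involution (fun a _ => a⁻¹) ?_ ?_ ?_ ?_
    · intro a _
      decide
    · intro a ha _ heq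
      rw [Cfsg.Agent.Lib.Helper79.mem_conjFinset] at ha
      have hord : orderOf a = orderOf g := by
        obtain ⟨c, rfl⟩ := isConj_iff.mp ha
        have := MulEquiv.orderOf_eq (MulAut.conj c) g
        rwa [MulAut.conj_apply] at this
      have ha2 : a ^ 2 = 1 := by
        rw [pow_two]
        nth_rewrite 1 [← heq]
        exact inv_mul_cancel a
      have hdvd : orderOf a ∣ 2 := orderOf_dvd_of_pow_eq_one ha2
      rw [hord] at hdvd
      have h1 : orderOf g = 1 := by
        rcases (Nat.dvd_prime Nat.prime_two).mp hdvd with h | h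
        · exact h
        · rw [h] at hodd
          exact absurd hodd (by decide)
      exact hg1 (orderOf_eq_one_iff.mp h1)
    · intro a ha
      rw [Cfsg.Agent.Lib.Helper79.mem_conjFinset] at ha ⊢
      obtain ⟨c, rfl⟩ := isConj_iff.mp ha
      refine hreal.trans (isConj_iff.mpr ⟨c, ?_⟩)
      rw [conj_inv]
    · intro a _
      exact inv_inv a
  rw [Finset.sum_const, nsmul_eq_mul, mul_one] at h
  exact h

end Basic




section Basic

variable {G : Type*} [Group G]

theorem isConj_inv_inv {a b : G} (h : IsConj a b) : IsConj a⁻¹ b⁻¹ := by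
  obtain ⟨c, rfl⟩ := isConj_iff.mp h
  exact isConj_iff.mpr ⟨c, by rw [conj_inv]⟩

/-- The inverse class of a conjugacy class (through `Helper16.classRep`). -/
noncomputable def classInv (c : ConjClasses G) : ConjClasses G :=
  ConjClasses.mk (Cfsg.Agent.Lib.Helper16.classRep c)⁻¹

theorem isConj_classRep_classInv (c : ConjClasses G) :
    IsConj (Cfsg.Agent.Lib.Helper16.classRep (classInv c))
      (Cfsg.Agent.Lib.Helper16.classRep c)⁻¹ :=
  Cfsg.Agent.Lib.Helper16.isConj_classRep_mk _

theorem classInv_classInv (c : ConjClasses G) : classInv (classInv c) = c := by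
  have h := isConj_inv_inv (isConj_classRep_classInv c)
  rw [inv_inv] at h
  unfold classInv at h ⊢
  rw [ConjClasses.mk_eq_mk_iff_isConj.mpr h, Cfsg.Agent.Lib.Helper16.mk_classRep]

theorem classRep_mk_one : Cfsg.Agent.Lib.Helper16.classRep (ConjClasses.mk (1 : G)) = 1 :=
  isConj_one_left.mp (Cfsg.Agent.Lib.Helper16.isConj_classRep_mk 1)

theorem classInv_ne_one {c : ConjClasses G} (hc : c ≠ ConjClasses.mk 1) :
    classInv c ≠ ConjClasses.mk 1 := by
  intro h
  apply hc
  have h1 : Cfsg.Agent.Lib.Helper16.classRep (classInv c) = 1 := by rw [h, classRep_mk_one]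
  have h2 := isConj_classRep_classInv c
  rw [h1, isConj_one_right, inv_eq_one] at h2
  rw [← Cfsg.Agent.Lib.Helper16.mk_classRep c, h2]

theorem classRep_ne_one {c : ConjClasses G} (hc : c ≠ ConjClasses.mk 1) :
    Cfsg.Agent.Lib.Helper16.classRep c ≠ 1 := by
  intro h
  apply hc
  rw [← Cfsg.Agent.Lib.Helper16.mk_classRep c, h]

theorem isConj_inv_of_classInv_eq {c : ConjClasses G} (h : classInv c = c) :
    IsConj (Cfsg.Agent.Lib.Helper16.classRep c) (Cfsg.Agent.Lib.Helper16.classRep c)⁻¹ := by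
  have h2 := isConj_classRep_classInv c
  rwa [h] at h2

theorem centralChar_one_irr (ψ : IrrCharacter G) : centralChar (ψ : G → ℂ) 1 = 1 := by
  unfold centralChar
  have hne : (ψ : G → ℂ) 1 ≠ 0 := Cfsg.Agent.Lib.Helper79.irr_apply_one_ne_zero ψ
  have : Subgroup.centralizer ({1} : Set G) = ⊤ := by
    ext x
    simp [Subgroup.mem_centralizer_singleton_iff]
  rw [this, Subgroup.index_top, Nat.cast_one, one_mul, div_self hne]

theorem blockCoeff_eq_of_isConj (B : Set (IrrCharacter G)) {a b : G} (h : IsConj a b) :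
    blockCoeff B a = blockCoeff B b := by
  obtain ⟨c, rfl⟩ := isConj_iff.mp h
  exact (Cfsg.Agent.Lib.Helper78.isClassFunction_blockCoeff B a c).symm

theorem centralChar_eq_of_isConj (ψ : IrrCharacter G) {a b : G} (h : IsConj a b) :
    centralChar (ψ : G → ℂ) a = centralChar (ψ : G → ℂ) b := by
  obtain ⟨c, rfl⟩ := isConj_iff.mp h
  rw [Cfsg.Agent.Lib.Helper16.centralChar_conj]

end Basic


section Key

variable {G : Type*} [Group G]

theorem centralizer_inv_eq (g : G) :
    Subgroup.centralizer ({g⁻¹} : Set G) = Subgroup.centralizer ({g} : Set G) := by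
  ext x
  rw [Subgroup.mem_centralizer_singleton_iff, Subgroup.mem_centralizer_singleton_iff]
  constructor
  · intro h
    calc x * g = g * (g⁻¹ * x) * g := by group
      _ = g * (x * g⁻¹) * g := by rw [h]
      _ = g * x := by group
  · intro h
    calc x * g⁻¹ = g⁻¹ * (g * x) * g⁻¹ := by group
      _ = g⁻¹ * (x * g) * g⁻¹ := by rw [h]
      _ = g⁻¹ * x := by group

open scoped Classical in
/-- The key congruence: for a `2`-block `B` whose idempotent coefficients are inversion
invariant, and an irreducible character `ψ` of odd degree whose central character is inversion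
invariant modulo the local ideal on elements of odd order, `[ψ ∈ B] ≡ blockCoeff B 1`. -/
theorem indicator_sub_blockCoeff_one_mem [Finite G] {M : Ideal AlgInt} (hM : IsPModular 2 M)
    {B : Set (IrrCharacter G)} (hB : IsPBlock M B)
    (hcoef : ∀ g : G, blockCoeff B g⁻¹ = blockCoeff B g)
    (ψ : IrrCharacter G) (hψodd : ¬ 2 ∣ charDegree (ψ : G → ℂ))
    (hψinv : ∀ g : G, Odd (orderOf g) →
      MemLocalIdeal M (centralChar (ψ : G → ℂ) g⁻¹ - centralChar (ψ : G → ℂ) g)) :
    MemLocalIdeal M ((if ψ ∈ B then (1 : ℂ) else 0) - blockCoeff B 1) := by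
  have := Fintype.ofFinite G
  have hMp : M.IsPrime := Cfsg.Agent.Lib.Helper16.isPModular_isPrime hM
  have hsum := sum_classes_blockCoeff_mul_centralChar B ψ
  rw [← Finset.add_sum_erase Finset.univ _ (Finset.mem_univ (ConjClasses.mk (1 : G)))] at hsum
  rw [classRep_mk_one, centralChar_one_irr, mul_one] at hsum
  rw [← hsum, add_sub_cancel_left]
  -- local facts
  have h2 : MemLocalIdeal M (2 : ℂ) := by
    have := Cfsg.Agent.Lib.Helper16.memLocalIdeal_p hM
    simpa using this
  have haR : ∀ g : G, MemLocalRing M (blockCoeff B g) :=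
    fun g => Cfsg.Agent.Lib.Helper16.blockCoeff_memLocalRing hB g
  have hωR : ∀ g : G, MemLocalRing M (centralChar (ψ : G → ℂ) g) := fun g =>
    Cfsg.Agent.Lib.Helper16.memLocalRing_of_isIntegral hMp.ne_top
      (Cfsg.Agent.Lib.Helper79.isIntegral_centralChar ψ g)
  have hsing : ∀ g : G, ¬ Odd (orderOf g) → blockCoeff B g = 0 := by
    intro g hg
    apply blockCoeff_eq_zero_of_singular hM hB
    rw [Nat.not_odd_iff_even] at hg
    exact hg.two_dvd
  apply memLocalIdeal_sum_involution _ _ classInv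
  · intro c hc
    rw [Finset.mem_erase] at hc ⊢
    exact ⟨classInv_ne_one hc.1, Finset.mem_univ _⟩
  · intro c _
    exact classInv_classInv c
  · intro c _
    set g := Cfsg.Agent.Lib.Helper16.classRep c with hg
    rw [blockCoeff_eq_of_isConj B (isConj_classRep_classInv c),
      centralChar_eq_of_isConj ψ (isConj_classRep_classInv c), ← hg, hcoef g, ← mul_add]
    by_cases hodd : Odd (orderOf g)
    · apply Cfsg.Agent.Lib.Helper16.memLocalIdeal_mul_left (haR g)
      have : centralChar (ψ : G → ℂ) g + centralChar (ψ : G → ℂ) g⁻¹ =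
          2 * centralChar (ψ : G → ℂ) g +
            (centralChar (ψ : G → ℂ) g⁻¹ - centralChar (ψ : G → ℂ) g) := by ring
      rw [this]
      exact Cfsg.Agent.Lib.Helper16.memLocalIdeal_add
        (Cfsg.Agent.Lib.Helper16.memLocalIdeal_mul_right h2 (hωR g)) (hψinv g hodd)
    · rw [hsing g hodd, zero_mul]
      exact Cfsg.Agent.Lib.Helper16.memLocalIdeal_zero hMp.ne_top
  · intro c hc hfix
    rw [Finset.mem_erase] at hc
    set g := Cfsg.Agent.Lib.Helper16.classRep c with hg
    by_cases hodd : Odd (orderOf g)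
    · apply Cfsg.Agent.Lib.Helper16.memLocalIdeal_mul_left (haR g)
      have heven := even_index_centralizer_of_isConj_inv hodd (classRep_ne_one hc.1)
        (isConj_inv_of_classInv_eq hfix)
      obtain ⟨m, hm⟩ := heven
      unfold centralChar
      rw [hm, Cfsg.Agent.Lib.Helper79.irr_apply_one_eq_charDegree ψ]
      have hinv : MemLocalRing M ((charDegree (ψ : G → ℂ) : ℂ)⁻¹) :=
        Cfsg.Agent.Lib.Helper16.memLocalRing_inv_natCast hM hψodd
      have hψR : MemLocalRing M ((ψ : G → ℂ) g) :=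
        Cfsg.Agent.Lib.Helper16.memLocalRing_of_isIntegral hMp.ne_top
          (Cfsg.Agent.Lib.Helper79.isIntegral_irr ψ g)
      have : ((m + m : ℕ) : ℂ) * (ψ : G → ℂ) g / (charDegree (ψ : G → ℂ) : ℂ) =
          2 * ((m : ℂ) * (ψ : G → ℂ) g * (charDegree (ψ : G → ℂ) : ℂ)⁻¹) := by
        push_cast
        ring
      rw [this]
      exact Cfsg.Agent.Lib.Helper16.memLocalIdeal_mul_right h2
        (Cfsg.Agent.Lib.Helper16.memLocalRing_mul
          (Cfsg.Agent.Lib.Helper16.memLocalRing_mul
            (Cfsg.Agent.Lib.Helper16.memLocalRing_natCast hMp.ne_top m) hψR) hinv)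
    · rw [hsing g hodd, zero_mul]
      exact Cfsg.Agent.Lib.Helper16.memLocalIdeal_zero hMp.ne_top

end Key


section Main

variable {G : Type*} [Group G]

/-- **Galois-stable 2-blocks of full defect are principal.** -/
theorem galois_stable_full_defect_two_block [Finite G] (M : Ideal AlgInt) (hM : IsPModular 2 M)
    (k : ℕ) (hk : Nat.Coprime k (Nat.card G)) (hk₂ : ∀ g : G, Odd (orderOf g) → g ^ k = g⁻¹)
    (B : Set (IrrCharacter G)) (hB : IsPBlock M B)
    (hdef : blockDefect 2 B = (Nat.card G).factorization 2)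
    (hstab : ∀ χ ∈ B, ∃ ψ ∈ B, ∀ g : G, (ψ : G → ℂ) g = (χ : G → ℂ) (g ^ k)) :
    B = principalBlock M G := by
  classical
  have hMp : M.IsPrime := Cfsg.Agent.Lib.Helper16.isPModular_isPrime hM
  have hne : B.Nonempty := Cfsg.Agent.Lib.Helper16.IsPBlock_nonempty hMp.ne_top hB
  obtain ⟨χ, hχB, hχodd⟩ := exists_degree_not_dvd_of_full_defect Nat.prime_two hne hdef
  -- inversion invariance of the coefficients
  have hcoef : ∀ g : G, blockCoeff B g⁻¹ = blockCoeff B g := by
    intro g
    by_cases hodd : Odd (orderOf g)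
    · rw [← hk₂ g hodd]
      exact blockCoeff_pow_of_stable k hk B hstab g
    · rw [Nat.not_odd_iff_even] at hodd
      rw [blockCoeff_eq_zero_of_singular hM hB g hodd.two_dvd,
        blockCoeff_eq_zero_of_singular hM hB g⁻¹ (by rw [orderOf_inv]; exact hodd.two_dvd)]
  -- the congruence for `χ`
  have h1 := indicator_sub_blockCoeff_one_mem hM hB hcoef χ hχodd (by
    intro g hodd
    obtain ⟨χ', hχ'B, hχ'⟩ := hstab χ hχB
    have hsame := Cfsg.Agent.Lib.Helper16.sameBlock_of_mem hB hχ'B hχB g
    have : centralChar (χ : G → ℂ) g⁻¹ = centralChar (χ' : G → ℂ) g := by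
      unfold centralChar
      rw [centralizer_inv_eq, hχ' g, hχ' 1, one_pow, hk₂ g hodd]
    rw [this]
    exact hsame)
  rw [if_pos hχB] at h1
  -- the congruence for the principal character
  set ψ₁ : IrrCharacter G := ⟨fun _ => 1, Cfsg.Agent.Lib.Helper78.isIrrCharacter_one⟩ with hψ₁
  have hdeg1 : charDegree (ψ₁ : G → ℂ) = 1 := by
    unfold charDegree
    simp [hψ₁]
  have h2 := indicator_sub_blockCoeff_one_mem hM hB hcoef ψ₁ (by rw [hdeg1]; decide) (by
    intro g _
    have : centralChar (ψ₁ : G → ℂ) g⁻¹ = centralChar (ψ₁ : G → ℂ) g := by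
      unfold centralChar
      rw [centralizer_inv_eq]
    rw [this, sub_self]
    exact Cfsg.Agent.Lib.Helper16.memLocalIdeal_zero hMp.ne_top)
  by_cases hmem : ψ₁ ∈ B
  · exact Cfsg.Agent.Lib.Helper16.IsPBlock_eq_of_mem hB
      (Cfsg.Agent.Lib.Helper16.isPBlock_blockOf ψ₁) hmem
      (Cfsg.Agent.Lib.Helper16.self_mem_blockOf hMp.ne_top ψ₁)
  · exfalso
    rw [if_neg hmem] at h2
    have h3 := Cfsg.Agent.Lib.Helper16.memLocalIdeal_sub h1 h2
    rw [sub_sub_sub_cancel_right, sub_zero] at h3
    exact Cfsg.Agent.Lib.Helper16.one_not_memLocalIdeal h3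

end Main

end Cfsg.Agent.Lib.Helper75
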