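import Mathlib
import Cfsg.Agent.Lib.Helper75.GaloisPow
import Cfsg.Agent.Lib.Helper76.ModP
import Cfsg.Agent.Lib.Helper80.CharBasic
import Cfsg.Agent.Lib.Helper78.CharMore
import Cfsg.Agent.Lib.Helper79.Integrality

/-!
# Schur's bound on Sylow `p`-subgroups of groups with a faithful `p`-rational character (helper75)

* `power_sum_invariant` : power sums of `p^(a+1)`-th roots of unity invariant under exponents prime
  to `p` satisfy `(p-1) c = p a₀ - b₀`.
* `char_value_of_pElement` : a `p`-rational character takes at `p`-elements integer values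
  `z ≡ χ(1) mod p`, `-χ(1) ≤ (p-1) z`, `z ≤ χ(1)`.
* `card_dvd_sum_prod` : `|P|` divides `Σ_x θ(x) Π_j (ψ(x) - v_j)`.
* `schur_bound` : the bound `ν_p(|G|) ≤ Σ_i ⌊n / ((p-1) p^i)⌋`.
-/

set_option autoImplicit false

namespace Cfsg.Agent.Lib.Helper75

open Cfsg

/-- Geometric sum of a root of unity. -/
theorem geom_sum_root_of_unity (μ : ℂ) (q : ℕ) (h : μ ^ q = 1) :
    ∑ t ∈ Finset.range q, μ ^ t = if μ = 1 then (q : ℂ) else 0 := by
  split_ifs with h1
  · subst h1; simp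
  · rw [geom_sum_eq h1, h]; simp

/-- Splitting a sum over `range (p * q')` according to divisibility by `p`. -/
theorem sum_range_mul_split (p q' : ℕ) (hp : 0 < p) (F : ℕ → ℂ) :
    ∑ t ∈ Finset.range (p * q'), F t =
      ∑ t ∈ Finset.range q', F (p * t) +
        ∑ t ∈ (Finset.range (p * q')).filter (fun t => ¬ p ∣ t), F t := by
  rw [← Finset.sum_filter_add_sum_filter_not (Finset.range (p * q')) (fun t => p ∣ t)]
  congr 1
  symm
  apply Finset.sum_bij (fun t _ => p * t)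
  · intro t ht
    rw [Finset.mem_range] at ht
    rw [Finset.mem_filter, Finset.mem_range]
    exact ⟨Nat.mul_lt_mul_of_pos_left ht hp, dvd_mul_right p t⟩
  · intro a _ b _ hab
    exact Nat.eq_of_mul_eq_mul_left hp hab
  · intro t ht
    rw [Finset.mem_filter, Finset.mem_range] at ht
    obtain ⟨t', rfl⟩ := ht.2
    refine ⟨t', ?_, rfl⟩
    rw [Finset.mem_range]
    exact Nat.lt_of_mul_lt_mul_left ht.1
  · intro t _
    rfl

theorem card_filter_not_dvd (p q' : ℕ) (hp : 0 < p) :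
    ((Finset.range (p * q')).filter (fun t => ¬ p ∣ t)).card = p * q' - q' := by
  have h1 : ((Finset.range (p * q')).filter (fun t => p ∣ t)).card = q' := by
    have : (Finset.range (p * q')).filter (fun t => p ∣ t) =
        (Finset.range q').image (fun t => p * t) := by
      ext t
      simp only [Finset.mem_filter, Finset.mem_range, Finset.mem_image]
      constructor
      · rintro ⟨h1, t', rfl⟩
        exact ⟨t', Nat.lt_of_mul_lt_mul_left h1, rfl⟩
      · rintro ⟨t', h1, rfl⟩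
        exact ⟨Nat.mul_lt_mul_of_pos_left h1 hp, dvd_mul_right p t'⟩
    rw [this, Finset.card_image_of_injective _ (fun a b hab => Nat.eq_of_mul_eq_mul_left hp hab),
      Finset.card_range]
  have h2 := Finset.card_filter_add_card_filter_not (s := Finset.range (p * q'))
    (fun t => p ∣ t)
  rw [Finset.card_range, h1] at h2
  omega

/-- Key computation: if power sums of `q`-th roots of unity (`q = p * q'`) are invariant under
exponents prime to `p`, then `(p - 1) c = p a₀ - b₀`. -/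
theorem power_sum_invariant {n : ℕ} (p q' : ℕ) (hp : p.Prime) (hq' : 0 < q') (μ : Fin n → ℂ)
    (hμ : ∀ i, μ i ^ (p * q') = 1)
    (hinv : ∀ j : ℕ, ¬ p ∣ j → ∑ i, μ i ^ j = ∑ i, μ i) :
    ∃ a₀ b₀ : ℕ, a₀ ≤ b₀ ∧ b₀ ≤ n ∧
      ((p : ℂ) - 1) * ∑ i, μ i = (p : ℂ) * a₀ - b₀ := by
  classical
  let A : Finset (Fin n) := Finset.univ.filter (fun i => μ i = 1)
  let B : Finset (Fin n) := Finset.univ.filter (fun i => μ i ^ p = 1)
  have hAB : A ⊆ B := by
    intro i hi
    simp only [A, B, Finset.mem_filter, Finset.mem_univ, true_and] at hi ⊢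
    rw [hi, one_pow]
  refine ⟨A.card, B.card, Finset.card_le_card hAB, ?_, ?_⟩
  · calc B.card ≤ (Finset.univ : Finset (Fin n)).card := Finset.card_le_card (Finset.subset_univ _)
      _ = n := by simp
  set c : ℂ := ∑ i, μ i with hc
  -- total sum
  have h1 : ∑ t ∈ Finset.range (p * q'), ∑ i, μ i ^ t = ((p * q' : ℕ) : ℂ) * A.card := by
    rw [Finset.sum_comm]
    have : ∀ i, ∑ t ∈ Finset.range (p * q'), μ i ^ t = if μ i = 1 then ((p * q' : ℕ) : ℂ) else 0 :=
      fun i => geom_sum_root_of_unity (μ i) (p * q') (hμ i)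
    simp_rw [this]
    rw [Finset.sum_ite, Finset.sum_const_zero, add_zero, Finset.sum_const, nsmul_eq_mul]
    ring
  have h2 : ∑ t ∈ Finset.range q', ∑ i, μ i ^ (p * t) = (q' : ℂ) * B.card := by
    rw [Finset.sum_comm]
    have : ∀ i, ∑ t ∈ Finset.range q', μ i ^ (p * t) = if μ i ^ p = 1 then (q' : ℂ) else 0 := by
      intro i
      have h3 := geom_sum_root_of_unity (μ i ^ p) q' (by rw [← pow_mul]; exact hμ i)
      simp_rw [← pow_mul] at h3
      exact h3
    simp_rw [this]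
    rw [Finset.sum_ite, Finset.sum_const_zero, add_zero, Finset.sum_const, nsmul_eq_mul]
    ring
  have h3 := sum_range_mul_split p q' hp.pos (fun t => ∑ i, μ i ^ t)
  rw [h1, h2] at h3
  have h4 : ∑ t ∈ (Finset.range (p * q')).filter (fun t => ¬ p ∣ t), ∑ i, μ i ^ t =
      ((p * q' - q' : ℕ) : ℂ) * c := by
    rw [Finset.sum_congr rfl (fun t ht => hinv t (Finset.mem_filter.mp ht).2),
      Finset.sum_const, card_filter_not_dvd p q' hp.pos, nsmul_eq_mul]
  rw [h4] at h3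
  have h5 : q' ≤ p * q' := Nat.le_mul_of_pos_left q' hp.pos
  rw [Nat.cast_sub h5] at h3
  push_cast at h3
  have hq'0 : (q' : ℂ) ≠ 0 := by exact_mod_cast hq'.ne'
  have h6 : (q' : ℂ) * (((p : ℂ) - 1) * c) = (q' : ℂ) * ((p : ℂ) * A.card - B.card) := by
    linear_combination -h3
  exact mul_left_cancel₀ hq'0 h6


/-- A ring automorphism of `ℂ` fixing `ζ` fixes `ℚ(ζ)` pointwise. -/
theorem ringEquiv_fixes_adjoin (σ : ℂ ≃+* ℂ) (ζ : ℂ) (h : σ ζ = ζ) {z : ℂ}
    (hz : z ∈ IntermediateField.adjoin ℚ ({ζ} : Set ℂ)) : σ z = z := by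
  induction hz using IntermediateField.adjoin_induction with
  | mem x hx => rw [Set.mem_singleton_iff.mp hx]; exact h
  | algebraMap q => simp
  | add x y _ _ hx hy => rw [map_add, hx, hy]
  | inv x _ hx => rw [map_inv₀, hx]
  | mul x y _ _ hx hy => rw [map_mul, hx, hy]

/-- An integer which is `p` times an algebraic integer is divisible by `p`. -/
theorem int_dvd_of_eq_mul_algInt (p : ℕ) (c : ℤ) (hp : p ≠ 0) (γ : Cfsg.AlgInt)
    (h : (c : ℂ) = (p : ℂ) * (γ : ℂ)) : (p : ℤ) ∣ c := by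
  have hp' : (p : ℂ) ≠ 0 := by exact_mod_cast hp
  have hγ : (γ : ℂ) = (((c : ℚ) / (p : ℚ) : ℚ) : ℂ) := by
    push_cast
    rw [h]; field_simp
  have h1 : IsIntegral ℤ (((c : ℚ) / (p : ℚ) : ℚ) : ℂ) := by rw [← hγ]; exact γ.2
  have h2 : IsIntegral ℤ ((c : ℚ) / (p : ℚ) : ℚ) := by
    have hinj : Function.Injective (algebraMap ℚ ℂ) := (algebraMap ℚ ℂ).injective
    rw [← isIntegral_algebraMap_iff hinj]
    simpa using h1
  obtain ⟨k, hk⟩ := IsIntegrallyClosed.algebraMap_eq_of_integral h2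
  have hk' : (k : ℚ) = (c : ℚ) / (p : ℚ) := by simpa using hk
  have hpq : (p : ℚ) ≠ 0 := by exact_mod_cast hp
  have h3 : (c : ℚ) = (p : ℚ) * (k : ℚ) := by rw [hk']; field_simp
  have h4 : c = (p : ℤ) * k := by exact_mod_cast h3
  exact ⟨k, h4⟩


/-- Chinese remainder: an exponent `k` coprime to `r * Q` with `k ≡ j mod Q`, `k ≡ 1 mod r`. -/
theorem exists_crt_exponent (p : ℕ) (hp : p.Prime) (b : ℕ) (r : ℕ) (hpr : ¬ p ∣ r) (j : ℕ)
    (hj : ¬ p ∣ j) :
    ∃ k : ℕ, k.Coprime (r * p ^ b) ∧ k % (p ^ b) = j % (p ^ b) ∧ k % r = 1 % r := by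
  have hcop : Nat.Coprime (p ^ b) r :=
    Nat.Coprime.pow_left _ ((Nat.Prime.coprime_iff_not_dvd hp).2 hpr)
  let k := Nat.chineseRemainder hcop j 1
  have hk1 : (k : ℕ) ≡ j [MOD p ^ b] := k.2.1
  have hk2 : (k : ℕ) ≡ 1 [MOD r] := k.2.2
  refine ⟨k, ?_, hk1, hk2⟩
  apply Nat.Coprime.mul_right
  · have := hk2.gcd_eq
    unfold Nat.Coprime
    rw [this]
    simp
  · have := hk1.gcd_eq
    unfold Nat.Coprime
    rw [this]
    exact Nat.Coprime.pow_right _ ((Nat.Prime.coprime_iff_not_dvd hp).2 hj).symm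

variable {G : Type*} [Group G] [Finite G]

/-- Values of a `p`-rational character at `p`-elements: integers `z ≡ χ(1) mod p` with
`-χ(1) ≤ (p-1) z` and `z ≤ χ(1)`. -/
theorem char_value_of_pElement {m : ℕ} (ρ : Representation ℂ G (Fin m → ℂ)) (p : ℕ)
    (hp : p.Prime) (r : ℕ) (hr : 0 < r) (hpr : ¬ p ∣ r)
    (hrat : ∀ g : G, ρ.character g ∈
      IntermediateField.adjoin ℚ ({Complex.exp (2 * Real.pi * Complex.I / r)} : Set ℂ))
    (a : ℕ) (x : G) (hx : x ^ (p ^ (a + 1)) = 1) :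
    ∃ z : ℤ, ρ.character x = z ∧ z ≡ m [ZMOD p] ∧ -(m : ℤ) ≤ ((p : ℤ) - 1) * z ∧ z ≤ m := by
  classical
  have hq : p ^ (a + 1) = p * p ^ a := pow_succ' p a
  have hN : 0 < p ^ (a + 1) := pow_pos hp.pos _
  obtain ⟨μ, hμ, hk⟩ := Cfsg.Agent.Lib.Helper76.exists_character_pow_eq_sum ρ x (p ^ (a + 1)) hN hx
  have hc : ρ.character x = ∑ i, μ i := by
    have := hk 1
    simpa using this
  -- invariance under exponents prime to `p`
  have hinv : ∀ j : ℕ, ¬ p ∣ j → ∑ i, μ i ^ j = ∑ i, μ i := by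
    intro j hj
    obtain ⟨k, hkcop, hk1, hk2⟩ := exists_crt_exponent p hp (a + 1) r hpr j hj
    have hpos : 0 < r * p ^ (a + 1) := Nat.mul_pos hr hN
    obtain ⟨σ, hσ⟩ := exists_ringEquiv_pow (r * p ^ (a + 1)) hpos k hkcop
    set ζ : ℂ := Complex.exp (2 * Real.pi * Complex.I / r) with hζdef
    have hζ : ζ ^ r = 1 := (Complex.isPrimitiveRoot_exp r hr.ne').pow_eq_one
    have hσζ : σ ζ = ζ := by
      rw [hσ ζ (by rw [pow_mul, hζ, one_pow]), pow_eq_pow_mod k hζ, hk2, ← pow_eq_pow_mod 1 hζ,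
        pow_one]
    have h1 : σ (ρ.character x) = ρ.character x := ringEquiv_fixes_adjoin σ ζ hσζ (hrat x)
    rw [hc, map_sum] at h1
    have h3 : ∀ i, σ (μ i) = μ i ^ j := by
      intro i
      rw [hσ (μ i) (by rw [mul_comm, pow_mul, hμ i, one_pow]), pow_eq_pow_mod k (hμ i), hk1,
        ← pow_eq_pow_mod j (hμ i)]
    simp_rw [h3] at h1
    exact h1
  obtain ⟨a₀, b₀, hab, hbn, heq⟩ := power_sum_invariant p (p ^ a) hp (pow_pos hp.pos a) μ
    (fun i => by rw [← hq]; exact hμ i) hinv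
  have hbm : b₀ ≤ m := by simpa using hbn
  rw [← hc] at heq
  -- integrality
  have hint : IsIntegral ℤ (ρ.character x) := by
    rw [hc]
    exact IsIntegral.sum _ (fun i _ => IsIntegral.of_pow hN (by rw [hμ i]; exact isIntegral_one))
  have hp1 : ((p : ℂ) - 1) ≠ 0 := sub_ne_zero.mpr (by exact_mod_cast hp.one_lt.ne')
  have hp1q : ((p : ℚ) - 1) ≠ 0 := sub_ne_zero.mpr (by exact_mod_cast hp.one_lt.ne')
  have hval : ρ.character x = ((((p : ℚ) * a₀ - b₀) / ((p : ℚ) - 1) : ℚ) : ℂ) := by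
    push_cast
    rw [eq_div_iff hp1, mul_comm]
    exact heq
  have h2 : IsIntegral ℤ (((p : ℚ) * a₀ - b₀) / ((p : ℚ) - 1) : ℚ) := by
    have hinj : Function.Injective (algebraMap ℚ ℂ) := (algebraMap ℚ ℂ).injective
    rw [← isIntegral_algebraMap_iff hinj]
    have h3 : algebraMap ℚ ℂ (((p : ℚ) * a₀ - b₀) / ((p : ℚ) - 1) : ℚ) = ρ.character x := by
      rw [hval]; rfl
    rw [h3]
    exact hint
  obtain ⟨z, hz⟩ := IsIntegrallyClosed.algebraMap_eq_of_integral h2
  have hz' : (z : ℚ) = ((p : ℚ) * a₀ - b₀) / ((p : ℚ) - 1) := by simpa using hz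
  have hz1 : ((p : ℤ) - 1) * z = (p : ℤ) * a₀ - b₀ := by
    have : ((p : ℚ) - 1) * (z : ℚ) = (p : ℚ) * a₀ - b₀ := by
      rw [hz']; field_simp
    exact_mod_cast this
  have hzval : ρ.character x = (z : ℂ) := by
    rw [hval, ← hz']
    simp
  have hp1pos : (0 : ℤ) < (p : ℤ) - 1 := by
    have := hp.one_lt
    omega
  refine ⟨z, hzval, ?_, ?_, ?_⟩
  · -- congruence
    obtain ⟨γ, hγ⟩ := Cfsg.Agent.Lib.Helper76.character_pow_sub ρ p hp (a + 1) x
    rw [hx, Representation.char_one, Module.finrank_fin_fun, hzval] at hγ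
    have h4 : (((z ^ p ^ (a + 1) - (m : ℤ) : ℤ)) : ℂ) = (p : ℂ) * (γ : ℂ) := by
      push_cast
      exact hγ
    have h5 := int_dvd_of_eq_mul_algInt p _ hp.ne_zero γ h4
    have : Fact p.Prime := ⟨hp⟩
    have h6 : ((z ^ p ^ (a + 1) - (m : ℤ) : ℤ) : ZMod p) = 0 :=
      (ZMod.intCast_zmod_eq_zero_iff_dvd _ p).mpr h5
    push_cast at h6
    rw [ZMod.pow_card_pow, sub_eq_zero] at h6
    have h7 : ((z : ℤ) : ZMod p) = ((m : ℤ) : ZMod p) := by
      rw [h6]; simp
    exact (ZMod.intCast_eq_intCast_iff z (m : ℤ) p).mp h7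
  · rw [hz1]
    have : (0 : ℤ) ≤ (p : ℤ) * a₀ := by positivity
    have : (b₀ : ℤ) ≤ m := by exact_mod_cast hbm
    linarith
  · have h8 : ((p : ℤ) - 1) * z ≤ ((p : ℤ) - 1) * m := by
      rw [hz1]
      have h9 : (a₀ : ℤ) ≤ b₀ := by exact_mod_cast hab
      have h10 : (b₀ : ℤ) ≤ m := by exact_mod_cast hbm
      have h11 : (p : ℤ) * a₀ ≤ (p : ℤ) * b₀ := by
        apply mul_le_mul_of_nonneg_left h9
        positivity
      have h12 : ((p : ℤ) - 1) * b₀ ≤ ((p : ℤ) - 1) * m :=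
        mul_le_mul_of_nonneg_left h10 hp1pos.le
      linarith
    exact le_of_mul_le_mul_left h8 hp1pos

/-- For a character `ψ` of a finite group `P`, `|P|` divides `Σ_x θ(x) Π_j (ψ(x) - v_j)` for
integers `v_j` and any character `θ`. -/
theorem card_dvd_sum_prod {P : Type*} [Group P] [Fintype P] {ψ : P → ℂ} (hψ : IsCharacter P ψ)
    {ι : Type*} (s : Finset ι) (v : ι → ℤ) :
    ∀ θ : P → ℂ, IsCharacter P θ →
      ∃ k : ℤ, ∑ x, θ x * ∏ j ∈ s, (ψ x - v j) = (Nat.card P : ℂ) * k := by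
  classical
  induction s using Finset.induction_on with
  | empty =>
    intro θ hθ
    obtain ⟨n, hn⟩ := Cfsg.Agent.Lib.Helper78.IsCharacter.exists_nat_classInner hθ
      ⟨fun _ => 1, Cfsg.Agent.Lib.Helper78.isIrrCharacter_one⟩
    refine ⟨n, ?_⟩
    simp only [Finset.prod_empty, mul_one]
    unfold classInner at hn
    simp only [map_one, mul_one] at hn
    have hP : (Nat.card P : ℂ) ≠ 0 := by
      have : 0 < Nat.card P := Nat.card_pos
      exact_mod_cast this.ne'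
    rw [Int.cast_natCast, ← hn, ← mul_assoc, mul_inv_cancel₀ hP, one_mul]
  | insert i s hi ih =>
    intro θ hθ
    obtain ⟨k1, hk1⟩ := ih (θ * ψ) (Cfsg.Agent.Lib.Helper80.isCharacter_mul hθ hψ)
    obtain ⟨k2, hk2⟩ := ih θ hθ
    refine ⟨k1 - v i * k2, ?_⟩
    simp_rw [Finset.prod_insert hi]
    have h1 : ∀ x, θ x * ((ψ x - v i) * ∏ j ∈ s, (ψ x - v j)) =
        (θ * ψ) x * ∏ j ∈ s, (ψ x - v j) - v i * (θ x * ∏ j ∈ s, (ψ x - v j)) := by
      intro x
      simp only [Pi.mul_apply]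
      ring
    simp_rw [h1, Finset.sum_sub_distrib, ← Finset.mul_sum, hk1, hk2]
    push_cast
    ring

/-- Schur's bound on the order of a Sylow `p`-subgroup of a group with a faithful `p`-rational
character of degree `n`. -/
theorem schur_bound {G : Type*} [Group G] [Finite G] (p : ℕ) (hp : p.Prime) (χ : G → ℂ)
    (hχ : Cfsg.IsCharacter G χ) (hfaith : ∀ g : G, χ g = χ 1 → g = 1)
    (hrat : ∃ r : ℕ, 0 < r ∧ ¬ p ∣ r ∧ ∀ g : G, χ g ∈
      IntermediateField.adjoin ℚ ({Complex.exp (2 * Real.pi * Complex.I / r)} : Set ℂ))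
    (n : ℕ) (hn : Cfsg.charDegree χ = n) :
    (Nat.card G).factorization p ≤ ∑ i ∈ Finset.range (n + 1), n / ((p - 1) * p ^ i) := by
  classical
  obtain ⟨m, ρ, rfl⟩ := hχ
  rw [Cfsg.Agent.Lib.Helper79.charDegree_of_rep ρ] at hn
  subst hn
  obtain ⟨r, hr, hpr, hrat⟩ := hrat
  rcases Nat.eq_zero_or_pos ((Nat.card G).factorization p) with h0 | hpos
  · rw [h0]; exact Nat.zero_le _
  obtain ⟨a, ha⟩ : ∃ a, (Nat.card G).factorization p = a + 1 := ⟨_, (Nat.succ_pred_eq_of_pos hpos).symm⟩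
  rw [ha]
  have hfact : Fact p.Prime := ⟨hp⟩
  let P₀ : Sylow p G := default
  have hcardP₀ : Nat.card P₀ = p ^ (a + 1) := by
    rw [← ha]; exact Sylow.card_eq_multiplicity P₀
  obtain ⟨P, hcardP⟩ : ∃ P : Subgroup G, Nat.card P = p ^ (a + 1) := ⟨(P₀ : Subgroup G), hcardP₀⟩
  have : Fintype P := Fintype.ofFinite _
  have hχ1 : ρ.character 1 = (m : ℂ) := by
    rw [Representation.char_one, Module.finrank_fin_fun]
  let ψ : P → ℂ := fun x => ρ.character (x : G)
  have hψ : IsCharacter P ψ :=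
    Cfsg.Agent.Lib.Helper80.isCharacter_restrict P ⟨m, ρ, rfl⟩
  have h1char : IsCharacter P (fun _ => (1 : ℂ)) :=
    Cfsg.Agent.Lib.Helper78.IsIrrCharacter.isCharacter Cfsg.Agent.Lib.Helper78.isIrrCharacter_one
  set M : ℕ := m / (p - 1) with hM
  have hp1 : 0 < p - 1 := Nat.sub_pos_of_lt hp.one_lt
  obtain ⟨k, hk⟩ := card_dvd_sum_prod hψ (Finset.Ico 1 (M + 1)) (fun j => (m : ℤ) - p * j)
    (fun _ => (1 : ℂ)) h1char
  -- evaluate the sum
  have hsum : ∑ x : P, (1 : ℂ) * ∏ j ∈ Finset.Ico 1 (M + 1),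
      (ψ x - (((m : ℤ) - p * j : ℤ) : ℂ)) = ((p ^ M * M.factorial : ℕ) : ℂ) := by
    rw [Finset.sum_eq_single (1 : P)]
    · rw [one_mul]
      have : ∀ j ∈ Finset.Ico 1 (M + 1), ψ 1 - (((m : ℤ) - p * j : ℤ) : ℂ) = (p : ℂ) * j := by
        intro j _
        simp only [ψ, OneMemClass.coe_one, hχ1]
        push_cast
        ring
      rw [Finset.prod_congr rfl this, Finset.prod_mul_distrib, Finset.prod_const]
      rw [Nat.card_Ico, Nat.add_sub_cancel]
      push_cast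
      congr 1
      rw [← Nat.cast_prod, Finset.prod_Ico_id_eq_factorial]
    · intro x _ hx1
      rw [one_mul]
      have hxp : (x : G) ^ (p ^ (a + 1)) = 1 := by
        have h2 : x ^ Nat.card P = 1 := pow_card_eq_one'
        rw [hcardP] at h2
        have := congrArg (Subtype.val) h2
        simpa using this
      obtain ⟨z, hz, hzmod, hzlow, hzle⟩ :=
        char_value_of_pElement ρ p hp r hr hpr hrat a (x : G) hxp
      have hzne : z ≠ m := by
        intro hzm
        apply hx1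
        have : (x : G) = 1 := hfaith (x : G) (by rw [hz, hzm, hχ1]; simp)
        exact Subtype.ext this
      have hzlt : z < m := lt_of_le_of_ne hzle hzne
      -- m - z = p * j₀
      obtain ⟨j₀, hj₀⟩ : (p : ℤ) ∣ (m : ℤ) - z := (Int.modEq_iff_dvd.mp hzmod)
      have hj₀pos : 0 < j₀ := by
        have h3 : 0 < (p : ℤ) * j₀ := by rw [← hj₀]; linarith
        have hp0 : (0 : ℤ) < p := by exact_mod_cast hp.pos
        exact pos_of_mul_pos_left (by rwa [mul_comm] at h3) hp0.le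
      obtain ⟨j₁, rfl⟩ : ∃ j₁ : ℕ, j₀ = j₁ := ⟨j₀.toNat, (Int.toNat_of_nonneg hj₀pos.le).symm⟩
      have hj₁pos : 1 ≤ j₁ := by exact_mod_cast hj₀pos
      have hj₁le : j₁ ≤ M := by
        rw [hM, Nat.le_div_iff_mul_le hp1]
        -- (p-1) * z ≥ -m, z = m - p j₁
        have hz' : z = (m : ℤ) - p * j₁ := by linarith
        rw [hz'] at hzlow
        have hp0 : (0 : ℤ) < p := by exact_mod_cast hp.pos
        have h4 : (p : ℤ) * (((p : ℤ) - 1) * j₁) ≤ (p : ℤ) * m := by nlinarith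
        have h5 : ((p : ℤ) - 1) * j₁ ≤ m := le_of_mul_le_mul_left h4 hp0
        have h6 : ((p - 1 : ℕ) : ℤ) = (p : ℤ) - 1 := by
          rw [Nat.cast_sub hp.one_lt.le]; simp
        have h7 : ((j₁ * (p - 1) : ℕ) : ℤ) ≤ (m : ℤ) := by
          push_cast
          rw [h6]
          linarith
        exact_mod_cast h7
      apply Finset.prod_eq_zero (Finset.mem_Ico.mpr ⟨hj₁pos, Nat.lt_succ_of_le hj₁le⟩)
      simp only [ψ, hz]
      have hz' : z = (m : ℤ) - p * j₁ := by linarith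
      rw [hz']
      simp
    · intro h
      exact absurd (Finset.mem_univ _) h
  rw [hsum, hcardP] at hk
  have hdvd : p ^ (a + 1) ∣ p ^ M * M.factorial := by
    have h8 : ((p ^ M * M.factorial : ℕ) : ℤ) = ((p ^ (a + 1) : ℕ) : ℤ) * k := by
      exact_mod_cast hk
    exact Int.natCast_dvd_natCast.mp ⟨k, h8⟩
  have hne : p ^ M * M.factorial ≠ 0 :=
    Nat.mul_ne_zero (pow_ne_zero _ hp.ne_zero) (Nat.factorial_ne_zero _)
  have h9 : a + 1 ≤ (p ^ M * M.factorial).factorization p :=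
    (hp.pow_dvd_iff_le_factorization hne).mp hdvd
  rw [Nat.factorization_mul (pow_ne_zero _ hp.ne_zero) (Nat.factorial_ne_zero _),
    Finsupp.add_apply, hp.factorization_pow, Finsupp.single_eq_same] at h9
  have h10 : (M.factorial).factorization p = ∑ i ∈ Finset.Ico 1 (m + 1), M / p ^ i := by
    rw [Nat.factorization_def _ hp]
    apply padicValNat_factorial
    calc Nat.log p M ≤ M := Nat.log_le_self p M
      _ ≤ m := Nat.div_le_self m (p - 1)
      _ < m + 1 := Nat.lt_succ_self m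
  rw [h10] at h9
  have h11 : ∑ i ∈ Finset.range (m + 1), m / ((p - 1) * p ^ i) =
      M + ∑ i ∈ Finset.Ico 1 (m + 1), M / p ^ i := by
    rw [Finset.range_eq_Ico, Finset.sum_eq_sum_Ico_succ_bot (Nat.succ_pos m)]
    simp only [pow_zero, mul_one, zero_add]
    congr 1
    apply Finset.sum_congr rfl
    intro i _
    rw [hM, Nat.div_div_eq_div_mul]
  rw [h11]
  exact h9

end Cfsg.Agent.Lib.Helper75
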