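import Mathlib
import Cfsg.Agent.Lib.Helper75.GaloisStable
import Cfsg.Agent.Lib.Helper75.SchurBound
import Cfsg.Agent.Lib.Helper79.BrauerFeit

/-!
# Groups of order `p^a q^b r^c` with `a ≤ 2` (helper75, S4500)

A nonprincipal irreducible character of `q`-power degree: weak block orthogonality for the
principal `p`-block (all of whose members have height zero as the defect is at most 2) against
an element of order `p`.
-/

set_option autoImplicit false
set_option linter.style.haveILetI false
set_option linter.unusedSimpArgs false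

namespace Cfsg.Agent.Lib.Helper75

open Cfsg
open scoped ComplexConjugate

/-- Every rational prime lies in some maximal ideal of the algebraic integers. -/
theorem exists_isPModular (p : ℕ) (hp : p.Prime) : ∃ M : Ideal AlgInt, IsPModular p M := by
  have hne : Ideal.span {(p : AlgInt)} ≠ ⊤ := by
    rw [Ne, Ideal.span_singleton_eq_top]
    intro hu
    obtain ⟨u, hu⟩ := hu.exists_right_inv
    have h1 : ((1 : ℤ) : ℂ) = (p : ℂ) * (u : ℂ) := by
      have := congrArg (fun z : AlgInt => (z : ℂ)) hu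
      simp only [MulMemClass.coe_mul] at this
      push_cast at this ⊢
      rw [← this]
    have h2 := int_dvd_of_eq_mul_algInt p 1 hp.ne_zero u h1
    have h3 : (p : ℤ) = 1 := by
      rcases Int.isUnit_iff.mp (isUnit_of_dvd_one h2) with h | h
      · exact h
      · have : (0 : ℤ) ≤ p := Int.natCast_nonneg p
        omega
    have : p = 1 := by exact_mod_cast h3
    exact hp.one_lt.ne' this
  obtain ⟨M, hMmax, hle⟩ := Ideal.exists_le_maximal _ hne
  exact ⟨M, hp, hMmax, hle (Ideal.subset_span (Set.mem_singleton _))⟩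

section

variable {G : Type*} [Group G]

/-- The principal character as an element of `IrrCharacter G`. -/
noncomputable def oneIrr (G : Type*) [Group G] : IrrCharacter G :=
  ⟨fun _ => 1, Cfsg.Agent.Lib.Helper78.isIrrCharacter_one⟩

theorem oneIrr_apply (g : G) : (oneIrr G : G → ℂ) g = 1 := rfl

theorem charDegree_oneIrr : charDegree (oneIrr G : G → ℂ) = 1 := by
  unfold charDegree
  simp [oneIrr]

/-- From a vanishing "degree-weighted column sum" over a set of irreducible characters containing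
the principal one, a nonprincipal member of degree prime to `r`. -/
theorem exists_ne_one_not_dvd_of_sum_eq_zero [Finite G] (S : Finset (IrrCharacter G))
    (h1 : oneIrr G ∈ S) (g : G)
    (hsum : ∑ χ ∈ S, (χ : G → ℂ) 1 * conj ((χ : G → ℂ) g) = 0) (r : ℕ) (hr : r.Prime) :
    ∃ χ ∈ S, χ ≠ oneIrr G ∧ ¬ r ∣ charDegree (χ : G → ℂ) := by
  classical
  by_contra hcon
  push Not at hcon
  rw [← Finset.add_sum_erase S _ h1, oneIrr_apply, oneIrr_apply, map_one, mul_one] at hsum
  -- each remaining term is `r` times an algebraic integer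
  have hterm : ∀ χ ∈ S.erase (oneIrr G), ∃ γ : AlgInt,
      (χ : G → ℂ) 1 * conj ((χ : G → ℂ) g) = (r : ℂ) * (γ : ℂ) := by
    intro χ hχ
    rw [Finset.mem_erase] at hχ
    obtain ⟨m, hm⟩ := hcon χ hχ.2 hχ.1
    have hint : IsIntegral ℤ (conj ((χ : G → ℂ) g)) := by
      have := Cfsg.Agent.Lib.Helper79.isIntegral_irr χ g
      exact this.map (Complex.conjAe.toAlgHom.restrictScalars ℤ)
    refine ⟨⟨(m : ℂ) * conj ((χ : G → ℂ) g), ?_⟩, ?_⟩
    · have hm' : IsIntegral ℤ ((m : ℕ) : ℂ) := by
        have := isIntegral_algebraMap (R := ℤ) (A := ℂ) (x := (m : ℤ))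
        simpa using this
      exact IsIntegral.mul hm' hint
    · rw [Cfsg.Agent.Lib.Helper79.irr_apply_one_eq_charDegree χ, hm]
      push_cast
      ring
  choose! γ hγ using hterm
  have h2 : ((-1 : ℤ) : ℂ) = (r : ℂ) * ((∑ χ ∈ S.erase (oneIrr G), γ χ : AlgInt) : ℂ) := by
    rw [Finset.sum_congr rfl hγ, ← Finset.mul_sum] at hsum
    push_cast
    have : ((∑ χ ∈ S.erase (oneIrr G), γ χ : AlgInt) : ℂ) =
        ∑ χ ∈ S.erase (oneIrr G), (γ χ : ℂ) := by
      simp
    linear_combination (-1 : ℂ) * hsum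
  have h3 := int_dvd_of_eq_mul_algInt r (-1) hr.ne_zero _ h2
  have h4 : (r : ℤ) ∣ 1 := by simpa using h3
  have h5 : (r : ℤ) = 1 := by
    rcases Int.isUnit_iff.mp (isUnit_of_dvd_one h4) with h | h
    · exact h
    · have : (0 : ℤ) ≤ r := Int.natCast_nonneg r
      omega
  have : r = 1 := by exact_mod_cast h5
  exact hr.one_lt.ne' this

/-- A nontrivial group has a nonprincipal irreducible character of degree prime to `r`. -/
theorem exists_ne_one_not_dvd [Finite G] [Nontrivial G] (r : ℕ) (hr : r.Prime) :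
    ∃ χ : IrrCharacter G, χ ≠ oneIrr G ∧ ¬ r ∣ charDegree (χ : G → ℂ) := by
  classical
  have := Fintype.ofFinite G
  obtain ⟨g, hg⟩ := exists_ne (1 : G)
  have hsum := Cfsg.Agent.Lib.Helper78.second_orthogonality_of_not_isConj (g := (1 : G)) (h := g)
    (by rw [isConj_one_right]; exact hg)
  obtain ⟨χ, _, h1, h2⟩ := exists_ne_one_not_dvd_of_sum_eq_zero Finset.univ (Finset.mem_univ _) g
    hsum r hr
  exact ⟨χ, h1, h2⟩

/-- If `p` divides `|G|` at most twice (and at least once), there is a nonprincipal irreducible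
character (in the principal `p`-block) of degree prime to both `p` and `r`. -/
theorem exists_ne_one_not_dvd_of_defect_le_two [Finite G] (p : ℕ) (hp : p.Prime)
    (hpG : p ∣ Nat.card G) (hle : (Nat.card G).factorization p ≤ 2) (r : ℕ) (hr : r.Prime) :
    ∃ χ : IrrCharacter G, χ ≠ oneIrr G ∧ ¬ r ∣ charDegree (χ : G → ℂ) ∧
      ¬ p ∣ charDegree (χ : G → ℂ) := by
  classical
  have := Fintype.ofFinite G
  haveI : Fact p.Prime := ⟨hp⟩
  obtain ⟨M, hM⟩ := exists_isPModular p hp
  have hMp : M.IsPrime := Cfsg.Agent.Lib.Helper16.isPModular_isPrime hM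
  set B : Set (IrrCharacter G) := blockOf M (oneIrr G : G → ℂ) with hBdef
  have hB : IsPBlock M B := Cfsg.Agent.Lib.Helper16.isPBlock_blockOf (oneIrr G)
  have h1B : oneIrr G ∈ B := Cfsg.Agent.Lib.Helper16.self_mem_blockOf hMp.ne_top (oneIrr G)
  obtain ⟨g, hg⟩ := exists_prime_orderOf_dvd_card' p hpG
  have hcoef := blockCoeff_eq_zero_of_singular hM hB g (by rw [hg])
  rw [Cfsg.Agent.Lib.Helper16.blockCoeff_eq_sum] at hcoef
  have hG0 : (Nat.card G : ℂ)⁻¹ ≠ 0 := by
    apply inv_ne_zero
    exact_mod_cast Nat.card_pos.ne'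
  have hsum := (mul_eq_zero.mp hcoef).resolve_left hG0
  obtain ⟨χ, hχS, hχ1, hχr⟩ := exists_ne_one_not_dvd_of_sum_eq_zero _
    (by simp only [Finset.mem_filter, Finset.mem_univ, true_and]; exact h1B) g hsum r hr
  have hχB : χ ∈ B := by simpa using hχS
  refine ⟨χ, hχ1, hχr, ?_⟩
  -- height zero
  have e1 := Cfsg.Agent.Lib.Helper79.factorization_eq_sInf_add_blockHeight (p := p) hχB
  have e2 := Cfsg.Agent.Lib.Helper79.card_factorization_eq_sInf_add_blockDefect (p := p) (G := G)
    ⟨χ, hχB⟩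
  have e3 : sInf ((fun ψ : IrrCharacter G => (charDegree (ψ : G → ℂ)).factorization p) '' B) ≤
      (charDegree (oneIrr G : G → ℂ)).factorization p := Nat.sInf_le ⟨oneIrr G, h1B, rfl⟩
  rw [charDegree_oneIrr, Nat.factorization_one, Finsupp.zero_apply] at e3
  have hh : blockHeight p B (χ : G → ℂ) = 0 := by
    by_contra hne
    have := Cfsg.Agent.Lib.Helper79.blockHeight_add_two_le hM hB hχB hne
    omega
  have h0 : (charDegree (χ : G → ℂ)).factorization p = 0 := by omega
  rcases (Nat.factorization_eq_zero_iff _ _).mp h0 with h | h | h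
  · exact absurd hp h
  · exact h
  · have := Cfsg.Agent.Lib.Helper79.irr_charDegree_pos χ
    omega

/-- **Groups of order `p^a q^b r^c`, `a ≤ 2`**: a nonprincipal irreducible character of `q`-power
degree. -/
theorem exists_ne_one_prime_pow_degree [Finite G] [Nontrivial G] (p q r a b c : ℕ) (hp : p.Prime)
    (hq : q.Prime) (hr : r.Prime) (hpq : p ≠ q) (hpr : p ≠ r) (ha : a ≤ 2)
    (hG : Nat.card G = p ^ a * q ^ b * r ^ c) :
    ∃ χ : IrrCharacter G, (χ : G → ℂ) ≠ (fun _ => 1) ∧
      ∃ k : ℕ, charDegree (χ : G → ℂ) = q ^ k := by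
  have key : ∃ χ : IrrCharacter G, χ ≠ oneIrr G ∧ ¬ r ∣ charDegree (χ : G → ℂ) ∧
      ¬ p ∣ charDegree (χ : G → ℂ) := by
    by_cases hpG : p ∣ Nat.card G
    · have hfac : (Nat.card G).factorization p ≤ 2 := by
        have h1 : p ^ a ≠ 0 := pow_ne_zero _ hp.ne_zero
        have h2 : q ^ b ≠ 0 := pow_ne_zero _ hq.ne_zero
        have h3 : r ^ c ≠ 0 := pow_ne_zero _ hr.ne_zero
        rw [hG, Nat.factorization_mul (mul_ne_zero h1 h2) h3, Nat.factorization_mul h1 h2,
          Nat.factorization_pow, Nat.factorization_pow, Nat.factorization_pow,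
          hp.factorization, hq.factorization, hr.factorization]
        simpa [Finsupp.single_apply, hpq, hpr, hpq.symm, hpr.symm] using ha
      exact exists_ne_one_not_dvd_of_defect_le_two p hp hpG hfac r hr
    · obtain ⟨χ, h1, h2⟩ := exists_ne_one_not_dvd (G := G) r hr
      exact ⟨χ, h1, h2,
        fun h => hpG (h.trans (Cfsg.Agent.Lib.Helper79.irr_charDegree_dvd_card χ))⟩
  obtain ⟨χ, h1, hr', hp'⟩ := key
  refine ⟨χ, fun h => h1 (Subtype.ext h), ?_⟩
  have hdvd := Cfsg.Agent.Lib.Helper79.irr_charDegree_dvd_card χ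
  rw [hG] at hdvd
  have c1 : Nat.Coprime (charDegree (χ : G → ℂ)) (r ^ c) :=
    Nat.Coprime.pow_right c ((Nat.Prime.coprime_iff_not_dvd hr).mpr hr').symm
  have c2 : Nat.Coprime (charDegree (χ : G → ℂ)) (p ^ a) :=
    Nat.Coprime.pow_right a ((Nat.Prime.coprime_iff_not_dvd hp).mpr hp').symm
  have d1 := c1.dvd_of_dvd_mul_right hdvd
  have d2 := c2.dvd_of_dvd_mul_left d1
  obtain ⟨k, _, hk⟩ := (Nat.dvd_prime_pow hq).mp d2
  exact ⟨k, hk⟩

end

end Cfsg.Agent.Lib.Helper75
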