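import Mathlib
import Cfsg.Prelude.Def_Characters
import Cfsg.Agent.Lib.Helper74.EquivOfChar
import Cfsg.Agent.Lib.Helper81.SchurClassSum
import Cfsg.Agent.Lib.Helper77.Center
import Cfsg.Agent.Lib.Helper75.Ito
import Cfsg.Agent.Lib.Helper3.CharIrr

/-!
# The ramification index of an invariant character divides the index (helper75)

Let `N ⊴ G`, `σ` an irreducible representation of `N` on `W` with `G`-invariant character and `ρ`
an irreducible representation of `G` on `V` whose restriction to `N` is `σ`-isotypic.  The finite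
group `compatPairs N σ` of pairs `(g, X)`, `X ∈ SL(W)` realising conjugation by `g` on `σ`, acts
irreducibly on `homSpace N ρ σ = Hom_N(W, V)` via `f ↦ ρ(g) f X⁻¹`, the preimage of `N` acting by
scalars; hence `dim Hom_N(W, V)` divides `|G : N|`.

* `finrank_homSpace_dvd_index`: representation form.
* `ramification_dvd_index`: `χ_N = e θ` with `θ` invariant implies `e ∣ |G : N|`.
-/

set_option autoImplicit false
open Cfsg

namespace Cfsg.Agent.Lib.Helper75

open Representation

universe u v w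

section Core

variable {G : Type u} [Group G] (N : Subgroup G) [hN : N.Normal]
  {V : Type v} {W : Type w} [AddCommGroup V] [Module ℂ V] [AddCommGroup W] [Module ℂ W]
  (ρ : Representation ℂ G V) (σ : Representation ℂ N W)

/-- the group of pairs `(g, X)` with `X` of determinant one realising conjugation by `g`
on the representation `σ` of the normal subgroup `N` -/
def compatPairs : Subgroup (G × (W →ₗ[ℂ] W)ˣ) where
  carrier := {x | (∀ n : N, x.2 * σ.asGroupHom n * x.2⁻¹ = σ.asGroupHom (MulAut.conjNormal x.1 n)) ∧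
    LinearMap.det (x.2 : W →ₗ[ℂ] W) = 1}
  one_mem' := by
    refine ⟨fun n => ?_, ?_⟩
    · simp
    · simp
  mul_mem' := by
    rintro x y ⟨hx, hx'⟩ ⟨hy, hy'⟩
    refine ⟨fun n => ?_, ?_⟩
    · have : (x * y).2 * σ.asGroupHom n * (x * y).2⁻¹ = x.2 * (y.2 * σ.asGroupHom n * y.2⁻¹) * x.2⁻¹ := by
        simp only [Prod.snd_mul, mul_inv_rev]; group
      rw [this, hy n, hx _]
      simp only [Prod.fst_mul, map_mul, MulAut.mul_apply]
    · simp only [Prod.snd_mul, Units.val_mul, map_mul, hx', hy', mul_one]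
  inv_mem' := by
    rintro x ⟨hx, hx'⟩
    refine ⟨fun n => ?_, ?_⟩
    · have h1 := hx (MulAut.conjNormal x.1⁻¹ n)
      have h2 : MulAut.conjNormal x.1 (MulAut.conjNormal x.1⁻¹ n) = n := by
        rw [← MulAut.mul_apply, ← map_mul, mul_inv_cancel, map_one, MulAut.one_apply]
      rw [h2] at h1
      simp only [Prod.snd_inv, Prod.fst_inv, inv_inv]
      rw [← h1]
      group
    · have h3 : LinearMap.det ((x⁻¹).2 : W →ₗ[ℂ] W) * LinearMap.det (x.2 : W →ₗ[ℂ] W) = 1 := by
        rw [← map_mul, ← Units.val_mul, Prod.snd_inv, inv_mul_cancel, Units.val_one, map_one]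
      rw [hx', mul_one] at h3
      exact h3

theorem mem_compatPairs (x : G × (W →ₗ[ℂ] W)ˣ) :
    x ∈ compatPairs N σ ↔
      (∀ n : N, x.2 * σ.asGroupHom n * x.2⁻¹ = σ.asGroupHom (MulAut.conjNormal x.1 n)) ∧
        LinearMap.det (x.2 : W →ₗ[ℂ] W) = 1 := Iff.rfl

/-- the projection of the group of compatible pairs onto `G` -/
def compatProj : compatPairs N σ →* G := (MonoidHom.fst G _).comp (compatPairs N σ).subtype

/-- the space of `N`-homomorphisms from `W` to `V` -/
def homSpace : Submodule ℂ (W →ₗ[ℂ] V) where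
  carrier := {f | ∀ n : N, f ∘ₗ σ n = ρ (n : G) ∘ₗ f}
  add_mem' := by
    intro f f' hf hf' n
    rw [LinearMap.add_comp, LinearMap.comp_add, hf n, hf' n]
  zero_mem' := by
    intro n
    simp
  smul_mem' := by
    intro c f hf n
    rw [LinearMap.smul_comp, LinearMap.comp_smul, hf n]

omit hN in
theorem mem_homSpace (f : W →ₗ[ℂ] V) :
    f ∈ homSpace N ρ σ ↔ ∀ n : N, f ∘ₗ σ n = ρ (n : G) ∘ₗ f := Iff.rfl

/-- the big representation of `G × GL(W)` on `Hom(W, V)` -/
def pairRep : Representation ℂ (G × (W →ₗ[ℂ] W)ˣ) (W →ₗ[ℂ] V) :=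
  Representation.linHom
    ((Units.coeHom (W →ₗ[ℂ] W)).comp (MonoidHom.snd G (W →ₗ[ℂ] W)ˣ))
    (ρ.comp (MonoidHom.fst G (W →ₗ[ℂ] W)ˣ))

theorem pairRep_apply (x : G × (W →ₗ[ℂ] W)ˣ) (f : W →ₗ[ℂ] V) :
    pairRep (W := W) ρ x f = ρ x.1 ∘ₗ f ∘ₗ ((x.2⁻¹ : (W →ₗ[ℂ] W)ˣ) : W →ₗ[ℂ] W) := by
  rfl


omit hN in
theorem pairRep_apply_apply (x : G × (W →ₗ[ℂ] W)ˣ) (f : W →ₗ[ℂ] V) (w : W) :
    pairRep (W := W) ρ x f w = ρ x.1 (f (((x.2⁻¹ : (W →ₗ[ℂ] W)ˣ) : W →ₗ[ℂ] W) w)) := by
  rfl

/-- `X⁻¹ σ(n) = σ(g⁻¹ n g) X⁻¹` for a compatible pair `(g, X)` -/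
theorem inv_mul_asGroupHom_of_mem {x : G × (W →ₗ[ℂ] W)ˣ} (hx : x ∈ compatPairs N σ) (n : N) :
    x.2⁻¹ * σ.asGroupHom n = σ.asGroupHom (MulAut.conjNormal x.1⁻¹ n) * x.2⁻¹ := by
  have h1 := hx.1 (MulAut.conjNormal x.1⁻¹ n)
  have h2 : MulAut.conjNormal x.1 (MulAut.conjNormal x.1⁻¹ n) = n := by
    rw [← MulAut.mul_apply, ← map_mul, mul_inv_cancel, map_one, MulAut.one_apply]
  rw [h2] at h1
  rw [← h1]
  group

theorem pairRep_mem_homSpace {x : G × (W →ₗ[ℂ] W)ˣ} (hx : x ∈ compatPairs N σ)
    {f : W →ₗ[ℂ] V} (hf : f ∈ homSpace N ρ σ) : pairRep (W := W) ρ x f ∈ homSpace N ρ σ := by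
  intro n
  have h1 := congrArg Units.val (inv_mul_asGroupHom_of_mem N σ hx n)
  simp only [Units.val_mul, asGroupHom_apply] at h1
  have h2 := hf (MulAut.conjNormal x.1⁻¹ n)
  ext w
  have h3 := congrArg (fun T : W →ₗ[ℂ] W => T w) h1
  simp only [Module.End.mul_apply] at h3
  have h4 := fun w' => congrArg (fun T : W →ₗ[ℂ] V => T w') h2
  simp only [LinearMap.comp_apply] at h4
  simp only [LinearMap.comp_apply, pairRep_apply_apply]
  rw [h3, h4, ← Module.End.mul_apply, ← Module.End.mul_apply, ← map_mul, ← map_mul]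
  congr 2
  simp only [MulAut.conjNormal_apply]
  group

/-- the space of `N`-homomorphisms as a subrepresentation for the group of compatible pairs -/
def homSub : Subrepresentation ((pairRep (W := W) ρ).comp (compatPairs N σ).subtype) where
  toSubmodule := homSpace N ρ σ
  apply_mem_toSubmodule x _ hf := pairRep_mem_homSpace N ρ σ x.2 hf

/-- the representation of the group of compatible pairs on the space of `N`-homomorphisms -/
def homRep : Representation ℂ (compatPairs N σ) (homSpace N ρ σ) :=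
  (homSub N ρ σ).toRepresentation

theorem homRep_apply_coe (x : compatPairs N σ) (f : homSpace N ρ σ) :
    ((homRep N ρ σ x f : homSpace N ρ σ) : W →ₗ[ℂ] V) =
      ρ x.1.1 ∘ₗ (f : W →ₗ[ℂ] V) ∘ₗ ((x.1.2⁻¹ : (W →ₗ[ℂ] W)ˣ) : W →ₗ[ℂ] W) := by
  rfl


/-- the preimage of `N` acts by scalars on the space of `N`-homomorphisms -/
theorem comap_le_repCenter_homRep [FiniteDimensional ℂ W] [σ.IsIrreducible] :
    N.comap (compatProj N σ) ≤ Cfsg.Agent.Lib.Helper77.repCenter (homRep N ρ σ) := by
  rintro ⟨⟨g, X⟩, hx⟩ hg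
  change g ∈ N at hg
  let n' : N := ⟨g, hg⟩
  -- `Y = X⁻¹ σ(n')` commutes with `σ`
  let Y : (W →ₗ[ℂ] W)ˣ := X⁻¹ * σ.asGroupHom n'
  have hY : ∀ m : N, Y * σ.asGroupHom m = σ.asGroupHom m * Y := by
    intro m
    have h1 := hx.1 m
    have h2 : MulAut.conjNormal g m = n' * m * n'⁻¹ := by
      apply Subtype.ext
      simp [n', MulAut.conjNormal_apply]
    simp only at h1
    rw [h2, map_mul, map_mul, map_inv] at h1
    simp only [Y]
    have h3 : σ.asGroupHom m * (X⁻¹ * σ.asGroupHom n') =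
        X⁻¹ * (X * σ.asGroupHom m * X⁻¹) * σ.asGroupHom n' := by group
    rw [h3, h1]
    group
  obtain ⟨c, hc⟩ := Cfsg.Agent.Lib.Helper81.schur_scalar σ (Y : W →ₗ[ℂ] W) (fun m => by
    have := congrArg Units.val (hY m)
    simp only [Units.val_mul, asGroupHom_apply] at this
    exact this)
  have hXinv : ((X⁻¹ : (W →ₗ[ℂ] W)ˣ) : W →ₗ[ℂ] W) = c • σ n'⁻¹ := by
    have h1 : X⁻¹ = Y * σ.asGroupHom n'⁻¹ := by
      simp only [Y, map_inv]
      group
    rw [h1, Units.val_mul, hc, asGroupHom_apply]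
    ext w
    simp
  refine ⟨c, ?_⟩
  ext f w
  rw [homRep_apply_coe]
  simp only [hXinv, LinearMap.comp_apply, LinearMap.smul_apply, map_smul, LinearMap.id_coe, id_eq,
    Submodule.coe_smul]
  congr 1
  have h4 := congrArg (fun T : W →ₗ[ℂ] V => T w) (f.2 n'⁻¹)
  simp only [LinearMap.comp_apply] at h4
  rw [h4, ← Module.End.mul_apply, ← map_mul]
  simp [n']


/-- if the character of the irreducible representation `σ` of `N` is `G`-invariant, every element
of `G` is the first component of a compatible pair -/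
theorem compatProj_surjective [Finite N] [FiniteDimensional ℂ W] [hirr : σ.IsIrreducible]
    (hinv : ∀ (g : G) (n : N), σ.character (MulAut.conjNormal g n) = σ.character n) :
    Function.Surjective (compatProj N σ) := by
  classical
  have := Fintype.ofFinite N
  intro g
  let ρg : Representation ℂ N W := MonoidHom.comp σ (MulAut.conjNormal g : N ≃* N).toMonoidHom
  have hchar : ρg.character = σ.character := by
    funext n
    exact hinv g n
  obtain ⟨e⟩ := Cfsg.Agent.Lib.Helper74.equiv_of_character_eq σ ρg hchar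
  let A₀ : (W →ₗ[ℂ] W)ˣ := LinearMap.GeneralLinearGroup.ofLinearEquiv e.toLinearEquiv
  have hA₀ : ∀ n : N, A₀ * σ.asGroupHom n * A₀⁻¹ = σ.asGroupHom (MulAut.conjNormal g n) := by
    intro n
    rw [mul_inv_eq_iff_eq_mul]
    apply Units.ext
    simp only [Units.val_mul, asGroupHom_apply]
    exact e.toIntertwiningMap.isIntertwining' n
  have hdpos : 0 < Module.finrank ℂ W := Cfsg.Agent.Lib.Helper81.finrank_pos_of_irreducible σ
  have hδ : LinearMap.det (A₀ : W →ₗ[ℂ] W) ≠ 0 := by
    have h1 : IsUnit (LinearMap.det (A₀ : W →ₗ[ℂ] W)) := A₀.isUnit.map LinearMap.det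
    exact h1.ne_zero
  obtain ⟨μ, hμ⟩ := IsAlgClosed.exists_pow_nat_eq (LinearMap.det (A₀ : W →ₗ[ℂ] W)) hdpos
  have hμ0 : μ ≠ 0 := by
    intro h0
    rw [h0, zero_pow hdpos.ne'] at hμ
    exact hδ hμ.symm
  let z : (W →ₗ[ℂ] W)ˣ := Units.map (algebraMap ℂ (W →ₗ[ℂ] W)).toMonoidHom (Units.mk0 μ hμ0)
  have hzcomm : ∀ B : (W →ₗ[ℂ] W)ˣ, z * B = B * z := by
    intro B
    apply Units.ext
    simp only [Units.val_mul, z, Units.coe_map, Units.val_mk0]
    exact (Algebra.commutes μ (B : W →ₗ[ℂ] W))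
  have hzval : (z : W →ₗ[ℂ] W) = μ • LinearMap.id := by
    simp only [z, Units.coe_map, Units.val_mk0]
    show algebraMap ℂ (W →ₗ[ℂ] W) μ = _
    rw [Algebra.algebraMap_eq_smul_one]
    rfl
  have hmem : ((g, z⁻¹ * A₀) : G × (W →ₗ[ℂ] W)ˣ) ∈ compatPairs N σ := by
    refine ⟨fun n => ?_, ?_⟩
    · show (z⁻¹ * A₀) * σ.asGroupHom n * (z⁻¹ * A₀)⁻¹ = σ.asGroupHom (MulAut.conjNormal g n)
      rw [← hA₀ n]
      have hz' := hzcomm (A₀ * σ.asGroupHom n * A₀⁻¹)
      rw [mul_inv_rev, inv_inv]
      calc z⁻¹ * A₀ * σ.asGroupHom n * (A₀⁻¹ * z)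
          = z⁻¹ * ((A₀ * σ.asGroupHom n * A₀⁻¹) * z) := by group
        _ = z⁻¹ * (z * (A₀ * σ.asGroupHom n * A₀⁻¹)) := by rw [hz']
        _ = A₀ * σ.asGroupHom n * A₀⁻¹ := by group
    · show LinearMap.det ((z⁻¹ * A₀ : (W →ₗ[ℂ] W)ˣ) : W →ₗ[ℂ] W) = 1
      have h1 : LinearMap.det (z : W →ₗ[ℂ] W) = LinearMap.det (A₀ : W →ₗ[ℂ] W) := by
        rw [hzval, LinearMap.det_smul, LinearMap.det_id, mul_one, hμ]
      have h2 : LinearMap.det ((z⁻¹ : (W →ₗ[ℂ] W)ˣ) : W →ₗ[ℂ] W) * LinearMap.det (z : W →ₗ[ℂ] W) = 1 := by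
        rw [← map_mul, ← Units.val_mul, inv_mul_cancel, Units.val_one, map_one]
      rw [Units.val_mul, map_mul, ← h1, h2]
  exact ⟨⟨_, hmem⟩, rfl⟩


/-- the kernel of the projection onto `G` is finite -/
theorem finite_ker_compatProj [FiniteDimensional ℂ W] [hirr : σ.IsIrreducible] :
    Finite (compatProj N σ).ker := by
  have hdpos : 0 < Module.finrank ℂ W := Cfsg.Agent.Lib.Helper81.finrank_pos_of_irreducible σ
  have hd0 : (Module.finrank ℂ W : ℂ) ≠ 0 := by exact_mod_cast hdpos.ne'
  -- elements of the kernel are scalars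
  have hscal : ∀ x : (compatProj N σ).ker,
      ((x.1.1.2 : (W →ₗ[ℂ] W)ˣ) : W →ₗ[ℂ] W) =
        (LinearMap.trace ℂ W (x.1.1.2 : W →ₗ[ℂ] W) / (Module.finrank ℂ W : ℂ)) • LinearMap.id := by
    rintro ⟨⟨⟨g, X⟩, hx⟩, hk⟩
    have hg : g = 1 := hk
    subst hg
    apply Cfsg.Agent.Lib.Helper81.schur_scalar_trace σ
    intro n
    have h1 := hx.1 n
    simp only [map_one, MulAut.one_apply] at h1
    rw [mul_inv_eq_iff_eq_mul] at h1
    have := congrArg Units.val h1
    simp only [Units.val_mul, asGroupHom_apply] at this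
    exact this
  let F : (compatProj N σ).ker → Polynomial.nthRootsFinset (Module.finrank ℂ W) (1 : ℂ) :=
    fun x => ⟨LinearMap.trace ℂ W (x.1.1.2 : W →ₗ[ℂ] W) / (Module.finrank ℂ W : ℂ), by
      rw [Polynomial.mem_nthRootsFinset hdpos]
      have h1 := x.1.2.2
      rw [hscal x, LinearMap.det_smul, LinearMap.det_id, mul_one] at h1
      exact h1⟩
  have hF : Function.Injective F := by
    intro x y hxy
    have h1 : LinearMap.trace ℂ W (x.1.1.2 : W →ₗ[ℂ] W) / (Module.finrank ℂ W : ℂ) =
        LinearMap.trace ℂ W (y.1.1.2 : W →ₗ[ℂ] W) / (Module.finrank ℂ W : ℂ) :=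
      congrArg Subtype.val hxy
    have h2 : (x.1.1.2 : W →ₗ[ℂ] W) = (y.1.1.2 : W →ₗ[ℂ] W) := by
      rw [hscal x, hscal y, h1]
    apply Subtype.ext
    apply Subtype.ext
    apply Prod.ext
    · have hx1 : x.1.1.1 = 1 := x.2
      have hy1 : y.1.1.1 = 1 := y.2
      rw [hx1, hy1]
    · exact Units.ext h2
  exact Finite.of_injective F hF

/-- the group of compatible pairs is finite -/
theorem finite_compatPairs [Finite G] [FiniteDimensional ℂ W] [hirr : σ.IsIrreducible] :
    Finite (compatPairs N σ) := by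
  have h1 := finite_ker_compatProj N σ
  have h2 : Finite (compatPairs N σ ⧸ (compatProj N σ).ker) :=
    Finite.of_equiv _ (QuotientGroup.quotientKerEquivRange (compatProj N σ)).symm.toEquiv
  exact Finite.of_equiv _ (Subgroup.groupEquivQuotientProdSubgroup (s := (compatProj N σ).ker)).symm


omit hN in
/-- the space of `N`-homomorphisms is Mathlib's space of intertwining maps -/
def homSpaceEquiv :
    Representation.IntertwiningMap σ (ρ.comp N.subtype) ≃ₗ[ℂ] homSpace N ρ σ where
  toFun f := ⟨f.toLinearMap, fun n => f.isIntertwining' n⟩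
  invFun f := ⟨f.1, fun n => f.2 n⟩
  map_add' _ _ := rfl
  map_smul' _ _ := rfl
  left_inv _ := rfl
  right_inv _ := rfl

open TensorProduct in
/-- the representation of the group of compatible pairs on the space of `N`-homomorphisms is
irreducible when `ρ` is irreducible and `V` is `σ`-isotypic -/
theorem homRep_isIrreducible [FiniteDimensional ℂ V] [FiniteDimensional ℂ W] [hρ : ρ.IsIrreducible]
    (hsurj : Function.Surjective (compatProj N σ))
    (hdim : Module.finrank ℂ V = Module.finrank ℂ (homSpace N ρ σ) * Module.finrank ℂ W) :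
    (homRep N ρ σ).IsIrreducible := by
  have hVpos : 0 < Module.finrank ℂ V := Cfsg.Agent.Lib.Helper81.finrank_pos_of_irreducible ρ
  have hUpos : 0 < Module.finrank ℂ (homSpace N ρ σ) := by
    rcases Nat.eq_zero_or_pos (Module.finrank ℂ (homSpace N ρ σ)) with h | h
    · rw [h, zero_mul] at hdim; omega
    · exact h
  have hWpos : 0 < Module.finrank ℂ W := by
    rcases Nat.eq_zero_or_pos (Module.finrank ℂ W) with h | h
    · rw [h, mul_zero] at hdim; omega
    · exact h
  have hnt : Nontrivial (homSpace N ρ σ) := Module.nontrivial_of_finrank_pos (R := ℂ) hUpos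
  refine { exists_pair_ne := ⟨⊥, ⊤, ?_⟩, eq_bot_or_eq_top := fun U' => ?_ }
  · intro hbt
    have h1 := congrArg Subrepresentation.toSubmodule hbt
    exact bot_ne_top h1
  · by_cases hbot : U'.toSubmodule = ⊥
    · left
      exact Subrepresentation.toSubmodule_injective hbot
    · right
      apply Subrepresentation.toSubmodule_injective
      show U'.toSubmodule = ⊤
      -- the evaluation map
      let ev : U'.toSubmodule ⊗[ℂ] W →ₗ[ℂ] V :=
        TensorProduct.lift ((homSpace N ρ σ).subtype ∘ₗ U'.toSubmodule.subtype)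
      have hev : ∀ (f : U'.toSubmodule) (w : W), ev (f ⊗ₜ w) = (f.1.1 : W →ₗ[ℂ] V) w := by
        intro f w
        rfl
      -- its range is a subrepresentation
      let R : Subrepresentation ρ :=
        { toSubmodule := LinearMap.range ev
          apply_mem_toSubmodule := by
            rintro g v ⟨t, rfl⟩
            induction t using TensorProduct.induction_on with
            | zero => simp
            | tmul f w =>
              obtain ⟨x, rfl⟩ := hsurj g
              refine ⟨(⟨homRep N ρ σ x f.1, U'.apply_mem_toSubmodule x f.2⟩ : U'.toSubmodule) ⊗ₜ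
                ((x.1.2 : (W →ₗ[ℂ] W)ˣ) : W →ₗ[ℂ] W) w, ?_⟩
              rw [hev, hev]
              show ((homRep N ρ σ x f.1 : homSpace N ρ σ) : W →ₗ[ℂ] V) _ = _
              rw [homRep_apply_coe]
              simp only [LinearMap.comp_apply]
              rw [← Module.End.mul_apply, ← Units.val_mul, inv_mul_cancel]
              rfl
            | add t₁ t₂ h₁ h₂ =>
              rw [map_add, map_add]
              exact Submodule.add_mem _ h₁ h₂ }
      have hRne : R ≠ ⊥ := by
        intro hR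
        apply hbot
        rw [Submodule.eq_bot_iff]
        intro f hf
        apply Subtype.ext
        ext w
        have h1 : ev ((⟨f, hf⟩ : U'.toSubmodule) ⊗ₜ w) ∈ R.toSubmodule := ⟨_, rfl⟩
        rw [hR] at h1
        have h2 : ev ((⟨f, hf⟩ : U'.toSubmodule) ⊗ₜ w) = 0 := h1
        rw [hev] at h2
        exact h2
      have hRtop : R = ⊤ := (hρ.eq_bot_or_eq_top R).resolve_left hRne
      have hrange : LinearMap.range ev = ⊤ := congrArg Subrepresentation.toSubmodule hRtop
      have h3 : Module.finrank ℂ V ≤ Module.finrank ℂ (U'.toSubmodule ⊗[ℂ] W) := by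
        have := LinearMap.finrank_range_le ev
        rw [hrange, finrank_top] at this
        exact this
      have hfree : Module.Free ℂ ↥U'.toSubmodule := Module.Free.of_divisionRing ℂ ↥U'.toSubmodule
      rw [Module.finrank_tensorProduct, hdim] at h3
      have h4 : Module.finrank ℂ (homSpace N ρ σ) ≤ Module.finrank ℂ U'.toSubmodule :=
        Nat.le_of_mul_le_mul_right h3 hWpos
      exact Submodule.eq_top_of_finrank_eq (le_antisymm (Submodule.finrank_le _) h4)


/-- **Key divisibility** (representation form): if the irreducible `G`-representation `V` is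
`σ`-isotypic over `N ⊴ G`, with `σ` of `G`-invariant character, then the multiplicity divides
`|G : N|`. -/
theorem finrank_homSpace_dvd_index [Finite G] [FiniteDimensional ℂ V] [FiniteDimensional ℂ W]
    [hρ : ρ.IsIrreducible] [hσ : σ.IsIrreducible]
    (hinv : ∀ (g : G) (n : N), σ.character (MulAut.conjNormal g n) = σ.character n)
    (hdim : Module.finrank ℂ V = Module.finrank ℂ (homSpace N ρ σ) * Module.finrank ℂ W) :
    Module.finrank ℂ (homSpace N ρ σ) ∣ N.index := by
  have hfin : Finite (compatPairs N σ) := finite_compatPairs N σ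
  have hsurj := compatProj_surjective N σ hinv
  have hirr : (homRep N ρ σ).IsIrreducible := homRep_isIrreducible N ρ σ hsurj hdim
  have h1 := finrank_dvd_index_repCenter (homRep N ρ σ)
  have h2 := Subgroup.index_dvd_of_le (comap_le_repCenter_homRep N ρ σ)
  rw [Subgroup.index_comap_of_surjective _ hsurj] at h2
  exact dvd_trans h1 h2

end Core

section CharForm

open Cfsg.Agent.Lib.Helper78

variable {G : Type u} [Group G] [Fintype G] (N : Subgroup G) [hN : N.Normal] [Fintype N]

/-- **Key divisibility** (character form): if `θ ∈ Irr(N)` is `G`-invariant and `χ ∈ Irr(G)`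
restricts to `e θ`, then `e` divides `|G : N|`. -/
theorem ramification_dvd_index {χ : G → ℂ} (hχ : IsIrrCharacter G χ) {θ : N → ℂ}
    (hθ : IsIrrCharacter N θ) (hinv : ∀ g : G, conjFun N g θ = θ) (e : ℕ)
    (he : (fun n : N => χ n) = (e : ℂ) • θ) : e ∣ N.index := by
  obtain ⟨c, ρ, hρ, rfl⟩ := hχ
  obtain ⟨d, σ, hσ, rfl⟩ := hθ
  have hinv' : ∀ (g : G) (n : N), σ.character (MulAut.conjNormal g n) = σ.character n := by
    intro g n
    have := congrFun (hinv g) n
    rw [conjFun_apply] at this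
    exact this
  have hfr : Module.finrank ℂ (homSpace N ρ σ) = e := by
    rw [← (homSpaceEquiv N ρ σ).finrank_eq]
    have h1 := Cfsg.Agent.Lib.Helper3.classInner_character_eq_finrank
      (MonoidHom.comp ρ N.subtype : Representation ℂ N (Fin c → ℂ)) σ
    have h2 : Representation.character (MonoidHom.comp ρ N.subtype :
        Representation ℂ N (Fin c → ℂ)) = (e : ℂ) • σ.character := he
    rw [h2, classInner_smul_left, classInner_irr_self ⟨d, σ, hσ, rfl⟩, mul_one] at h1
    exact_mod_cast h1.symm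
  have hdim : Module.finrank ℂ (Fin c → ℂ) =
      Module.finrank ℂ (homSpace N ρ σ) * Module.finrank ℂ (Fin d → ℂ) := by
    rw [hfr]
    have h1 := congrFun he 1
    simp only [Pi.smul_apply, smul_eq_mul, OneMemClass.coe_one] at h1
    rw [Representation.char_one, Representation.char_one] at h1
    exact_mod_cast h1
  rw [← hfr]
  exact finrank_homSpace_dvd_index N ρ σ hinv' hdim

end CharForm

end Cfsg.Agent.Lib.Helper75

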