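import Mathlib
import Cfsg.Agent.Lib.Helper82.SubsecMain

/-!
# Major subsections: the contribution as a sum of central character values

Shared library by helper75 (for S4539): `(|G|/χ(1)) m_{χψ}` for a major subsection `(z, b)` is a
sum over the `p`-regular classes of `C_G(z)` of central character values of `χ`.
-/

set_option autoImplicit false
set_option linter.unusedSectionVars false

namespace Cfsg.Agent.Lib.Helper75

open Cfsg Finset Cfsg.Agent.Lib.Helper16 Cfsg.Agent.Lib.Helper78 Cfsg.Agent.Lib.Helper79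
  Cfsg.Agent.Lib.Helper82
open scoped ComplexConjugate

universe u

section Congruence

variable {G : Type u} [Group G] [Fintype G] {p : ℕ} [Fact p.Prime] {M : Ideal AlgInt}

open scoped Classical in
/-- the `p`-regular Gram number vanishes across blocks -/
theorem pGram_eq_zero_of_not_mem (hM : IsPModular p M) (H : Subgroup G) [Fintype H]
    {b : Set (IrrCharacter H)} (hb : IsPBlock M b) {ξ ξ' : IrrCharacter H} (hξ : ξ ∉ b)
    (hξ' : ξ' ∈ b) : pGram H p ξ ξ' = 0 := by
  have hp : p.Prime := Fact.out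
  have h1 := pow_mul_pGram H hM ξ ξ'
  rw [contrib_symm hM, contrib_eq_zero_of_not_mem hM hb hξ' hξ] at h1
  have hpe : ((p : ℂ) ^ (Nat.card H).factorization p) ≠ 0 :=
    pow_ne_zero _ (by exact_mod_cast hp.ne_zero)
  rw [Int.cast_zero] at h1
  rcases mul_eq_zero.mp h1 with h | h
  · exact absurd h hpe
  · exact h

open scoped Classical in
/-- in the contribution the first section part may be replaced by the twisted character -/
theorem secM_eq_sum_twist (hM : IsPModular p M) (H : Subgroup G) [Fintype H]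
    {b : Set (IrrCharacter H)} (hb : IsPBlock M b) (χ ψ : IrrCharacter G) {z : H}
    (hz : z ∈ Subgroup.center H) :
    secM p (z : G) H b (χ : G → ℂ) (ψ : G → ℂ) =
      (Nat.card H : ℂ)⁻¹ * ∑ s ∈ Finset.univ.filter (fun s : H => ¬ p ∣ orderOf s),
        (χ : G → ℂ) ((z : G) * (s : G)) * conj (secPart (z : G) H b (ψ : G → ℂ) s) := by
  set sb := Finset.univ.filter (fun ξ : IrrCharacter H => ξ ∈ b) with hsb
  have hpt : ∀ s : H, (χ : G → ℂ) ((z : G) * (s : G)) *
      conj (secPart (z : G) H b (ψ : G → ℂ) s) =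
      ∑ ξ : IrrCharacter H, ∑ ξ' ∈ sb,
          ((resMult H χ ξ : ℂ) * cScalar ξ z) * conj ((resMult H ψ ξ' : ℂ) * cScalar ξ' z) *
            ((ξ : H → ℂ) s * conj ((ξ' : H → ℂ) s)) := by
    intro s
    have h1 := congrFun (twist_eq_sum H χ hz) s
    simp only [Finset.sum_apply, Pi.smul_apply, smul_eq_mul] at h1
    rw [h1, secPart_apply_eq H b ψ hz, map_sum, Finset.sum_mul_sum]
    apply Finset.sum_congr rfl
    intro ξ _
    apply Finset.sum_congr rfl
    intro ξ' _
    rw [map_mul]
    ring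
  rw [Finset.sum_congr rfl (fun s _ => hpt s), secM_eq_sum H p b χ ψ hz]
  have hR : (Nat.card H : ℂ)⁻¹ * ∑ s ∈ Finset.univ.filter (fun s : H => ¬ p ∣ orderOf s),
      ∑ ξ : IrrCharacter H, ∑ ξ' ∈ sb,
          ((resMult H χ ξ : ℂ) * cScalar ξ z) * conj ((resMult H ψ ξ' : ℂ) * cScalar ξ' z) *
            ((ξ : H → ℂ) s * conj ((ξ' : H → ℂ) s)) =
      ∑ ξ : IrrCharacter H, ∑ ξ' ∈ sb,
          ((resMult H χ ξ : ℂ) * cScalar ξ z) * conj ((resMult H ψ ξ' : ℂ) * cScalar ξ' z) *
            pGram H p ξ ξ' := by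
    rw [Finset.sum_comm, Finset.mul_sum]
    apply Finset.sum_congr rfl
    intro ξ _
    rw [Finset.sum_comm, Finset.mul_sum]
    apply Finset.sum_congr rfl
    intro ξ' _
    unfold pGram
    rw [← Finset.mul_sum]
    ring
  rw [hR, ← Finset.sum_filter_add_sum_filter_not Finset.univ (fun ξ : IrrCharacter H => ξ ∈ b)]
  have hzero : ∑ ξ ∈ Finset.univ.filter (fun ξ : IrrCharacter H => ¬ ξ ∈ b), ∑ ξ' ∈ sb,
        ((resMult H χ ξ : ℂ) * cScalar ξ z) * conj ((resMult H ψ ξ' : ℂ) * cScalar ξ' z) *
          pGram H p ξ ξ' = 0 := by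
    apply Finset.sum_eq_zero
    intro ξ hξ
    simp only [Finset.mem_filter, Finset.mem_univ, true_and] at hξ
    apply Finset.sum_eq_zero
    intro ξ' hξ'
    simp only [hsb, Finset.mem_filter, Finset.mem_univ, true_and] at hξ'
    rw [pGram_eq_zero_of_not_mem hM H hb hξ hξ', mul_zero]
  rw [hzero, add_zero]

open scoped Classical in
/-- the section part is a class function -/
theorem isClassFunction_secPart (H : Subgroup G) [Fintype H] (b : Set (IrrCharacter H))
    (u : G) (ψ : G → ℂ) : IsClassFunction H (secPart u H b ψ) := by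
  intro g h
  unfold secPart
  rw [blockPart_apply, blockPart_apply]
  apply Finset.sum_congr rfl
  intro ξ _
  rw [isClassFunction_irr ξ g h]

theorem alg_aux75 (NG NH iG iH C χ1 a f : ℂ) (hG : NG = iG * C) (hH : NH = iH * C)
    (hNH : NH ≠ 0) (hχ : χ1 ≠ 0) :
    NG / χ1 * (NH⁻¹ * (iH * (a * f))) = iG * a / χ1 * f := by
  subst hG hH
  have hiH : iH ≠ 0 := left_ne_zero_of_mul hNH
  have hC : C ≠ 0 := right_ne_zero_of_mul hNH
  field_simp

open scoped Classical in
/-- the contribution, scaled by `|G|/χ(1)`, as a sum of central character values -/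
theorem card_div_mul_secM_eq (hM : IsPModular p M) (H : Subgroup G) [Fintype H]
    {b : Set (IrrCharacter H)} (hb : IsPBlock M b) (χ ψ : IrrCharacter G) {z : H}
    (hz : z ∈ Subgroup.center H) (hH : ∀ g : G, g ∈ H ↔ Commute (z : G) g)
    (hu : ∃ k : ℕ, orderOf (z : G) = p ^ k) :
    (Nat.card G : ℂ) / (χ : G → ℂ) 1 * secM p (z : G) H b (χ : G → ℂ) (ψ : G → ℂ) =
      ∑ c : ConjClasses H, (if p ∣ orderOf (Quotient.out c) then (0 : ℂ) else
        centralChar (χ : G → ℂ) ((z : G) * ((Quotient.out c : H) : G)) *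
          conj (secPart (z : G) H b (ψ : G → ℂ) (Quotient.out c))) := by
  rw [secM_eq_sum_twist hM H hb χ ψ hz]
  set Φ : H → ℂ := fun s => if p ∣ orderOf s then (0 : ℂ) else
    (χ : G → ℂ) ((z : G) * (s : G)) * conj (secPart (z : G) H b (ψ : G → ℂ) s) with hΦ
  have hΦcl : IsClassFunction H Φ := by
    intro g h
    simp only [hΦ]
    rw [orderOf_conj_eq, isClassFunction_secPart H b (z : G) (ψ : G → ℂ) g h]
    have h1 : (z : G) * ((h * g * h⁻¹ : H) : G) = (h : G) * ((z : G) * (g : G)) * (h : G)⁻¹ := by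
      have hzh : (z : G) * (h : G) = (h : G) * (z : G) := by
        have := Subgroup.mem_center_iff.mp hz h
        have := congrArg Subtype.val this
        simpa using this.symm
      simp only [Subgroup.coe_mul, Subgroup.coe_inv]
      rw [← mul_assoc, ← mul_assoc, hzh]
      group
    rw [h1, isClassFunction_irr χ _ _]
  have hsum : ∑ s ∈ Finset.univ.filter (fun s : H => ¬ p ∣ orderOf s),
      (χ : G → ℂ) ((z : G) * (s : G)) * conj (secPart (z : G) H b (ψ : G → ℂ) s) =
      ∑ s : H, Φ s := by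
    rw [Finset.sum_filter]
    apply Finset.sum_congr rfl
    intro s _
    simp only [hΦ]
    split_ifs <;> rfl
  rw [hsum, sum_eq_sum_conjClasses hΦcl, Finset.mul_sum, Finset.mul_sum]
  refine Finset.sum_congr (by ext x; simp only [Finset.mem_univ]) ?_
  intro c _
  have hΦc : Φ (Quotient.out c) = if p ∣ orderOf (Quotient.out c) then (0 : ℂ) else
    (χ : G → ℂ) ((z : G) * ((Quotient.out c : H) : G)) *
      conj (secPart (z : G) H b (ψ : G → ℂ) (Quotient.out c)) := rfl
  rw [hΦc]
  by_cases hc : p ∣ orderOf (Quotient.out c)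
  · rw [if_pos hc, if_pos hc, mul_zero, mul_zero, mul_zero]
  rw [if_neg hc, if_neg hc]
  · set s : H := Quotient.out c with hs
    have hcard := card_centralizer_mul_eq_gen (z : G) hu H hH s hc
    have hG := Subgroup.index_mul_card (Subgroup.centralizer ({(z : G) * (s : G)} : Set G))
    have hHc := Subgroup.index_mul_card (Subgroup.centralizer ({s} : Set H))
    have hχ1 : (χ : G → ℂ) 1 ≠ 0 := IsIrrCharacter.apply_one_ne_zero χ.2
    have hN0 : (Nat.card H : ℂ) ≠ 0 := by exact_mod_cast Nat.card_pos.ne'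
    have hC0 : (Nat.card (Subgroup.centralizer ({s} : Set H)) : ℂ) ≠ 0 := by
      exact_mod_cast Nat.card_pos.ne'
    have hGC : (Nat.card G : ℂ) =
        ((Subgroup.centralizer ({(z : G) * (s : G)} : Set G)).index : ℂ) *
          (Nat.card (Subgroup.centralizer ({s} : Set H)) : ℂ) := by
      rw [← hcard]
      exact_mod_cast hG.symm
    have hHC : (Nat.card H : ℂ) = ((Subgroup.centralizer ({s} : Set H)).index : ℂ) *
          (Nat.card (Subgroup.centralizer ({s} : Set H)) : ℂ) := by
      exact_mod_cast hHc.symm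
    unfold centralChar
    exact alg_aux75 _ _ _ _ _ _ _ _ hGC hHC hN0 hχ1

end Congruence

end Cfsg.Agent.Lib.Helper75
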