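import Mathlib
import Cfsg.Agent.Lib.Helper75.MajorSubCongr

/-!
# Major subsections: Brauer's congruence and its consequences

Shared library by helper75 (for S4539): for a major subsection `(z, b)` of `B`, the scaled
contributions `(|G|/χ(1)) m_{χψ}` are congruent for `χ` in `B`; hence `m_{χψ} ≠ 0` for `ψ` of height
zero, and `p ∣ ∑ n_χξ Q(ξ,ξ') n_ψξ'` for `χ` of positive height.
-/

set_option autoImplicit false
set_option linter.unusedSectionVars false
set_option linter.style.haveILetI false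

namespace Cfsg.Agent.Lib.Helper75

open Cfsg Finset Cfsg.Agent.Lib.Helper16 Cfsg.Agent.Lib.Helper78 Cfsg.Agent.Lib.Helper79
  Cfsg.Agent.Lib.Helper82
open scoped ComplexConjugate

universe u

section Congruence2

variable {G : Type u} [Group G] [Fintype G] {p : ℕ} [Fact p.Prime] {M : Ideal AlgInt}

theorem isIntegral_conj75 {x : ℂ} (hx : IsIntegral ℤ x) : IsIntegral ℤ (conj x) :=
  hx.map (Complex.conjAe.toAlgHom.restrictScalars ℤ)

theorem isIntegral_natCast75 (n : ℕ) : IsIntegral ℤ (n : ℂ) := by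
  have := isIntegral_algebraMap (R := ℤ) (A := ℂ) (x := (n : ℤ))
  simpa using this

theorem isIntegral_intCast75 (n : ℤ) : IsIntegral ℤ (n : ℂ) := by
  have := isIntegral_algebraMap (R := ℤ) (A := ℂ) (x := n)
  simpa using this

/-- the scalar of a central element is an algebraic integer -/
theorem isIntegral_cScalar {K : Type u} [Group K] [Fintype K] (ξ : IrrCharacter K) {z : K}
    (hz : z ∈ Subgroup.center K) : IsIntegral ℤ (cScalar ξ z) := by
  have h1 : cScalar ξ z ^ orderOf z = 1 := cScalar_pow_eq_one ξ hz (pow_orderOf_eq_one z)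
  apply IsIntegral.of_pow (orderOf_pos z)
  rw [h1]
  exact isIntegral_one

open scoped Classical in
/-- the section part of an irreducible character has algebraic integer values -/
theorem isIntegral_secPart (H : Subgroup G) [Fintype H] (b : Set (IrrCharacter H))
    (ψ : IrrCharacter G) {z : H} (hz : z ∈ Subgroup.center H) (s : H) :
    IsIntegral ℤ (secPart (z : G) H b (ψ : G → ℂ) s) := by
  rw [secPart_apply_eq H b ψ hz]
  apply IsIntegral.sum
  intro ξ _
  exact ((isIntegral_natCast75 _).mul (isIntegral_cScalar ξ hz)).mul (isIntegral_irr ξ s)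

open scoped Classical in
/-- `(|G|/χ(1)) m_{χψ}` is a local integer -/
theorem memLocalRing_card_div_mul_secM (hM : IsPModular p M) (H : Subgroup G) [Fintype H]
    {b : Set (IrrCharacter H)} (hb : IsPBlock M b) (χ ψ : IrrCharacter G) {z : H}
    (hz : z ∈ Subgroup.center H) (hH : ∀ g : G, g ∈ H ↔ Commute (z : G) g)
    (hu : ∃ k : ℕ, orderOf (z : G) = p ^ k) :
    MemLocalRing M ((Nat.card G : ℂ) / (χ : G → ℂ) 1 *
      secM p (z : G) H b (χ : G → ℂ) (ψ : G → ℂ)) := by
  have hMp : M.IsPrime := isPModular_isPrime hM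
  have hMtop : M ≠ ⊤ := hMp.ne_top
  rw [card_div_mul_secM_eq hM H hb χ ψ hz hH hu]
  apply memLocalRing_sum
  intro c _
  split_ifs
  · exact memLocalRing_zero hMtop
  · exact memLocalRing_mul (memLocalRing_of_isIntegral hMtop (isIntegral_centralChar χ _))
      (memLocalRing_of_isIntegral hMtop (isIntegral_conj75 (isIntegral_secPart H b ψ hz _)))

open scoped Classical in
/-- the congruence of the scaled contributions for two characters of one block -/
theorem memLocalIdeal_card_div_mul_secM_sub (hM : IsPModular p M) (H : Subgroup G) [Fintype H]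
    {b : Set (IrrCharacter H)} (hb : IsPBlock M b) (χ χ' ψ : IrrCharacter G)
    (hsame : SameBlock M (χ : G → ℂ) (χ' : G → ℂ)) {z : H}
    (hz : z ∈ Subgroup.center H) (hH : ∀ g : G, g ∈ H ↔ Commute (z : G) g)
    (hu : ∃ k : ℕ, orderOf (z : G) = p ^ k) :
    MemLocalIdeal M ((Nat.card G : ℂ) / (χ : G → ℂ) 1 *
        secM p (z : G) H b (χ : G → ℂ) (ψ : G → ℂ) -
      (Nat.card G : ℂ) / (χ' : G → ℂ) 1 *
        secM p (z : G) H b (χ' : G → ℂ) (ψ : G → ℂ)) := by
  have hMp : M.IsPrime := isPModular_isPrime hM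
  have hMtop : M ≠ ⊤ := hMp.ne_top
  rw [card_div_mul_secM_eq hM H hb χ ψ hz hH hu, card_div_mul_secM_eq hM H hb χ' ψ hz hH hu,
    ← Finset.sum_sub_distrib]
  apply memLocalIdeal_sum
  intro c _
  split_ifs
  · rw [sub_zero]
    exact memLocalIdeal_zero hMtop
  · rw [← sub_mul]
    exact memLocalIdeal_mul_right (hsame _)
      (memLocalRing_of_isIntegral hMtop (isIntegral_conj75 (isIntegral_secPart H b ψ hz _)))

/-- the degree relation `m p^d X = U_χ (|G|/χ(1)) X` -/
theorem ordCompl_mul_pow_mul_eq {B : Set (IrrCharacter G)} {χ : IrrCharacter G} (hχ : χ ∈ B)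
    (X : ℂ) :
    ((ordCompl[p] (Nat.card G) : ℕ) : ℂ) * ((p : ℂ) ^ blockDefect p B * X) =
      (blockU p B χ : ℂ) * ((Nat.card G : ℂ) / (χ : G → ℂ) 1 * X) := by
  have hp : p.Prime := Fact.out
  have hp0 : (p : ℂ) ≠ 0 := by exact_mod_cast hp.ne_zero
  have hU : ((p : ℂ) ^ coDefect p B) * (blockU p B χ : ℂ) = (χ : G → ℂ) 1 := by
    rw [irr_apply_one_eq_charDegree]
    have := congrArg (Int.cast : ℤ → ℂ) (blockU_spec (p := p) hχ)
    push_cast at this
    exact this
  have hG : (Nat.card G : ℂ) = (p : ℂ) ^ coDefect p B * (p : ℂ) ^ blockDefect p B *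
      ((ordCompl[p] (Nat.card G) : ℕ) : ℂ) := by
    rw [← pow_add, coDefect_add_blockDefect (p := p) ⟨χ, hχ⟩]
    exact_mod_cast (Nat.ordProj_mul_ordCompl_eq_self (Nat.card G) p).symm
  have hU0 : (blockU p B χ : ℂ) ≠ 0 := by exact_mod_cast blockU_ne_zero (p := p) hχ
  have hpc : (p : ℂ) ^ coDefect p B ≠ 0 := pow_ne_zero _ hp0
  rw [hG, ← hU]
  field_simp

omit [Fact p.Prime] in
/-- the reduced degree of a character of positive height is divisible by `p` -/
theorem dvd_blockU_of_height_ne_zero {B : Set (IrrCharacter G)}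
    {χ : IrrCharacter G} (hχ : χ ∈ B) (h0 : blockHeight p B (χ : G → ℂ) ≠ 0) :
    (p : ℤ) ∣ blockU p B χ := by
  have h1 := factorization_eq_coDefect_add_blockHeight (p := p) hχ
  unfold blockU
  have h2 : p ^ (coDefect p B + 1) ∣ charDegree (χ : G → ℂ) :=
    dvd_trans (pow_dvd_pow p (by omega)) (Nat.ordProj_dvd _ p)
  rw [pow_succ] at h2
  exact_mod_cast Nat.dvd_div_of_mul_dvd h2

open scoped Classical in
/-- `p^d m_{χψ}` is congruent to the integer `∑ n_χξ Q(ξ,ξ') n_ψξ'` -/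
theorem memLocalIdeal_pow_mul_secM_sub (hM : IsPModular p M) (H : Subgroup G) [Fintype H]
    {b : Set (IrrCharacter H)} (hb : IsPBlock M b) (χ ψ : IrrCharacter G) {z : H}
    (hz : z ∈ Subgroup.center H) {k : ℕ} (hzk : z ^ p ^ k = 1) :
    MemLocalIdeal M ((p : ℂ) ^ blockDefect p b * secM p (z : G) H b (χ : G → ℂ) (ψ : G → ℂ) -
      ((∑ ξ ∈ Finset.univ.filter (fun ξ : IrrCharacter H => ξ ∈ b),
        ∑ ξ' ∈ Finset.univ.filter (fun ξ : IrrCharacter H => ξ ∈ b),
          (resMult H χ ξ : ℤ) * blockQ p b ξ ξ' * (resMult H ψ ξ' : ℤ) : ℤ) : ℂ)) := by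
  have hMp : M.IsPrime := isPModular_isPrime hM
  have hMtop : M ≠ ⊤ := hMp.ne_top
  have h := pow_mul_secM_eq hM H hb χ ψ hz 1
  rw [pow_one] at h
  rw [h]
  set s := (Finset.univ.filter (fun ξ : IrrCharacter H => ξ ∈ b)) ×ˢ
        (Finset.univ.filter (fun ξ : IrrCharacter H => ξ ∈ b)) with hs
  have hr' : ∑ ξ ∈ Finset.univ.filter (fun ξ : IrrCharacter H => ξ ∈ b),
        ∑ ξ' ∈ Finset.univ.filter (fun ξ : IrrCharacter H => ξ ∈ b),
          (resMult H χ ξ : ℤ) * blockQ p b ξ ξ' * (resMult H ψ ξ' : ℤ) =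
      ∑ i ∈ s, secCoef p H b χ ψ i := by
    rw [hs, Finset.sum_product]
    rfl
  rw [hr']
  push_cast
  rw [← Finset.sum_sub_distrib]
  apply memLocalIdeal_sum
  intro i _
  have e : (secCoef p H b χ ψ i : ℂ) * secRoot H z i ^ 1 - (secCoef p H b χ ψ i : ℂ) =
      (secCoef p H b χ ψ i : ℂ) * (secRoot H z i ^ 1 - 1) := by ring
  rw [e]
  apply memLocalIdeal_mul_left (memLocalRing_intCast hMtop _)
  apply memLocalIdeal_sub_one_of_pow_eq_one hM (k := k)
  rw [pow_one, secRoot_pow_eq_one H hz hzk]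

open scoped Classical in
/-- `p^d m_{χψ}` lies in the local ideal iff `p` divides `∑ n_χξ Q(ξ,ξ') n_ψξ'` -/
theorem memLocalIdeal_pow_mul_secM_iff (hM : IsPModular p M) (H : Subgroup G) [Fintype H]
    {b : Set (IrrCharacter H)} (hb : IsPBlock M b) (χ ψ : IrrCharacter G) {z : H}
    (hz : z ∈ Subgroup.center H) {k : ℕ} (hzk : z ^ p ^ k = 1) :
    MemLocalIdeal M ((p : ℂ) ^ blockDefect p b * secM p (z : G) H b (χ : G → ℂ) (ψ : G → ℂ)) ↔
      (p : ℤ) ∣ ∑ ξ ∈ Finset.univ.filter (fun ξ : IrrCharacter H => ξ ∈ b),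
        ∑ ξ' ∈ Finset.univ.filter (fun ξ : IrrCharacter H => ξ ∈ b),
          (resMult H χ ξ : ℤ) * blockQ p b ξ ξ' * (resMult H ψ ξ' : ℤ) := by
  have hMp : M.IsPrime := isPModular_isPrime hM
  rw [memLocalIdeal_congr (memLocalIdeal_pow_mul_secM_sub hM H hb χ ψ hz hzk),
    memLocalIdeal_intCast_iff hM]

open scoped Classical in
/-- `p^d m_{χψ}` is a local integer -/
theorem memLocalRing_pow_mul_secM (hM : IsPModular p M) (H : Subgroup G) [Fintype H]
    {b : Set (IrrCharacter H)} (hb : IsPBlock M b) (χ ψ : IrrCharacter G) {z : H}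
    (hz : z ∈ Subgroup.center H) {k : ℕ} (hzk : z ^ p ^ k = 1) :
    MemLocalRing M ((p : ℂ) ^ blockDefect p b *
      secM p (z : G) H b (χ : G → ℂ) (ψ : G → ℂ)) := by
  have hMp : M.IsPrime := isPModular_isPrime hM
  have hMtop : M ≠ ⊤ := hMp.ne_top
  exact memLocalRing_of_sub (memLocalIdeal_pow_mul_secM_sub hM H hb χ ψ hz hzk)
    (memLocalRing_intCast hMtop _)

omit [Fintype G] in
theorem not_memLocalIdeal_ordCompl [Finite G] (hM : IsPModular p M) :
    ¬ MemLocalIdeal M ((ordCompl[p] (Nat.card G) : ℕ) : ℂ) := by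
  have hp : p.Prime := Fact.out
  rw [memLocalIdeal_natCast_iff hM]
  exact Nat.not_dvd_ordCompl hp Nat.card_pos.ne'

open scoped Classical in
/-- **Brauer**: the contribution of a major subsection to a pair `(χ, ψ)` of characters of the
block with `ψ` of height zero does not vanish. -/
theorem secM_ne_zero_of_height_zero (hM : IsPModular p M) (H : Subgroup G) [Fintype H]
    {b : Set (IrrCharacter H)} {B : Set (IrrCharacter G)} (hind : IsInducedBlock M H b B)
    (hdef : blockDefect p b = blockDefect p B) {χ ψ : IrrCharacter G} (hχ : χ ∈ B) (hψ : ψ ∈ B)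
    (hψ0 : blockHeight p B (ψ : G → ℂ) = 0) {z : H}
    (hz : z ∈ Subgroup.center H) (hH : ∀ g : G, g ∈ H ↔ Commute (z : G) g)
    {k : ℕ} (hzk : z ^ p ^ k = 1) (hu : ∃ k : ℕ, orderOf (z : G) = p ^ k) :
    secM p (z : G) H b (χ : G → ℂ) (ψ : G → ℂ) ≠ 0 := by
  have hMp : M.IsPrime := isPModular_isPrime hM
  have hMtop : M ≠ ⊤ := hMp.ne_top
  have hb : IsPBlock M b := hind.1
  have hB : IsPBlock M B := hind.2.1
  intro h0
  have hcg := memLocalIdeal_card_div_mul_secM_sub hM H hb χ ψ ψ (sameBlock_of_mem hB hχ hψ)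
    hz hH hu
  rw [h0, mul_zero, zero_sub, memLocalIdeal_neg_iff] at hcg
  have hrel := ordCompl_mul_pow_mul_eq (p := p) hψ
    (secM p (z : G) H b (ψ : G → ℂ) (ψ : G → ℂ))
  have h1 : MemLocalIdeal M ((blockU p B ψ : ℂ) * ((Nat.card G : ℂ) / (ψ : G → ℂ) 1 *
      secM p (z : G) H b (ψ : G → ℂ) (ψ : G → ℂ))) :=
    memLocalIdeal_mul_left (memLocalRing_intCast hMtop _) hcg
  rw [← hrel, ← hdef, memLocalIdeal_mul_iff (memLocalRing_natCast hMtop _)
    (memLocalRing_pow_mul_secM hM H hb ψ ψ hz hzk)] at h1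
  rcases h1 with h1 | h1
  · exact not_memLocalIdeal_ordCompl hM h1
  · rw [memLocalIdeal_pow_mul_secM_iff hM H hb ψ ψ hz hzk] at h1
    exact not_dvd_sum_resMult_blockQ hM H hind hdef hψ hψ hψ0 hψ0 h1

open scoped Classical in
/-- for `χ` of positive height the integer `∑ n_χξ Q(ξ,ξ') n_ψξ'` is divisible by `p` -/
theorem dvd_sum_resMult_blockQ_of_height_ne_zero (hM : IsPModular p M) (H : Subgroup G)
    [Fintype H]
    {b : Set (IrrCharacter H)} {B : Set (IrrCharacter G)} (hind : IsInducedBlock M H b B)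
    (hdef : blockDefect p b = blockDefect p B) {χ : IrrCharacter G} (ψ : IrrCharacter G)
    (hχ : χ ∈ B)
    (hχ0 : blockHeight p B (χ : G → ℂ) ≠ 0) {z : H}
    (hz : z ∈ Subgroup.center H) (hH : ∀ g : G, g ∈ H ↔ Commute (z : G) g)
    {k : ℕ} (hzk : z ^ p ^ k = 1) (hu : ∃ k : ℕ, orderOf (z : G) = p ^ k) :
    (p : ℤ) ∣ ∑ ξ ∈ Finset.univ.filter (fun ξ : IrrCharacter H => ξ ∈ b),
        ∑ ξ' ∈ Finset.univ.filter (fun ξ : IrrCharacter H => ξ ∈ b),
          (resMult H χ ξ : ℤ) * blockQ p b ξ ξ' * (resMult H ψ ξ' : ℤ) := by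
  have hp : p.Prime := Fact.out
  have hMp : M.IsPrime := isPModular_isPrime hM
  have hMtop : M ≠ ⊤ := hMp.ne_top
  have hb : IsPBlock M b := hind.1
  rw [← memLocalIdeal_pow_mul_secM_iff hM H hb χ ψ hz hzk]
  have hrel := ordCompl_mul_pow_mul_eq (p := p) hχ
    (secM p (z : G) H b (χ : G → ℂ) (ψ : G → ℂ))
  have hU : MemLocalIdeal M (blockU p B χ : ℂ) :=
    (memLocalIdeal_intCast_iff hM _).mpr (dvd_blockU_of_height_ne_zero hχ hχ0)
  have h1 : MemLocalIdeal M ((blockU p B χ : ℂ) * ((Nat.card G : ℂ) / (χ : G → ℂ) 1 *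
      secM p (z : G) H b (χ : G → ℂ) (ψ : G → ℂ))) :=
    memLocalIdeal_mul_right hU (memLocalRing_card_div_mul_secM hM H hb χ ψ hz hH hu)
  rw [← hrel, ← hdef, memLocalIdeal_mul_iff (memLocalRing_natCast hMtop _)
    (memLocalRing_pow_mul_secM hM H hb χ ψ hz hzk)] at h1
  rcases h1 with h1 | h1
  · exact absurd h1 (not_memLocalIdeal_ordCompl hM)
  · exact h1

end Congruence2

end Cfsg.Agent.Lib.Helper75
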