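import Cfsg.Agent.Lib.Helper75.PrincipalCover
import Cfsg.Agent.Lib.Helper16.Covering
import Cfsg.Agent.Lib.Helper78.BlockSums

/-!
# Sums of squared degrees over principal blocks (helper75, S4708)

`λ(N) ≤ λ(G) ≤ [G:N] λ(N)` for `N ⊴ G`, `λ(X) = ∑_{χ ∈ B₀(X)} χ(1)²`.
-/

set_option autoImplicit false
set_option linter.style.haveILetI false
set_option linter.unusedSectionVars false

namespace Cfsg.Agent.Lib.Helper75

open Cfsg MonoidAlgebra
open scoped ComplexConjugate

theorem sum_sq_le_sq_sum_nat {ι : Type*} (s : Finset ι) (x : ι → ℕ) :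
    ∑ i ∈ s, x i ^ 2 ≤ (∑ i ∈ s, x i) ^ 2 := by
  rw [pow_two (∑ i ∈ s, x i), Finset.sum_mul]
  apply Finset.sum_le_sum
  intro i hi
  rw [pow_two]
  exact Nat.mul_le_mul_left _ (Finset.single_le_sum (fun _ _ => Nat.zero_le _) hi)

section Mult

variable {G : Type*} [Group G] [Fintype G] (N : Subgroup G) [Fintype N]

/-- The multiplicity of `θ` in the restriction of `χ`, as a natural number. -/
noncomputable def resMult (χ : IrrCharacter G) (θ : IrrCharacter N) : ℕ :=
  Classical.choose (Cfsg.Agent.Lib.Helper78.IsCharacter.exists_nat_classInner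
    (isCharacter_res N (Cfsg.Agent.Lib.Helper78.IsIrrCharacter.isCharacter χ.2)) θ)

theorem resMult_spec (χ : IrrCharacter G) (θ : IrrCharacter N) :
    classInner (fun n : N => (χ : G → ℂ) n) (θ : N → ℂ) = (resMult N χ θ : ℂ) :=
  Classical.choose_spec (Cfsg.Agent.Lib.Helper78.IsCharacter.exists_nat_classInner
    (isCharacter_res N (Cfsg.Agent.Lib.Helper78.IsIrrCharacter.isCharacter χ.2)) θ)

theorem resMult_ne_zero_iff (χ : IrrCharacter G) (θ : IrrCharacter N) :
    resMult N χ θ ≠ 0 ↔ classInner (fun n : N => (χ : G → ℂ) n) (θ : N → ℂ) ≠ 0 := by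
  rw [resMult_spec]
  exact_mod_cast Iff.rfl

/-- `χ(1) = ∑_θ m(χ,θ) θ(1)`. -/
theorem charDegree_eq_sum_resMult (χ : IrrCharacter G) :
    charDegree (χ : G → ℂ) = ∑ θ : IrrCharacter N, resMult N χ θ * charDegree (θ : N → ℂ) := by
  have hres := isCharacter_res N (Cfsg.Agent.Lib.Helper78.IsIrrCharacter.isCharacter χ.2)
  have h := congrFun (Cfsg.Agent.Lib.Helper78.IsCharacter.eq_sum_irr hres) 1
  simp only [Finset.sum_apply, Pi.smul_apply, smul_eq_mul, Subgroup.coe_one] at h
  have h2 : ((charDegree (χ : G → ℂ) : ℕ) : ℂ) =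
      ((∑ θ : IrrCharacter N, resMult N χ θ * charDegree (θ : N → ℂ) : ℕ) : ℂ) := by
    rw [← Cfsg.Agent.Lib.Helper79.irr_apply_one_eq_charDegree χ, h]
    push_cast
    refine Finset.sum_congr rfl fun θ _ => ?_
    rw [resMult_spec, Cfsg.Agent.Lib.Helper79.irr_apply_one_eq_charDegree θ]
  exact_mod_cast h2

/-- `∑_χ m(χ,θ) χ(1) = [G:N] θ(1)`. -/
theorem sum_resMult_mul_charDegree (θ : IrrCharacter N) :
    ∑ χ : IrrCharacter G, resMult N χ θ * charDegree (χ : G → ℂ) =
      N.index * charDegree (θ : N → ℂ) := by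
  have h := congrFun (Cfsg.Agent.Lib.Helper78.classFunction_eq_sum_irr
    (isClassFunction_indFun N (θ : N → ℂ))) 1
  simp only [Finset.sum_apply, Pi.smul_apply, smul_eq_mul] at h
  rw [indFun_one] at h
  have h2 : ((∑ χ : IrrCharacter G, resMult N χ θ * charDegree (χ : G → ℂ) : ℕ) : ℂ) =
      ((N.index * charDegree (θ : N → ℂ) : ℕ) : ℂ) := by
    push_cast
    rw [← Cfsg.Agent.Lib.Helper79.irr_apply_one_eq_charDegree θ, h]
    refine Finset.sum_congr rfl fun χ _ => ?_
    rw [frobenius_reciprocity N (θ : N → ℂ) (Cfsg.Agent.Lib.Helper78.isClassFunction_irr χ),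
      ← Cfsg.Agent.Lib.Helper78.classInner_conj_symm, resMult_spec, Complex.conj_natCast,
      Cfsg.Agent.Lib.Helper79.irr_apply_one_eq_charDegree χ]
  exact_mod_cast h2

end Mult

section Cover

variable {G : Type*} [Group G] [Fintype G] (N : Subgroup G) [hN : N.Normal] [Fintype N]

open Cfsg.Agent.Lib.Helper16 in
/-- The principal block of `G` covers only the principal block of `N`. -/
theorem constituent_mem_principalBlock {p : ℕ} {M : Ideal AlgInt} (hM : IsPModular p M)
    {χ : IrrCharacter G} (hχ : χ ∈ principalBlock M G) {θ : IrrCharacter N}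
    (hθ : classInner (fun n : N => (χ : G → ℂ) n) (θ : N → ℂ) ≠ 0) :
    θ ∈ principalBlock M N := by
  classical
  haveI hMp : M.IsPrime := isPModular_isPrime hM
  have hU : IsGStable N (principalBlock M N) := by
    intro φ hφ g
    have h1 : SameBlock M (Cfsg.Agent.Lib.Helper16.oneIrr N : N → ℂ) (φ : N → ℂ) := hφ
    have h2 := sameBlock_conjIrrN N g h1 (M := M)
    have h3 : conjIrrN N g (Cfsg.Agent.Lib.Helper16.oneIrr N) =
        Cfsg.Agent.Lib.Helper16.oneIrr N := Subtype.ext rfl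
    rw [h3] at h2
    exact h2
  have hR : ∀ n : N, MemLocalRing M (blockCoeff (principalBlock M N) n) := fun n =>
    blockCoeff_memLocalRing (isPBlock_blockOf (Cfsg.Agent.Lib.Helper16.oneIrr N)) _
  have hsame : SameBlock M (χ : G → ℂ) (oneIrr G : G → ℂ) := sameBlock_symm hχ
  have hφ : classInner (fun n : N => (oneIrr G : G → ℂ) n)
      (Cfsg.Agent.Lib.Helper16.oneIrr N : N → ℂ) ≠ 0 :=
    classInner_res_oneIrr_ne_zero N (oneIrr G) (fun n _ => rfl)
  rw [constituent_mem_iff_of_sameBlock N hU hR hsame hθ hφ]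
  exact self_mem_blockOf hMp.ne_top (Cfsg.Agent.Lib.Helper16.oneIrr N)

end Cover

section Lambda

variable {G : Type*} [Group G] [Fintype G] (N : Subgroup G) [hN : N.Normal] [Fintype N]

open scoped Classical in
/-- `λ(G) ≤ [G:N] λ(N)` for the sums of squared degrees over the principal blocks. -/
theorem principal_lambda_le_index_mul {p : ℕ} {M : Ideal AlgInt} (hM : IsPModular p M) :
    ∑ χ ∈ Finset.univ.filter (fun χ : IrrCharacter G => χ ∈ principalBlock M G),
        charDegree (χ : G → ℂ) ^ 2 ≤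
      N.index * ∑ θ ∈ Finset.univ.filter (fun θ : IrrCharacter N => θ ∈ principalBlock M N),
        charDegree (θ : N → ℂ) ^ 2 := by
  set SG := Finset.univ.filter (fun χ : IrrCharacter G => χ ∈ principalBlock M G) with hSG
  set SN := Finset.univ.filter (fun θ : IrrCharacter N => θ ∈ principalBlock M N) with hSN
  have h1 : ∀ χ ∈ SG, charDegree (χ : G → ℂ) ^ 2 =
      ∑ θ ∈ SN, charDegree (χ : G → ℂ) * resMult N χ θ * charDegree (θ : N → ℂ) := by
    intro χ hχ
    have hχB : χ ∈ principalBlock M G := (Finset.mem_filter.mp hχ).2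
    rw [pow_two]
    nth_rewrite 2 [charDegree_eq_sum_resMult N χ]
    rw [Finset.mul_sum, hSN, Finset.sum_filter]
    refine Finset.sum_congr rfl fun θ _ => ?_
    split_ifs with hθ
    · ring
    · have : resMult N χ θ = 0 := by
        by_contra hne
        exact hθ (constituent_mem_principalBlock N hM hχB ((resMult_ne_zero_iff N χ θ).mp hne))
      rw [this]
      ring
  rw [Finset.sum_congr rfl h1, Finset.sum_comm, Finset.mul_sum]
  apply Finset.sum_le_sum
  intro θ _
  calc ∑ χ ∈ SG, charDegree (χ : G → ℂ) * resMult N χ θ * charDegree (θ : N → ℂ)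
      = charDegree (θ : N → ℂ) * ∑ χ ∈ SG, resMult N χ θ * charDegree (χ : G → ℂ) := by
        rw [Finset.mul_sum]
        refine Finset.sum_congr rfl fun χ _ => ?_
        ring
    _ ≤ charDegree (θ : N → ℂ) * ∑ χ : IrrCharacter G, resMult N χ θ * charDegree (χ : G → ℂ) := by
        apply Nat.mul_le_mul_left
        exact Finset.sum_le_sum_of_subset (Finset.subset_univ _)
    _ = N.index * charDegree (θ : N → ℂ) ^ 2 := by
        rw [sum_resMult_mul_charDegree]
        ring

open scoped Classical in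
/-- `λ(N) ≤ λ(G)` for the sums of squared degrees over the principal blocks. -/
theorem principal_lambda_le {p : ℕ} {M : Ideal AlgInt} (hM : IsPModular p M) :
    ∑ θ ∈ Finset.univ.filter (fun θ : IrrCharacter N => θ ∈ principalBlock M N),
        charDegree (θ : N → ℂ) ^ 2 ≤
      ∑ χ ∈ Finset.univ.filter (fun χ : IrrCharacter G => χ ∈ principalBlock M G),
        charDegree (χ : G → ℂ) ^ 2 := by
  set SG := Finset.univ.filter (fun χ : IrrCharacter G => χ ∈ principalBlock M G) with hSG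
  set SN := Finset.univ.filter (fun θ : IrrCharacter N => θ ∈ principalBlock M N) with hSN
  have h1 : ∀ θ ∈ SN, charDegree (θ : N → ℂ) ^ 2 ≤
      ∑ χ ∈ SG, (resMult N χ θ * charDegree (θ : N → ℂ)) ^ 2 := by
    intro θ hθ
    have hθB : θ ∈ principalBlock M N := (Finset.mem_filter.mp hθ).2
    obtain ⟨χ, hχB, hχθ⟩ := exists_principal_over hM N θ hθB
    have hχS : χ ∈ SG := Finset.mem_filter.mpr ⟨Finset.mem_univ _, hχB⟩
    have hm : 1 ≤ resMult N χ θ := Nat.one_le_iff_ne_zero.mpr ((resMult_ne_zero_iff N χ θ).mpr hχθ)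
    calc charDegree (θ : N → ℂ) ^ 2 ≤ (resMult N χ θ * charDegree (θ : N → ℂ)) ^ 2 := by
          apply Nat.pow_le_pow_left
          exact Nat.le_mul_of_pos_left _ hm
      _ ≤ ∑ χ ∈ SG, (resMult N χ θ * charDegree (θ : N → ℂ)) ^ 2 :=
          Finset.single_le_sum (f := fun χ => (resMult N χ θ * charDegree (θ : N → ℂ)) ^ 2)
            (fun _ _ => Nat.zero_le _) hχS
  calc ∑ θ ∈ SN, charDegree (θ : N → ℂ) ^ 2
      ≤ ∑ θ ∈ SN, ∑ χ ∈ SG, (resMult N χ θ * charDegree (θ : N → ℂ)) ^ 2 :=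
        Finset.sum_le_sum h1
    _ = ∑ χ ∈ SG, ∑ θ ∈ SN, (resMult N χ θ * charDegree (θ : N → ℂ)) ^ 2 := Finset.sum_comm
    _ ≤ ∑ χ ∈ SG, charDegree (χ : G → ℂ) ^ 2 := by
        apply Finset.sum_le_sum
        intro χ _
        calc ∑ θ ∈ SN, (resMult N χ θ * charDegree (θ : N → ℂ)) ^ 2
            ≤ ∑ θ : IrrCharacter N, (resMult N χ θ * charDegree (θ : N → ℂ)) ^ 2 :=
              Finset.sum_le_sum_of_subset (Finset.subset_univ _)
          _ ≤ (∑ θ : IrrCharacter N, resMult N χ θ * charDegree (θ : N → ℂ)) ^ 2 :=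
              sum_sq_le_sq_sum_nat _ _
          _ = charDegree (χ : G → ℂ) ^ 2 := by rw [← charDegree_eq_sum_resMult N χ]

end Lambda

end Cfsg.Agent.Lib.Helper75
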