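import Mathlib
import Cfsg.Agent.S0161
import Cfsg.Agent.Lib.Helper77.Deflation
import Cfsg.Agent.Lib.Helper80.CharBasic
import Cfsg.Agent.Lib.Helper80.CharOrth
import Cfsg.Agent.Lib.Helper75.PrincipalLambda
import Cfsg.Agent.Lib.Helper75.GaloisPow
import Cfsg.Agent.Lib.Helper75.GaloisStable
import Cfsg.Agent.Lib.Helper76.GaloisBlock

/-!
# Parity arguments for normal subgroups of odd index and the prime 2 (helper75, S4520)

* `sum_nat_modEq_sum_fixed`: weighted fixed-point count mod 2 for a self-map of 2-power order.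
* `irr_eq_one_of_real_of_odd_index`: Burnside for quotients of odd order.
* `parity_res_one`: `[α_N, 1_N] ≡ [α, 1_G] (mod 2)` for a character `α` fixed by `g ↦ g ^ k`.
* `eq_of_pow_fixed_over`: at most one fixed irreducible character of `G` over `θ ∈ Irr(N)`.
* `exists_pow_fixed_principal_over`: a fixed `θ ∈ B₀(N)` lies under a fixed `χ ∈ B₀(G)`.
-/

set_option autoImplicit false
set_option linter.style.haveILetI false
set_option linter.unusedSectionVars false

namespace Cfsg.Agent.Lib.Helper75

open Cfsg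
open scoped ComplexConjugate

/-- For a self-map `σ` of 2-power order and a `σ`-invariant weight with values in `ZMod 2`, the
total weight equals the weight of the fixed points. -/
theorem sum_zmod_two_eq_sum_fixed {X : Type*} [Fintype X] [DecidableEq X] (e : ℕ) (σ : X → X)
    (hσ : σ^[2 ^ e] = id) (f : X → ZMod 2) (hf : ∀ x, f (σ x) = f x) :
    ∑ x, f x = ∑ x ∈ Finset.univ.filter (fun x => σ x = x), f x := by
  induction e generalizing σ with
  | zero =>
    have h1 : σ = id := by simpa using hσ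
    subst h1
    simp
  | succ e ih =>
    have h2 : (σ^[2])^[2 ^ e] = id := by
      rw [← Function.iterate_mul, ← pow_succ']
      exact hσ
    have hf2 : ∀ x, f (σ^[2] x) = f x := by
      intro x
      simp only [Function.iterate_succ, Function.iterate_zero, Function.comp_apply, id_eq]
      rw [hf, hf]
    rw [ih (σ^[2]) h2 hf2]
    have hsub : Finset.univ.filter (fun x => σ x = x) ⊆ Finset.univ.filter (fun x => σ^[2] x = x) := by
      intro x hx
      rw [Finset.mem_filter] at hx ⊢
      refine ⟨Finset.mem_univ _, ?_⟩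
      simp only [Function.iterate_succ, Function.iterate_zero, Function.comp_apply, id_eq]
      rw [hx.2, hx.2]
    rw [← Finset.sum_sdiff hsub]
    have hzero : ∑ x ∈ Finset.univ.filter (fun x => σ^[2] x = x) \
        Finset.univ.filter (fun x => σ x = x), f x = 0 := by
      refine Finset.sum_involution (fun x _ => σ x) ?_ ?_ ?_ ?_
      · intro x _
        rw [hf]
        exact CharTwo.add_self_eq_zero (f x)
      · intro x hx _
        rw [Finset.mem_sdiff, Finset.mem_filter, Finset.mem_filter] at hx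
        intro h
        exact hx.2 ⟨Finset.mem_univ _, h⟩
      · intro x hx
        rw [Finset.mem_sdiff, Finset.mem_filter, Finset.mem_filter] at hx ⊢
        have h2x : σ (σ x) = x := by
          have := hx.1.2
          simpa only [Function.iterate_succ, Function.iterate_zero, Function.comp_apply, id_eq]
            using this
        refine ⟨⟨Finset.mem_univ _, ?_⟩, ?_⟩
        · simp only [Function.iterate_succ, Function.iterate_zero, Function.comp_apply, id_eq]
          rw [h2x]
        · rintro ⟨-, h⟩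
          apply hx.2
          refine ⟨Finset.mem_univ _, ?_⟩
          rw [h2x] at h
          exact h.symm
      · intro x hx
        rw [Finset.mem_sdiff, Finset.mem_filter] at hx
        have := hx.1.2
        simpa only [Function.iterate_succ, Function.iterate_zero, Function.comp_apply, id_eq]
          using this
    rw [hzero, zero_add]

/-- Natural-number form: the total weight is congruent mod 2 to the weight of the fixed points. -/
theorem sum_nat_modEq_sum_fixed {X : Type*} [Fintype X] [DecidableEq X] (e : ℕ) (σ : X → X)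
    (hσ : σ^[2 ^ e] = id) (f : X → ℕ) (hf : ∀ x, f (σ x) = f x) :
    ∑ x, f x ≡ ∑ x ∈ Finset.univ.filter (fun x => σ x = x), f x [MOD 2] := by
  rw [← ZMod.natCast_eq_natCast_iff]
  push_cast
  exact sum_zmod_two_eq_sum_fixed e σ hσ (fun x => (f x : ZMod 2)) (fun x => by rw [hf])

section Burnside

variable {G : Type*} [Group G] [Finite G] (N : Subgroup G) [N.Normal]

/-- Burnside for quotients: a real-valued irreducible character with a normal subgroup of odd
index in its kernel is trivial. -/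
theorem irr_eq_one_of_real_of_odd_index (hidx : Odd N.index) (β : IrrCharacter G)
    (hker : ∀ n ∈ N, (β : G → ℂ) n = (β : G → ℂ) 1)
    (hreal : ∀ g : G, conj ((β : G → ℂ) g) = (β : G → ℂ) g) (g : G) : (β : G → ℂ) g = 1 := by
  have hodd : Odd (Nat.card (G ⧸ N)) := by
    rw [← Subgroup.index_eq_card]
    exact hidx
  set β' := Cfsg.Agent.Lib.Helper77.deflate N β hker with hβ'
  have h1 : ∀ q : G ⧸ N, ((β' : G ⧸ N → ℂ) q).im = 0 := by
    intro q
    obtain ⟨x, rfl⟩ := QuotientGroup.mk_surjective q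
    rw [Cfsg.Agent.Lib.Helper77.deflate_mk]
    exact Complex.conj_eq_iff_im.mp (hreal x)
  have h2 := Cfsg.Agent.S0161.result hodd β' h1
  have h3 := Cfsg.Agent.Lib.Helper77.deflate_mk N β hker g
  rw [← h3, ← hβ', h2]

end Burnside

section PowMem

variable {G : Type*} [Group G] [Finite G] (N : Subgroup G) [N.Normal]

/-- If `N` has odd index and `g ^ k = g⁻¹` on elements of odd order, then `g ^ (k+1) ∈ N`
for all `g`. -/
theorem pow_succ_mem_of_odd_index (hidx : Odd N.index) (k : ℕ)
    (hk₂ : ∀ g : G, Odd (orderOf g) → g ^ k = g⁻¹) (g : G) : g ^ (k + 1) ∈ N := by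
  have ho : orderOf g ≠ 0 := (orderOf_pos g).ne'
  obtain ⟨a, m, hm, ham⟩ := Nat.exists_eq_two_pow_mul_odd ho
  have h1 : orderOf (g ^ (2 ^ a)) = m := by
    rw [orderOf_pow_of_dvd (by positivity) (Dvd.intro _ ham.symm), ham,
      Nat.mul_div_cancel_left _ (by positivity)]
  have h2 := hk₂ (g ^ (2 ^ a)) (by rw [h1]; exact hm)
  have h3 : (g ^ (k + 1)) ^ (2 ^ a) = 1 := by
    rw [← pow_mul, mul_comm, pow_mul, pow_succ, h2, inv_mul_cancel]
  -- image in the quotient
  have h4 : ((g ^ (k + 1) : G) : G ⧸ N) ^ (2 ^ a) = 1 := by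
    rw [← QuotientGroup.mk_pow, h3, QuotientGroup.mk_one]
  have h5 : orderOf ((g ^ (k + 1) : G) : G ⧸ N) ∣ 2 ^ a := orderOf_dvd_of_pow_eq_one h4
  have h6 : orderOf ((g ^ (k + 1) : G) : G ⧸ N) ∣ N.index := by
    rw [Subgroup.index_eq_card]
    exact orderOf_dvd_natCard _
  have hcop : Nat.Coprime (2 ^ a) N.index := by
    apply Nat.Coprime.pow_left
    exact Nat.coprime_two_left.mpr hidx
  have h7 : orderOf ((g ^ (k + 1) : G) : G ⧸ N) = 1 :=
    Nat.eq_one_of_dvd_coprimes hcop h5 h6
  rw [orderOf_eq_one_iff] at h7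
  exact (QuotientGroup.eq_one_iff _).mp h7

/-- Under the hypotheses, a character with `N` in its kernel satisfies `β (g ^ k) = β g⁻¹`. -/
theorem char_pow_eq_inv_of_ker (hidx : Odd N.index) (k : ℕ)
    (hk₂ : ∀ g : G, Odd (orderOf g) → g ^ k = g⁻¹) {β : G → ℂ} (hβ : IsCharacter G β)
    (hker : ∀ n ∈ N, β n = β 1) (g : G) : β (g ^ k) = β g⁻¹ := by
  have h1 : g ^ k = g ^ (k + 1) * g⁻¹ := by
    rw [pow_succ, mul_inv_cancel_right]
  rw [h1]
  apply Cfsg.Agent.Lib.Helper80.char_mul_of_mem_charKer hβ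
  rw [Cfsg.Agent.Lib.Helper80.mem_charKer]
  exact hker _ (pow_succ_mem_of_odd_index N hidx k hk₂ g)

end PowMem

section Bar

variable {G : Type*} [Group G]

/-- The complex conjugate of an irreducible character. -/
noncomputable def barIrr (β : IrrCharacter G) : IrrCharacter G :=
  ⟨fun g => conj ((β : G → ℂ) g), Cfsg.Agent.Lib.Helper81.isIrrCharacter_conj β.2⟩

theorem barIrr_apply (β : IrrCharacter G) (g : G) :
    (barIrr β : G → ℂ) g = conj ((β : G → ℂ) g) := rfl

theorem barIrr_barIrr (β : IrrCharacter G) : barIrr (barIrr β) = β := by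
  apply Subtype.ext
  funext g
  rw [barIrr_apply, barIrr_apply, Complex.conj_conj]

theorem barIrr_iterate_two : (barIrr (G := G))^[2 ^ 1] = id := by
  funext β
  simp only [pow_one, Function.iterate_succ, Function.iterate_zero, Function.comp_apply, id_eq]
  exact barIrr_barIrr β

theorem classInner_conj_conj {H : Type*} [Group H] [Fintype H] (f g : H → ℂ) :
    classInner (fun h => conj (f h)) (fun h => conj (g h)) = conj (classInner f g) := by
  simp only [classInner, map_mul, map_sum, map_inv₀, Complex.conj_natCast]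

/-- The power-map twist of an irreducible character. -/
noncomputable def powIrr [Finite G] (k : ℕ) (hk : k.Coprime (Nat.card G)) (β : IrrCharacter G) :
    IrrCharacter G :=
  ⟨fun g => (β : G → ℂ) (g ^ k), isIrrCharacter_pow β.2 k hk⟩

theorem powIrr_apply [Finite G] (k : ℕ) (hk : k.Coprime (Nat.card G)) (β : IrrCharacter G)
    (g : G) : (powIrr k hk β : G → ℂ) g = (β : G → ℂ) (g ^ k) := rfl

theorem powIrr_iterate_apply [Finite G] (k : ℕ) (hk : k.Coprime (Nat.card G)) (j : ℕ)
    (β : IrrCharacter G) (g : G) :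
    (((powIrr k hk)^[j] β : IrrCharacter G) : G → ℂ) g = (β : G → ℂ) (g ^ (k ^ j)) := by
  induction j generalizing β with
  | zero => simp
  | succ j ih =>
    rw [Function.iterate_succ_apply, ih, powIrr_apply, ← pow_mul, ← pow_succ]

theorem powIrr_iterate_eq_id [Finite G] (k : ℕ) (hk : k.Coprime (Nat.card G)) (e : ℕ)
    (hke : k ^ (2 ^ e) ≡ 1 [MOD Nat.card G]) : (powIrr (G := G) k hk)^[2 ^ e] = id := by
  funext β
  apply Subtype.ext
  funext g
  rw [powIrr_iterate_apply, id_eq]
  have h1 : g ^ (k ^ (2 ^ e)) = g ^ 1 := by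
    rw [pow_eq_pow_iff_modEq]
    exact hke.of_dvd (orderOf_dvd_natCard g)
  rw [h1, pow_one]

end Bar

section T1

variable {G : Type*} [Group G] [Fintype G] (N : Subgroup G) [hN : N.Normal] [Fintype N]

/-- `r(β̄) = r(β)` for the multiplicity of the principal character of `N`. -/
theorem resMult_barIrr (β : IrrCharacter G) (θ : IrrCharacter N) :
    resMult N (barIrr β) (barIrr θ) = resMult N β θ := by
  have h1 := resMult_spec N (barIrr β) (barIrr θ)
  have h2 : classInner (fun n : N => (barIrr β : G → ℂ) n) (barIrr θ : N → ℂ) =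
      conj (classInner (fun n : N => (β : G → ℂ) n) (θ : N → ℂ)) :=
    classInner_conj_conj (fun n : N => (β : G → ℂ) n) (θ : N → ℂ)
  rw [h2, resMult_spec, Complex.conj_natCast] at h1
  exact_mod_cast h1.symm

theorem barIrr_oneIrr {H : Type*} [Group H] : barIrr (oneIrr H) = oneIrr H := by
  apply Subtype.ext
  funext g
  rw [barIrr_apply, oneIrr_apply, map_one]

/-- **Parity of the restriction to an odd-index normal subgroup.**  For a character `α` of `G`
invariant under `g ↦ g ^ k`, the multiplicity of `1_N` in `α|_N` and of `1_G` in `α` have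
the same parity. -/
theorem parity_res_one (hidx : Odd N.index) (k : ℕ) (hk : k.Coprime (Nat.card G))
    (hk₂ : ∀ g : G, Odd (orderOf g) → g ^ k = g⁻¹) {α : G → ℂ} (hα : IsCharacter G α)
    (hαk : ∀ g, α (g ^ k) = α g) (a b : ℕ)
    (ha : classInner (fun n : N => α n) (fun _ => (1 : ℂ)) = a)
    (hb : classInner α (fun _ => (1 : ℂ)) = b) : a ≡ b [MOD 2] := by
  classical
  -- multiplicities
  have hA : ∀ β : IrrCharacter G, ∃ m : ℕ, classInner α (β : G → ℂ) = m := fun β =>
    Cfsg.Agent.Lib.Helper78.IsCharacter.exists_nat_classInner hα β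
  choose A hAspec using hA
  set r : IrrCharacter G → ℕ := fun β => resMult N β (oneIrr N) with hr
  have hrspec : ∀ β : IrrCharacter G,
      classInner (fun n : N => (β : G → ℂ) n) (fun _ => (1 : ℂ)) = (r β : ℂ) := fun β =>
    resMult_spec N β (oneIrr N)
  -- expansion of `a`
  have hexp : (fun n : N => α n) =
      ∑ β : IrrCharacter G, (A β : ℂ) • (fun n : N => (β : G → ℂ) n) := by
    funext n
    have := congrFun (Cfsg.Agent.Lib.Helper78.IsCharacter.eq_sum_irr hα) (n : G)
    rw [Finset.sum_apply] at this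
    rw [Finset.sum_apply, this]
    refine Finset.sum_congr rfl fun β _ => ?_
    rw [Pi.smul_apply, Pi.smul_apply, hAspec]
  have ha' : a = ∑ β : IrrCharacter G, A β * r β := by
    have : (a : ℂ) = ((∑ β : IrrCharacter G, A β * r β : ℕ) : ℂ) := by
      rw [← ha, hexp, Cfsg.Agent.Lib.Helper78.classInner_sum_left]
      push_cast
      refine Finset.sum_congr rfl fun β _ => ?_
      rw [Cfsg.Agent.Lib.Helper78.classInner_smul_left, hrspec]
    exact_mod_cast this
  -- kernel
  have hker : ∀ β : IrrCharacter G, r β ≠ 0 → ∀ n ∈ N, (β : G → ℂ) n = (β : G → ℂ) 1 := by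
    intro β hβ n hn
    have h1 : classInner (fun n : N => (β : G → ℂ) n)
        (Cfsg.Agent.Lib.Helper16.oneIrr N : N → ℂ) ≠ 0 := by
      have := (resMult_ne_zero_iff N β (oneIrr N)).mp hβ
      exact this
    exact Cfsg.Agent.Lib.Helper16.eq_apply_one_of_classInner_res_oneIrr_ne_zero N β h1 ⟨n, hn⟩
  -- invariance
  have hrbar : ∀ β, r (barIrr β) = r β := by
    intro β
    have := resMult_barIrr N β (oneIrr N)
    rw [barIrr_oneIrr] at this
    exact this
  have hAbar : ∀ β, r β ≠ 0 → A (barIrr β) = A β := by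
    intro β hβ
    have hβc : IsCharacter G (β : G → ℂ) := Cfsg.Agent.Lib.Helper78.IsIrrCharacter.isCharacter β.2
    have h1 : ∀ g : G, (β : G → ℂ) (g ^ k) = conj ((β : G → ℂ) g) := by
      intro g
      rw [char_pow_eq_inv_of_ker N hidx k hk₂ hβc (hker β hβ) g,
        Cfsg.Agent.Lib.Helper78.IsCharacter.inv hβc]
    have h2 : classInner α (barIrr β : G → ℂ) = classInner α (β : G → ℂ) := by
      unfold classInner
      congr 1
      rw [← Equiv.sum_comp (powCoprime hk.symm)]
      refine Finset.sum_congr rfl fun g _ => ?_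
      rw [powCoprime_apply, hαk, barIrr_apply, Complex.conj_conj, h1]
    rw [hAspec, hAspec] at h2
    exact_mod_cast h2
  have hf : ∀ β, A (barIrr β) * r (barIrr β) = A β * r β := by
    intro β
    by_cases hβ : r β = 0
    · rw [hrbar, hβ, mul_zero, mul_zero]
    · rw [hrbar, hAbar β hβ]
  have hmod := sum_nat_modEq_sum_fixed 1 (barIrr (G := G)) barIrr_iterate_two
    (fun β => A β * r β) hf
  rw [← ha'] at hmod
  -- the fixed points
  have hfix : ∑ β ∈ Finset.univ.filter (fun β : IrrCharacter G => barIrr β = β), A β * r β = b := by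
    have hone : oneIrr G ∈ Finset.univ.filter (fun β : IrrCharacter G => barIrr β = β) := by
      rw [Finset.mem_filter]
      exact ⟨Finset.mem_univ _, barIrr_oneIrr⟩
    rw [Finset.sum_eq_single_of_mem (oneIrr G) hone]
    · have hA1 : A (oneIrr G) = b := by
        have := hAspec (oneIrr G)
        have h2 : classInner α (oneIrr G : G → ℂ) = b := hb
        rw [h2] at this
        exact_mod_cast this.symm
      have hr1 : r (oneIrr G) = 1 := by
        have := hrspec (oneIrr G)
        have h2 : classInner (fun n : N => (oneIrr G : G → ℂ) n) (fun _ => (1 : ℂ)) = 1 :=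
          Cfsg.Agent.Lib.Helper78.classInner_irr_self (oneIrr N).2
        rw [h2] at this
        exact_mod_cast this.symm
      rw [hA1, hr1, mul_one]
    · intro β hβ hne
      rw [Finset.mem_filter] at hβ
      by_contra hcon
      have hrβ : r β ≠ 0 := fun h => hcon (by rw [h, mul_zero])
      apply hne
      apply Subtype.ext
      funext g
      rw [oneIrr_apply]
      apply irr_eq_one_of_real_of_odd_index N hidx β (hker β hrβ)
      intro g
      have := congrArg (fun χ : IrrCharacter G => (χ : G → ℂ) g) hβ.2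
      exact this
  rw [hfix] at hmod
  exact hmod

end T1


section U

variable {G : Type*} [Group G] [Fintype G] (N : Subgroup G) [hN : N.Normal] [Fintype N]

/-- Inner product of restrictions of two characters over `θ`, via Clifford. -/
theorem classInner_res_res (χ₁ χ₂ : IrrCharacter G) (θ : IrrCharacter N)
    (h₂ : classInner (fun n : N => (χ₂ : G → ℂ) n) (θ : N → ℂ) ≠ 0) :
    classInner (fun n : N => (χ₁ : G → ℂ) n) (fun n : N => (χ₂ : G → ℂ) n) =
      ((resMult N χ₁ θ * resMult N χ₂ θ * (conjOrbit N (θ : N → ℂ)).card : ℕ) : ℂ) := by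
  have hcl := clifford_finset N χ₂.2 θ.2 h₂
  have h1 : ∀ φ ∈ conjOrbit N (θ : N → ℂ),
      classInner (fun n : N => (χ₁ : G → ℂ) n) (φ : N → ℂ) = (resMult N χ₁ θ : ℂ) := by
    intro φ hφ
    obtain ⟨g, hg⟩ := (mem_conjOrbit N).mp hφ
    rw [← hg, classInner_res_conjFun N (Cfsg.Agent.Lib.Helper78.isClassFunction_irr χ₁) g,
      resMult_spec]
  conv_lhs => rw [hcl]
  rw [Cfsg.Agent.Lib.Helper80.classInner_smul_right, Cfsg.Agent.Lib.Helper80.classInner_sum_right,
    Finset.sum_congr rfl h1, Finset.sum_const, resMult_spec, Complex.conj_natCast, nsmul_eq_mul]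
  push_cast
  ring

/-- Degree over `θ`, via Clifford. -/
theorem charDegree_eq_resMult_mul (χ : IrrCharacter G) (θ : IrrCharacter N)
    (h : classInner (fun n : N => (χ : G → ℂ) n) (θ : N → ℂ) ≠ 0) :
    charDegree (χ : G → ℂ) =
      resMult N χ θ * (conjOrbit N (θ : N → ℂ)).card * charDegree (θ : N → ℂ) := by
  have hcl := congrFun (clifford_finset N χ.2 θ.2 h) 1
  simp only [Pi.smul_apply, Finset.sum_apply, smul_eq_mul, Subgroup.coe_one] at hcl
  have h1 : ∀ φ ∈ conjOrbit N (θ : N → ℂ), (φ : N → ℂ) 1 = (charDegree (θ : N → ℂ) : ℂ) := by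
    intro φ hφ
    obtain ⟨g, hg⟩ := (mem_conjOrbit N).mp hφ
    rw [← hg, conjFun_apply, ← Cfsg.Agent.Lib.Helper79.irr_apply_one_eq_charDegree θ]
    have : (⟨g * ((1 : N) : G) * g⁻¹, hN.conj_mem _ (1 : N).2 g⟩ : N) = 1 := by
      apply Subtype.ext
      simp
    rw [this]
  rw [Finset.sum_congr rfl h1, Finset.sum_const, resMult_spec, nsmul_eq_mul,
    Cfsg.Agent.Lib.Helper79.irr_apply_one_eq_charDegree χ] at hcl
  exact_mod_cast (by rw [hcl]; push_cast; ring :
    ((charDegree (χ : G → ℂ) : ℕ) : ℂ) =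
      ((resMult N χ θ * (conjOrbit N (θ : N → ℂ)).card * charDegree (θ : N → ℂ) : ℕ) : ℂ))

/-- **Uniqueness of the fixed character over `θ`** for odd index. -/
theorem eq_of_pow_fixed_over (hidx : Odd N.index) (k : ℕ) (hk : k.Coprime (Nat.card G))
    (hk₂ : ∀ g : G, Odd (orderOf g) → g ^ k = g⁻¹) (θ : IrrCharacter N) (χ₁ χ₂ : IrrCharacter G)
    (h₁ : ∀ g : G, (χ₁ : G → ℂ) (g ^ k) = (χ₁ : G → ℂ) g)
    (h₂ : ∀ g : G, (χ₂ : G → ℂ) (g ^ k) = (χ₂ : G → ℂ) g)
    (ho₁ : classInner (fun n : N => (χ₁ : G → ℂ) n) (θ : N → ℂ) ≠ 0)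
    (ho₂ : classInner (fun n : N => (χ₂ : G → ℂ) n) (θ : N → ℂ) ≠ 0) : χ₁ = χ₂ := by
  by_contra hne
  set T := (conjOrbit N (θ : N → ℂ)).card with hT
  set e₁ := resMult N χ₁ θ with he₁
  set e₂ := resMult N χ₂ θ with he₂
  have key : ∀ (ψ₁ ψ₂ : IrrCharacter G), (∀ g : G, (ψ₁ : G → ℂ) (g ^ k) = (ψ₁ : G → ℂ) g) →
      (∀ g : G, (ψ₂ : G → ℂ) (g ^ k) = (ψ₂ : G → ℂ) g) →
      classInner (fun n : N => (ψ₂ : G → ℂ) n) (θ : N → ℂ) ≠ 0 →
      resMult N ψ₁ θ * resMult N ψ₂ θ * T ≡ (if ψ₁ = ψ₂ then 1 else 0) [MOD 2] := by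
    intro ψ₁ ψ₂ hψ₁ hψ₂ hover
    have hc₁ := Cfsg.Agent.Lib.Helper78.IsIrrCharacter.isCharacter ψ₁.2
    have hc₂ := Cfsg.Agent.Lib.Helper78.IsIrrCharacter.isCharacter ψ₂.2
    have hα : IsCharacter G ((ψ₁ : G → ℂ) * fun g => conj ((ψ₂ : G → ℂ) g)) :=
      Cfsg.Agent.Lib.Helper80.isCharacter_mul hc₁ (Cfsg.Agent.Lib.Helper81.isCharacter_conj hc₂)
    apply parity_res_one N hidx k hk hk₂ hα
    · intro g
      simp only [Pi.mul_apply]
      rw [hψ₁, hψ₂]
    · rw [← classInner_res_res N ψ₁ ψ₂ θ hover]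
      unfold classInner
      congr 1
      refine Finset.sum_congr rfl fun n _ => ?_
      simp only [Pi.mul_apply, map_one, mul_one]
    · have h3 : classInner ((ψ₁ : G → ℂ) * fun g => conj ((ψ₂ : G → ℂ) g)) (fun _ => (1 : ℂ)) =
          classInner (ψ₁ : G → ℂ) (ψ₂ : G → ℂ) := by
        unfold classInner
        congr 1
        refine Finset.sum_congr rfl fun n _ => ?_
        simp only [Pi.mul_apply, map_one, mul_one]
      rw [h3, Cfsg.Agent.Lib.Helper78.classInner_irr ψ₁.2 ψ₂.2]
      by_cases h : ψ₁ = ψ₂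
      · rw [if_pos h, if_pos (congrArg Subtype.val h)]
        simp
      · rw [if_neg h, if_neg (fun h' => h (Subtype.ext h'))]
        simp
  have k11 := key χ₁ χ₁ h₁ h₁ ho₁
  have k22 := key χ₂ χ₂ h₂ h₂ ho₂
  have k12 := key χ₁ χ₂ h₁ h₂ ho₂
  rw [if_pos rfl] at k11 k22
  rw [if_neg hne] at k12
  rw [← he₁] at k11 k12
  rw [← he₂] at k22 k12
  have o11 : Odd (e₁ * e₁ * T) := Nat.odd_iff.mpr k11
  have o22 : Odd (e₂ * e₂ * T) := Nat.odd_iff.mpr k22
  have e12 : Even (e₁ * e₂ * T) := Nat.even_iff.mpr k12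
  rw [Nat.odd_mul, Nat.odd_mul] at o11 o22
  have : Odd (e₁ * e₂ * T) := (o11.1.1.mul o22.1.1).mul o11.2
  exact (Nat.not_even_iff_odd.mpr this) e12

end U

section Twist

variable {G : Type*} [Group G]

/-- Membership in the principal block is invariant under twisting by a surjective self-map of `G`
that preserves centralizers. -/
theorem mem_principalBlock_twist_iff (M : Ideal AlgInt) (π : G → G) (hπ : Function.Surjective π)
    (hc : ∀ g : G, Subgroup.centralizer ({π g} : Set G) = Subgroup.centralizer ({g} : Set G))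
    (ψ ψ' : IrrCharacter G) (h : ∀ g : G, (ψ' : G → ℂ) g = (ψ : G → ℂ) (π g))
    (h1 : (ψ' : G → ℂ) 1 = (ψ : G → ℂ) 1) :
    ψ' ∈ principalBlock M G ↔ ψ ∈ principalBlock M G := by
  have key : ∀ g : G, centralChar (fun _ : G => (1 : ℂ)) g - centralChar (ψ' : G → ℂ) g =
      centralChar (fun _ : G => (1 : ℂ)) (π g) - centralChar (ψ : G → ℂ) (π g) := by
    intro g
    unfold centralChar
    rw [hc g, h g, h1]
  constructor
  · intro hmem g
    obtain ⟨x, rfl⟩ := hπ g
    rw [← key x]
    exact hmem x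
  · intro hmem g
    rw [key g]
    exact hmem (π g)

end Twist

section E

variable {G : Type*} [Group G] [Fintype G] (N : Subgroup G) [hN : N.Normal] [Fintype N]

theorem barIrr_mem_principalBlock_iff (M : Ideal AlgInt) (ψ : IrrCharacter G) :
    barIrr ψ ∈ principalBlock M G ↔ ψ ∈ principalBlock M G := by
  have hc := Cfsg.Agent.Lib.Helper78.IsIrrCharacter.isCharacter ψ.2
  apply mem_principalBlock_twist_iff M (fun g => g⁻¹) (fun g => ⟨g⁻¹, inv_inv g⟩)
    (fun g => centralizer_inv_eq g) ψ (barIrr ψ)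
  · intro g
    rw [barIrr_apply, Cfsg.Agent.Lib.Helper78.IsCharacter.inv hc]
  · rw [barIrr_apply]
    have := Cfsg.Agent.Lib.Helper78.IsCharacter.inv hc 1
    rw [inv_one] at this
    exact this.symm

theorem powIrr_mem_principalBlock_iff (M : Ideal AlgInt) (k : ℕ) (hk : k.Coprime (Nat.card G))
    (ψ : IrrCharacter G) :
    powIrr k hk ψ ∈ principalBlock M G ↔ ψ ∈ principalBlock M G := by
  apply mem_principalBlock_twist_iff M (fun g => g ^ k) (powCoprime hk.symm).surjective
    (fun g => Cfsg.Agent.Lib.Helper76.centralizer_pow_eq_of_coprime g k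
      (hk.coprime_dvd_right (orderOf_dvd_natCard g))) ψ (powIrr k hk ψ)
  · intro g
    rfl
  · rw [powIrr_apply, one_pow]

theorem charDegree_barIrr (ψ : IrrCharacter G) :
    charDegree (barIrr ψ : G → ℂ) = charDegree (ψ : G → ℂ) := by
  have h1 := Cfsg.Agent.Lib.Helper79.irr_apply_one_eq_charDegree (barIrr ψ)
  rw [barIrr_apply, Cfsg.Agent.Lib.Helper79.irr_apply_one_eq_charDegree ψ,
    Complex.conj_natCast] at h1
  exact_mod_cast h1.symm

theorem resMult_powIrr (k : ℕ) (hk : k.Coprime (Nat.card G)) (ψ : IrrCharacter G)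
    (θ : IrrCharacter N) (hθ : ∀ n : N, (θ : N → ℂ) (n ^ k) = (θ : N → ℂ) n) :
    resMult N (powIrr k hk ψ) θ = resMult N ψ θ := by
  have hkN : (Nat.card N).Coprime k :=
    (hk.coprime_dvd_right (Subgroup.card_subgroup_dvd_card N)).symm
  have h1 : classInner (fun n : N => (powIrr k hk ψ : G → ℂ) n) (θ : N → ℂ) =
      classInner (fun n : N => (ψ : G → ℂ) n) (θ : N → ℂ) := by
    unfold classInner
    congr 1
    rw [← Equiv.sum_comp (powCoprime hkN) (fun n : N => (ψ : G → ℂ) n * conj ((θ : N → ℂ) n))]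
    refine Finset.sum_congr rfl fun n _ => ?_
    rw [powCoprime_apply, hθ]
    show (powIrr k hk ψ : G → ℂ) (n : G) * _ = _
    rw [powIrr_apply]
    push_cast
    rfl
  rw [resMult_spec, resMult_spec] at h1
  exact_mod_cast h1

open scoped Classical in
/-- Pairing the coefficients of the sum of block idempotents of `G`, restricted to `N`, against a
function on `N`. -/
theorem sum_blockCoeff_res_mul (B : Set (IrrCharacter G)) (ψ : N → ℂ) :
    ∑ n : N, blockCoeff B (n : G) * ψ n = (Nat.card N : ℂ) / (Nat.card G : ℂ) *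
      ∑ χ ∈ Finset.univ.filter (fun χ : IrrCharacter G => χ ∈ B),
        (χ : G → ℂ) 1 * classInner ψ (fun n : N => (χ : G → ℂ) n) := by
  have hN0 : (Nat.card N : ℂ) ≠ 0 := by exact_mod_cast Nat.card_pos.ne'
  simp only [Cfsg.Agent.Lib.Helper16.blockCoeff_eq_sum, Finset.mul_sum, Finset.sum_mul]
  rw [Finset.sum_comm]
  refine Finset.sum_congr rfl fun χ _ => ?_
  unfold classInner
  rw [Finset.mul_sum, Finset.mul_sum, Finset.mul_sum]
  refine Finset.sum_congr rfl fun n _ => ?_
  field_simp

open Cfsg.Agent.Lib.Helper16 in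
/-- **Existence of a fixed character in the principal block over a fixed `θ ∈ B₀(N)`**, for a
normal subgroup of odd index and the prime `2`. -/
theorem exists_pow_fixed_principal_over {M : Ideal AlgInt} (hM : IsPModular 2 M)
    (hidx : Odd N.index) (k e : ℕ) (hk : k.Coprime (Nat.card G))
    (hke : k ^ (2 ^ e) ≡ 1 [MOD Nat.card G])
    (θ : IrrCharacter N) (hθB : θ ∈ principalBlock M N)
    (hθ : ∀ n : N, (θ : N → ℂ) (n ^ k) = (θ : N → ℂ) n) :
    ∃ χ ∈ principalBlock M G, (∀ g : G, (χ : G → ℂ) (g ^ k) = (χ : G → ℂ) g) ∧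
      classInner (fun n : N => (χ : G → ℂ) n) (θ : N → ℂ) ≠ 0 := by
  classical
  haveI hMp : M.IsPrime := isPModular_isPrime hM
  by_contra hcon
  push Not at hcon
  set B := principalBlock M G with hB
  set T := (conjOrbit N (θ : N → ℂ)).card with hT
  set F : IrrCharacter G → ℕ := fun χ =>
    if χ ∈ B then resMult N χ θ * resMult N χ θ else 0 with hF
  set f₁ : IrrCharacter G → ℕ := fun χ =>
    if χ ∈ B then charDegree (χ : G → ℂ) * resMult N χ (oneIrr N) else 0 with hf₁
  -- Step 1: `∑ F` is even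
  have hFeven : ∑ χ, F χ ≡ 0 [MOD 2] := by
    have hinv : ∀ χ, F (powIrr k hk χ) = F χ := by
      intro χ
      simp only [hF]
      rw [resMult_powIrr N k hk χ θ hθ]
      by_cases hmem : χ ∈ B
      · rw [if_pos hmem, if_pos ((powIrr_mem_principalBlock_iff M k hk χ).mpr hmem)]
      · rw [if_neg hmem, if_neg (fun h => hmem ((powIrr_mem_principalBlock_iff M k hk χ).mp h))]
    have hmod := sum_nat_modEq_sum_fixed e (powIrr (G := G) k hk)
      (powIrr_iterate_eq_id k hk e hke) F hinv
    have hz : ∑ χ ∈ Finset.univ.filter (fun χ => powIrr k hk χ = χ), F χ = 0 := by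
      apply Finset.sum_eq_zero
      intro χ hχ
      rw [Finset.mem_filter] at hχ
      simp only [hF]
      split_ifs with hmem
      · have hfix : ∀ g : G, (χ : G → ℂ) (g ^ k) = (χ : G → ℂ) g := fun g => by
          have := congrArg (fun ψ : IrrCharacter G => (ψ : G → ℂ) g) hχ.2
          exact this
        have h0 := hcon χ hmem hfix
        have : resMult N χ θ = 0 := by
          by_contra hne
          exact (resMult_ne_zero_iff N χ θ).mp hne h0
        rw [this, mul_zero]
      · rfl
    rw [hz] at hmod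
    exact hmod
  -- Step 2: `∑ f₁` is odd
  have hf₁odd : ∑ χ, f₁ χ ≡ 1 [MOD 2] := by
    have hinv : ∀ χ, f₁ (barIrr χ) = f₁ χ := by
      intro χ
      simp only [hf₁]
      have hr := resMult_barIrr N χ (oneIrr N)
      rw [barIrr_oneIrr] at hr
      rw [hr, charDegree_barIrr]
      by_cases hmem : χ ∈ B
      · rw [if_pos hmem, if_pos ((barIrr_mem_principalBlock_iff M χ).mpr hmem)]
      · rw [if_neg hmem, if_neg (fun h => hmem ((barIrr_mem_principalBlock_iff M χ).mp h))]
    have hmod := sum_nat_modEq_sum_fixed 1 (barIrr (G := G)) barIrr_iterate_two f₁ hinv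
    have hone : oneIrr G ∈ Finset.univ.filter (fun χ : IrrCharacter G => barIrr χ = χ) := by
      rw [Finset.mem_filter]
      exact ⟨Finset.mem_univ _, barIrr_oneIrr⟩
    have hz : ∑ χ ∈ Finset.univ.filter (fun χ : IrrCharacter G => barIrr χ = χ), f₁ χ = 1 := by
      rw [Finset.sum_eq_single_of_mem (oneIrr G) hone]
      · simp only [hf₁]
        have hmem : oneIrr G ∈ B := self_mem_blockOf hMp.ne_top (oneIrr G)
        have hr1 : resMult N (oneIrr G) (oneIrr N) = 1 := by
          have := resMult_spec N (oneIrr G) (oneIrr N)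
          have h2 : classInner (fun n : N => (oneIrr G : G → ℂ) n) (oneIrr N : N → ℂ) = 1 :=
            Cfsg.Agent.Lib.Helper78.classInner_irr_self (oneIrr N).2
          rw [h2] at this
          exact_mod_cast this.symm
        rw [if_pos hmem, hr1, charDegree_oneIrr]
      · intro χ hχ hne
        rw [Finset.mem_filter] at hχ
        simp only [hf₁]
        split_ifs with hmem
        · by_contra hcon2
          have hrχ : resMult N χ (oneIrr N) ≠ 0 := fun h => hcon2 (by rw [h, mul_zero])
          have h1 : classInner (fun n : N => (χ : G → ℂ) n)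
              (Cfsg.Agent.Lib.Helper16.oneIrr N : N → ℂ) ≠ 0 :=
            (resMult_ne_zero_iff N χ (oneIrr N)).mp hrχ
          have hker : ∀ n ∈ N, (χ : G → ℂ) n = (χ : G → ℂ) 1 := fun n hn =>
            Cfsg.Agent.Lib.Helper16.eq_apply_one_of_classInner_res_oneIrr_ne_zero N χ h1 ⟨n, hn⟩
          apply hne
          apply Subtype.ext
          funext g
          rw [oneIrr_apply]
          apply irr_eq_one_of_real_of_odd_index N hidx χ hker
          intro g
          have := congrArg (fun ψ : IrrCharacter G => (ψ : G → ℂ) g) hχ.2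
          exact this
        · rfl
    rw [hz] at hmod
    exact hmod
  -- Step 3: the block computation
  set E := blockIdem M (oneIrr G) with hEdef
  have hE : E ∈ centerOrder G M := blockIdem_mem _
  set Y := resAlgC N E with hYdef
  have hY : Y ∈ centerOrder N M := resAlgC_mem_centerOrder N hE
  have hcoef : ∀ n : N, (Y : MonoidAlgebra ℂ N).coeff n = blockCoeff B (n : G) := by
    intro n
    show (resAlg N (E : MonoidAlgebra ℂ G)).coeff n = _
    rw [coeff_resAlg, coeff_blockIdem]
    rfl
  have h2 := sameBlock_omegaHom_congr (χ := oneIrr N) (ψ := θ) hθB hY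
  have hdθ : ((charDegree (θ : N → ℂ) : ℕ) : ℂ) ≠ 0 := by
    exact_mod_cast (Cfsg.Agent.Lib.Helper79.irr_charDegree_pos θ).ne'
  have hω1 : omegaHom (oneIrr N) Y =
      (Nat.card N : ℂ) / (Nat.card G : ℂ) * ((∑ χ, f₁ χ : ℕ) : ℂ) := by
    rw [omegaHom_apply]
    unfold omega
    simp only [oneIrr_apply, div_one, hcoef]
    rw [sum_blockCoeff_res_mul N B (fun _ => (1 : ℂ))]
    congr 1
    simp only [hf₁]
    push_cast
    rw [← Finset.sum_filter]
    refine Finset.sum_congr rfl fun χ hχ => ?_
    rw [Finset.mem_filter] at hχ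
    rw [← Cfsg.Agent.Lib.Helper78.classInner_conj_symm]
    have := resMult_spec N χ (oneIrr N)
    rw [show ((oneIrr N : IrrCharacter N) : N → ℂ) = fun _ => (1 : ℂ) from rfl] at this
    rw [this, Complex.conj_natCast, Cfsg.Agent.Lib.Helper79.irr_apply_one_eq_charDegree χ]
  have hωθ : omegaHom θ Y =
      (Nat.card N : ℂ) / (Nat.card G : ℂ) * ((T * ∑ χ, F χ : ℕ) : ℂ) := by
    rw [omegaHom_apply]
    unfold omega
    simp only [hcoef]
    rw [sum_blockCoeff_res_mul N B (θ : N → ℂ),
      Cfsg.Agent.Lib.Helper79.irr_apply_one_eq_charDegree θ, mul_div_assoc]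
    congr 1
    rw [div_eq_iff hdθ]
    simp only [hF]
    push_cast
    rw [← Finset.sum_filter, Finset.mul_sum, Finset.sum_mul]
    refine Finset.sum_congr rfl fun χ hχ => ?_
    rw [Finset.mem_filter] at hχ
    rw [← Cfsg.Agent.Lib.Helper78.classInner_conj_symm, resMult_spec, Complex.conj_natCast,
      Cfsg.Agent.Lib.Helper79.irr_apply_one_eq_charDegree χ]
    by_cases hm : resMult N χ θ = 0
    · rw [hm]
      push_cast
      ring
    · have hover := (resMult_ne_zero_iff N χ θ).mp hm
      rw [charDegree_eq_resMult_mul N χ θ hover]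
      push_cast
      ring
  rw [hω1, hωθ] at h2
  -- multiply by the index
  have hidxmul : (N.index : ℂ) * ((Nat.card N : ℂ) / (Nat.card G : ℂ)) = 1 := by
    have hG0 : (Nat.card G : ℂ) ≠ 0 := by exact_mod_cast Nat.card_pos.ne'
    rw [← Subgroup.card_mul_index N]
    have hN0 : (Nat.card N : ℂ) ≠ 0 := by exact_mod_cast Nat.card_pos.ne'
    have hi0 : (N.index : ℂ) ≠ 0 := by
      exact_mod_cast (Nat.pos_of_ne_zero (fun h => by rw [h] at hidx; exact absurd hidx (by decide))).ne'
    push_cast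
    field_simp
  have h3 := memLocalIdeal_mul_left (memLocalRing_natCast hMp.ne_top N.index) h2
  obtain ⟨u, hu⟩ : ∃ u, ∑ χ, F χ = 2 * u := by
    have : 2 ∣ ∑ χ, F χ := (Nat.modEq_zero_iff_dvd).mp hFeven
    exact this
  obtain ⟨v, hv⟩ : ∃ v, ∑ χ, f₁ χ = 2 * v + 1 := by
    have : (∑ χ, f₁ χ) % 2 = 1 := hf₁odd
    exact ⟨(∑ χ, f₁ χ) / 2, by omega⟩
  rw [hu, hv] at h3
  have h2I : MemLocalIdeal M ((2 : ℕ) : ℂ) := memLocalIdeal_p hM
  have h4 : MemLocalIdeal M (((2 : ℕ) : ℂ) * ((T : ℂ) * (u : ℂ) - (v : ℂ))) :=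
    memLocalIdeal_mul_right h2I (memLocalRing_sub
      (memLocalRing_mul (memLocalRing_natCast hMp.ne_top T) (memLocalRing_natCast hMp.ne_top u))
      (memLocalRing_natCast hMp.ne_top v))
  have h5 := memLocalIdeal_add h3 h4
  have h6 : (N.index : ℂ) * ((Nat.card N : ℂ) / (Nat.card G : ℂ) * ((2 * v + 1 : ℕ) : ℂ) -
      (Nat.card N : ℂ) / (Nat.card G : ℂ) * ((T * (2 * u) : ℕ) : ℂ)) +
      ((2 : ℕ) : ℂ) * ((T : ℂ) * (u : ℂ) - (v : ℂ)) = 1 := by
    push_cast
    linear_combination ((2 * (v : ℂ) + 1) - (T : ℂ) * (2 * (u : ℂ))) * hidxmul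
  rw [h6] at h5
  exact one_not_memLocalIdeal h5

end E

end Cfsg.Agent.Lib.Helper75
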