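import Mathlib
import Cfsg.Agent.Lib.Helper82.ExtFirstMain
import Cfsg.Agent.Lib.Helper16.FirstMain
import Cfsg.Agent.Lib.Helper16.NormalDefect
import Cfsg.Agent.Lib.Helper77.KnorrEasy

set_option autoImplicit false
set_option linter.unusedSectionVars false

/-!
PROJECT BC, defect one, GENERAL blocks: the ROOT of a block of positive defect when `|G|_p = p`.

If a Sylow `p`-subgroup `P` of `G` has order `p` and the `p`-block `B` has positive defect, then
`P` is a defect group of `B`, and there are a block `b` of `C = C_G(P)` inducing `B` and a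
character `θ ∈ b` with `P` in its kernel: exactly the data of the frozen statement S4442.
-/

namespace Cfsg.Agent.Lib.Helper75.DefOneGen

open Cfsg MonoidAlgebra Cfsg.Agent.Lib.Helper16 Cfsg.Agent.Lib.Helper82

universe u

variable {G : Type u} [Group G] [Fintype G] {M : Ideal AlgInt}

/-- a block of positive defect has the Sylow subgroup of order `p` as a defect group -/
theorem isDefectGroup_sylow_of_pos {p : ℕ} [Fact p.Prime] (hM : IsPModular p M)
    (P : Sylow p G) (hP : Nat.card P = p) {B : Set (IrrCharacter G)} (hB : IsPBlock M B)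
    (hd : 0 < blockDefect p B) : IsDefectGroup p M B (P : Subgroup G) := by
  classical
  have hp : p.Prime := Fact.out
  have hMp := isPModular_isPrime hM
  obtain ⟨D, hD⟩ := exists_isDefectGroup p hB
  have hcard := Cfsg.Agent.Lib.Helper78.card_defectGroup hM hB hD
  have hDp : IsPGroup p D := isPGroup_of_isDefectGroup hD
  obtain ⟨Q, hDQ⟩ := hDp.exists_le_sylow
  obtain ⟨g, hg⟩ := MulAction.exists_smul_eq G Q P
  have hQcard : Nat.card (Q : Subgroup G) = p := by
    have h1 : Nat.card (Q : Subgroup G) = Nat.card (P : Subgroup G) := by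
      rw [Sylow.card_eq_multiplicity, Sylow.card_eq_multiplicity]
    rw [h1]; exact hP
  have hDQ' : D = (Q : Subgroup G) := by
    apply Subgroup.eq_of_le_of_card_ge hDQ
    rw [hQcard, hcard]
    calc p = p ^ 1 := (pow_one p).symm
      _ ≤ p ^ blockDefect p B := Nat.pow_le_pow_right hp.pos hd
  have h2 := Cfsg.Agent.Lib.Helper77.isDefectGroup_map_conj hD g
  have h3 : D.map (MulAut.conj g).toMonoidHom = (P : Subgroup G) := by
    rw [hDQ', ← hg, Sylow.coe_subgroup_smul, Subgroup.pointwise_smul_def]
    rfl
  rw [h3] at h2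
  exact h2

/-- **ROOT**: the data of the frozen statement S4442 exist for every block of positive defect. -/
theorem exists_root {p : ℕ} [Fact p.Prime] (hM : IsPModular p M)
    (P : Sylow p G) (hP : Nat.card P = p) {B : Set (IrrCharacter G)} (hB : IsPBlock M B)
    (hd : 0 < blockDefect p B) :
    IsDefectGroup p M B (P : Subgroup G) ∧
    ∃ (b : Set (IrrCharacter (Subgroup.centralizer ((P : Subgroup G) : Set G))))
      (θ : IrrCharacter (Subgroup.centralizer ((P : Subgroup G) : Set G))),
      IsInducedBlock M (Subgroup.centralizer ((P : Subgroup G) : Set G)) b B ∧ θ ∈ b ∧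
      ∀ x : Subgroup.centralizer ((P : Subgroup G) : Set G), (x : G) ∈ (P : Subgroup G) →
        (θ : Subgroup.centralizer ((P : Subgroup G) : Set G) → ℂ) x =
          (θ : Subgroup.centralizer ((P : Subgroup G) : Set G) → ℂ) 1 := by
  classical
  have hMp := isPModular_isPrime hM
  have hDG := isDefectGroup_sylow_of_pos hM P hP hB hd
  refine ⟨hDG, ?_⟩
  have hPp : IsPGroup p (P : Subgroup G) := P.isPGroup'
  have hCN : Subgroup.centralizer ((P : Subgroup G) : Set G) ≤
      Subgroup.normalizer ((P : Subgroup G) : Set G) := Subgroup.centralizer_le_normalizer _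
  have hPC : (P : Subgroup G) ≤ Subgroup.centralizer ((P : Subgroup G) : Set G) := by
    have hcyc : IsCyclic (P : Subgroup G) := isCyclic_of_prime_card (p := p) hP
    intro x hx
    rw [Subgroup.mem_centralizer_iff]
    intro y hy
    have hcomm := isMulCommutative_iff.mp hcyc.isMulCommutative
    have := hcomm (⟨y, hy⟩ : (P : Subgroup G)) ⟨x, hx⟩
    exact congrArg Subtype.val this
  have : Fintype ↥(Subgroup.normalizer ((P : Subgroup G) : Set G)) := Fintype.ofFinite _
  have : Fintype ↥(Subgroup.centralizer ((P : Subgroup G) : Set G)) := Fintype.ofFinite _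
  have : Fintype ↥((Subgroup.centralizer ((P : Subgroup G) : Set G)).subgroupOf
      (Subgroup.normalizer ((P : Subgroup G) : Set G))) := Fintype.ofFinite _
  -- the Brauer correspondent in the normalizer
  obtain ⟨bN, hbN, -, hindN⟩ := firstMain_exists_correspondent hM (P : Subgroup G) hPp B hB hDG
  obtain ⟨χN, hχN⟩ := IsPBlock_nonempty hMp.ne_top hbN
  obtain ⟨χ₀, hχ₀⟩ := IsPBlock_nonempty hMp.ne_top hB
  -- a constituent on the centralizer
  obtain ⟨θ₀, hθ₀⟩ := exists_constituent ((Subgroup.centralizer ((P : Subgroup G) : Set G)).subgroupOf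
      (Subgroup.normalizer ((P : Subgroup G) : Set G))) χN
  obtain ⟨θ', hθ'⟩ : ∃ θ' : IrrCharacter (Subgroup.centralizer ((P : Subgroup G) : Set G)),
      θ' = irrPull (Subgroup.subgroupOfEquivOfLe hCN).symm θ₀ := ⟨_, rfl⟩
  have hpull : irrPull (Subgroup.subgroupOfEquivOfLe hCN) θ' = θ₀ := by
    rw [hθ', irrPull_irrPull_symm]
  have hnorm : ((Subgroup.centralizer ((P : Subgroup G) : Set G)).subgroupOf
      (Subgroup.normalizer ((P : Subgroup G) : Set G))).Normal :=
    Subgroup.normal_subgroupOf_centralizer_normalizer _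
  have hBeq : B = blockOf M (χ₀ : G → ℂ) := IsPBlock_eq_blockOf hB hχ₀
  have hind : IsInducedBlock M (Subgroup.centralizer ((P : Subgroup G) : Set G))
      (blockOf M (θ' : Subgroup.centralizer ((P : Subgroup G) : Set G) → ℂ)) B := by
    rw [hBeq]
    apply isInducedBlock_of_brauerCentralChar hM (P : Subgroup G)
      (Subgroup.centralizer ((P : Subgroup G) : Set G)) hPp hPC hCN θ' χ₀
    intro g
    rw [← brauerCentralChar_over hCN le_rfl le_rfl θ' χN (by rw [hpull]; exact hθ₀) g]
    exact (Cfsg.Agent.S0918.result p M hM (P : Subgroup G)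
      (Subgroup.normalizer ((P : Subgroup G) : Set G)) hPp Subgroup.le_normalizer hCN le_rfl bN hbN
      B hB).mp hindN χN hχN χ₀ hχ₀ g
  -- a character of the block with `P` in its kernel
  have hPn : ((P : Subgroup G).subgroupOf
      (Subgroup.centralizer ((P : Subgroup G) : Set G))).Normal :=
    Subgroup.normal_subgroupOf_of_le_normalizer hCN
  have : Fintype ↥((P : Subgroup G).subgroupOf
      (Subgroup.centralizer ((P : Subgroup G) : Set G))) := Fintype.ofFinite _
  obtain ⟨θ, hθb, hθP⟩ := exists_mem_block_trivial_on_normal_pGroup hM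
    ((P : Subgroup G).subgroupOf (Subgroup.centralizer ((P : Subgroup G) : Set G)))
    hPp.comap_subtype (isPBlock_blockOf (M := M) θ')
  refine ⟨_, θ, hind, hθb, ?_⟩
  intro x hx
  exact hθP x (Subgroup.mem_subgroupOf.mpr hx)

end Cfsg.Agent.Lib.Helper75.DefOneGen
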