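import Mathlib
import Cfsg.Agent.Lib.Helper77.BlockRed2
import Cfsg.Agent.Lib.Helper77.DefOneSupp
import Cfsg.Agent.Lib.Helper16.BrauerHom

set_option autoImplicit false
set_option linter.unusedSectionVars false

/-!
PROJECT BC, defect one, GENERAL blocks: MODULE (EPS-B) (helper77's split, board #2625).

`P` a Sylow `p`-subgroup of order `p`, `C = C_G(P)`, `b` a block of `C` inducing the block `B` of
`G`.  With `e_B`, `e_b` the block idempotents over the local ring and `ε₀` the image of the
reduction of `e_b` in `F[G]` (extension by zero), the Brauer truncation of the reduction of `e_B`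
fixes `ε₀`: `brC C (bc F e_B) * ε₀ = ε₀`.
-/

namespace Cfsg.Agent.Lib.Helper75.DefOneGen

open Cfsg MonoidAlgebra Cfsg.Agent.Lib.Helper16 Cfsg.Agent.Lib.Helper77
  Cfsg.Agent.Lib.Helper77.GrpAlg Cfsg.Agent.Lib.Helper77.GrpRed Cfsg.Agent.Lib.Helper77.Modular
  Cfsg.Agent.Lib.Helper77.BlockDimC Cfsg.Agent.Lib.Helper77.BlockRed
  Cfsg.Agent.Lib.Helper77.DefOne

section Restr

variable {k : Type*} [CommRing k] {G : Type*} [Group G]

/-- restriction of an element of `k[G]` to a finite subgroup `H`, as an element of `k[H]` -/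
noncomputable def resSub (H : Subgroup G) [Finite H] (a : MonoidAlgebra k G) :
    MonoidAlgebra k H :=
  ofCoeff (Finsupp.equivFunOnFinite.symm fun h : H => a.coeff (h : G))

theorem coeff_resSub (H : Subgroup G) [Finite H] (a : MonoidAlgebra k G) (h : H) :
    (resSub H a).coeff h = a.coeff (h : G) := by
  simp [resSub]

theorem resSub_central (H : Subgroup G) [Finite H] {a : MonoidAlgebra k G}
    (ha : ∀ b, b * a = a * b) : ∀ b, b * resSub H a = resSub H a * b := by
  apply central_of_coeff_conj
  intro g h
  rw [coeff_resSub, coeff_resSub]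
  have := coeff_conj_of_central ha (g : G) (h : G)
  simpa using this

theorem bc_resSub (S : Type*) [CommRing S] [Algebra k S] (H : Subgroup G) [Finite H]
    (a : MonoidAlgebra k G) : bc S (resSub H a) = resSub H (bc S a) := by
  ext h
  rw [coeff_bc, coeff_resSub, coeff_resSub, coeff_bc]

end Restr

section Field

variable {F : Type*} [Field F] {G : Type*} [Group G] [Fintype G]

theorem coeff_mapDomain_subtype_mem (C : Subgroup G) (x : MonoidAlgebra F C) (c : C) :
    (mapDomainAlgHom F F C.subtype x).coeff (c : G) = x.coeff c := by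
  rw [mapDomainAlgHom_apply]
  simp only [coeff_mapDomain]
  exact Finsupp.mapDomain_apply Subtype.val_injective _ _

theorem coeff_mapDomain_subtype_not_mem (C : Subgroup G) (x : MonoidAlgebra F C) {g : G}
    (hg : g ∉ C) : (mapDomainAlgHom F F C.subtype x).coeff g = 0 := by
  rw [mapDomainAlgHom_apply]
  simp only [coeff_mapDomain]
  apply Finsupp.mapDomain_of_notMem_range
  rintro ⟨c, rfl⟩
  exact hg c.2

theorem mapDomain_subtype_injective (C : Subgroup G) :
    Function.Injective (mapDomainAlgHom F F C.subtype :
      MonoidAlgebra F C → MonoidAlgebra F G) := by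
  intro x y hxy
  ext c
  rw [← coeff_mapDomain_subtype_mem, ← coeff_mapDomain_subtype_mem, hxy]

/-- extension by zero of the restriction is the truncation -/
theorem mapDomain_resSub (C : Subgroup G) [Finite C] (a : MonoidAlgebra F G) :
    mapDomainAlgHom F F C.subtype (resSub C a) = brC C a := by
  classical
  ext g
  rw [coeff_brC]
  by_cases hg : g ∈ C
  · rw [if_pos hg]
    have := coeff_mapDomain_subtype_mem C (resSub C a) ⟨g, hg⟩
    rw [coeff_resSub] at this
    exact this
  · rw [if_neg hg]
    exact coeff_mapDomain_subtype_not_mem C _ hg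

end Field

/-- a ring-theoretic lemma: `ε` idempotent, `a` a central idempotent and `ε (a - 1)` nilpotent
force `a ε = ε` -/
theorem mul_eq_of_isNilpotent {A : Type*} [Ring A] {ε a : A} (hε : ε * ε = ε) (ha : a * a = a)
    (hc : ∀ b, b * a = a * b) (hn : IsNilpotent (ε * (a - 1))) : a * ε = ε := by
  have hεa : ε * a = a * ε := hc ε
  have hidem : IsIdempotentElem (-(ε * (a - 1))) := by
    unfold IsIdempotentElem
    have h1 : a * ε * (a * ε) = a * ε := by
      calc a * ε * (a * ε) = a * (ε * a) * ε := by noncomm_ring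
        _ = a * (a * ε) * ε := by rw [hεa]
        _ = (a * a) * (ε * ε) := by noncomm_ring
        _ = a * ε := by rw [ha, hε]
    have h2 : a * ε * ε = a * ε := by rw [mul_assoc, hε]
    have h3 : ε * (a * ε) = a * ε := by rw [← mul_assoc, hεa, mul_assoc, hε]
    have hx : ε * (a - 1) = a * ε - ε := by rw [mul_sub, mul_one, hεa]
    rw [hx]
    calc -(a * ε - ε) * -(a * ε - ε)
        = a * ε * (a * ε) - a * ε * ε - ε * (a * ε) + ε * ε := by noncomm_ring
      _ = -(a * ε - ε) := by rw [h1, h2, h3, hε]; abel
  have h0 := hidem.eq_zero_of_isNilpotent hn.neg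
  have hx : ε * (a - 1) = a * ε - ε := by rw [mul_sub, mul_one, hεa]
  rw [neg_eq_zero, hx, sub_eq_zero] at h0
  exact h0

section Main

variable {G : Type*} [Group G] [Fintype G]

open scoped Classical in
/-- the Brauer functional `brauerLam P C θ` at an element of `ℂ[G]`, for `C = C_G(P)` -/
theorem brauerLam_centralizer (P : Subgroup G) [Fintype (Subgroup.centralizer (P : Set G))]
    (θ : Subgroup.centralizer (P : Set G) → ℂ) (z : MonoidAlgebra ℂ G) :
    brauerLam P (Subgroup.centralizer (P : Set G)) θ z =
      (∑ c : Subgroup.centralizer (P : Set G), z.coeff (c : G) * θ c) / θ 1 := by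
  rw [brauerLam_apply]
  unfold omega
  congr 1
  refine Finset.sum_congr rfl fun c _ => ?_
  rw [coeff_brP, if_pos c.2]

/-- **MODULE (EPS-B).** -/
theorem EPS_B (p : ℕ) [Fact p.Prime] (M : Ideal AlgInt) (hM : IsPModular p M) [hMp : M.IsPrime]
    [CharP (ResF M) p] (P : Sylow p G) (hP : Nat.card P = p)
    [Fintype (Subgroup.centralizer ((P : Subgroup G) : Set G))]
    (b : Set (IrrCharacter (Subgroup.centralizer ((P : Subgroup G) : Set G))))
    (eRb : MonoidAlgebra (localSubring M) (Subgroup.centralizer ((P : Subgroup G) : Set G)))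
    (heRb : bc ℂ eRb = idemOf b)
    (B : Set (IrrCharacter G))
    (hind : IsInducedBlock M (Subgroup.centralizer ((P : Subgroup G) : Set G)) b B)
    (eR : MonoidAlgebra (localSubring M) G) (heR : bc ℂ eR = idemOf B) :
    brC (Subgroup.centralizer ((P : Subgroup G) : Set G)) (bc (ResF M) eR) *
        MonoidAlgebra.mapDomainAlgHom (ResF M) (ResF M)
          (Subgroup.centralizer ((P : Subgroup G) : Set G)).subtype (bc (ResF M) eRb) =
      MonoidAlgebra.mapDomainAlgHom (ResF M) (ResF M)
        (Subgroup.centralizer ((P : Subgroup G) : Set G)).subtype (bc (ResF M) eRb) := by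
  classical
  obtain ⟨hb, hB, -⟩ := id hind
  -- `e_B` over `R` is a central idempotent
  have heRc : ∀ x, x * eR = eR * x := by
    apply central_of_bc_central
    rw [heR]
    exact idemOf_central B
  have heRi : eR * eR = eR := by
    apply bc_injective ℂ (algebraMap_complex_injective (M := M))
    rw [map_mul, heR, idemOf_mul_self]
  have heRbi : eRb * eRb = eRb := by
    apply bc_injective ℂ (algebraMap_complex_injective (M := M))
    rw [map_mul, heRb, idemOf_mul_self]
  -- the restriction of `e_B` to `C`
  obtain ⟨aR, haR⟩ : ∃ aR : MonoidAlgebra (localSubring M)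
      (Subgroup.centralizer ((P : Subgroup G) : Set G)),
      aR = resSub (Subgroup.centralizer ((P : Subgroup G) : Set G)) eR := ⟨_, rfl⟩
  have haRc : ∀ x, x * aR = aR * x := by
    rw [haR]
    exact resSub_central _ heRc
  -- the characters
  obtain ⟨θ, hθ⟩ := IsPBlock_nonempty hMp.ne_top hb
  obtain ⟨χ, hχ⟩ := IsPBlock_nonempty hMp.ne_top hB
  obtain ⟨r, hr, hnil⟩ := nilpotent_of_lift hb heRb aR haRc hθ
  -- the group-theoretic facts
  have hPp : IsPGroup p (P : Subgroup G) := P.isPGroup'
  have hPC : (P : Subgroup G) ≤ Subgroup.centralizer ((P : Subgroup G) : Set G) := by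
    have hcyc : IsCyclic (P : Subgroup G) := isCyclic_of_prime_card (p := p) hP
    intro x hx
    rw [Subgroup.mem_centralizer_iff]
    intro y hy
    have hcomm := isMulCommutative_iff.mp hcyc.isMulCommutative
    have := hcomm (⟨y, hy⟩ : (P : Subgroup G)) ⟨x, hx⟩
    exact congrArg Subtype.val this
  have hCN : Subgroup.centralizer ((P : Subgroup G) : Set G) ≤
      Subgroup.normalizer ((P : Subgroup G) : Set G) := Subgroup.centralizer_le_normalizer _
  -- the scalar `r` is congruent to `1`
  have hr1 : (r : ℂ) = brauerLam (P : Subgroup G) (Subgroup.centralizer ((P : Subgroup G) : Set G))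
      (θ : Subgroup.centralizer ((P : Subgroup G) : Set G) → ℂ)
      ((idemC B : Subalgebra.center ℂ (MonoidAlgebra ℂ G)) : MonoidAlgebra ℂ G) := by
    rw [hr, brauerLam_centralizer]
    congr 1
    refine Finset.sum_congr rfl fun c _ => ?_
    congr 1
    rw [haR, coeff_resSub]
    show _ = (idemOf B).coeff (c : G)
    rw [← heR, coeff_bc]
    rfl
  have hcong := brauerLam_sub_omegaHom_of_isInducedBlock hM (P : Subgroup G)
    (Subgroup.centralizer ((P : Subgroup G) : Set G)) hPp hPC hCN hind hθ hχ
    (idemC_mem_centerOrder (M := M) hB)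
  rw [← hr1, omegaHom_idemC, if_pos hχ] at hcong
  have hrF : algebraMap (localSubring M) (ResF M) r = 1 := by
    have h0 : algebraMap (localSubring M) (ResF M) (r - 1) = 0 := by
      rw [algebraMap_resF_eq_zero, mem_localIdeal]
      exact hcong
    rw [map_sub, map_one, sub_eq_zero] at h0
    exact h0
  rw [hrF, map_one] at hnil
  -- `a'` is a central idempotent of `F[C]`
  have haFc : ∀ x, x * bc (ResF M) aR = bc (ResF M) aR * x :=
    bc_central_of_central (algebraMap_resF_surjective (M := M)) haRc
  have hmap : mapDomainAlgHom (ResF M) (ResF M)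
      (Subgroup.centralizer ((P : Subgroup G) : Set G)).subtype (bc (ResF M) aR) =
      brC (Subgroup.centralizer ((P : Subgroup G) : Set G)) (bc (ResF M) eR) := by
    rw [haR, bc_resSub, mapDomain_resSub]
  have heFc : ∀ x, x * bc (ResF M) eR = bc (ResF M) eR * x :=
    bc_central_of_central (algebraMap_resF_surjective (M := M)) heRc
  have hbrCi : brC (Subgroup.centralizer ((P : Subgroup G) : Set G)) (bc (ResF M) eR) *
      brC (Subgroup.centralizer ((P : Subgroup G) : Set G)) (bc (ResF M) eR) =
      brC (Subgroup.centralizer ((P : Subgroup G) : Set G)) (bc (ResF M) eR) := by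
    rw [← brC_mul (P : Subgroup G) hPp (pInv_of_central _ heFc) (pInv_of_central _ heFc),
      ← map_mul, heRi]
  have haFi : bc (ResF M) aR * bc (ResF M) aR = bc (ResF M) aR := by
    apply mapDomain_subtype_injective
    rw [map_mul, hmap, hbrCi]
  have hεi : bc (ResF M) eRb * bc (ResF M) eRb = bc (ResF M) eRb := by
    rw [← map_mul, heRbi]
  have hkey := mul_eq_of_isNilpotent hεi haFi haFc hnil
  rw [← hmap, ← map_mul, hkey]

end Main

end Cfsg.Agent.Lib.Helper75.DefOneGen
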