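import Mathlib
import Cfsg.Agent.Lib.Helper77.DefOneDefs
import Cfsg.Agent.Lib.Helper4.DefOneT5
import Cfsg.Agent.Lib.Helper80.DefOneGT4
import Cfsg.Agent.Lib.Helper77.GrpAlg
import Cfsg.Agent.Lib.Helper15.DefOneGT4

set_option autoImplicit false
set_option linter.unusedSectionVars false

/-!
PROJECT BC, defect one, GENERAL blocks: MODULE (GT5) (helper80's split, board #2450).

Let `P` be a Sylow `p`-subgroup of order `p`, `N = N_G(P)`, `C = C_G(P)`.  For a central element
`a` of `F[G]` let `brN P a = ∑_{n ∈ C} a_n n ∈ F[N]` be its Brauer truncation.  If an irreducible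
`F[G]`-module `V` admits a stable map `f : W → V` from a nonzero `F[N]`-module `W` on which `P`
acts trivially, and `brN P a` acts on `W` as the scalar `c`, then `a` acts on `V` as the scalar `c`.
-/

namespace Cfsg.Agent.Lib.Helper75.DefOneGen

open Cfsg.Agent.Lib.Helper77.DefOne Cfsg.Agent.Lib.Helper4.DefOneT5
  Cfsg.Agent.Lib.Helper80.DefOneGen

variable {F : Type*} [Field F] {G : Type*} [Group G] [Fintype G]
  {V : Type*} [AddCommGroup V] [Module F V] {p : ℕ} [Fact p.Prime] [CharP F p]

/-- the Brauer truncation of `a ∈ F[G]` to `C_G(P)`, as an element of `F[N_G(P)]` -/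
noncomputable def brN (P : Subgroup G) (a : MonoidAlgebra F G) :
    MonoidAlgebra F (Subgroup.normalizer (P : Set G)) := by
  classical
  exact ∑ n : Subgroup.normalizer (P : Set G),
    if (n : G) ∈ Subgroup.centralizer (P : Set G) then MonoidAlgebra.single n (a.coeff (n : G))
    else 0

open Classical in
theorem coeff_brN (P : Subgroup G) (a : MonoidAlgebra F G)
    (n : Subgroup.normalizer (P : Set G)) :
    (brN P a).coeff n =
      if (n : G) ∈ Subgroup.centralizer (P : Set G) then a.coeff (n : G) else 0 := by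
  have : ∀ m : Subgroup.normalizer (P : Set G),
      ((if (m : G) ∈ Subgroup.centralizer (P : Set G) then
          MonoidAlgebra.single m (a.coeff (m : G)) else 0 :
            MonoidAlgebra F (Subgroup.normalizer (P : Set G)))).coeff n
      = if m = n then
          (if (n : G) ∈ Subgroup.centralizer (P : Set G) then a.coeff (n : G) else 0) else 0 := by
    intro m
    by_cases hm : m = n
    · subst hm
      by_cases hD : (m : G) ∈ Subgroup.centralizer (P : Set G)
      · simp [hD]
      · simp [hD]
    · by_cases hD : (m : G) ∈ Subgroup.centralizer (P : Set G)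
      · simp [hD, hm]
      · simp [hD, hm]
  unfold brN
  rw [MonoidAlgebra.coeff_sum, Finsupp.finsetSum_apply]
  simp only [this]
  simp

/-- the Brauer truncation of a central element of `F[G]` is central in `F[N_G(P)]` -/
theorem brN_central (P : Subgroup G) {a : MonoidAlgebra F G} (ha : ∀ b, b * a = a * b) :
    ∀ b, b * brN P a = brN P a * b := by
  classical
  apply Cfsg.Agent.Lib.Helper77.GrpAlg.central_of_coeff_conj
  intro g h
  rw [coeff_brN, coeff_brN]
  have hnorm := Subgroup.normal_subgroupOf_centralizer_normalizer (P : Set G)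
  have hiff : ((h * g * h⁻¹ : Subgroup.normalizer (P : Set G)) : G) ∈
      Subgroup.centralizer (P : Set G) ↔ (g : G) ∈ Subgroup.centralizer (P : Set G) := by
    constructor
    · intro hh
      have h1 : h * g * h⁻¹ ∈ (Subgroup.centralizer (P : Set G)).subgroupOf
          (Subgroup.normalizer (P : Set G)) := Subgroup.mem_subgroupOf.mpr hh
      have h2 := hnorm.conj_mem _ h1 h⁻¹
      have h3 : h⁻¹ * (h * g * h⁻¹) * h⁻¹⁻¹ = g := by group
      rw [h3] at h2
      exact Subgroup.mem_subgroupOf.mp h2
    · intro hh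
      have h1 : g ∈ (Subgroup.centralizer (P : Set G)).subgroupOf
          (Subgroup.normalizer (P : Set G)) := Subgroup.mem_subgroupOf.mpr hh
      exact Subgroup.mem_subgroupOf.mp (hnorm.conj_mem _ h1 h)
  by_cases hg : (g : G) ∈ Subgroup.centralizer (P : Set G)
  · rw [if_pos hg, if_pos (hiff.mpr hg)]
    have := Cfsg.Agent.Lib.Helper77.GrpAlg.coeff_conj_of_central ha (g : G) (h : G)
    simpa using this
  · rw [if_neg hg, if_neg (fun hh => hg (hiff.mp hh))]

open Classical in
theorem asAlgebraHom_brN_apply {W : Type*} [AddCommGroup W] [Module F W] (P : Subgroup G)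
    (ρW : Representation F (Subgroup.normalizer (P : Set G)) W) (a : MonoidAlgebra F G) (w : W) :
    ρW.asAlgebraHom (brN P a) w =
      ∑ n : Subgroup.normalizer (P : Set G),
        if (n : G) ∈ Subgroup.centralizer (P : Set G) then a.coeff (n : G) • ρW n w else 0 := by
  unfold brN
  rw [map_sum, LinearMap.sum_apply]
  refine Finset.sum_congr rfl fun n _ => ?_
  split_ifs with h
  · rw [Representation.asAlgebraHom_single]
    rfl
  · simp

/-- **MODULE (GT5).** -/
theorem GT5 [IsAlgClosed F] [FiniteDimensional F V] (P : Sylow p G) (hP : Nat.card P = p)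
    (ρ : Representation F G V) [ρ.IsIrreducible]
    {W : Type*} [AddCommGroup W] [Module F W] [Nontrivial W]
    (ρW : Representation F (Subgroup.normalizer ((P : Subgroup G) : Set G)) W)
    (hWP : ∀ n : Subgroup.normalizer ((P : Subgroup G) : Set G),
      (n : G) ∈ (P : Subgroup G) → ρW n = 1)
    (f : W →ₗ[F] V) (hf : IsStableMap ρ (P : Subgroup G) ρW f)
    (a : MonoidAlgebra F G) (ha : ∀ b, b * a = a * b) (c : F)
    (hc : ρW.asAlgebraHom (brN (P : Subgroup G) a) = c • LinearMap.id) :
    ρ.asAlgebraHom a = c • LinearMap.id := by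
  classical
  obtain ⟨hequiv, hstab⟩ := hf
  have hP' : Nat.card (↥(P : Subgroup G)) = p := hP
  obtain ⟨w, hw⟩ := exists_ne (0 : W)
  set z : V := f w with hz
  -- nontrivial elements of `P` generate
  have hgen : ∀ (u : ↥(P : Subgroup G)), u ≠ 1 → ∀ g : G, (u : G) * g = g * u →
      ∀ v ∈ (P : Subgroup G), v * g = g * v := by
    intro u hu g hug v hv
    have hmem : (⟨v, hv⟩ : ↥(P : Subgroup G)) ∈ Subgroup.zpowers u :=
      mem_zpowers_of_prime_card hP' hu
    obtain ⟨k, hk⟩ := Subgroup.mem_zpowers_iff.1 hmem
    have hv' : v = (u : G) ^ k := by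
      have := congrArg Subtype.val hk
      simpa using this.symm
    rw [hv']
    exact (Commute.zpow_left (show Commute (u : G) g from hug) k).eq
  have hcomm : ∀ u ∈ (P : Subgroup G), ∀ v ∈ (P : Subgroup G), v * u = u * v := by
    intro u hu v hv
    by_cases h1 : (⟨u, hu⟩ : ↥(P : Subgroup G)) = 1
    · have : u = 1 := congrArg Subtype.val h1
      simp [this]
    · exact hgen ⟨u, hu⟩ h1 u rfl v hv
  have hPC : ∀ u ∈ (P : Subgroup G), u ∈ Subgroup.centralizer ((P : Subgroup G) : Set G) := by
    intro u hu
    rw [Subgroup.mem_centralizer_iff]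
    intro v hv
    exact hcomm u hu v hv
  have hCN : ∀ g ∈ Subgroup.centralizer ((P : Subgroup G) : Set G),
      g ∈ Subgroup.normalizer ((P : Subgroup G) : Set G) :=
    fun g hg => Subgroup.centralizer_le_normalizer _ hg
  -- `z` is `P`-fixed
  have hfixP : ∀ u ∈ (P : Subgroup G), ρ u z = z := by
    intro u hu
    have h1 := hequiv ⟨u, Subgroup.le_normalizer hu⟩ w
    rw [hWP ⟨u, Subgroup.le_normalizer hu⟩ hu] at h1
    simpa using h1
  -- Schur
  obtain ⟨c', hc'⟩ : ∃ c' : F, ρ.asAlgebraHom a = c' • LinearMap.id := by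
    have hint : ∀ g : G, ρ.asAlgebraHom a ∘ₗ ρ g = ρ g ∘ₗ ρ.asAlgebraHom a := by
      intro g
      have h1 : ρ.asAlgebraHom a ∘ₗ ρ g = ρ.asAlgebraHom (a * MonoidAlgebra.single g 1) := by
        rw [map_mul, Representation.asAlgebraHom_single_one]; rfl
      have h2 : ρ g ∘ₗ ρ.asAlgebraHom a = ρ.asAlgebraHom (MonoidAlgebra.single g 1 * a) := by
        rw [map_mul, Representation.asAlgebraHom_single_one]; rfl
      rw [h1, h2, ha]
    obtain ⟨c', hc'⟩ :=
      (Representation.IsIrreducible.algebraMap_intertwiningMap_bijective_of_isAlgClosed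
        (ρ := ρ)).2 ⟨ρ.asAlgebraHom a, hint⟩
    refine ⟨c', ?_⟩
    have := congrArg Representation.IntertwiningMap.toLinearMap hc'
    exact this.symm
  set C := Subgroup.centralizer ((P : Subgroup G) : Set G) with hC
  -- conjugation action of `P` on `G`
  let act : ↥(P : Subgroup G) → G → G := fun u g => (u : G) * g * (u : G)⁻¹
  have hact1 : ∀ x, act 1 x = x := by intro x; simp [act]
  have hactmul : ∀ q r x, act (q * r) x = act q (act r x) := by
    intro q r x; simp [act, mul_assoc]
  let S : Finset G := Finset.univ.filter (fun g => g ∉ C)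
  have hSstab : ∀ q, ∀ x ∈ S, act q x ∈ S := by
    intro q x hx
    simp only [S, Finset.mem_filter, Finset.mem_univ, true_and] at hx ⊢
    intro h
    apply hx
    have hq := hPC q q.2
    have : x = (q : G)⁻¹ * (q * x * (q : G)⁻¹) * q := by group
    rw [this]
    exact C.mul_mem (C.mul_mem (C.inv_mem hq) h) hq
  have hSfree : ∀ x ∈ S, ∀ q, act q x = x → q = 1 := by
    intro x hx q hq
    by_contra hne
    simp only [S, Finset.mem_filter, Finset.mem_univ, true_and] at hx
    apply hx
    rw [Subgroup.mem_centralizer_iff]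
    intro v hv
    have hqx : (q : G) * x = x * q := by
      have h1 : (q : G) * x * (q : G)⁻¹ = x := hq
      calc (q : G) * x = (q : G) * x * (q : G)⁻¹ * q := by group
        _ = x * q := by rw [h1]
    exact hgen q hne x hqx v hv
  -- vector sum over the non-centralizing elements
  obtain ⟨y, hy⟩ := free_orbit_sum act hact1 hactmul (fun u => (ρ (u : G)).toAddMonoidHom)
    (fun g => a.coeff g • ρ g z) (by
      intro q x
      simp only [act]
      rw [coeff_conj_of_central a ha]
      simp only [map_mul, LinearMap.toAddMonoidHom_coe, Module.End.mul_apply, map_smul]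
      congr 2
      exact congrArg _ (hfixP _ (inv_mem q.2))) S hSstab hSfree
  have hy' : ∑ x ∈ S, a.coeff x • ρ x z = trOne ρ (P : Subgroup G) y := by
    rw [hy, trOne_apply]
    simp only [LinearMap.toAddMonoidHom_coe]
    rw [← Finset.sum_subtype (Finset.univ.filter (fun g : G => g ∈ (P : Subgroup G)))
      (by simp) (fun g => ρ g y)]
  -- the centralizer part
  have hCpart : ∑ g ∈ Finset.univ.filter (fun g => g ∈ C), a.coeff g • ρ g z = c • z := by
    have h1 : ρW.asAlgebraHom (brN (P : Subgroup G) a) w = c • w := by rw [hc]; simp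
    rw [asAlgebraHom_brN_apply] at h1
    have h2 := congrArg f h1
    rw [map_sum, map_smul] at h2
    rw [← hz] at h2
    rw [← h2]
    -- reindex the sum over `N` as a sum over `G`
    have h3 : ∀ n : Subgroup.normalizer ((P : Subgroup G) : Set G),
        f (if (n : G) ∈ Subgroup.centralizer ((P : Subgroup G) : Set G)
          then a.coeff (n : G) • ρW n w else 0) =
        (fun g : G => if g ∈ C then a.coeff g • ρ g z else 0) (n : G) := by
      intro n
      simp only
      split_ifs with h
      · rw [map_smul, ← hequiv n w]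
      · exact map_zero f
    rw [Finset.sum_congr rfl (fun n _ => h3 n)]
    rw [Finset.sum_filter]
    symm
    rw [← Finset.sum_subtype (Finset.univ.filter
      (fun g : G => g ∈ Subgroup.normalizer ((P : Subgroup G) : Set G)))
      (by simp) (fun g : G => if g ∈ C then a.coeff g • ρ g z else 0)]
    rw [Finset.sum_filter]
    refine Finset.sum_congr rfl fun g _ => ?_
    by_cases hgC : g ∈ C
    · rw [if_pos (hCN g hgC)]
    · rw [if_neg hgC]; simp
  have hz' : c' • z = c • z + trOne ρ (P : Subgroup G) y := by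
    have h1 : ρ.asAlgebraHom a z = c' • z := by rw [hc']; simp
    rw [← h1, asAlgebraHom_eq_sum, LinearMap.sum_apply]
    rw [← Finset.sum_filter_add_sum_filter_not Finset.univ (fun g => g ∈ C)]
    congr 1
  have hca : c' = c := by
    by_contra hne
    have hne' : c' - c ≠ 0 := sub_ne_zero.2 hne
    have h2 : trOne ρ (P : Subgroup G) y = (c' - c) • z := by
      rw [sub_smul, hz']; abel
    have h3 : f ((c' - c) • w) ∈ LinearMap.range (trOne ρ (P : Subgroup G)) := by
      rw [map_smul, ← hz, ← h2]
      exact ⟨y, rfl⟩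
    have h4 := hstab _ h3
    rcases smul_eq_zero.mp h4 with h5 | h5
    · exact hne' h5
    · exact hw h5
  rw [hc', hca]

/-- **(GT5), irreducible form**: for an irreducible `F[N_G(P)]`-module `W` there is a scalar `c`
by which `brN P a` acts on `W` and `a` acts on `V`. -/
theorem GT5_irr [IsAlgClosed F] [FiniteDimensional F V] (P : Sylow p G) (hP : Nat.card P = p)
    (ρ : Representation F G V) [ρ.IsIrreducible]
    {W : Type*} [AddCommGroup W] [Module F W] [FiniteDimensional F W]
    (ρW : Representation F (Subgroup.normalizer ((P : Subgroup G) : Set G)) W) [ρW.IsIrreducible]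
    (hWP : ∀ n : Subgroup.normalizer ((P : Subgroup G) : Set G),
      (n : G) ∈ (P : Subgroup G) → ρW n = 1)
    (f : W →ₗ[F] V) (hf : IsStableMap ρ (P : Subgroup G) ρW f)
    (a : MonoidAlgebra F G) (ha : ∀ b, b * a = a * b) :
    ∃ c : F, ρW.asAlgebraHom (brN (P : Subgroup G) a) = c • LinearMap.id ∧
      ρ.asAlgebraHom a = c • LinearMap.id := by
  classical
  haveI : Nontrivial W := Cfsg.Agent.Lib.Helper15.DefOne.nontrivial_of_irreducible ρW
  have hcen := brN_central (P : Subgroup G) ha
  obtain ⟨c, hc⟩ : ∃ c : F, ρW.asAlgebraHom (brN (P : Subgroup G) a) = c • LinearMap.id := by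
    have hint : ∀ g, ρW.asAlgebraHom (brN (P : Subgroup G) a) ∘ₗ ρW g =
        ρW g ∘ₗ ρW.asAlgebraHom (brN (P : Subgroup G) a) := by
      intro g
      have h1 : ρW.asAlgebraHom (brN (P : Subgroup G) a) ∘ₗ ρW g =
          ρW.asAlgebraHom (brN (P : Subgroup G) a * MonoidAlgebra.single g 1) := by
        rw [map_mul, Representation.asAlgebraHom_single_one]; rfl
      have h2 : ρW g ∘ₗ ρW.asAlgebraHom (brN (P : Subgroup G) a) =
          ρW.asAlgebraHom (MonoidAlgebra.single g 1 * brN (P : Subgroup G) a) := by
        rw [map_mul, Representation.asAlgebraHom_single_one]; rfl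
      rw [h1, h2, hcen]
    obtain ⟨c, hc⟩ :=
      (Representation.IsIrreducible.algebraMap_intertwiningMap_bijective_of_isAlgClosed
        (ρ := ρW)).2 ⟨ρW.asAlgebraHom (brN (P : Subgroup G) a), hint⟩
    refine ⟨c, ?_⟩
    have := congrArg Representation.IntertwiningMap.toLinearMap hc
    exact this.symm
  exact ⟨c, hc, GT5 P hP ρ ρW hWP f hf a ha c hc⟩

end Cfsg.Agent.Lib.Helper75.DefOneGen
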