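import Mathlib
import Cfsg.Agent.Lib.Helper75.Clifford2
import Cfsg.Agent.Lib.Helper80.Gallagher
import Cfsg.Agent.Lib.Helper81.CyclicExt
import Cfsg.Agent.Lib.Helper78.CharValues

set_option autoImplicit false
set_option linter.unusedSectionVars false

/-!
PROJECT BC, defect one, GENERAL blocks: MODULE (CH0), abstract part (helper75).

`A` a finite group, `C ⊴ A`, `θ ∈ Irr(C)` with inertia group `T`, `T/C` cyclic.  Then there are
exactly-as-many-as `|T : C|` pairwise distinct `ψ ∈ Irr(A)` lying over `θ` (extension to `T` over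
the cyclic quotient, Gallagher, Clifford correspondence).
-/

namespace Cfsg.Agent.Lib.Helper75.DefOneGen

open Cfsg Cfsg.Agent.Lib.Helper75 Cfsg.Agent.Lib.Helper78
open scoped ComplexConjugate

universe u

/-- the number of irreducible characters of a finite commutative group is its order -/
theorem card_irrCharacter_of_comm {Q : Type u} [Group Q] [Finite Q]
    (hcomm : ∀ a b : Q, a * b = b * a) : Nat.card (IrrCharacter Q) = Nat.card Q := by
  let _ : Fintype Q := Fintype.ofFinite _
  rw [Helper78.card_irrCharacter]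
  symm
  apply Nat.card_congr
  refine Equiv.ofBijective (ConjClasses.mk) ⟨?_, ConjClasses.mk_surjective⟩
  intro a b hab
  rw [ConjClasses.mk_eq_mk_iff_isConj, isConj_iff] at hab
  obtain ⟨c, hc⟩ := hab
  rw [← hc, hcomm c a, mul_inv_cancel_right]

variable {A : Type u} [Group A] [Fintype A] (C T : Subgroup A) [hC : C.Normal] [Fintype C]
  [Fintype T]

/-- **(CH0), abstract form**: over a `T`-invariant `θ ∈ Irr(C)` with inertia group `T` and
`T/C` cyclic there are `|T : C|` distinct irreducible characters of `A`. -/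
theorem exists_finset_irr_over_of_cyclic (hCT : C ≤ T) {θ : C → ℂ} (hθ : IsIrrCharacter C θ)
    (hT : ∀ g : A, g ∈ T ↔ conjFun C g θ = θ)
    (hcyc : IsCyclic (T ⧸ C.subgroupOf T)) :
    ∃ Ψ : Finset (IrrCharacter A), Ψ.card = C.relIndex T ∧
      ∀ ψ ∈ Ψ, classInner (fun n : C => (ψ : A → ℂ) n) θ ≠ 0 := by
  classical
  let _ : Fintype (C.subgroupOf T) := Fintype.ofFinite _
  -- the transported character on `K = C.subgroupOf T`
  have hϑ : IsIrrCharacter (C.subgroupOf T) (liftNT C T θ) := isIrrCharacter_liftNT C T hCT hθ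
  have hTinv : ∀ g : A, g ∈ T → conjFun C g θ = θ := fun g hg => (hT g).mp hg
  have hinv : ∀ (g : T) (n : C.subgroupOf T),
      liftNT C T θ (MulAut.conjNormal g n) = liftNT C T θ n := by
    intro g n
    have h1 := congrFun (conjFun_liftNT C T hTinv g) n
    rw [conjFun_apply] at h1
    rw [← h1]
    congr 1
  -- extension to `T`
  obtain ⟨χ, hχ, hχres⟩ :=
    Cfsg.Agent.Lib.Helper81.exists_irr_extension_of_cyclic (C.subgroupOf T) hcyc hϑ hinv
  have hχN : IsIrrCharacter (C.subgroupOf T) (fun n : C.subgroupOf T => χ n) := by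
    have : (fun n : C.subgroupOf T => χ n) = liftNT C T θ := funext hχres
    rw [this]; exact hϑ
  -- Gallagher characters
  let ξ : IrrCharacter (T ⧸ C.subgroupOf T) → T → ℂ :=
    fun β => Cfsg.Agent.Lib.Helper80.infl (C.subgroupOf T) β * χ
  have hξirr : ∀ β, IsIrrCharacter T (ξ β) :=
    fun β => Cfsg.Agent.Lib.Helper80.gallagher_irr (C.subgroupOf T) hχ hχN β
  have hξres : ∀ β, resNT C T hCT (ξ β) = ((β : (T ⧸ C.subgroupOf T) → ℂ) 1) • θ := by
    intro β
    funext n
    have hmem : (⟨(n : A), hCT n.2⟩ : T) ∈ C.subgroupOf T := Subgroup.mem_subgroupOf.mpr n.2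
    show Cfsg.Agent.Lib.Helper80.infl (C.subgroupOf T) β ⟨(n : A), hCT n.2⟩ *
      χ ⟨(n : A), hCT n.2⟩ = _
    have h1 := Cfsg.Agent.Lib.Helper80.infl_mul_left (C.subgroupOf T) β ⟨_, hmem⟩ 1
    rw [mul_one] at h1
    have h1' : Cfsg.Agent.Lib.Helper80.infl (C.subgroupOf T) β ⟨(n : A), hCT n.2⟩ =
        Cfsg.Agent.Lib.Helper80.infl (C.subgroupOf T) β 1 := h1
    rw [h1']
    have h2 := hχres ⟨_, hmem⟩
    have h2' : χ ⟨(n : A), hCT n.2⟩ = liftNT C T θ ⟨⟨(n : A), hCT n.2⟩, hmem⟩ := h2
    rw [h2']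
    have h3 : Cfsg.Agent.Lib.Helper80.infl (C.subgroupOf T) β 1 =
        (β : (T ⧸ C.subgroupOf T) → ℂ) 1 := by
      show ((Helper77.inflate (C.subgroupOf T) β : IrrCharacter T) : T → ℂ) 1 = _
      rw [Helper77.inflate_apply]
      rfl
    rw [h3]
    rfl
  have hξover : ∀ β, classInner (resNT C T hCT (ξ β)) θ ≠ 0 := by
    intro β
    rw [hξres β, classInner_smul_left, classInner_irr_self hθ, mul_one]
    exact IsIrrCharacter.apply_one_ne_zero β.2
  -- induce to `A`
  let Φ : IrrCharacter (T ⧸ C.subgroupOf T) → IrrCharacter A :=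
    fun β => ⟨indFun T (ξ β), isIrrCharacter_indFun_of_over C T hCT hθ hT (hξirr β) (hξover β)⟩
  have hΦinj : Function.Injective Φ := by
    intro β β' h
    have h1 : indFun T (ξ β) = indFun T (ξ β') := congrArg Subtype.val h
    have h2 := indFun_injective_of_over C T hCT hθ hT (hξirr β) (hξirr β') (hξover β)
      (hξover β') h1
    exact Cfsg.Agent.Lib.Helper80.gallagher_injective (C.subgroupOf T) hχ hχN β β' h2
  refine ⟨Finset.univ.image Φ, ?_, ?_⟩
  · rw [Finset.card_image_of_injective _ hΦinj, Finset.card_univ, ← Nat.card_eq_fintype_card]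
    have hcomm : ∀ a b : T ⧸ C.subgroupOf T, a * b = b * a := by
      let _ := IsCyclic.commGroup (α := T ⧸ C.subgroupOf T)
      intro a b
      exact mul_comm a b
    rw [card_irrCharacter_of_comm hcomm]
    rfl
  · intro ψ hψ
    obtain ⟨β, -, rfl⟩ := Finset.mem_image.mp hψ
    show classInner (fun n : C => indFun T (ξ β) n) θ ≠ 0
    rw [classInner_res_indFun_of_over C T hCT hθ hT (hξirr β) (hξover β)]
    exact hξover β

end Cfsg.Agent.Lib.Helper75.DefOneGen
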