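import Mathlib
import Cfsg.Agent.Lib.Helper75.Clifford
import Cfsg.Agent.Lib.Helper78.CharValues

set_option autoImplicit false
set_option linter.unusedSectionVars false

/-!
PROJECT BC, defect one, GENERAL blocks: MODULE (CH0), consequences of Clifford's theorem
(helper75).  For `ψ ∈ Irr(A)` over `θ ∈ Irr(C)`, `C ⊴ A`:
* `apply_eq_apply_one_of_over`: if all `A`-conjugates of `u ∈ C` lie in the kernel of `θ`, then
  `ψ u = ψ 1`;
* `sum_div_eq_of_over`: for an `A`-stable finite subset `S` of `C`,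
  `∑_{h ∈ S} ψ h / ψ 1 = ∑_{h ∈ S} θ h / θ 1`.
-/

namespace Cfsg.Agent.Lib.Helper75.DefOneGen

open Cfsg Cfsg.Agent.Lib.Helper75 Cfsg.Agent.Lib.Helper78
open scoped ComplexConjugate

universe u

variable {A : Type u} [Group A] [Fintype A] (C : Subgroup A) [hC : C.Normal] [Fintype C]

theorem apply_eq_apply_one_of_over {ψ : A → ℂ} (hψ : IsIrrCharacter A ψ) {θ : C → ℂ}
    (hθ : IsIrrCharacter C θ) (hover : classInner (fun n : C => ψ n) θ ≠ 0)
    (u : C) (hu : ∀ a : A, θ ⟨a * u * a⁻¹, hC.conj_mem u u.2 a⟩ = θ 1) :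
    ψ u = ψ 1 := by
  classical
  have hcl := clifford_finset C hψ hθ hover
  have h1 := congrFun hcl u
  have h2 := congrFun hcl 1
  simp only [Pi.smul_apply, Finset.sum_apply, smul_eq_mul] at h1 h2
  have h3 : ∀ φ ∈ conjOrbit C θ, (φ : C → ℂ) u = (φ : C → ℂ) 1 := by
    intro φ hφ
    obtain ⟨a, ha⟩ := (mem_conjOrbit C).mp hφ
    rw [← ha, conjFun_apply, conjFun_apply, hu a]
    congr 1
    apply Subtype.ext
    simp
  have h4 : ψ (u : A) = ψ ((1 : C) : A) := by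
    rw [h1, h2, Finset.sum_congr rfl h3]
  simpa using h4

theorem sum_div_eq_of_over {ψ : A → ℂ} (hψ : IsIrrCharacter A ψ) {θ : C → ℂ}
    (hθ : IsIrrCharacter C θ) (hover : classInner (fun n : C => ψ n) θ ≠ 0)
    (S : Finset C) (hS : ∀ (a : A) (s : C), s ∈ S → (⟨a * s * a⁻¹, hC.conj_mem s s.2 a⟩ : C) ∈ S) :
    ∑ h ∈ S, ψ h / ψ 1 = ∑ h ∈ S, θ h / θ 1 := by
  classical
  have hcl := clifford_finset C hψ hθ hover
  set m := classInner (fun n : C => ψ n) θ with hm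
  have hval : ∀ c : C, ψ c = m * ∑ φ ∈ conjOrbit C θ, (φ : C → ℂ) c := by
    intro c
    have := congrFun hcl c
    simpa only [Pi.smul_apply, Finset.sum_apply, smul_eq_mul] using this
  -- sums of conjugates over `S`
  have hconj : ∀ φ ∈ conjOrbit C θ, ∑ h ∈ S, (φ : C → ℂ) h = ∑ h ∈ S, θ h := by
    intro φ hφ
    obtain ⟨a, ha⟩ := (mem_conjOrbit C).mp hφ
    rw [← ha]
    simp only [conjFun_apply]
    apply Finset.sum_bij (fun (s : C) _ => (⟨a * s * a⁻¹, hC.conj_mem s s.2 a⟩ : C))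
    · intro s hs
      exact hS a s hs
    · intro s _ s' _ h
      have := congrArg Subtype.val h
      simp only [mul_left_inj, mul_right_inj] at this
      exact Subtype.ext this
    · intro s hs
      refine ⟨⟨a⁻¹ * s * a⁻¹⁻¹, hC.conj_mem s s.2 a⁻¹⟩, hS a⁻¹ s hs, ?_⟩
      apply Subtype.ext
      simp only [inv_inv]
      group
    · intro s _
      rfl
  have hone : ∀ φ ∈ conjOrbit C θ, (φ : C → ℂ) 1 = θ 1 := by
    intro φ hφ
    obtain ⟨a, ha⟩ := (mem_conjOrbit C).mp hφ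
    rw [← ha, conjFun_apply]
    congr 1
    apply Subtype.ext
    simp
  have hθ1 : θ 1 ≠ 0 := IsIrrCharacter.apply_one_ne_zero hθ
  have hψ1' : ψ 1 ≠ 0 := IsIrrCharacter.apply_one_ne_zero hψ
  have hψone : ψ 1 = m * ((conjOrbit C θ).card : ℂ) * θ 1 := by
    have h := hval 1
    rw [Finset.sum_congr rfl hone, Finset.sum_const, nsmul_eq_mul] at h
    have h' : ψ ((1 : C) : A) = ψ 1 := by simp
    rw [← h', h]
    ring
  have hsum : ∑ h ∈ S, ψ h = m * ((conjOrbit C θ).card : ℂ) * ∑ h ∈ S, θ h := by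
    calc ∑ h ∈ S, ψ h = ∑ h ∈ S, m * ∑ φ ∈ conjOrbit C θ, (φ : C → ℂ) h :=
          Finset.sum_congr rfl (fun h _ => hval h)
      _ = m * ∑ φ ∈ conjOrbit C θ, ∑ h ∈ S, (φ : C → ℂ) h := by
          rw [← Finset.mul_sum, Finset.sum_comm]
      _ = m * ∑ φ ∈ conjOrbit C θ, ∑ h ∈ S, θ h := by
          rw [Finset.sum_congr rfl hconj]
      _ = m * ((conjOrbit C θ).card : ℂ) * ∑ h ∈ S, θ h := by
          rw [Finset.sum_const, nsmul_eq_mul]; ring
  have hmc : m * ((conjOrbit C θ).card : ℂ) ≠ 0 := by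
    intro h0
    apply hψ1'
    rw [hψone, h0, zero_mul]
  rw [← Finset.sum_div, ← Finset.sum_div, hsum, hψone, mul_div_mul_left _ _ hmc]

end Cfsg.Agent.Lib.Helper75.DefOneGen
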