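import Mathlib
import Cfsg.Agent.Lib.Helper75.DefOneCH0a
import Cfsg.Agent.Lib.Helper75.DefOneCH0b
import Cfsg.Agent.Lib.Helper77.CyclicAutomizer

set_option autoImplicit false
set_option linter.unusedSectionVars false
set_option linter.style.haveILetI false

/-!
PROJECT BC, defect one, GENERAL blocks: MODULE (CH0) (helper80's plan, board #2499), in the literal
setting of S4442: `P` a Sylow `p`-subgroup of order `p`, `C = C_G(P)`, `N = N_G(P)`, `θ ∈ Irr(C)` with
`P ≤ ker θ`, `T` the stabilizer of `θ` in `N`, `e = |T : C|`.  There are `e` distinct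
`ψ ∈ Irr(N)` with `P ≤ ker ψ` whose Brauer central character (`Cfsg.brauerCentralChar P N ψ`)
equals `Cfsg.inducedCentralChar C θ`.
-/

namespace Cfsg.Agent.Lib.Helper75.DefOneGen

open Cfsg Cfsg.Agent.Lib.Helper75 Cfsg.Agent.Lib.Helper78
open scoped ComplexConjugate

universe u

theorem CH0_aux {G : Type u} [Group G] [Finite G] (p : ℕ) [Fact p.Prime] (P : Sylow p G)
    (hP : Nat.card P = p) (Cg Ng : Subgroup G)
    (hCg : Cg = Subgroup.centralizer ((P : Subgroup G) : Set G))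
    (hNg : Ng = Subgroup.normalizer ((P : Subgroup G) : Set G))
    (θ : IrrCharacter ↥Cg)
    (hθP : ∀ x : ↥Cg, (x : G) ∈ (P : Subgroup G) → (θ : ↥Cg → ℂ) x = (θ : ↥Cg → ℂ) 1)
    (T : Subgroup G)
    (hT : ∀ g : G, g ∈ T ↔ (g ∈ Ng ∧
      ∀ c c' : ↥Cg, (c' : G) = g * c * g⁻¹ → (θ : ↥Cg → ℂ) c' = (θ : ↥Cg → ℂ) c)) :
    ∃ Ψ : Finset (IrrCharacter ↥Ng),
      Ψ.card = Cg.relIndex T ∧ ∀ ψ ∈ Ψ,
        (∀ u : ↥Ng, (u : G) ∈ (P : Subgroup G) → (ψ : ↥Ng → ℂ) u = (ψ : ↥Ng → ℂ) 1) ∧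
        (∀ g : G, brauerCentralChar (P : Subgroup G) Ng (ψ : ↥Ng → ℂ) g =
          inducedCentralChar Cg (θ : ↥Cg → ℂ) g) := by
  classical
  have hpp : p.Prime := Fact.out
  let _ : Fintype G := Fintype.ofFinite G
  have hCN : Cg ≤ Ng := by rw [hCg, hNg]; exact Subgroup.centralizer_le_normalizer _
  have hPN : (P : Subgroup G) ≤ Ng := by rw [hNg]; exact Subgroup.le_normalizer
  have hPC : (P : Subgroup G) ≤ Cg := by
    haveI : IsCyclic (P : Subgroup G) := isCyclic_of_prime_card hP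
    intro u hu
    rw [hCg, Subgroup.mem_centralizer_iff]
    intro v hv
    have := IsCyclic.commGroup.mul_comm (⟨v, hv⟩ : (P : Subgroup G)) ⟨u, hu⟩
    exact congrArg Subtype.val this
  have hθcf : IsClassFunction Cg (θ : Cg → ℂ) := isClassFunction_irr θ
  have hTN : T ≤ Ng := fun g hg => ((hT g).mp hg).1
  have hCT : Cg ≤ T := by
    intro c hc
    rw [hT]
    refine ⟨hCN hc, ?_⟩
    intro c₁ c' hc'
    have h1 : c' = ⟨c, hc⟩ * c₁ * (⟨c, hc⟩ : Cg)⁻¹ := Subtype.ext (by simpa using hc')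
    rw [h1]
    exact hθcf c₁ ⟨c, hc⟩
  haveI hCnorm : (Cg.subgroupOf Ng).Normal := by
    rw [hCg, hNg]
    exact Subgroup.normal_subgroupOf_centralizer_normalizer _
  let _ : Fintype Ng := Fintype.ofFinite _
  let _ : Fintype (Cg.subgroupOf Ng) := Fintype.ofFinite _
  let _ : Fintype (T.subgroupOf Ng) := Fintype.ofFinite _
  have hθ' : IsIrrCharacter (Cg.subgroupOf Ng) (liftNT Cg Ng (θ : Cg → ℂ)) :=
    isIrrCharacter_liftNT Cg Ng hCN θ.2
  have hC'T' : Cg.subgroupOf Ng ≤ T.subgroupOf Ng := by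
    intro x hx
    exact Subgroup.mem_subgroupOf.mpr (hCT (Subgroup.mem_subgroupOf.mp hx))
  have hT' : ∀ a : Ng, a ∈ T.subgroupOf Ng ↔
      conjFun (Cg.subgroupOf Ng) a (liftNT Cg Ng (θ : Cg → ℂ)) = liftNT Cg Ng (θ : Cg → ℂ) := by
    intro a
    constructor
    · intro ha
      have haT : (a : G) ∈ T := Subgroup.mem_subgroupOf.mp ha
      obtain ⟨-, h2⟩ := (hT (a : G)).mp haT
      funext n
      rw [conjFun_apply]
      exact h2 ⟨((n : Ng) : G), Subgroup.mem_subgroupOf.mp n.2⟩ ⟨_, _⟩ rfl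
    · intro h
      apply Subgroup.mem_subgroupOf.mpr
      rw [hT]
      refine ⟨a.2, ?_⟩
      intro c c' hc'
      have h1 := congrFun h ⟨⟨(c : G), hCN c.2⟩, Subgroup.mem_subgroupOf.mpr c.2⟩
      rw [conjFun_apply] at h1
      have h2 : (⟨((⟨a * ⟨(c : G), hCN c.2⟩ * a⁻¹,
            hCnorm.conj_mem _ (Subgroup.mem_subgroupOf.mpr c.2) a⟩ : Cg.subgroupOf Ng) : Ng),
          Subgroup.mem_subgroupOf.mp (hCnorm.conj_mem _ (Subgroup.mem_subgroupOf.mpr c.2) a)⟩ : Cg)
          = c' := by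
        apply Subtype.ext
        exact hc'.symm
      have h3 : (liftNT Cg Ng (θ : Cg → ℂ))
          ⟨a * ⟨(c : G), hCN c.2⟩ * a⁻¹,
            hCnorm.conj_mem _ (Subgroup.mem_subgroupOf.mpr c.2) a⟩ = (θ : Cg → ℂ) c' := by
        show (θ : Cg → ℂ) _ = (θ : Cg → ℂ) c'
        rw [h2]
      rw [h3] at h1
      exact h1
  -- cyclicity of `T / C`
  have hP1 : (P : Subgroup G) ≠ ⊥ := by
    intro h
    have h1 : Nat.card (P : Subgroup G) = 1 := by rw [h]; exact Subgroup.card_bot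
    have h2 : Nat.card (P : Subgroup G) = p := hP
    rw [h2] at h1
    exact hpp.one_lt.ne' h1
  have hidx : ¬ p ∣ Cg.relIndex T := by
    intro h
    have h1 : p ∣ Cg.index := by
      rw [← Subgroup.relIndex_mul_index hCT]
      exact Dvd.dvd.mul_right h _
    have h2 : p ∣ (P : Subgroup G).index := by
      rw [← Subgroup.relIndex_mul_index hPC]
      exact Dvd.dvd.mul_left h1 _
    exact P.not_dvd_index h2
  haveI hnormT : (Cg.subgroupOf T).Normal := by
    constructor
    intro x hx t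
    have hx' : (x : G) ∈ Cg := Subgroup.mem_subgroupOf.mp hx
    apply Subgroup.mem_subgroupOf.mpr
    have h1 := hCnorm.conj_mem ⟨(x : G), hTN x.2⟩ (Subgroup.mem_subgroupOf.mpr hx')
      ⟨(t : G), hTN t.2⟩
    exact Subgroup.mem_subgroupOf.mp h1
  have hcycT : IsCyclic (T ⧸ Cg.subgroupOf T) := by
    subst hCg
    subst hNg
    exact (Cfsg.Agent.Lib.Helper77.cyclic_pGroup_automizer (p := p) (P : Subgroup G) T
      P.isPGroup' hP1 (isCyclic_of_prime_card hP) hTN hidx).1
  have hcyc : IsCyclic ((T.subgroupOf Ng) ⧸ (Cg.subgroupOf Ng).subgroupOf (T.subgroupOf Ng)) := by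
    let φ : T →* T.subgroupOf Ng := (Subgroup.subgroupOfEquivOfLe hTN).symm.toMonoidHom
    have hle : Cg.subgroupOf T ≤ ((Cg.subgroupOf Ng).subgroupOf (T.subgroupOf Ng)).comap φ := by
      intro x hx
      rw [Subgroup.mem_comap]
      apply Subgroup.mem_subgroupOf.mpr
      apply Subgroup.mem_subgroupOf.mpr
      exact Subgroup.mem_subgroupOf.mp hx
    have hsurj : Function.Surjective
        (QuotientGroup.map (Cg.subgroupOf T) ((Cg.subgroupOf Ng).subgroupOf (T.subgroupOf Ng))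
          φ hle) := by
      apply QuotientGroup.map_surjective_of_surjective
      intro q
      obtain ⟨y, rfl⟩ := QuotientGroup.mk_surjective q
      obtain ⟨t, rfl⟩ := (Subgroup.subgroupOfEquivOfLe hTN).symm.surjective y
      exact ⟨t, rfl⟩
    exact isCyclic_of_surjective _ hsurj
  obtain ⟨Ψ, hcard, hover⟩ := exists_finset_irr_over_of_cyclic (Cg.subgroupOf Ng)
    (T.subgroupOf Ng) hC'T' hθ' hT' hcyc
  refine ⟨Ψ, by rw [hcard, Subgroup.relIndex_subgroupOf hTN], ?_⟩
  intro ψ hψ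
  have hψover := hover ψ hψ
  constructor
  · intro u hu
    have hnormal : ∀ a : Ng, (a : G) * u * (a : G)⁻¹ ∈ (P : Subgroup G) := by
      intro a
      have ha : (a : G) ∈ Subgroup.normalizer ((P : Subgroup G) : Set G) := by
        rw [← hNg]; exact a.2
      exact (Subgroup.mem_normalizer_iff.mp ha (u : G)).mp hu
    have h1 := apply_eq_apply_one_of_over (Cg.subgroupOf Ng) ψ.2 hθ' hψover
      ⟨u, Subgroup.mem_subgroupOf.mpr (hPC hu)⟩ (by
        intro a
        show (θ : Cg → ℂ) ⟨_, _⟩ = (θ : Cg → ℂ) ⟨_, _⟩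
        have h2 := hθP ⟨(a : G) * u * (a : G)⁻¹, hPC (hnormal a)⟩ (hnormal a)
        have h3 : (⟨((1 : Cg.subgroupOf Ng) : Ng), Subgroup.mem_subgroupOf.mp
            (1 : Cg.subgroupOf Ng).2⟩ : Cg) = 1 := rfl
        rw [h3, ← h2]
        rfl)
    exact h1
  · intro g
    let S : Finset (Cg.subgroupOf Ng) :=
      Finset.univ.filter (fun x : Cg.subgroupOf Ng => IsConj g (((x : Ng) : G)))
    have hS : ∀ (a : Ng) (s : Cg.subgroupOf Ng), s ∈ S →
        (⟨a * s * a⁻¹, hCnorm.conj_mem s s.2 a⟩ : Cg.subgroupOf Ng) ∈ S := by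
      intro a s hs
      simp only [S, Finset.mem_filter, Finset.mem_univ, true_and] at hs ⊢
      have h1 : IsConj (((s : Ng) : G)) ((a : G) * ((s : Ng) : G) * (a : G)⁻¹) :=
        isConj_iff.mpr ⟨(a : G), rfl⟩
      exact hs.trans h1
    have hmain := sum_div_eq_of_over (Cg.subgroupOf Ng) ψ.2 hθ' hψover S hS
    have hA : brauerCentralChar (P : Subgroup G) Ng (ψ : Ng → ℂ) g =
        ∑ x ∈ S, (ψ : Ng → ℂ) (x : Ng) / (ψ : Ng → ℂ) 1 := by
      unfold brauerCentralChar
      rw [← finsum_mem_coe_finset]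
      symm
      apply finsum_mem_eq_of_bijOn (fun x : Cg.subgroupOf Ng => (x : Ng))
      · refine ⟨?_, ?_, ?_⟩
        · intro x hx
          have hx' : IsConj g (((x : Ng) : G)) := by
            simpa only [S, Finset.coe_filter, Finset.mem_univ, true_and, Set.mem_ofPred_eq] using hx
          refine ⟨hx', ?_⟩
          rw [← hCg]
          exact Subgroup.mem_subgroupOf.mp x.2
        · intro x _ y _ hxy
          exact Subtype.ext hxy
        · intro h hh
          obtain ⟨h1, h2⟩ := hh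
          rw [← hCg] at h2
          refine ⟨⟨h, Subgroup.mem_subgroupOf.mpr h2⟩, ?_, rfl⟩
          simpa only [S, Finset.coe_filter, Finset.mem_univ, true_and, Set.mem_ofPred_eq] using h1
      · intro x _
        rfl
    have hB : inducedCentralChar Cg (θ : Cg → ℂ) g =
        ∑ x ∈ S, liftNT Cg Ng (θ : Cg → ℂ) x / liftNT Cg Ng (θ : Cg → ℂ) 1 := by
      unfold inducedCentralChar
      rw [← finsum_mem_coe_finset]
      symm
      apply finsum_mem_eq_of_bijOn (fun x : Cg.subgroupOf Ng =>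
        (⟨((x : Ng) : G), Subgroup.mem_subgroupOf.mp x.2⟩ : Cg))
      · refine ⟨?_, ?_, ?_⟩
        · intro x hx
          have hx' : IsConj g (((x : Ng) : G)) := by
            simpa only [S, Finset.coe_filter, Finset.mem_univ, true_and, Set.mem_ofPred_eq] using hx
          exact hx'
        · intro x _ y _ hxy
          have := congrArg Subtype.val hxy
          exact Subtype.ext (Subtype.ext this)
        · intro h hh
          refine ⟨⟨⟨(h : G), hCN h.2⟩, Subgroup.mem_subgroupOf.mpr h.2⟩, ?_, rfl⟩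
          simpa only [S, Finset.coe_filter, Finset.mem_univ, true_and, Set.mem_ofPred_eq] using hh
      · intro x _
        rfl
    rw [hA, hB]
    exact hmain

/-- **MODULE (CH0)**, in the literal setting of S4442. -/
theorem CH0 {G : Type u} [Group G] [Finite G] (p : ℕ) [Fact p.Prime] (P : Sylow p G)
    (hP : Nat.card P = p)
    (θ : IrrCharacter ↥(Subgroup.centralizer ((P : Subgroup G) : Set G)))
    (hθP : ∀ x : ↥(Subgroup.centralizer ((P : Subgroup G) : Set G)), (x : G) ∈ (P : Subgroup G) →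
      (θ : ↥(Subgroup.centralizer ((P : Subgroup G) : Set G)) → ℂ) x =
        (θ : ↥(Subgroup.centralizer ((P : Subgroup G) : Set G)) → ℂ) 1)
    (T : Subgroup G)
    (hT : ∀ g : G, g ∈ T ↔ (g ∈ Subgroup.normalizer ((P : Subgroup G) : Set G) ∧
      ∀ c c' : ↥(Subgroup.centralizer ((P : Subgroup G) : Set G)), (c' : G) = g * c * g⁻¹ →
        (θ : ↥(Subgroup.centralizer ((P : Subgroup G) : Set G)) → ℂ) c' =
          (θ : ↥(Subgroup.centralizer ((P : Subgroup G) : Set G)) → ℂ) c))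
    (e : ℕ) (he : (Subgroup.centralizer ((P : Subgroup G) : Set G)).relIndex T = e) :
    ∃ Ψ : Finset (IrrCharacter ↥(Subgroup.normalizer ((P : Subgroup G) : Set G))),
      Ψ.card = e ∧ ∀ ψ ∈ Ψ,
        (∀ u : ↥(Subgroup.normalizer ((P : Subgroup G) : Set G)), (u : G) ∈ (P : Subgroup G) →
          (ψ : ↥(Subgroup.normalizer ((P : Subgroup G) : Set G)) → ℂ) u =
            (ψ : ↥(Subgroup.normalizer ((P : Subgroup G) : Set G)) → ℂ) 1) ∧
        (∀ g : G, brauerCentralChar (P : Subgroup G)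
            (Subgroup.normalizer ((P : Subgroup G) : Set G))
            (ψ : ↥(Subgroup.normalizer ((P : Subgroup G) : Set G)) → ℂ) g =
          inducedCentralChar (Subgroup.centralizer ((P : Subgroup G) : Set G))
            (θ : ↥(Subgroup.centralizer ((P : Subgroup G) : Set G)) → ℂ) g) := by
  obtain ⟨Ψ, h1, h2⟩ := CH0_aux p P hP _ _ rfl rfl θ hθP T hT
  exact ⟨Ψ, h1.trans he, h2⟩

end Cfsg.Agent.Lib.Helper75.DefOneGen
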