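import Mathlib
import Cfsg.Prelude.Def_Characters
import Cfsg.Agent.Lib.Helper75.Clifford
import Cfsg.Agent.Lib.Helper75.Clifford2
import Cfsg.Agent.Lib.Helper75.Clifford3
import Cfsg.Agent.Lib.Helper75.Monomial
import Cfsg.Agent.Lib.Helper75.Ramified
import Cfsg.Agent.Lib.Helper75.IndNormal
import Cfsg.Agent.Lib.Helper75.AbelianQuot
import Cfsg.Agent.Lib.Helper81.Gallagher
import Cfsg.Agent.S0148

/-!
# Going down (Isaacs 6.18) (helper75)

* `inertia_act_stable`: the inertia group of a constituent of an invariant character is stable.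
* `res_eq_sum_of_inertia_eq`, `classInner_res_self_eq_one_of_closure`.
* `going_down`: the trichotomy for the restriction of an invariant character to the bottom of an
  abelian chief factor, for an abstract acting group.
-/

set_option autoImplicit false
open Cfsg
open scoped ComplexConjugate

namespace Cfsg.Agent.Lib.Helper75

open Cfsg.Agent.Lib.Helper78

universe u v

section GoingDown

variable {K : Type u} [Group K] [Fintype K] (N : Subgroup K) [hN : N.Normal] [Fintype N]
  {Γ : Type v} [Group Γ] (act : Γ →* MulAut K)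

/-- the restriction to `N` of the automorphism `act γ`, when `N` is stable -/
def actRes (hact : ∀ (γ : Γ) (n : K), n ∈ N → act γ n ∈ N) (γ : Γ) : N ≃* N where
  toFun n := ⟨act γ n, hact γ n n.2⟩
  invFun n := ⟨act γ⁻¹ n, hact γ⁻¹ n n.2⟩
  left_inv n := by
    apply Subtype.ext
    show act γ⁻¹ (act γ n) = n
    rw [← MulAut.mul_apply, ← map_mul, inv_mul_cancel, map_one, MulAut.one_apply]
  right_inv n := by
    apply Subtype.ext
    show act γ (act γ⁻¹ n) = n
    rw [← MulAut.mul_apply, ← map_mul, mul_inv_cancel, map_one, MulAut.one_apply]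
  map_mul' a b := by
    apply Subtype.ext
    simp

omit hN [Fintype K] [Fintype N] in
theorem actRes_coe (hact : ∀ (γ : Γ) (n : K), n ∈ N → act γ n ∈ N) (γ : Γ) (n : N) :
    ((actRes N act hact γ n : N) : K) = act γ n := rfl

/-- the inertia group of a constituent of an invariant character is stable under the acting
group, when the quotient is abelian -/
theorem inertia_act_stable (hab : ∀ x y : K, x * y * x⁻¹ * y⁻¹ ∈ N)
    (hact : ∀ (γ : Γ) (n : K), n ∈ N → act γ n ∈ N)
    {ϑ : K → ℂ} (hϑ : IsIrrCharacter K ϑ) (hinv : ∀ (γ : Γ) (k : K), ϑ (act γ k) = ϑ k)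
    {φ : N → ℂ} (hφ : IsIrrCharacter N φ) (hcon : classInner (fun n : N => ϑ n) φ ≠ 0)
    (γ : Γ) (k : K) (hk : k ∈ inertia N φ) : act γ k ∈ inertia N φ := by
  have hφcl := IsCharacter.isClassFunction (IsIrrCharacter.isCharacter hφ)
  -- the twisted character
  have hφα : IsIrrCharacter N (φ ∘ actRes N act hact γ) :=
    Cfsg.Agent.Lib.Helper81.isIrrCharacter_comp_mulEquiv hφ (actRes N act hact γ)
  have hconα : classInner (fun n : N => ϑ n) (φ ∘ actRes N act hact γ) ≠ 0 := by
    have h1 : (fun n : N => ϑ n) = (fun n : N => ϑ n) ∘ (actRes N act hact γ) := by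
      funext n
      show ϑ n = ϑ (act γ n)
      rw [hinv]
    rw [h1]
    have h7 := classInner_comp_equiv (actRes N act hact γ).toEquiv (fun n : N => ϑ n) φ
    simp only [MulEquiv.toEquiv_eq_coe, MulEquiv.coe_toEquiv] at h7
    rw [h7]
    exact hcon
  obtain ⟨k₀, hk₀⟩ := clifford_conj N hϑ hφ hφα hcon hconα
  -- `conjFun N (act γ k) φ` twisted is `conjFun N k (φ ∘ α)`
  have h2 : (conjFun N (act γ k) φ) ∘ actRes N act hact γ = conjFun N k (φ ∘ actRes N act hact γ) := by
    funext n
    simp only [Function.comp_apply, conjFun_apply]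
    congr 1
    apply Subtype.ext
    simp [actRes_coe]
  -- commutation of conjugations modulo `N`
  have h3 : conjFun N k (conjFun N k₀ φ) = conjFun N k₀ (conjFun N k φ) := by
    rw [← conjFun_mul, ← conjFun_mul]
    have h4 : k₀ * k = (k₀ * k * k₀⁻¹ * k⁻¹) * (k * k₀) := by group
    rw [h4, conjFun_mul]
    have h5 := conjFun_of_mem N hφcl ⟨k₀ * k * k₀⁻¹ * k⁻¹, hab k₀ k⟩
    simp only at h5
    rw [h5]
  have hk' : conjFun N k φ = φ := hk
  rw [← hk₀, h3, hk', hk₀] at h2
  -- cancel the twist
  show conjFun N (act γ k) φ = φ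
  funext n
  have h6 := congrFun h2 ((actRes N act hact γ).symm n)
  simp only [Function.comp_apply, MulEquiv.apply_symm_apply] at h6
  exact h6


/-- if the inertia group of a constituent `φ` of `ϑ_N` is `N` itself, then `ϑ_N` is the sum of
`|K : N|` distinct irreducible characters -/
theorem res_eq_sum_of_inertia_eq {ϑ : K → ℂ} (hϑ : IsIrrCharacter K ϑ) {φ : N → ℂ}
    (hφ : IsIrrCharacter N φ) (hcon : classInner (fun n : N => ϑ n) φ ≠ 0)
    (hI : inertia N φ = N) :
    ∃ F : Finset (N → ℂ), (∀ φ' ∈ F, IsIrrCharacter N φ') ∧ F.card = N.index ∧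
      (fun n : N => ϑ n) = ∑ φ' ∈ F, φ' := by
  classical
  have hT : ∀ g : K, g ∈ N ↔ conjFun N g φ = φ := by
    intro g
    rw [← mem_inertia, hI]
  obtain ⟨ψ, hψ, hind, hmult⟩ := exists_indFun_eq_of_over N N le_rfl hφ hT hϑ hcon
  have hres : resNT N N le_rfl ψ = ψ := by
    funext n
    rfl
  rw [hres] at hmult
  have hψφ : ψ = φ := by
    by_contra hne
    rw [classInner_irr_ne hψ hφ hne] at hmult
    exact hcon hmult.symm
  rw [hψφ] at hind
  have hsum : (fun n : N => ϑ n) = ∑ φ' ∈ conjOrbit N φ, (φ' : N → ℂ) := by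
    rw [← hind, indFun_res_eq_smul_sum_conjOrbit N hφ, hI]
    have hN0 : (Nat.card N : ℂ) ≠ 0 := by exact_mod_cast Nat.card_pos.ne'
    rw [div_self hN0, one_smul]
  have hφ1 : φ 1 ≠ 0 := IsIrrCharacter.apply_one_ne_zero hφ
  have hdeg : ∀ φ' ∈ conjOrbit N φ, (φ' : N → ℂ) 1 = φ 1 := by
    intro φ' hφ'
    obtain ⟨g, hg⟩ := (mem_conjOrbit N).mp hφ'
    rw [← hg, conjFun_apply]
    congr 1
    apply Subtype.ext
    simp
  have hcard : (conjOrbit N φ).card = N.index := by
    have h1 := congrFun hsum 1
    simp only [Finset.sum_apply] at h1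
    rw [Finset.sum_congr rfl hdeg, Finset.sum_const, nsmul_eq_mul] at h1
    have h2 : ϑ ((1 : N) : K) = (N.index : ℂ) * φ 1 := by
      rw [← hind]
      exact indFun_one N φ
    rw [h2] at h1
    have h3 := mul_right_cancel₀ hφ1 h1
    exact_mod_cast h3.symm
  refine ⟨(conjOrbit N φ).image (fun φ' : IrrCharacter N => (φ' : N → ℂ)), ?_, ?_, ?_⟩
  · intro φ' hφ'
    obtain ⟨ψ', -, rfl⟩ := Finset.mem_image.mp hφ'
    exact ψ'.2
  · rw [Finset.card_image_of_injective _ Subtype.val_injective, hcard]
  · rw [hsum, Finset.sum_image (fun a _ b _ h => Subtype.val_injective h)]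


/-- if `K/N` is abelian, `ϑ_N = e φ` and `K` is generated by `N` and the support of `ϑ`, then
`e = 1` -/
theorem classInner_res_self_eq_one_of_closure (hab : ∀ x y : K, x * y * x⁻¹ * y⁻¹ ∈ N)
    {ϑ : K → ℂ} (hϑ : IsIrrCharacter K ϑ)
    (hV : Subgroup.closure ((N : Set K) ∪ {k | ϑ k ≠ 0}) = ⊤) :
    classInner (fun n : N => ϑ n) (fun n : N => ϑ n) = 1 := by
  classical
  have hϑcl := IsCharacter.isClassFunction (IsIrrCharacter.isCharacter hϑ)
  have h1N : IsIrrCharacter N (fun _ : N => (1 : ℂ)) := isIrrCharacter_one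
  have hIND : IsCharacter K (indFun N (fun _ : N => (1 : ℂ))) :=
    Cfsg.Agent.S0148.result N _ (IsIrrCharacter.isCharacter h1N)
  have h1 : indFun N (fun n : N => ϑ n) = indFun N (fun _ : N => (1 : ℂ)) * ϑ := by
    rw [indFun_mul_classFunction N _ hϑcl]
    congr 1
    funext n
    simp
  have h2 : classInner (indFun N (fun n : N => ϑ n)) ϑ =
      classInner (fun n : N => ϑ n) (fun n : N => ϑ n) := frobenius_reciprocity N _ hϑcl
  rw [← h2, h1]
  have h3 := IsCharacter.eq_sum_irr hIND
  have h4 : indFun N (fun _ : N => (1 : ℂ)) * ϑ =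
      ∑ μ : IrrCharacter K, classInner (indFun N (fun _ : N => (1 : ℂ))) (μ : K → ℂ) •
        ((μ : K → ℂ) * ϑ) := by
    conv_lhs => rw [h3]
    rw [Finset.sum_mul]
    apply Finset.sum_congr rfl
    intro μ _
    rw [smul_mul_assoc]
  rw [h4, classInner_sum_left]
  simp only [classInner_smul_left]
  -- only the principal character contributes
  let one : IrrCharacter K := ⟨fun _ => 1, isIrrCharacter_one⟩
  rw [Finset.sum_eq_single one]
  · have h5 : classInner (indFun N (fun _ : N => (1 : ℂ))) (one : K → ℂ) = 1 := by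
      rw [frobenius_reciprocity N _ (IsCharacter.isClassFunction (IsIrrCharacter.isCharacter one.2))]
      exact classInner_irr_self h1N
    have h6 : (one : K → ℂ) * ϑ = ϑ := by
      funext k
      show (1 : ℂ) * ϑ k = ϑ k
      rw [one_mul]
    rw [h5, h6, classInner_irr_self hϑ, mul_one]
  · intro μ _ hμ
    by_cases hc : classInner (indFun N (fun _ : N => (1 : ℂ))) (μ : K → ℂ) = 0
    · rw [hc, zero_mul]
    · obtain ⟨ν, hν, hνN⟩ := exists_monoidHom_of_constituent_indFun_one N hab μ.2 hc
      have hirr : IsIrrCharacter K ((μ : K → ℂ) * ϑ) := by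
        have := Cfsg.Agent.Lib.Helper81.isIrrCharacter_monoidHom_mul ν hϑ
        have heq : (μ : K → ℂ) * ϑ = fun g => ((ν g : ℂˣ) : ℂ) * ϑ g := by
          funext g
          rw [Pi.mul_apply, hν]
        rw [heq]
        exact this
      by_cases hne : (μ : K → ℂ) * ϑ = ϑ
      · exfalso
        apply hμ
        -- `ν` is trivial on the closure
        have hker : Subgroup.closure ((N : Set K) ∪ {k | ϑ k ≠ 0}) ≤ ν.ker := by
          rw [Subgroup.closure_le]
          rintro k (hk | hk)
          · exact MonoidHom.mem_ker.mpr (hνN ⟨k, hk⟩)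
          · have h7 := congrFun hne k
            rw [Pi.mul_apply, hν] at h7
            have h8 : ((ν k : ℂˣ) : ℂ) = 1 := by
              have hk' : ϑ k ≠ 0 := hk
              field_simp at h7
              exact h7
            apply MonoidHom.mem_ker.mpr
            exact Units.ext h8
        rw [hV] at hker
        apply Subtype.ext
        funext k
        rw [hν k]
        have : ν k = 1 := MonoidHom.mem_ker.mp (hker (Subgroup.mem_top k))
        rw [this]
        rfl
      · rw [classInner_irr_ne hirr hϑ hne, mul_zero]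
  · intro h
    exact absurd (Finset.mem_univ _) h


/-- **Going down** (Isaacs 6.18), abstract form: `N ⊴ K` with `K/N` abelian, an acting group
`Γ` stabilising `N` with no stable subgroup strictly between `N` and `K`, and `ϑ ∈ Irr(K)`
invariant under `Γ`.  Then `ϑ_N` is irreducible, or `e φ` with `e² = |K : N|`, or a sum of
`|K : N|` distinct irreducible characters. -/
theorem going_down (hab : ∀ x y : K, x * y * x⁻¹ * y⁻¹ ∈ N)
    (hact : ∀ (γ : Γ) (n : K), n ∈ N → act γ n ∈ N)
    (hchief : ∀ M : Subgroup K, N ≤ M → (∀ (γ : Γ) (m : K), m ∈ M → act γ m ∈ M) →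
      M = N ∨ M = ⊤)
    {ϑ : K → ℂ} (hϑ : IsIrrCharacter K ϑ) (hinv : ∀ (γ : Γ) (k : K), ϑ (act γ k) = ϑ k) :
    IsIrrCharacter N (fun n : N => ϑ n) ∨
    (∃ (φ : N → ℂ) (e : ℕ), IsIrrCharacter N φ ∧ (fun n : N => ϑ n) = (e : ℂ) • φ ∧
      e ^ 2 = N.index) ∨
    (∃ F : Finset (N → ℂ), (∀ φ ∈ F, IsIrrCharacter N φ) ∧ F.card = N.index ∧
      (fun n : N => ϑ n) = ∑ φ ∈ F, φ) := by
  classical
  obtain ⟨φ, hcon⟩ := exists_constituent_res N hϑ
  have hφ := φ.2
  have hφcl := IsCharacter.isClassFunction (IsIrrCharacter.isCharacter hφ)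
  rcases hchief (inertia N (φ : N → ℂ)) (le_inertia N hφcl)
    (inertia_act_stable N act hab hact hϑ hinv hφ hcon) with hI | hI
  · right; right
    exact res_eq_sum_of_inertia_eq N hϑ hφ hcon hI
  · have hinvφ : ∀ k : K, conjFun N k (φ : N → ℂ) = (φ : N → ℂ) := by
      intro k
      have : k ∈ inertia N (φ : N → ℂ) := by rw [hI]; exact Subgroup.mem_top k
      exact this
    obtain ⟨e, he0, -, hres⟩ := res_eq_smul_of_invariant N hϑ hφ hcon hinvφ
    have hnorm : classInner (fun n : N => ϑ n) (fun n : N => ϑ n) = (e : ℂ) ^ 2 := by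
      rw [hres, classInner_smul_left, classInner_smul_right, Complex.conj_natCast,
        classInner_irr_self hφ]
      ring
    have hVstable : ∀ (γ : Γ) (m : K), m ∈ Subgroup.closure ((N : Set K) ∪ {k | ϑ k ≠ 0}) →
        act γ m ∈ Subgroup.closure ((N : Set K) ∪ {k | ϑ k ≠ 0}) := by
      intro γ m hm
      induction hm using Subgroup.closure_induction with
      | mem x hx =>
        apply Subgroup.subset_closure
        rcases hx with hx | hx
        · left; exact hact γ x hx
        · right
          show ϑ (act γ x) ≠ 0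
          rw [hinv]
          exact hx
      | one => rw [map_one]; exact Subgroup.one_mem _
      | mul x y _ _ hx hy => rw [map_mul]; exact Subgroup.mul_mem _ hx hy
      | inv x _ hx => rw [map_inv]; exact Subgroup.inv_mem _ hx
    have hNV : N ≤ Subgroup.closure ((N : Set K) ∪ {k | ϑ k ≠ 0}) := by
      intro n hn
      exact Subgroup.subset_closure (Or.inl hn)
    rcases hchief _ hNV hVstable with hV | hV
    · -- `ϑ` vanishes off `N`
      right; left
      refine ⟨φ, e, hφ, hres, ?_⟩
      have hvan : ∀ g : K, g ∉ N → ϑ g = 0 := by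
        intro g hg
        by_contra h0
        apply hg
        rw [← hV]
        exact Subgroup.subset_closure (Or.inr h0)
      have hsplit := card_mul_classInner_self_split N ϑ
      rw [classInner_irr_self hϑ, hnorm, mul_one] at hsplit
      have hzero : (∑ g ∈ Finset.univ.filter (fun g : K => g ∉ N), Complex.normSq (ϑ g) : ℝ) = 0 := by
        apply Finset.sum_eq_zero
        intro g hg
        rw [hvan g (Finset.mem_filter.mp hg).2, map_zero]
      rw [hzero, Complex.ofReal_zero, add_zero] at hsplit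
      have h1 : (Nat.card K : ℂ) = ((Nat.card N * e ^ 2 : ℕ) : ℂ) := by
        rw [hsplit]; push_cast; ring
      have h2 : Nat.card K = Nat.card N * e ^ 2 := by exact_mod_cast h1
      have h3 := N.card_mul_index
      rw [h2] at h3
      exact (Nat.eq_of_mul_eq_mul_left Nat.card_pos h3).symm
    · left
      have h1 := classInner_res_self_eq_one_of_closure N hab hϑ hV
      rw [hnorm] at h1
      have h2 : e ^ 2 = 1 := by exact_mod_cast h1
      have h3 : e = 1 := by
        rcases Nat.eq_zero_or_pos e with h | h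
        · exact absurd h he0
        · nlinarith
      rw [hres, h3, Nat.cast_one, one_smul]
      exact hφ

end GoingDown

end Cfsg.Agent.Lib.Helper75
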