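import Mathlib
import Cfsg.Prelude.Def_Characters
import Cfsg.Agent.Lib.Helper75.RamDvd
import Cfsg.Agent.Lib.Helper77.Linear
import Cfsg.Agent.Lib.Helper81.ResIrr
import Cfsg.Agent.Lib.Helper4.LinearExt
import Cfsg.Agent.S0864

/-!
# Extending an invariant character from Sylow-wise extensions (helper75)

With `compatPairs N σ` the finite group of compatible pairs `(g, X)` of `Lib/Helper75/RamDvd`:

* `extScalarHom`: a representation `R` of `P ≥ N` extending `σ` gives the linear character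
  `(g, X) ↦ c`, `c • X = R g`, of the preimage of `P`;
* `exists_rep_extension_of_hom`: a linear character `ν` of the whole group with `ν(x) • X = σ(n)`
  over `N` gives an extension of `σ` to `G`;
* `exists_irr_extension_of_sylow`: Isaacs 11.31, by the linear case S0864.
-/

set_option autoImplicit false
open Cfsg

namespace Cfsg.Agent.Lib.Helper75

open Representation

universe u w

section Scalar

variable {G : Type u} [Group G] (N : Subgroup G) [hN : N.Normal]
  {W : Type w} [AddCommGroup W] [Module ℂ W] (σ : Representation ℂ N W)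

omit hN in
theorem smul_unit_cancel [Nontrivial W] (X : (W →ₗ[ℂ] W)ˣ) {a b : ℂ}
    (h : a • (X : W →ₗ[ℂ] W) = b • (X : W →ₗ[ℂ] W)) : a = b := by
  have h1 : (a - b) • (X : W →ₗ[ℂ] W) = 0 := by rw [sub_smul, h, sub_self]
  have h2 : (a - b) • (1 : W →ₗ[ℂ] W) = 0 := by
    have := congrArg (fun T => T * ((X⁻¹ : (W →ₗ[ℂ] W)ˣ) : W →ₗ[ℂ] W)) h1
    simp only [smul_mul_assoc, zero_mul] at this
    rw [← Units.val_mul, mul_inv_cancel, Units.val_one] at this
    exact this
  rcases smul_eq_zero.mp h2 with h3 | h3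
  · exact sub_eq_zero.mp h3
  · exact absurd h3 one_ne_zero

variable (P : Subgroup G) (hNP : N ≤ P) (R : Representation ℂ P W)

/-- if the representation `R` of `P ≥ N` extends `σ`, then for a compatible pair `(g, X)` with
`g ∈ P` the operators `R g` and `X` differ by a scalar -/
theorem exists_smul_eq_of_extends [FiniteDimensional ℂ W] [σ.IsIrreducible]
    (hR : ∀ n : N, R ⟨n, hNP n.2⟩ = σ n) (x : compatPairs N σ) (hx : compatProj N σ x ∈ P) :
    ∃ c : ℂ, c • ((x.1.2 : (W →ₗ[ℂ] W)ˣ) : W →ₗ[ℂ] W) = R ⟨compatProj N σ x, hx⟩ := by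
  obtain ⟨⟨g, X⟩, hxm⟩ := x
  change g ∈ P at hx
  let g' : P := ⟨g, hx⟩
  let Y : (W →ₗ[ℂ] W)ˣ := X⁻¹ * R.asGroupHom g'
  have hR' : ∀ n : N, R.asGroupHom ⟨n, hNP n.2⟩ = σ.asGroupHom n := by
    intro n
    apply Units.ext
    simp only [asGroupHom_apply, hR n]
  have hY : ∀ m : N, Y * σ.asGroupHom m = σ.asGroupHom m * Y := by
    intro m
    have h1 := hxm.1 m
    have h2 : (⟨(MulAut.conjNormal g m : N), hNP (MulAut.conjNormal g m).2⟩ : P) =
        g' * ⟨m, hNP m.2⟩ * g'⁻¹ := by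
      apply Subtype.ext
      simp [g', MulAut.conjNormal_apply]
    have h3 : σ.asGroupHom (MulAut.conjNormal g m) =
        R.asGroupHom g' * σ.asGroupHom m * (R.asGroupHom g')⁻¹ := by
      rw [← hR', h2, map_mul, map_mul, map_inv, hR']
    simp only at h1
    rw [h3] at h1
    simp only [Y]
    have h4 : σ.asGroupHom m * (X⁻¹ * R.asGroupHom g') =
        X⁻¹ * (X * σ.asGroupHom m * X⁻¹) * R.asGroupHom g' := by group
    rw [h4, h1]
    group
  obtain ⟨c, hc⟩ := Cfsg.Agent.Lib.Helper81.schur_scalar σ (Y : W →ₗ[ℂ] W) (fun m => by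
    have := congrArg Units.val (hY m)
    simp only [Units.val_mul, asGroupHom_apply] at this
    exact this)
  refine ⟨c, ?_⟩
  have h5 : R.asGroupHom g' = X * Y := by
    simp only [Y]
    group
  have h6 := congrArg Units.val h5
  rw [Units.val_mul, hc, asGroupHom_apply] at h6
  show c • (X : W →ₗ[ℂ] W) = R g'
  rw [h6]
  ext w
  simp


/-- the scalar `c` with `c • X = R g` for a compatible pair `(g, X)` over `P` -/
noncomputable def extScalar [FiniteDimensional ℂ W] [σ.IsIrreducible]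
    (hR : ∀ n : N, R ⟨n, hNP n.2⟩ = σ n) (x : P.comap (compatProj N σ)) : ℂ :=
  Classical.choose (exists_smul_eq_of_extends N σ P hNP R hR x.1 x.2)

theorem extScalar_smul [FiniteDimensional ℂ W] [σ.IsIrreducible]
    (hR : ∀ n : N, R ⟨n, hNP n.2⟩ = σ n) (x : P.comap (compatProj N σ)) :
    extScalar N σ P hNP R hR x • ((x.1.1.2 : (W →ₗ[ℂ] W)ˣ) : W →ₗ[ℂ] W) =
      R ⟨compatProj N σ x.1, x.2⟩ :=
  Classical.choose_spec (exists_smul_eq_of_extends N σ P hNP R hR x.1 x.2)

theorem eq_extScalar [FiniteDimensional ℂ W] [σ.IsIrreducible]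
    (hR : ∀ n : N, R ⟨n, hNP n.2⟩ = σ n) (x : P.comap (compatProj N σ)) {c : ℂ}
    (h : c • ((x.1.1.2 : (W →ₗ[ℂ] W)ˣ) : W →ₗ[ℂ] W) = R ⟨compatProj N σ x.1, x.2⟩) :
    c = extScalar N σ P hNP R hR x := by
  have := Cfsg.Agent.Lib.Helper81.nontrivial_of_irreducible σ
  exact smul_unit_cancel _ (h.trans (extScalar_smul N σ P hNP R hR x).symm)

/-- the linear character `x = (g, X) ↦ c` with `c • X = R g` of the preimage of `P` -/
noncomputable def extScalarHom [FiniteDimensional ℂ W] [σ.IsIrreducible]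
    (hR : ∀ n : N, R ⟨n, hNP n.2⟩ = σ n) : P.comap (compatProj N σ) →* ℂˣ :=
  MonoidHom.toHomUnits
    { toFun := extScalar N σ P hNP R hR
      map_one' := by
        symm
        apply eq_extScalar
        rw [one_smul]
        have h1 : (⟨compatProj N σ (1 : P.comap (compatProj N σ)).1, (1 : P.comap (compatProj N σ)).2⟩ : P) = 1 := by
          apply Subtype.ext
          simp
        rw [h1, map_one]
        rfl
      map_mul' := by
        intro x y
        symm
        apply eq_extScalar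
        have h1 : (⟨compatProj N σ (x * y).1, (x * y).2⟩ : P) =
            ⟨compatProj N σ x.1, x.2⟩ * ⟨compatProj N σ y.1, y.2⟩ := by
          apply Subtype.ext
          simp
        rw [h1, map_mul, ← extScalar_smul N σ P hNP R hR x, ← extScalar_smul N σ P hNP R hR y]
        simp only [Subgroup.coe_mul, Prod.snd_mul, Units.val_mul, smul_mul_assoc, mul_smul_comm,
          mul_smul]
        rw [smul_comm] }

theorem extScalarHom_apply [FiniteDimensional ℂ W] [σ.IsIrreducible]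
    (hR : ∀ n : N, R ⟨n, hNP n.2⟩ = σ n) (x : P.comap (compatProj N σ)) :
    ((extScalarHom N σ P hNP R hR x : ℂˣ) : ℂ) = extScalar N σ P hNP R hR x := rfl


/-- a linear character `ν` of the group of compatible pairs with `ν(x) • X = σ(n)` on the
preimage of `N` yields an extension of `σ` to `G` -/
theorem exists_rep_extension_of_hom
    (hsurj : Function.Surjective (compatProj N σ)) (ν : compatPairs N σ →* ℂˣ)
    (hν : ∀ (x : compatPairs N σ) (hx : compatProj N σ x ∈ N),
      ((ν x : ℂˣ) : ℂ) • ((x.1.2 : (W →ₗ[ℂ] W)ˣ) : W →ₗ[ℂ] W) = σ ⟨compatProj N σ x, hx⟩) :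
    ∃ ρ : Representation ℂ G W, ∀ n : N, ρ (n : G) = σ n := by
  let s : ℂˣ →* (W →ₗ[ℂ] W)ˣ := Units.map (algebraMap ℂ (W →ₗ[ℂ] W)).toMonoidHom
  have hs : ∀ (c : ℂˣ) (B : (W →ₗ[ℂ] W)ˣ), s c * B = B * s c := by
    intro c B
    apply Units.ext
    simp only [Units.val_mul, s, Units.coe_map]
    exact (Algebra.commutes (c : ℂ) (B : W →ₗ[ℂ] W))
  have hsval : ∀ (c : ℂˣ) (B : (W →ₗ[ℂ] W)ˣ),
      ((s c * B : (W →ₗ[ℂ] W)ˣ) : W →ₗ[ℂ] W) = (c : ℂ) • (B : W →ₗ[ℂ] W) := by
    intro c B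
    simp only [Units.val_mul, s, Units.coe_map]
    show algebraMap ℂ (W →ₗ[ℂ] W) (c : ℂ) * (B : W →ₗ[ℂ] W) = _
    rw [Algebra.algebraMap_eq_smul_one, smul_mul_assoc, one_mul]
  let R' : compatPairs N σ →* (W →ₗ[ℂ] W)ˣ := MonoidHom.mk' (fun x => s (ν x) * x.1.2) (by
    intro x y
    simp only [map_mul, Subgroup.coe_mul, Prod.snd_mul]
    calc s (ν x) * s (ν y) * (x.1.2 * y.1.2) = s (ν x) * (s (ν y) * x.1.2) * y.1.2 := by group
      _ = s (ν x) * (x.1.2 * s (ν y)) * y.1.2 := by rw [hs (ν y) x.1.2]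
      _ = s (ν x) * x.1.2 * (s (ν y) * y.1.2) := by group)
  have hR' : ∀ (x : compatPairs N σ) (hx : compatProj N σ x ∈ N),
      ((R' x : (W →ₗ[ℂ] W)ˣ) : W →ₗ[ℂ] W) = σ ⟨compatProj N σ x, hx⟩ := by
    intro x hx
    show ((s (ν x) * x.1.2 : (W →ₗ[ℂ] W)ˣ) : W →ₗ[ℂ] W) = _
    rw [hsval, hν x hx]
  have hker : (compatProj N σ).ker ≤ R'.ker := by
    intro x hx
    rw [MonoidHom.mem_ker] at hx ⊢
    apply Units.ext
    have hxN : compatProj N σ x ∈ N := by rw [hx]; exact N.one_mem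
    rw [hR' x hxN, Units.val_one]
    have h1 : (⟨compatProj N σ x, hxN⟩ : N) = 1 := Subtype.ext hx
    rw [h1, map_one]
  let F : G →* (W →ₗ[ℂ] W)ˣ := (compatProj N σ).liftOfSurjective hsurj ⟨R', hker⟩
  have hF : ∀ x : compatPairs N σ, F (compatProj N σ x) = R' x := by
    intro x
    exact MonoidHom.liftOfRightInverse_comp_apply _ _ _ ⟨R', hker⟩ x
  refine ⟨(Units.coeHom (W →ₗ[ℂ] W)).comp F, fun n => ?_⟩
  obtain ⟨x, hx⟩ := hsurj (n : G)
  have hxN : compatProj N σ x ∈ N := by rw [hx]; exact n.2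
  show ((F (n : G) : (W →ₗ[ℂ] W)ˣ) : W →ₗ[ℂ] W) = σ n
  rw [← hx, hF x, hR' x hxN]
  congr 1
  exact Subtype.ext hx

end Scalar

section SylowExt

open Cfsg.Agent.Lib.Helper77 Cfsg.Agent.Lib.Helper81

variable {G : Type u} [Group G] [Finite G] (N : Subgroup G) [hN : N.Normal]

/-- **Isaacs 11.31**: an invariant irreducible character of `N ⊴ G` which extends to `P` for a
subgroup `P / N` of `p'`-index and `p`-power order, for every prime `p`, extends to `G`. -/
theorem exists_irr_extension_of_sylow (ϑ : N → ℂ) (hϑ : IsIrrCharacter N ϑ)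
    (hinv : ∀ (g : G) (n : N), ϑ ⟨g * n * g⁻¹, hN.conj_mem (n : G) n.2 g⟩ = ϑ n)
    (hsyl : ∀ p : ℕ, p.Prime → ∃ (P : Subgroup G) (hNP : N ≤ P) (η : P → ℂ),
      Nat.Coprime P.index p ∧ (∃ k : ℕ, N.relIndex P = p ^ k) ∧ IsIrrCharacter P η ∧
        ∀ n : N, η ⟨(n : G), hNP n.2⟩ = ϑ n) :
    ∃ χ : G → ℂ, IsIrrCharacter G χ ∧ ∀ n : N, χ n = ϑ n := by
  classical
  obtain ⟨d, σ, hσ, rfl⟩ := hϑ
  have hinv' : ∀ (g : G) (n : N), σ.character (MulAut.conjNormal g n) = σ.character n :=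
    fun g n => hinv g n
  have hsurj := compatProj_surjective N σ hinv'
  have hfin : Finite (compatPairs N σ) := finite_compatPairs N σ
  have hσR : ∀ n : N, σ ⟨n, (le_refl N) n.2⟩ = σ n := fun n => rfl
  -- the linear character of the preimage of `N`
  let lamH : N.comap (compatProj N σ) →* ℂˣ := extScalarHom N σ N le_rfl σ hσR
  have hlam : IsCharacter (N.comap (compatProj N σ)) (fun x => ((lamH x : ℂˣ) : ℂ)) ∧
      (fun x => ((lamH x : ℂˣ) : ℂ)) 1 = 1 :=
    ⟨Helper3.IsIrrCharacter.isCharacter (isIrrCharacter_of_monoidHom lamH), by simp⟩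
  have hlaminv : ∀ (z : compatPairs N σ) (x : N.comap (compatProj N σ)),
      (fun x => ((lamH x : ℂˣ) : ℂ))
        ⟨z * x * z⁻¹, (inferInstance : (N.comap (compatProj N σ)).Normal).conj_mem (x : _) x.2 z⟩ =
        (fun x => ((lamH x : ℂˣ) : ℂ)) x := by
    intro z x
    show extScalar N σ N le_rfl σ hσR _ = extScalar N σ N le_rfl σ hσR x
    symm
    apply eq_extScalar
    have h1 := extScalar_smul N σ N le_rfl σ hσR x
    have h2 := z.2.1 ⟨compatProj N σ x.1, x.2⟩
    have h3 := congrArg Units.val h2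
    simp only [Units.val_mul, asGroupHom_apply] at h3
    rw [← h1] at h3
    simp only [Subgroup.coe_mul, Subgroup.coe_inv, Prod.snd_mul, Prod.snd_inv, Units.val_mul]
    rw [mul_smul_comm, smul_mul_assoc] at h3
    rw [h3]
    congr 1
  have hsyl' : ∀ p : ℕ, p.Prime → p ∣ orderOf (fun x => ((lamH x : ℂˣ) : ℂ)) →
      ∃ (H : Subgroup (compatPairs N σ)) (hNH : N.comap (compatProj N σ) ≤ H) (ν : H → ℂ),
        Nat.Coprime H.index p ∧ (∃ k : ℕ, (N.comap (compatProj N σ)).relIndex H = p ^ k) ∧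
        IsCharacter H ν ∧ ν 1 = 1 ∧
        ∀ n : N.comap (compatProj N σ), ν ⟨(n : compatPairs N σ), hNH n.2⟩ =
          (fun x => ((lamH x : ℂˣ) : ℂ)) n := by
    intro p hp _
    obtain ⟨P, hNP, η, hcop, ⟨k, hk⟩, hη, hηN⟩ := hsyl p hp
    obtain ⟨d', R₀, hR₀, rfl⟩ := hη
    have := Fintype.ofFinite N
    let R₀N : Representation ℂ N (Fin d' → ℂ) := MonoidHom.comp R₀ (Subgroup.inclusion hNP)
    have hchar : R₀N.character = σ.character := by
      funext n
      exact hηN n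
    obtain ⟨e⟩ := Cfsg.Agent.Lib.Helper74.equiv_of_character_eq σ R₀N hchar
    let R : Representation ℂ P (Fin d → ℂ) := Helper3.transportRep R₀ e.toLinearEquiv.symm
    have hR : ∀ n : N, R ⟨n, hNP n.2⟩ = σ n := by
      intro n
      rw [Helper3.transportRep_apply]
      have h1 := e.toIntertwiningMap.isIntertwining' n
      refine LinearMap.ext fun w => ?_
      have h2 := congrArg (fun T : (Fin d → ℂ) →ₗ[ℂ] (Fin d' → ℂ) => T w) h1
      simp only [LinearMap.comp_apply] at h2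
      simp only [LinearMap.comp_apply, LinearEquiv.coe_coe, LinearEquiv.symm_symm]
      rw [LinearEquiv.symm_apply_eq]
      exact h2.symm
    refine ⟨P.comap (compatProj N σ), Subgroup.comap_mono hNP,
      fun x => ((extScalarHom N σ P hNP R hR x : ℂˣ) : ℂ), ?_, ⟨k, ?_⟩,
      Helper3.IsIrrCharacter.isCharacter (isIrrCharacter_of_monoidHom _), by simp, ?_⟩
    · rw [Subgroup.index_comap_of_surjective _ hsurj]
      exact hcop
    · rw [Subgroup.relIndex_comap, Subgroup.map_comap_eq_self_of_surjective hsurj]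
      exact hk
    · intro n
      show extScalar N σ P hNP R hR _ = extScalar N σ N le_rfl σ hσR n
      apply eq_extScalar
      have h1 := extScalar_smul N σ P hNP R hR ⟨n.1, Subgroup.comap_mono hNP n.2⟩
      rw [h1]
      exact hR ⟨compatProj N σ n.1, n.2⟩
  obtain ⟨μ, hμc, hμ1, hμN⟩ := Cfsg.Agent.S0864.result (N.comap (compatProj N σ))
    (fun x => ((lamH x : ℂˣ) : ℂ)) hlam hlaminv hsyl'
  obtain ⟨ν, hν⟩ := exists_monoidHom_of_degree_one hμc hμ1
  obtain ⟨ρ, hρ⟩ := exists_rep_extension_of_hom N σ hsurj ν (fun x hx => by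
    have h1 := hμN ⟨x, hx⟩
    rw [← hν, h1]
    exact extScalar_smul N σ N le_rfl σ hσR ⟨x, hx⟩)
  refine ⟨ρ.character, ⟨d, ρ, ?_, rfl⟩, fun n => ?_⟩
  · apply isIrreducible_of_comp_isIrreducible ρ N.subtype
    have : (MonoidHom.comp ρ N.subtype : Representation ℂ N (Fin d → ℂ)) = σ := by
      ext n : 1
      exact hρ n
    rw [this]
    exact hσ
  · show LinearMap.trace ℂ _ (ρ (n : G)) = LinearMap.trace ℂ _ (σ n)
    rw [hρ n]

end SylowExt

end Cfsg.Agent.Lib.Helper75
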