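import Mathlib
import Cfsg.Agent.Lib.Helper3.DefOneGenEnd
import Cfsg.Agent.Lib.Helper77.DefOneGenMain
import Cfsg.Agent.Lib.Helper75.DefOneRoot
import Cfsg.Agent.Lib.Helper82.ExtFirstMain
import Cfsg.Agent.Lib.Helper78.DefOneUniq
import Cfsg.Agent.S0919

set_option autoImplicit false
set_option linter.unusedSectionVars false

/-!
# McKay count for a Sylow subgroup of prime order, part A (helper75)

The conjugation action of `N_G(P)` on `Irr(C_G(P))`, the inertia group `thetaStab P θ` in the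
literal form of S4442, and invariance of block induction under this action.
-/

namespace Cfsg.Agent.Lib.Helper75.McKayOne

open Cfsg Cfsg.Agent.Lib.Helper16 Cfsg.Agent.Lib.Helper78

universe u

section Act

variable {G : Type u} [Group G] {p : ℕ} [Fact p.Prime] (P : Sylow p G)

local notation "CP" => Subgroup.centralizer ((P : Subgroup G) : Set G)
local notation "NP" => Subgroup.normalizer ((P : Subgroup G) : Set G)

/-- `N_G(P)` acts on `Irr(C_G(P))` by conjugation. -/
@[instance_reducible]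
noncomputable def nAct : MulAction ↥NP (IrrCharacter ↥CP) :=
  @MulAction.compHom _ _ (IrrCharacter ↥CP) _ (Cfsg.Agent.Lib.Helper77.nrmMulAction CP) _
    (Subgroup.inclusion
      (Cfsg.Agent.Lib.Helper3.DefOneGen.normalizer_le_normalizer_centralizer (P : Subgroup G)))

attribute [local instance] nAct

theorem nAct_apply (n : ↥NP) (θ : IrrCharacter ↥CP) (c d : ↥CP)
    (h : (d : G) = (n : G)⁻¹ * (c : G) * (n : G)) :
    ((n • θ : IrrCharacter ↥CP) : ↥CP → ℂ) c = (θ : ↥CP → ℂ) d := by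
  have h1 : ((n • θ : IrrCharacter ↥CP) : ↥CP → ℂ) c =
      (θ : ↥CP → ℂ) ((CP).normalizerMonoidHom (Subgroup.inclusion
        (Cfsg.Agent.Lib.Helper3.DefOneGen.normalizer_le_normalizer_centralizer (P : Subgroup G))
          n)⁻¹ c) := rfl
  rw [h1]
  have h2 : (CP).normalizerMonoidHom (Subgroup.inclusion
        (Cfsg.Agent.Lib.Helper3.DefOneGen.normalizer_le_normalizer_centralizer (P : Subgroup G))
          n)⁻¹ c = d := by
    apply Subtype.ext
    rw [Cfsg.Agent.Lib.Helper77.coe_normalizerMonoidHom_apply, h]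
    simp
  rw [h2]

/-- The inertia group of `θ` in `N_G(P)`, as a subgroup of `G`. -/
noncomputable def thetaStab (θ : IrrCharacter ↥CP) : Subgroup G :=
  (MulAction.stabilizer ↥NP θ).map (NP).subtype

theorem conj_mem_centralizer {n : G} (hn : n ∈ NP) {c : G} (hc : c ∈ CP) :
    n * c * n⁻¹ ∈ CP := by
  have h := Cfsg.Agent.Lib.Helper3.DefOneGen.normalizer_le_normalizer_centralizer
    (P : Subgroup G) hn
  exact (Subgroup.mem_normalizer_iff.mp h c).mp hc

/-- The literal description of the inertia group used in S4442. -/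
theorem mem_thetaStab (θ : IrrCharacter ↥CP) (g : G) :
    g ∈ thetaStab P θ ↔ (g ∈ NP ∧ ∀ c c' : ↥CP, (c' : G) = g * c * g⁻¹ →
      (θ : ↥CP → ℂ) c' = (θ : ↥CP → ℂ) c) := by
  unfold thetaStab
  rw [Subgroup.mem_map]
  constructor
  · rintro ⟨n, hn, rfl⟩
    refine ⟨n.2, ?_⟩
    intro c c' hc
    rw [MulAction.mem_stabilizer_iff] at hn
    have h1 := nAct_apply P n θ c' c (by
      rw [hc]; simp [mul_assoc])
    rw [hn] at h1
    exact h1
  · rintro ⟨hg, h⟩
    refine ⟨⟨g, hg⟩, ?_, rfl⟩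
    rw [MulAction.mem_stabilizer_iff]
    apply Subtype.ext
    funext c
    have hd : g⁻¹ * (c : G) * g ∈ CP := by
      have := conj_mem_centralizer P (inv_mem hg) c.2
      simpa using this
    rw [nAct_apply P ⟨g, hg⟩ θ c ⟨g⁻¹ * (c : G) * g, hd⟩ rfl]
    exact (h ⟨g⁻¹ * (c : G) * g, hd⟩ c (by simp [mul_assoc])).symm

theorem thetaStab_le (θ : IrrCharacter ↥CP) : thetaStab P θ ≤ NP := fun g hg =>
  ((mem_thetaStab P θ g).mp hg).1

theorem card_stabilizer_eq (θ : IrrCharacter ↥CP) :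
    Nat.card (MulAction.stabilizer ↥NP θ) = Nat.card (thetaStab P θ) := by
  unfold thetaStab
  exact (Subgroup.card_map_of_injective (NP).subtype_injective).symm

/-- Conjugates of a character with `P` in its kernel have `P` in their kernel. -/
theorem smul_trivial_on (n : ↥NP) (θ : IrrCharacter ↥CP)
    (hθ : ∀ x : ↥CP, (x : G) ∈ (P : Subgroup G) → (θ : ↥CP → ℂ) x = (θ : ↥CP → ℂ) 1) :
    ∀ x : ↥CP, (x : G) ∈ (P : Subgroup G) →
      ((n • θ : IrrCharacter ↥CP) : ↥CP → ℂ) x = ((n • θ : IrrCharacter ↥CP) : ↥CP → ℂ) 1 := by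
  intro x hx
  have hd : (n : G)⁻¹ * (x : G) * (n : G) ∈ CP := by
    have := conj_mem_centralizer P (inv_mem n.2) x.2
    simpa using this
  have hdP : (n : G)⁻¹ * (x : G) * (n : G) ∈ (P : Subgroup G) := by
    have := (Subgroup.mem_normalizer_iff.mp (inv_mem n.2) (x : G)).mp hx
    simpa using this
  rw [nAct_apply P n θ x ⟨(n : G)⁻¹ * (x : G) * (n : G), hd⟩ rfl,
    nAct_apply P n θ 1 1 (by simp), hθ _ hdP]

/-- The induced central character is invariant under conjugating the character by `N_G(P)`. -/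
theorem inducedCentralChar_smul (n : ↥NP) (θ : IrrCharacter ↥CP) (g : G) :
    inducedCentralChar CP ((n • θ : IrrCharacter ↥CP) : ↥CP → ℂ) g =
      inducedCentralChar CP (θ : ↥CP → ℂ) g := by
  unfold inducedCentralChar
  obtain ⟨φ, hφ⟩ : ∃ φ : ↥CP ≃* ↥CP, φ = (CP).normalizerMonoidHom (Subgroup.inclusion
        (Cfsg.Agent.Lib.Helper3.DefOneGen.normalizer_le_normalizer_centralizer (P : Subgroup G))
          n)⁻¹ := ⟨_, rfl⟩
  have hval : ∀ c : ↥CP, ((n • θ : IrrCharacter ↥CP) : ↥CP → ℂ) c = (θ : ↥CP → ℂ) (φ c) := by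
    intro c
    rw [hφ]
    rfl
  have hcoe : ∀ c : ↥CP, IsConj (c : G) ((φ c : ↥CP) : G) := by
    intro c
    rw [hφ, Cfsg.Agent.Lib.Helper77.coe_normalizerMonoidHom_apply]
    exact isConj_iff.mpr ⟨_, rfl⟩
  apply finsum_mem_eq_of_bijOn φ
  · apply φ.toEquiv.bijOn
    intro x
    show IsConj g ((φ x : ↥CP) : G) ↔ IsConj g (x : G)
    constructor
    · intro h
      exact h.trans (hcoe x).symm
    · intro h
      exact h.trans (hcoe x)
  · intro x _
    rw [hval, hval, map_one]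

end Act

section Ind

variable {G : Type u} [Group G] [Fintype G] {p : ℕ} [Fact p.Prime] (P : Sylow p G)
  {M : Ideal AlgInt}

local notation "CP" => Subgroup.centralizer ((P : Subgroup G) : Set G)
local notation "NP" => Subgroup.normalizer ((P : Subgroup G) : Set G)

attribute [local instance] nAct

/-- Conjugate blocks of `C_G(P)` induce the same block of `G`. -/
theorem isInducedBlock_smul (hM : IsPModular p M) (n : ↥NP) (θ : IrrCharacter ↥CP)
    {B : Set (IrrCharacter G)} (h : IsInducedBlock M CP (blockOf M (θ : ↥CP → ℂ)) B) :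
    IsInducedBlock M CP (blockOf M ((n • θ : IrrCharacter ↥CP) : ↥CP → ℂ)) B := by
  classical
  have hMp : M.IsPrime := isPModular_isPrime hM
  have : Fintype ↥CP := Fintype.ofFinite _
  refine ⟨isPBlock_blockOf _, h.2.1, fun ξ hξ χ hχ g => ?_⟩
  have h1 := inducedCentralChar_congr (M := M) CP (mem_blockOf_iff.mp hξ) g
  have h2 := h.2.2 θ (self_mem_blockOf hMp.ne_top θ) χ hχ g
  rw [← inducedCentralChar_smul P n θ g] at h2
  exact memLocalIdeal_sub_trans (memLocalIdeal_sub_comm.mp h1) h2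

/-- Two characters of `C_G(P)` with `P` in their kernels whose blocks induce the same block of
positive defect are conjugate under `N_G(P)`. -/
theorem mem_orbit_of_isInducedBlock (hM : IsPModular p M) (hP : Nat.card P = p)
    {B : Set (IrrCharacter G)} (hB : IsPBlock M B) (hd : 0 < blockDefect p B)
    (θ₀ θ : IrrCharacter ↥CP)
    (hθ₀ : ∀ x : ↥CP, (x : G) ∈ (P : Subgroup G) → (θ₀ : ↥CP → ℂ) x = (θ₀ : ↥CP → ℂ) 1)
    (hθ : ∀ x : ↥CP, (x : G) ∈ (P : Subgroup G) → (θ : ↥CP → ℂ) x = (θ : ↥CP → ℂ) 1)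
    (h₀ : IsInducedBlock M CP (blockOf M (θ₀ : ↥CP → ℂ)) B)
    (h : IsInducedBlock M CP (blockOf M (θ : ↥CP → ℂ)) B) :
    θ ∈ MulAction.orbit ↥NP θ₀ := by
  classical
  have hMp : M.IsPrime := isPModular_isPrime hM
  have hDG := Cfsg.Agent.Lib.Helper75.DefOneGen.isDefectGroup_sylow_of_pos hM P hP hB hd
  have hCN : CP ≤ NP := Subgroup.centralizer_le_normalizer _
  have hPC : (P : Subgroup G) ≤ CP :=
    Cfsg.Agent.Lib.Helper3.DefOneGen.le_centralizer_of_card_prime hP
  have hnorm : ((CP).subgroupOf NP).Normal :=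
    Subgroup.normal_subgroupOf_of_le_normalizer
      (Cfsg.Agent.Lib.Helper3.DefOneGen.normalizer_le_normalizer_centralizer (P : Subgroup G))
  obtain ⟨n, hn, hc⟩ := Cfsg.Agent.Lib.Helper82.exists_conj_of_isInducedBlock hM (P : Subgroup G)
    CP hPC le_rfl hCN hB hDG h₀ h
  obtain ⟨θ', hθ', hval⟩ := hc θ₀ (self_mem_blockOf hMp.ne_top θ₀)
  have hθ'eq : θ' = (⟨n, hn⟩ : ↥NP)⁻¹ • θ₀ := by
    apply Subtype.ext
    funext x
    have hx : n * (x : G) * n⁻¹ ∈ CP := conj_mem_centralizer P hn x.2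
    rw [hval x hx]
    symm
    apply nAct_apply P
    simp
  have hθ'P : ∀ x : ↥CP, (x : G) ∈ (P : Subgroup G) →
      (θ' : ↥CP → ℂ) x = (θ' : ↥CP → ℂ) 1 := by
    rw [hθ'eq]
    exact smul_trivial_on P _ θ₀ hθ₀
  have := Cfsg.Agent.Lib.Helper78.UNIQ p M hM P hP θ θ' hθ hθ'P hθ'
  rw [← this, hθ'eq]
  exact MulAction.mem_orbit _ _

end Ind

end Cfsg.Agent.Lib.Helper75.McKayOne
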