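import Mathlib
import Cfsg.Agent.Lib.Helper75.McKayOneA
import Cfsg.Agent.Lib.Helper78.BlockRankDefect

set_option autoImplicit false
set_option linter.unusedSectionVars false

/-!
# McKay count for a Sylow subgroup of prime order, part B (helper75)

`gside`: if `|P| = p` then
`|N_G(P) : C_G(P)| * #{χ ∈ Irr(G) : p ∤ χ(1)} = ∑_θ (e_θ ^ 2 + (p - 1))`, the sum over the
irreducible characters `θ` of `C_G(P)` with `P` in the kernel, `e_θ = |T_θ : C_G(P)|`.
-/

namespace Cfsg.Agent.Lib.Helper75.McKayOne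

open Cfsg Cfsg.Agent.Lib.Helper16 Cfsg.Agent.Lib.Helper78

universe u

section Count

variable {G : Type u} [Group G] [Fintype G] {p : ℕ} [Fact p.Prime] (P : Sylow p G)
  {M : Ideal AlgInt}

local notation "CP" => Subgroup.centralizer ((P : Subgroup G) : Set G)
local notation "NP" => Subgroup.normalizer ((P : Subgroup G) : Set G)

attribute [local instance] nAct

/-- The number of characters in an induced block. -/
theorem card_block_eq (hM : IsPModular p M) (hP : Nat.card P = p) (θ : IrrCharacter ↥CP)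
    (hθ : ∀ x : ↥CP, (x : G) ∈ (P : Subgroup G) → (θ : ↥CP → ℂ) x = (θ : ↥CP → ℂ) 1)
    {B : Set (IrrCharacter G)} (hind : IsInducedBlock M CP (blockOf M (θ : ↥CP → ℂ)) B) :
    (CP).relIndex (thetaStab P θ) ∣ p - 1 ∧
      Nat.card B = (CP).relIndex (thetaStab P θ) + (p - 1) / (CP).relIndex (thetaStab P θ) := by
  have hMp : M.IsPrime := isPModular_isPrime hM
  obtain ⟨h1, h2, -⟩ := Cfsg.Agent.Lib.Helper3.DefOneGen.s4442_core p M hM P hP B _ hind θ
    (self_mem_blockOf hMp.ne_top θ) hθ (thetaStab P θ) (mem_thetaStab P θ) _ _ rfl rfl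
  have h3 := Cfsg.Agent.Lib.Helper77.DefOne.card_block_ge p M hM P hP B _ hind θ
    (self_mem_blockOf hMp.ne_top θ) hθ (thetaStab P θ) (mem_thetaStab P θ) _ rfl
  exact ⟨h1, le_antisymm h2 h3⟩

/-- An induced block has positive defect. -/
theorem pos_defect_of_induced (hM : IsPModular p M) (hP : Nat.card P = p) (θ : IrrCharacter ↥CP)
    (hθ : ∀ x : ↥CP, (x : G) ∈ (P : Subgroup G) → (θ : ↥CP → ℂ) x = (θ : ↥CP → ℂ) 1)
    {B : Set (IrrCharacter G)} (hind : IsInducedBlock M CP (blockOf M (θ : ↥CP → ℂ)) B) :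
    0 < blockDefect p B := by
  have hp : p.Prime := Fact.out
  obtain ⟨h1, h2⟩ := card_block_eq P hM hP θ hθ hind
  by_contra h0
  obtain ⟨χ, hχ⟩ := eq_singleton_of_blockDefect_eq_zero hM hind.2.1 (Nat.eq_zero_of_not_pos h0)
  rw [hχ] at h2
  have h3 : Nat.card ({χ} : Set (IrrCharacter G)) = 1 := by
    rw [Nat.card_eq_fintype_card]; simp
  rw [h3] at h2
  have hpos : 0 < p - 1 := Nat.sub_pos_of_lt hp.one_lt
  have he : 0 < (CP).relIndex (thetaStab P θ) := Nat.pos_of_dvd_of_pos h1 hpos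
  have hq : 0 < (p - 1) / (CP).relIndex (thetaStab P θ) :=
    Nat.div_pos (Nat.le_of_dvd hpos h1) he
  omega

/-- Degree prime to `p` means positive defect of the block. -/
theorem not_dvd_iff_pos_defect (hM : IsPModular p M) (hdiv : p ∣ Nat.card G)
    (hsq : ¬ p * p ∣ Nat.card G) (χ : IrrCharacter G) :
    ¬ p ∣ charDegree (χ : G → ℂ) ↔ 0 < blockDefect p (blockOf M (χ : G → ℂ)) := by
  have hp : p.Prime := Fact.out
  have hMp : M.IsPrime := isPModular_isPrime hM
  have hdvd : charDegree (χ : G → ℂ) ∣ Nat.card G :=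
    Cfsg.Agent.Lib.Helper79.irr_charDegree_dvd_card χ
  obtain ⟨m, hm⟩ := hdvd
  have hdpos : 0 < charDegree (χ : G → ℂ) := IsIrrCharacter.charDegree_pos χ.2
  have hquot : Nat.card G / charDegree (χ : G → ℂ) = m := by
    rw [hm, Nat.mul_div_cancel_left _ hdpos]
  constructor
  · intro h
    by_contra h0
    have h1 := (blockDefect_eq_zero_iff hM (isPBlock_blockOf χ)).mp (Nat.eq_zero_of_not_pos h0) χ
      (self_mem_blockOf hMp.ne_top χ)
    apply h1
    rw [hquot]
    rw [hm] at hdiv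
    rcases (Nat.Prime.dvd_mul hp).mp hdiv with h2 | h2
    · exact absurd h2 h
    · exact h2
  · intro hd hpd
    have h1 : ¬ p ∣ Nat.card G / charDegree (χ : G → ℂ) := by
      rw [hquot]
      intro h2
      apply hsq
      rw [hm]
      exact Nat.mul_dvd_mul hpd h2
    have h2 := Cfsg.Agent.S0914.block_singleton_of_defect_zero p M hM χ h1
    have h3 : blockDefect p (blockOf M (χ : G → ℂ)) = 0 := by
      rw [blockDefect_eq_zero_iff hM (isPBlock_blockOf χ)]
      intro ψ hψ
      rw [h2, Set.mem_singleton_iff] at hψ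
      rw [hψ]
      exact h1
    omega

/-- `C_G(P)` is contained in every inertia group. -/
theorem centralizer_le_thetaStab (θ : IrrCharacter ↥CP) : CP ≤ thetaStab P θ := by
  intro c hc
  rw [mem_thetaStab]
  refine ⟨Subgroup.centralizer_le_normalizer _ hc, ?_⟩
  intro x x' hx
  have : x' = (⟨c, hc⟩ : ↥CP) * x * (⟨c, hc⟩ : ↥CP)⁻¹ := Subtype.ext hx
  rw [this]
  exact isClassFunction_irr θ x ⟨c, hc⟩

open scoped Classical in
/-- Orbit count: the indices `e` over an orbit of `N_G(P)` sum to `|N_G(P) : C_G(P)|`. -/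
theorem sum_orbit_relIndex (θ₀ : IrrCharacter ↥CP) :
    ∑ θ ∈ Finset.univ.filter (fun θ : IrrCharacter ↥CP => θ ∈ MulAction.orbit ↥NP θ₀),
      (CP).relIndex (thetaStab P θ) = (CP).relIndex NP := by
  have hCN : CP ≤ NP := Subgroup.centralizer_le_normalizer _
  set O := Finset.univ.filter (fun θ : IrrCharacter ↥CP => θ ∈ MulAction.orbit ↥NP θ₀) with hO
  have hOcard : O.card = (MulAction.orbit ↥NP θ₀).ncard := by
    rw [hO, ← Set.ncard_coe_finset]
    congr 1
    ext θ
    simp
  have hθ₀ : θ₀ ∈ O := by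
    rw [hO, Finset.mem_filter]
    exact ⟨Finset.mem_univ _, MulAction.mem_orbit_self θ₀⟩
  have hOpos : 0 < O.card := Finset.card_pos.mpr ⟨θ₀, hθ₀⟩
  have hCpos : 0 < Nat.card ↥CP := Nat.card_pos
  have key : ∀ θ ∈ O, O.card * (CP).relIndex (thetaStab P θ) = (CP).relIndex NP := by
    intro θ hθ
    rw [hO, Finset.mem_filter] at hθ
    have horb : MulAction.orbit ↥NP θ = MulAction.orbit ↥NP θ₀ :=
      MulAction.orbit_eq_iff.mpr hθ.2
    have h1 : (MulAction.stabilizer ↥NP θ).index = O.card := by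
      rw [MulAction.index_stabilizer, horb, hOcard]
    have h2 := Subgroup.index_mul_card (MulAction.stabilizer ↥NP θ)
    rw [h1, card_stabilizer_eq,
      Cfsg.Agent.Lib.Helper3.DefOneGen.card_eq_card_mul_relIndex (centralizer_le_thetaStab P θ),
      Cfsg.Agent.Lib.Helper3.DefOneGen.card_eq_card_mul_relIndex hCN] at h2
    have h3 : (O.card * (CP).relIndex (thetaStab P θ)) * Nat.card ↥CP =
        (CP).relIndex NP * Nat.card ↥CP := by
      rw [← h2]; ring
    exact Nat.eq_of_mul_eq_mul_right hCpos h3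
  have h4 : O.card * ∑ θ ∈ O, (CP).relIndex (thetaStab P θ) = O.card * (CP).relIndex NP := by
    rw [Finset.mul_sum, Finset.sum_congr rfl key, Finset.sum_const, smul_eq_mul]
  exact Nat.eq_of_mul_eq_mul_left hOpos h4

theorem not_sq_dvd_of_card (hP : Nat.card P = p) : ¬ p * p ∣ Nat.card G := by
  have hp : p.Prime := Fact.out
  intro h
  have h1 : Nat.card (P : Subgroup G) = p ^ (Nat.card G).factorization p :=
    Sylow.card_eq_multiplicity P
  have hP' : Nat.card (P : Subgroup G) = p := hP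
  rw [hP'] at h1
  have h2 : (Nat.card G).factorization p = 1 := by
    have h3 : p ^ 1 = p ^ (Nat.card G).factorization p := by rw [pow_one]; exact h1
    exact (Nat.pow_right_injective hp.two_le h3).symm
  have h4 : p ^ 2 ∣ Nat.card G := by rw [pow_two]; exact h
  have h5 := (hp.pow_dvd_iff_le_factorization Nat.card_pos.ne').mp h4
  omega

open scoped Classical in
/-- **The global count.** -/
theorem gside (hM : IsPModular p M) (hP : Nat.card P = p) :
    (CP).relIndex NP *
      (Finset.univ.filter (fun χ : IrrCharacter G => ¬ p ∣ charDegree (χ : G → ℂ))).card =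
    ∑ θ ∈ Finset.univ.filter (fun θ : IrrCharacter ↥CP =>
        ∀ x : ↥CP, (x : G) ∈ (P : Subgroup G) → (θ : ↥CP → ℂ) x = (θ : ↥CP → ℂ) 1),
      ((CP).relIndex (thetaStab P θ) ^ 2 + (p - 1)) := by
  have hp : p.Prime := Fact.out
  have hMp : M.IsPrime := isPModular_isPrime hM
  have hdiv : p ∣ Nat.card G := by
    have h1 : Nat.card (P : Subgroup G) = p := hP
    rw [← h1]
    exact Subgroup.card_subgroup_dvd_card _
  have hsq : ¬ p * p ∣ Nat.card G := not_sq_dvd_of_card P hP
  have hCN : CP ≤ NP := Subgroup.centralizer_le_normalizer _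
  have hPC : (P : Subgroup G) ≤ CP :=
    Cfsg.Agent.Lib.Helper3.DefOneGen.le_centralizer_of_card_prime hP
  obtain ⟨R, hR⟩ : ∃ R : IrrCharacter ↥CP → IrrCharacter G → Prop,
      ∀ (θ : IrrCharacter ↥CP) (χ : IrrCharacter G), R θ χ ↔
      IsInducedBlock M CP (blockOf M (θ : ↥CP → ℂ)) (blockOf M (χ : G → ℂ)) :=
    ⟨fun θ χ => IsInducedBlock M CP (blockOf M (θ : ↥CP → ℂ)) (blockOf M (χ : G → ℂ)),
      fun _ _ => Iff.rfl⟩
  have step1 : ∀ θ ∈ Finset.univ.filter (fun θ : IrrCharacter ↥CP =>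
        ∀ x : ↥CP, (x : G) ∈ (P : Subgroup G) → (θ : ↥CP → ℂ) x = (θ : ↥CP → ℂ) 1),
      (CP).relIndex (thetaStab P θ) ^ 2 + (p - 1) =
        ∑ χ : IrrCharacter G, if R θ χ then (CP).relIndex (thetaStab P θ) else 0 := by
    intro θ hθ
    have hθP := (Finset.mem_filter.mp hθ).2
    obtain ⟨B, hB⟩ := Cfsg.Agent.S0919.result p M hM (P : Subgroup G) CP P.isPGroup' hPC le_rfl
      hCN (blockOf M (θ : ↥CP → ℂ)) (isPBlock_blockOf θ)
    obtain ⟨hdvd, hcard⟩ := card_block_eq P hM hP θ hθP hB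
    have hRB : ∀ χ : IrrCharacter G, R θ χ ↔ χ ∈ B := by
      intro χ
      rw [hR]
      constructor
      · intro h
        have : B = blockOf M (χ : G → ℂ) := isInducedBlock_unique CP hB h
        rw [this]
        exact self_mem_blockOf hMp.ne_top χ
      · intro hχ
        have : B = blockOf M (χ : G → ℂ) := IsPBlock_eq_blockOf hB.2.1 hχ
        rw [← this]
        exact hB
    have hcardB : Nat.card B = (Finset.univ.filter (fun χ : IrrCharacter G => R θ χ)).card := by
      rw [Nat.card_eq_fintype_card, Fintype.card_subtype]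
      congr 1
      ext χ
      simp only [Finset.mem_filter, Finset.mem_univ, true_and]
      exact (hRB χ).symm
    rw [Finset.sum_ite, Finset.sum_const_zero, add_zero, Finset.sum_const, smul_eq_mul,
      ← hcardB, hcard, add_mul, Nat.div_mul_cancel hdvd, pow_two]
  have step2 : ∀ χ : IrrCharacter G, ¬ p ∣ charDegree (χ : G → ℂ) →
      ∑ θ ∈ Finset.univ.filter (fun θ : IrrCharacter ↥CP =>
        ∀ x : ↥CP, (x : G) ∈ (P : Subgroup G) → (θ : ↥CP → ℂ) x = (θ : ↥CP → ℂ) 1),
        (if R θ χ then (CP).relIndex (thetaStab P θ) else 0) = (CP).relIndex NP := by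
    intro χ hχ
    have hd := (not_dvd_iff_pos_defect hM hdiv hsq χ).mp hχ
    obtain ⟨-, b, θ₀, hind, hθ₀b, hθ₀P⟩ :=
      Cfsg.Agent.Lib.Helper75.DefOneGen.exists_root hM P hP (isPBlock_blockOf χ) hd
    have hb : b = blockOf M (θ₀ : ↥CP → ℂ) := IsPBlock_eq_blockOf hind.1 hθ₀b
    rw [hb] at hind
    have hfilter : (Finset.univ.filter (fun θ : IrrCharacter ↥CP =>
        ∀ x : ↥CP, (x : G) ∈ (P : Subgroup G) → (θ : ↥CP → ℂ) x = (θ : ↥CP → ℂ) 1)).filter
          (fun θ => R θ χ) =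
        Finset.univ.filter (fun θ : IrrCharacter ↥CP => θ ∈ MulAction.orbit ↥NP θ₀) := by
      ext θ
      simp only [Finset.mem_filter, Finset.mem_univ, true_and]
      constructor
      · rintro ⟨hθP, hRθ⟩
        rw [hR] at hRθ
        exact mem_orbit_of_isInducedBlock P hM hP (isPBlock_blockOf χ) hd θ₀ θ hθ₀P hθP hind hRθ
      · rintro ⟨n, rfl⟩
        refine ⟨smul_trivial_on P n θ₀ hθ₀P, ?_⟩
        rw [hR]
        exact isInducedBlock_smul P hM n θ₀ hind
    rw [← Finset.sum_filter, hfilter, sum_orbit_relIndex]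
  have step3 : ∀ χ : IrrCharacter G, p ∣ charDegree (χ : G → ℂ) →
      ∑ θ ∈ Finset.univ.filter (fun θ : IrrCharacter ↥CP =>
        ∀ x : ↥CP, (x : G) ∈ (P : Subgroup G) → (θ : ↥CP → ℂ) x = (θ : ↥CP → ℂ) 1),
        (if R θ χ then (CP).relIndex (thetaStab P θ) else 0) = 0 := by
    intro χ hχ
    apply Finset.sum_eq_zero
    intro θ hθ
    have hθP := (Finset.mem_filter.mp hθ).2
    rw [if_neg]
    intro hRθ
    rw [hR] at hRθ
    have := pos_defect_of_induced P hM hP θ hθP hRθ
    exact (not_dvd_iff_pos_defect hM hdiv hsq χ).mpr this hχ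
  rw [Finset.sum_congr rfl step1, Finset.sum_comm,
    ← Finset.sum_filter_add_sum_filter_not Finset.univ
      (fun χ : IrrCharacter G => ¬ p ∣ charDegree (χ : G → ℂ)),
    Finset.sum_congr rfl (fun χ hχ => step2 χ (Finset.mem_filter.mp hχ).2),
    Finset.sum_congr rfl (fun χ hχ => step3 χ (not_not.mp (Finset.mem_filter.mp hχ).2)),
    Finset.sum_const, Finset.sum_const_zero, add_zero, smul_eq_mul, mul_comm]

end Count

end Cfsg.Agent.Lib.Helper75.McKayOne
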