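import Mathlib
import Cfsg.Agent.Lib.Helper75.McKayOneB
import Cfsg.Agent.Lib.Helper75.Ito
import Cfsg.Agent.Lib.Helper75.PQRDegree

set_option autoImplicit false
set_option linter.unusedSectionVars false

/-!
# McKay count for a Sylow subgroup of prime order, part C (helper75)

Transport of the count `gside` from `G` to the group `N_G(P)` (same parameter set), Itô's theorem
for `N_G(P)`, and the McKay equality `k_{p'}(G) = k(N_G(P))` when `|P| = p`.
-/

namespace Cfsg.Agent.Lib.Helper75.McKayOne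

open Cfsg Cfsg.Agent.Lib.Helper16 Cfsg.Agent.Lib.Helper78

universe u

section Transport

variable {G : Type u} [Group G] [Fintype G] {p : ℕ} [Fact p.Prime] (P : Sylow p G)

local notation "CP" => Subgroup.centralizer ((P : Subgroup G) : Set G)
local notation "NP" => Subgroup.normalizer ((P : Subgroup G) : Set G)

/-- `P` as a Sylow subgroup of `N_G(P)`. -/
noncomputable def sylN : Sylow p ↥NP := P.subtype Subgroup.le_normalizer

local notation "CQ" => Subgroup.centralizer ((sylN P : Subgroup ↥NP) : Set ↥NP)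
local notation "NQ" => Subgroup.normalizer ((sylN P : Subgroup ↥NP) : Set ↥NP)

theorem mem_sylN (x : ↥NP) : x ∈ (sylN P : Subgroup ↥NP) ↔ (x : G) ∈ (P : Subgroup G) := by
  unfold sylN
  rw [Sylow.coe_subtype, Subgroup.mem_subgroupOf]

theorem card_sylN (hP : Nat.card P = p) : Nat.card (sylN P) = p := by
  have h1 : Nat.card (sylN P : Subgroup ↥NP) = Nat.card (P : Subgroup G) := by
    unfold sylN
    rw [Sylow.coe_subtype]
    exact Nat.card_congr (Subgroup.subgroupOfEquivOfLe Subgroup.le_normalizer).toEquiv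
  exact h1.trans hP

theorem centralizer_sylN : CQ = (CP).subgroupOf NP := by
  ext x
  rw [Subgroup.mem_centralizer_iff, Subgroup.mem_subgroupOf, Subgroup.mem_centralizer_iff]
  constructor
  · intro h y hy
    have := h ⟨y, Subgroup.le_normalizer hy⟩ ((mem_sylN P _).mpr hy)
    exact congrArg Subtype.val this
  · intro h y hy
    apply Subtype.ext
    exact h (y : G) ((mem_sylN P y).mp hy)

theorem normalizer_sylN : NQ = ⊤ := by
  rw [eq_top_iff]
  intro x _
  rw [Subgroup.mem_normalizer_iff]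
  intro h
  rw [mem_sylN, mem_sylN]
  exact Subgroup.mem_normalizer_iff.mp x.2 (h : G)

theorem mem_centralizer_of_mem_CQ (x : ↥CQ) : ((x : ↥NP) : G) ∈ CP := by
  have h : ∀ z : ↥NP, z ∈ CQ → (z : G) ∈ CP := by
    intro z hz
    rw [centralizer_sylN, Subgroup.mem_subgroupOf] at hz
    exact hz
  exact h x x.2

/-- The identification of `C_{N_G(P)}(P)` with `C_G(P)`. -/
noncomputable def centIso : ↥CQ ≃* ↥CP where
  toFun x := ⟨((x : ↥NP) : G), mem_centralizer_of_mem_CQ P x⟩
  invFun c := ⟨⟨(c : G), Subgroup.centralizer_le_normalizer _ c.2⟩, by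
    rw [centralizer_sylN, Subgroup.mem_subgroupOf]
    exact c.2⟩
  left_inv _ := rfl
  right_inv _ := rfl
  map_mul' _ _ := rfl

theorem coe_centIso (x : ↥CQ) : ((centIso P x : ↥CP) : G) = ((x : ↥NP) : G) := rfl

theorem coe_centIso_symm (c : ↥CP) : (((centIso P).symm c : ↥CQ) : ↥NP) =
    ⟨(c : G), Subgroup.centralizer_le_normalizer _ c.2⟩ := rfl

theorem trivial_on_irrPull (θ : IrrCharacter ↥CP) :
    (∀ x : ↥CQ, (x : ↥NP) ∈ (sylN P : Subgroup ↥NP) →
      (irrPull (centIso P) θ : ↥CQ → ℂ) x = (irrPull (centIso P) θ : ↥CQ → ℂ) 1) ↔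
    (∀ x : ↥CP, (x : G) ∈ (P : Subgroup G) → (θ : ↥CP → ℂ) x = (θ : ↥CP → ℂ) 1) := by
  constructor
  · intro h x hx
    have h1 := h ((centIso P).symm x) (by rw [mem_sylN, coe_centIso_symm]; exact hx)
    rw [irrPull_apply, irrPull_apply, MulEquiv.apply_symm_apply, map_one] at h1
    exact h1
  · intro h x hx
    rw [irrPull_apply, irrPull_apply, map_one]
    apply h
    rw [coe_centIso]
    exact (mem_sylN P _).mp hx

theorem thetaStab_irrPull (θ : IrrCharacter ↥CP) :
    thetaStab (sylN P) (irrPull (centIso P) θ) = (thetaStab P θ).subgroupOf NP := by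
  ext g
  rw [mem_thetaStab, Subgroup.mem_subgroupOf, mem_thetaStab]
  constructor
  · rintro ⟨-, h⟩
    refine ⟨g.2, ?_⟩
    intro d d' hd
    have h1 := h ((centIso P).symm d) ((centIso P).symm d') (by
      apply Subtype.ext
      rw [coe_centIso_symm]
      simp only [Subgroup.coe_mul, Subgroup.coe_inv, coe_centIso_symm]
      exact hd)
    rw [irrPull_apply, irrPull_apply, MulEquiv.apply_symm_apply, MulEquiv.apply_symm_apply] at h1
    exact h1
  · rintro ⟨-, h⟩
    refine ⟨by rw [normalizer_sylN]; exact Subgroup.mem_top _, ?_⟩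
    intro c c' hc
    rw [irrPull_apply, irrPull_apply]
    apply h
    rw [coe_centIso, coe_centIso, hc]
    rfl

theorem relIndex_thetaStab_irrPull (θ : IrrCharacter ↥CP) :
    (CQ).relIndex (thetaStab (sylN P) (irrPull (centIso P) θ)) =
      (CP).relIndex (thetaStab P θ) := by
  rw [thetaStab_irrPull, centralizer_sylN, Subgroup.relIndex_subgroupOf (thetaStab_le P θ)]

theorem relIndex_sylN : (CQ).relIndex NQ = (CP).relIndex NP := by
  rw [normalizer_sylN, centralizer_sylN, Subgroup.relIndex_top_right]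
  rfl

/-- Every irreducible character of `N_G(P)` has degree prime to `p` (Itô). -/
theorem not_dvd_charDegree_normalizer (hP : Nat.card P = p) (χ : IrrCharacter ↥NP) :
    ¬ p ∣ charDegree (χ : ↥NP → ℂ) := by
  classical
  have hp : p.Prime := Fact.out
  have hfin : Fintype ↥NP := Fintype.ofFinite _
  have hnorm : (sylN P : Subgroup ↥NP).Normal :=
    Subgroup.normalizer_eq_top_iff.mp (normalizer_sylN P)
  have hab : ∀ a ∈ (sylN P : Subgroup ↥NP), ∀ b ∈ (sylN P : Subgroup ↥NP), a * b = b * a := by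
    intro a ha b hb
    apply Subtype.ext
    exact (Cfsg.Agent.Lib.Helper3.DefOneGen.commute_of_card_prime hP ((mem_sylN P a).mp ha)
      ((mem_sylN P b).mp hb)).eq
  have h1 := Cfsg.Agent.Lib.Helper75.ito (sylN P : Subgroup ↥NP) hab (χ : ↥NP → ℂ) χ.2
  intro h2
  have h3 : p ∣ (sylN P : Subgroup ↥NP).index := h2.trans h1
  have h4 := Subgroup.index_mul_card (sylN P : Subgroup ↥NP)
  have hc : Nat.card (sylN P : Subgroup ↥NP) = p := card_sylN P hP
  have h5 : p * p ∣ Nat.card ↥NP := by
    rw [← h4, hc]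
    exact Nat.mul_dvd_mul h3 (dvd_refl p)
  have h6 : Nat.card ↥NP ∣ Nat.card G := Subgroup.card_subgroup_dvd_card _
  exact not_sq_dvd_of_card P hP (h5.trans h6)

open scoped Classical in
/-- **McKay equality for a Sylow subgroup of prime order.** -/
theorem mckay_one (hP : Nat.card P = p) :
    (Finset.univ.filter (fun χ : IrrCharacter G => ¬ p ∣ charDegree (χ : G → ℂ))).card =
      Nat.card (ConjClasses ↥NP) := by
  have hp : p.Prime := Fact.out
  obtain ⟨M, hM⟩ := Cfsg.Agent.Lib.Helper75.exists_isPModular p hp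
  have hfin : Fintype ↥NP := Fintype.ofFinite _
  have hG := gside P hM hP
  have hN := gside (sylN P) hM (card_sylN P hP)
  rw [relIndex_sylN] at hN
  have hall : Finset.univ.filter (fun χ : IrrCharacter ↥NP => ¬ p ∣ charDegree (χ : ↥NP → ℂ)) =
      Finset.univ :=
    Finset.filter_true_of_mem (fun χ _ => not_dvd_charDegree_normalizer P hP χ)
  rw [hall, Finset.card_univ, ← Nat.card_eq_fintype_card, card_irrCharacter] at hN
  have hsum : (∑ θ ∈ Finset.univ.filter (fun θ : IrrCharacter ↥CP =>
        ∀ x : ↥CP, (x : G) ∈ (P : Subgroup G) → (θ : ↥CP → ℂ) x = (θ : ↥CP → ℂ) 1),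
      ((CP).relIndex (thetaStab P θ) ^ 2 + (p - 1))) =
      ∑ θ' ∈ Finset.univ.filter (fun θ' : IrrCharacter ↥CQ =>
        ∀ x : ↥CQ, (x : ↥NP) ∈ (sylN P : Subgroup ↥NP) → (θ' : ↥CQ → ℂ) x = (θ' : ↥CQ → ℂ) 1),
      ((CQ).relIndex (thetaStab (sylN P) θ') ^ 2 + (p - 1)) := by
    apply Finset.sum_bij' (fun θ _ => irrPull (centIso P) θ)
      (fun θ' _ => irrPull (centIso P).symm θ')
    · intro θ hθ
      rw [Finset.mem_filter] at hθ ⊢
      exact ⟨Finset.mem_univ _, (trivial_on_irrPull P θ).mpr hθ.2⟩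
    · intro θ' hθ'
      rw [Finset.mem_filter] at hθ' ⊢
      refine ⟨Finset.mem_univ _, ?_⟩
      have h1 := hθ'.2
      rw [← irrPull_irrPull_symm (centIso P) θ'] at h1
      exact (trivial_on_irrPull P _).mp h1
    · intro θ _
      exact irrPull_symm_irrPull (centIso P) θ
    · intro θ' _
      exact irrPull_irrPull_symm (centIso P) θ'
    · intro θ _
      rw [relIndex_thetaStab_irrPull]
  rw [← hsum, ← hG] at hN
  have hf : 0 < (CP).relIndex NP := by
    have : (CP).relIndex NP ≠ 0 := by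
      unfold Subgroup.relIndex
      exact Subgroup.index_ne_zero_of_finite
    omega
  exact (Nat.eq_of_mul_eq_mul_left hf hN).symm

end Transport

end Cfsg.Agent.Lib.Helper75.McKayOne
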