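import Mathlib
import Cfsg.Agent.Lib.Helper3.DefOneGenFin
import Cfsg.Agent.Lib.Helper75.McKayOneC

set_option autoImplicit false
set_option linter.unusedSectionVars false

/-!
# Brauer's `(p - 1) / 2` bound, part A: the functional (helper75)

`P` a Sylow `p`-subgroup of order `p`, `C = C_G(P)`, `N = N_G(P)`.  `Theta P` is the set of
irreducible characters of `C` with `P` in the kernel, `e_θ = |T_θ : C|`.  For a class function `F`
of `G` we put
`Lf F = ∑_θ e_θ ((p - 1) fpart F θ 1 - (p + 1) ∑_{1 ≠ y ∈ P} fpart F θ y)`.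
-/

namespace Cfsg.Agent.Lib.Helper75.BrauerHalf

open Cfsg Cfsg.Agent.Lib.Helper78 Cfsg.Agent.Lib.Helper16 Cfsg.Agent.Lib.Helper3.DefOneGen
  Cfsg.Agent.Lib.Helper75.McKayOne
open scoped ComplexConjugate IsMulCommutative

universe u

section Defs

variable {G : Type u} [Group G] [Fintype G] {p : ℕ} [hp : Fact p.Prime] (P : Sylow p G)
  (hP : Nat.card P = p)
variable [Fintype ↥(Subgroup.centralizer ((P : Subgroup G) : Set G))] [Fintype ↥(P : Subgroup G)]
  [IsMulCommutative ↥(P : Subgroup G)] [Fintype (↥(P : Subgroup G) →* ℂˣ)]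
  [Fintype ↥(Subgroup.normalizer ((P : Subgroup G) : Set G))]

local notation "CP" => Subgroup.centralizer ((P : Subgroup G) : Set G)
local notation "NP" => Subgroup.normalizer ((P : Subgroup G) : Set G)

open scoped Classical in
/-- The irreducible characters of `C_G(P)` with `P` in the kernel. -/
noncomputable def Theta : Finset (IrrCharacter ↥CP) :=
  Finset.univ.filter (fun θ : IrrCharacter ↥CP =>
    ∀ x : ↥CP, (x : G) ∈ (P : Subgroup G) → (θ : ↥CP → ℂ) x = (θ : ↥CP → ℂ) 1)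

theorem mem_Theta (θ : IrrCharacter ↥CP) : θ ∈ Theta P ↔
    ∀ x : ↥CP, (x : G) ∈ (P : Subgroup G) → (θ : ↥CP → ℂ) x = (θ : ↥CP → ℂ) 1 := by
  unfold Theta
  simp

include hP in
theorem mem_Theta_iff_inKer (θ : IrrCharacter ↥CP) : θ ∈ Theta P ↔
    InKer (Subgroup.inclusion (le_centralizer_of_card_prime hP)) (θ : ↥CP → ℂ) := by
  rw [mem_Theta]
  exact ⟨inKer_of_apply_eq P hP θ, apply_eq_of_inKer P hP θ⟩

open scoped Classical in
include hP in
theorem Theta_eq_filter : Theta P = Finset.univ.filter (fun θ : IrrCharacter ↥CP =>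
    InKer (Subgroup.inclusion (le_centralizer_of_card_prime hP)) (θ : ↥CP → ℂ)) := by
  ext θ
  rw [mem_Theta_iff_inKer P hP]
  simp

open scoped Classical in
/-- The sum of `fpart F ϑ y` over `1 ≠ y ∈ P`. -/
noncomputable def gq (F : G → ℂ) (ϑ : ↥CP → ℂ) : ℂ :=
  ∑ y ∈ Finset.univ.filter (fun y : ↥(P : Subgroup G) => y ≠ 1), fpart p CP F ϑ (y : G)

/-- The functional. -/
noncomputable def Lf (F : G → ℂ) : ℂ :=
  ∑ θ ∈ Theta P, ((CP).relIndex (thetaStab P θ) : ℂ) *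
    (((p : ℂ) - 1) * fpart p CP F (θ : ↥CP → ℂ) 1 - ((p : ℂ) + 1) * gq P F (θ : ↥CP → ℂ))

end Defs

section Linear

variable {G : Type u} [Group G] [Fintype G] {p : ℕ} [hp : Fact p.Prime] (P : Sylow p G)
variable [Fintype ↥(Subgroup.centralizer ((P : Subgroup G) : Set G))] [Fintype ↥(P : Subgroup G)]
  [IsMulCommutative ↥(P : Subgroup G)] [Fintype (↥(P : Subgroup G) →* ℂˣ)]
  [Fintype ↥(Subgroup.normalizer ((P : Subgroup G) : Set G))]

local notation "CP" => Subgroup.centralizer ((P : Subgroup G) : Set G)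
local notation "NP" => Subgroup.normalizer ((P : Subgroup G) : Set G)

theorem fpart_add (H : Subgroup G) [Fintype H] (F₁ F₂ : G → ℂ) (ϑ : H → ℂ) (y : G) :
    fpart p H (F₁ + F₂) ϑ y = fpart p H F₁ ϑ y + fpart p H F₂ ϑ y := by
  unfold fpart
  rw [← mul_add, ← Finset.sum_add_distrib]
  congr 1
  apply Finset.sum_congr rfl
  intro s _
  split_ifs
  · simp
  · simp only [Pi.add_apply]; ring

theorem fpart_smul (H : Subgroup G) [Fintype H] (c : ℂ) (F : G → ℂ) (ϑ : H → ℂ) (y : G) :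
    fpart p H (c • F) ϑ y = c * fpart p H F ϑ y := by
  unfold fpart
  have h : (∑ s : H, if p ∣ orderOf s then 0 else (c • F) (y * (s : G)) * conj (ϑ s)) =
      c * ∑ s : H, if p ∣ orderOf s then 0 else F (y * (s : G)) * conj (ϑ s) := by
    rw [Finset.mul_sum]
    apply Finset.sum_congr rfl
    intro s _
    split_ifs
    · simp
    · simp only [Pi.smul_apply, smul_eq_mul]; ring
  rw [h]
  ring

theorem fpart_zero (H : Subgroup G) [Fintype H] (ϑ : H → ℂ) (y : G) :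
    fpart p H (0 : G → ℂ) ϑ y = 0 := by
  unfold fpart
  simp

theorem fpart_sum {ι : Type*} (H : Subgroup G) [Fintype H] (s : Finset ι) (F : ι → G → ℂ)
    (ϑ : H → ℂ) (y : G) :
    fpart p H (∑ i ∈ s, F i) ϑ y = ∑ i ∈ s, fpart p H (F i) ϑ y := by
  classical
  induction s using Finset.induction_on with
  | empty => simp [fpart_zero]
  | insert a s ha ih => rw [Finset.sum_insert ha, Finset.sum_insert ha, fpart_add, ih]

theorem gq_add (F₁ F₂ : G → ℂ) (ϑ : ↥CP → ℂ) :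
    gq P (F₁ + F₂) ϑ = gq P F₁ ϑ + gq P F₂ ϑ := by
  unfold gq
  rw [← Finset.sum_add_distrib]
  apply Finset.sum_congr rfl
  intro y _
  rw [fpart_add]

theorem gq_smul (c : ℂ) (F : G → ℂ) (ϑ : ↥CP → ℂ) : gq P (c • F) ϑ = c * gq P F ϑ := by
  unfold gq
  rw [Finset.mul_sum]
  apply Finset.sum_congr rfl
  intro y _
  rw [fpart_smul]

theorem Lf_add (F₁ F₂ : G → ℂ) : Lf P (F₁ + F₂) = Lf P F₁ + Lf P F₂ := by
  unfold Lf
  rw [← Finset.sum_add_distrib]
  apply Finset.sum_congr rfl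
  intro θ _
  rw [fpart_add, gq_add]
  ring

theorem Lf_smul (c : ℂ) (F : G → ℂ) : Lf P (c • F) = c * Lf P F := by
  unfold Lf
  rw [Finset.mul_sum]
  apply Finset.sum_congr rfl
  intro θ _
  rw [fpart_smul, gq_smul]
  ring

theorem Lf_zero : Lf P (0 : G → ℂ) = 0 := by
  have h := Lf_smul P 0 (0 : G → ℂ)
  rw [zero_smul, zero_mul] at h
  exact h

theorem Lf_sum {ι : Type*} (s : Finset ι) (F : ι → G → ℂ) :
    Lf P (∑ i ∈ s, F i) = ∑ i ∈ s, Lf P (F i) := by
  classical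
  induction s using Finset.induction_on with
  | empty => simp [Lf_zero]
  | insert a s ha ih => rw [Finset.sum_insert ha, Finset.sum_insert ha, Lf_add, ih]

end Linear

section Data

variable {G : Type u} [Group G] [Fintype G] {p : ℕ} [hp : Fact p.Prime] (P : Sylow p G)
  (hP : Nat.card P = p)
variable [Fintype ↥(Subgroup.centralizer ((P : Subgroup G) : Set G))] [Fintype ↥(P : Subgroup G)]
  [IsMulCommutative ↥(P : Subgroup G)] [Fintype (↥(P : Subgroup G) →* ℂˣ)]
  [Fintype ↥(Subgroup.normalizer ((P : Subgroup G) : Set G))]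

local notation "CP" => Subgroup.centralizer ((P : Subgroup G) : Set G)
local notation "NP" => Subgroup.normalizer ((P : Subgroup G) : Set G)

open scoped Classical in
theorem sum_eq_apply_one_add_gq (F : G → ℂ) (ϑ : ↥CP → ℂ) :
    ∑ y : ↥(P : Subgroup G), fpart p CP F ϑ (y : G) = fpart p CP F ϑ 1 + gq P F ϑ := by
  unfold gq
  rw [← Finset.sum_filter_add_sum_filter_not Finset.univ (fun y : ↥(P : Subgroup G) => y = 1)]
  congr 1
  rw [Finset.filter_eq' Finset.univ (1 : ↥(P : Subgroup G)), if_pos (Finset.mem_univ _),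
    Finset.sum_singleton]
  rfl

include hP in
/-- Integrality data of `fpart F θ` for a character `F`. -/
theorem term_data {F : G → ℂ} (hF : IsCharacter G F) (θ : IrrCharacter ↥CP) (hθ : θ ∈ Theta P) :
    ∃ D u : ℕ, u ≤ D ∧ fpart p CP F (θ : ↥CP → ℂ) 1 = (D : ℂ) ∧
      gq P F (θ : ↥CP → ℂ) = (p : ℂ) * (u : ℂ) - (D : ℂ) := by
  classical
  have hθK := (mem_Theta_iff_inKer P hP θ).mp hθ
  have hres : IsCharacter ↥CP (fun c : ↥CP => F (c : G)) :=
    Cfsg.Agent.Lib.Helper80.isCharacter_restrict _ hF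
  choose n hn using fun ψ : ↥(P : Subgroup G) →* ℂˣ =>
    IsCharacter.exists_nat_classInner hres (twist (ppart P hP) ψ θ)
  have hD : fpart p CP F (θ : ↥CP → ℂ) 1 = ((∑ ψ : ↥(P : Subgroup G) →* ℂˣ, n ψ : ℕ) : ℂ) := by
    have h := fpart_eq_sum_dual P hP F θ hθK 1
    rw [OneMemClass.coe_one] at h
    rw [h]
    push_cast
    apply Finset.sum_congr rfl
    intro ψ _
    rw [hn ψ, map_one, Units.val_one, mul_one]
  have hu : ∑ y : ↥(P : Subgroup G), fpart p CP F (θ : ↥CP → ℂ) (y : G) =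
      (p : ℂ) * (n 1 : ℂ) := by
    have h := sum_fpart_mul_conj P hP F θ hθK 1
    rw [hn 1, card_P_eq P hP] at h
    have hp0 : (p : ℂ) ≠ 0 := by exact_mod_cast hp.out.ne_zero
    rw [← h, ← mul_assoc, mul_inv_cancel₀ hp0, one_mul]
    apply Finset.sum_congr rfl
    intro y _
    simp
  refine ⟨∑ ψ : ↥(P : Subgroup G) →* ℂˣ, n ψ, n 1, ?_, hD, ?_⟩
  · exact Finset.single_le_sum (f := n) (fun _ _ => Nat.zero_le _) (Finset.mem_univ _)
  · rw [sum_eq_apply_one_add_gq, hD] at hu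
    linear_combination hu

end Data

section Invariance

variable {G : Type u} [Group G] [Fintype G] {p : ℕ} [hp : Fact p.Prime] (P : Sylow p G)
  (hP : Nat.card P = p)
variable [Fintype ↥(Subgroup.centralizer ((P : Subgroup G) : Set G))] [Fintype ↥(P : Subgroup G)]
  [IsMulCommutative ↥(P : Subgroup G)] [Fintype (↥(P : Subgroup G) →* ℂˣ)]
  [Fintype ↥(Subgroup.normalizer ((P : Subgroup G) : Set G))]

local notation "CP" => Subgroup.centralizer ((P : Subgroup G) : Set G)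
local notation "NP" => Subgroup.normalizer ((P : Subgroup G) : Set G)

attribute [local instance] nAct

theorem smul_eq_thetaConj (n : ↥NP) (θ : IrrCharacter ↥CP) :
    n • θ = thetaConj P ((n : G)⁻¹) (inv_mem n.2) θ := by
  apply Subtype.ext
  funext c
  have hd : (n : G)⁻¹ * (c : G) * (n : G) ∈ CP := by
    have := conj_mem_centralizer P (inv_mem n.2) c.2
    simpa using this
  rw [nAct_apply P n θ c ⟨(n : G)⁻¹ * (c : G) * (n : G), hd⟩ rfl,
    thetaConj_eq_of_eq P _ _ θ c ⟨(n : G)⁻¹ * (c : G) * (n : G), hd⟩ (by simp)]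

theorem mem_orbit_iff (θ θ' : IrrCharacter ↥CP) :
    θ' ∈ MulAction.orbit ↥NP θ ↔ ∃ (n : G) (hn : n ∈ NP), θ' = thetaConj P n hn θ := by
  constructor
  · rintro ⟨n, rfl⟩
    exact ⟨(n : G)⁻¹, inv_mem n.2, smul_eq_thetaConj P n θ⟩
  · rintro ⟨n, hn, rfl⟩
    refine ⟨⟨n, hn⟩⁻¹, ?_⟩
    show (⟨n, hn⟩⁻¹ : ↥NP) • θ = _
    rw [smul_eq_thetaConj]
    congr 1
    simp

theorem fpart_thetaConj {F : G → ℂ} (hF : IsClassFunction G F) (n : G) (hn : n ∈ NP)
    (θ : IrrCharacter ↥CP) (y : G) :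
    fpart p CP F (thetaConj P n hn θ : ↥CP → ℂ) y = fpart p CP F (θ : ↥CP → ℂ) (n * y * n⁻¹) :=
  (fpart_conj P hF n hn θ y).symm

theorem fpart_thetaConj_one {F : G → ℂ} (hF : IsClassFunction G F) (n : G) (hn : n ∈ NP)
    (θ : IrrCharacter ↥CP) :
    fpart p CP F (thetaConj P n hn θ : ↥CP → ℂ) 1 = fpart p CP F (θ : ↥CP → ℂ) 1 := by
  rw [fpart_thetaConj P hF n hn θ 1]
  simp

open scoped Classical in
theorem gq_thetaConj {F : G → ℂ} (hF : IsClassFunction G F) (n : G) (hn : n ∈ NP)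
    (θ : IrrCharacter ↥CP) :
    gq P F (thetaConj P n hn θ : ↥CP → ℂ) = gq P F (θ : ↥CP → ℂ) := by
  unfold gq
  apply Finset.sum_bij (fun y _ => (⟨n, hn⟩ : ↥NP) • y)
  · intro y hy
    simp only [Finset.mem_filter, Finset.mem_univ, true_and] at hy ⊢
    intro h
    apply hy
    have h1 : (⟨n, hn⟩ : ↥NP)⁻¹ • ((⟨n, hn⟩ : ↥NP) • y) = (⟨n, hn⟩ : ↥NP)⁻¹ • (1 : ↥(P : Subgroup G)) :=
      congrArg _ h
    rwa [inv_smul_smul, smul_one] at h1
  · intro y _ y' _ h
    exact MulAction.injective _ h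
  · intro y hy
    refine ⟨(⟨n, hn⟩ : ↥NP)⁻¹ • y, ?_, smul_inv_smul _ _⟩
    simp only [Finset.mem_filter, Finset.mem_univ, true_and] at hy ⊢
    intro h
    apply hy
    have h1 : (⟨n, hn⟩ : ↥NP) • ((⟨n, hn⟩ : ↥NP)⁻¹ • y) = (⟨n, hn⟩ : ↥NP) • (1 : ↥(P : Subgroup G)) :=
      congrArg _ h
    rwa [smul_inv_smul, smul_one] at h1
  · intro y _
    rw [fpart_thetaConj P hF n hn θ (y : G)]
    rfl

end Invariance

end Cfsg.Agent.Lib.Helper75.BrauerHalf
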