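import Mathlib
import Cfsg.Agent.Lib.Helper75.BrauerHalfA

set_option autoImplicit false
set_option linter.unusedSectionVars false

/-!
# Brauer's `(p - 1) / 2` bound, part B: the functional on characters (helper75)

For a character `F` of `G` and `θ ∈ Theta P` the numbers `Dn F θ = ⟨F_K, θ⟩` and
`un F θ = ⟨F_C, 1 × θ⟩` are natural numbers with `un ≤ Dn`, and
`Lf F = p ∑_θ e_θ (2 Dn F θ - (p + 1) un F θ)`.
-/

namespace Cfsg.Agent.Lib.Helper75.BrauerHalf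

open Cfsg Cfsg.Agent.Lib.Helper78 Cfsg.Agent.Lib.Helper16 Cfsg.Agent.Lib.Helper3.DefOneGen
  Cfsg.Agent.Lib.Helper75.McKayOne
open scoped ComplexConjugate IsMulCommutative

universe u

section Nat

variable {G : Type u} [Group G] [Fintype G] {p : ℕ} [hp : Fact p.Prime] (P : Sylow p G)
  (hP : Nat.card P = p)
variable [Fintype ↥(Subgroup.centralizer ((P : Subgroup G) : Set G))] [Fintype ↥(P : Subgroup G)]
  [IsMulCommutative ↥(P : Subgroup G)] [Fintype (↥(P : Subgroup G) →* ℂˣ)]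
  [Fintype ↥(Subgroup.normalizer ((P : Subgroup G) : Set G))]

local notation "CP" => Subgroup.centralizer ((P : Subgroup G) : Set G)
local notation "NP" => Subgroup.normalizer ((P : Subgroup G) : Set G)

/-- `⟨F_K, θ⟩` as a natural number. -/
noncomputable def Dn (F : G → ℂ) (ϑ : ↥CP → ℂ) : ℕ := ⌊(fpart p CP F ϑ 1).re⌋₊

/-- `⟨F_C, 1 × θ⟩` as a natural number. -/
noncomputable def un (F : G → ℂ) (ϑ : ↥CP → ℂ) : ℕ :=
  ⌊((fpart p CP F ϑ 1 + gq P F ϑ) / (p : ℂ)).re⌋₊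

include hP in
theorem Dn_spec {F : G → ℂ} (hF : IsCharacter G F) (θ : IrrCharacter ↥CP) (hθ : θ ∈ Theta P) :
    fpart p CP F (θ : ↥CP → ℂ) 1 = (Dn P F (θ : ↥CP → ℂ) : ℂ) := by
  obtain ⟨D, u, -, hD, -⟩ := term_data P hP hF θ hθ
  unfold Dn
  rw [hD]
  simp

include hP in
theorem un_spec {F : G → ℂ} (hF : IsCharacter G F) (θ : IrrCharacter ↥CP) (hθ : θ ∈ Theta P) :
    gq P F (θ : ↥CP → ℂ) =
      (p : ℂ) * (un P F (θ : ↥CP → ℂ) : ℂ) - (Dn P F (θ : ↥CP → ℂ) : ℂ) := by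
  obtain ⟨D, u, -, hD, hu⟩ := term_data P hP hF θ hθ
  have hp0 : (p : ℂ) ≠ 0 := by exact_mod_cast hp.out.ne_zero
  have h1 : Dn P F (θ : ↥CP → ℂ) = D := by
    unfold Dn
    rw [hD]
    simp
  have h2 : un P F (θ : ↥CP → ℂ) = u := by
    unfold un
    rw [hD, hu]
    have : ((D : ℂ) + ((p : ℂ) * (u : ℂ) - (D : ℂ))) / (p : ℂ) = ((u : ℝ) : ℂ) := by
      push_cast
      field_simp
      ring
    rw [this, Complex.ofReal_re]
    simp
  rw [h1, h2, hu]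

include hP in
theorem un_le_Dn {F : G → ℂ} (hF : IsCharacter G F) (θ : IrrCharacter ↥CP) (hθ : θ ∈ Theta P) :
    un P F (θ : ↥CP → ℂ) ≤ Dn P F (θ : ↥CP → ℂ) := by
  obtain ⟨D, u, hle, hD, hu⟩ := term_data P hP hF θ hθ
  have hp0 : (p : ℂ) ≠ 0 := by exact_mod_cast hp.out.ne_zero
  have h1 : Dn P F (θ : ↥CP → ℂ) = D := by
    unfold Dn
    rw [hD]
    simp
  have h2 : un P F (θ : ↥CP → ℂ) = u := by
    unfold un
    rw [hD, hu]
    have : ((D : ℂ) + ((p : ℂ) * (u : ℂ) - (D : ℂ))) / (p : ℂ) = ((u : ℝ) : ℂ) := by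
      push_cast
      field_simp
      ring
    rw [this, Complex.ofReal_re]
    simp
  rw [h1, h2]
  exact hle

theorem Dn_thetaConj {F : G → ℂ} (hF : IsClassFunction G F) (n : G) (hn : n ∈ NP)
    (θ : IrrCharacter ↥CP) :
    Dn P F (thetaConj P n hn θ : ↥CP → ℂ) = Dn P F (θ : ↥CP → ℂ) := by
  unfold Dn
  rw [fpart_thetaConj_one P hF n hn θ]

theorem un_thetaConj {F : G → ℂ} (hF : IsClassFunction G F) (n : G) (hn : n ∈ NP)
    (θ : IrrCharacter ↥CP) :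
    un P F (thetaConj P n hn θ : ↥CP → ℂ) = un P F (θ : ↥CP → ℂ) := by
  unfold un
  rw [fpart_thetaConj_one P hF n hn θ, gq_thetaConj P hF n hn θ]

include hP in
/-- The functional on a character, as an integer. -/
theorem Lf_eq {F : G → ℂ} (hF : IsCharacter G F) :
    Lf P F = (p : ℂ) * ((∑ θ ∈ Theta P, ((CP).relIndex (thetaStab P θ) : ℤ) *
      (2 * (Dn P F (θ : ↥CP → ℂ) : ℤ) - ((p : ℤ) + 1) * (un P F (θ : ↥CP → ℂ) : ℤ)) : ℤ) : ℂ) := by
  unfold Lf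
  push_cast
  rw [Finset.mul_sum]
  apply Finset.sum_congr rfl
  intro θ hθ
  rw [Dn_spec P hP hF θ hθ, un_spec P hP hF θ hθ]
  ring

end Nat

end Cfsg.Agent.Lib.Helper75.BrauerHalf
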