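import Mathlib
import Cfsg.Agent.Lib.Helper75.BrauerHalfB

set_option autoImplicit false
set_option linter.unusedSectionVars false

/-!
# Brauer's `(p - 1) / 2` bound, part C: the orbit sum `etaN` (helper75)

`etaN P ψ₀ y = ∑ ψ' y` over the `N_G(P)`-conjugates `ψ'` of the linear character `ψ₀` of `P`
(`n • y = n y n⁻¹` is Mathlib's `MulDistribMulAction ↥N_G(P) ↥P`, and
`dualTwist n ψ y = ψ (n • y)`).
-/

namespace Cfsg.Agent.Lib.Helper75.BrauerHalf

open Cfsg Cfsg.Agent.Lib.Helper78 Cfsg.Agent.Lib.Helper16 Cfsg.Agent.Lib.Helper3.DefOneGen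
  Cfsg.Agent.Lib.Helper75.McKayOne
open scoped ComplexConjugate IsMulCommutative

universe u

variable {G : Type u} [Group G] {p : ℕ} (P : Sylow p G)
variable [IsMulCommutative ↥(P : Subgroup G)] [Fintype (↥(P : Subgroup G) →* ℂˣ)]

local notation "NP" => Subgroup.normalizer ((P : Subgroup G) : Set G)

open scoped Classical in
/-- The sum of the `N_G(P)`-conjugates of `ψ₀`. -/
noncomputable def etaN (ψ₀ : ↥(P : Subgroup G) →* ℂˣ) (y : ↥(P : Subgroup G)) : ℂ :=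
  ∑ ψ' ∈ Finset.univ.filter (fun ψ' : ↥(P : Subgroup G) →* ℂˣ =>
    ∃ m : ↥NP, dualTwist m ψ₀ = ψ'), ((ψ' y : ℂˣ) : ℂ)

end Cfsg.Agent.Lib.Helper75.BrauerHalf
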