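import Mathlib

/-!
# Trace bounds for positive semidefinite integral forms over `ℤ[ζ_{p^k}]`

For a positive semidefinite integral quadratic form `Q` and a vector `V` with entries in
`ℤ[ζ_{p^k}]`, the sum of `Q(σ V)` over the Galois conjugates is a rational integer which is either
`0` or at least `φ(p^k) · min Q` (`trace_bound`).  Similarly the sum of `|σ Y|²` for a nonzero
`Y ∈ ℤ[ζ_{p^k}]` lying in the prime above `p` is at least `2 φ(p^k)` (`normSq_bound_of_dvd`).
No Galois theory is used: everything is done with the explicit character sums over the units of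
`ℤ/p^k`.
-/

set_option autoImplicit false

namespace Cfsg.Agent.Lib.Helper75

open scoped ComplexConjugate

section NT

/-- the sum over the units of powers of a `p^(k+1)`-th root of unity -/
theorem sum_coprime_pow_eq (p k : ℕ) (hp : p.Prime) (ω : ℂ) (hω : ω ^ (p ^ (k + 1)) = 1) :
    ∑ j ∈ (Finset.range (p ^ (k + 1))).filter (fun j => j.Coprime (p ^ (k + 1))), ω ^ j =
      (if ω = 1 then ((p ^ (k + 1) : ℕ) : ℂ) else 0) -
        (if ω ^ p = 1 then ((p ^ k : ℕ) : ℂ) else 0) := by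
  classical
  have hcop : ∀ j : ℕ, j.Coprime (p ^ (k + 1)) ↔ ¬ p ∣ j := by
    intro j
    rw [Nat.coprime_pow_right_iff (Nat.succ_pos k), Nat.coprime_comm, hp.coprime_iff_not_dvd]
  have hall : ∑ j ∈ Finset.range (p ^ (k + 1)), ω ^ j =
      if ω = 1 then ((p ^ (k + 1) : ℕ) : ℂ) else 0 := by
    split_ifs with h1
    · subst h1
      simp
    · rw [geom_sum_eq h1, hω, sub_self, zero_div]
  have hmul : ∑ j ∈ (Finset.range (p ^ (k + 1))).filter (fun j => p ∣ j), ω ^ j =
      if ω ^ p = 1 then ((p ^ k : ℕ) : ℂ) else 0 := by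
    have himg : (Finset.range (p ^ (k + 1))).filter (fun j => p ∣ j) =
        (Finset.range (p ^ k)).image (fun i => p * i) := by
      ext j
      simp only [Finset.mem_filter, Finset.mem_range, Finset.mem_image]
      constructor
      · rintro ⟨hj, i, rfl⟩
        refine ⟨i, ?_, rfl⟩
        rw [pow_succ'] at hj
        exact lt_of_mul_lt_mul_left hj (Nat.zero_le p)
      · rintro ⟨i, hi, rfl⟩
        refine ⟨?_, dvd_mul_right p i⟩
        rw [pow_succ']
        exact Nat.mul_lt_mul_of_pos_left hi hp.pos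
    rw [himg, Finset.sum_image (by
      intro a _ b _ h
      exact Nat.eq_of_mul_eq_mul_left hp.pos h)]
    simp_rw [pow_mul]
    split_ifs with h1
    · rw [h1]
      simp
    · rw [geom_sum_eq h1, ← pow_mul, ← pow_succ', hω, sub_self, zero_div]
  rw [← hall, ← hmul]
  have hfil : (Finset.range (p ^ (k + 1))).filter (fun j => j.Coprime (p ^ (k + 1))) =
      (Finset.range (p ^ (k + 1))).filter (fun j => ¬ p ∣ j) := by
    apply Finset.filter_congr
    intro j _
    exact hcop j
  rw [hfil, eq_sub_iff_add_eq, add_comm]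
  exact Finset.sum_filter_add_sum_filter_not _ _ _


/-- the core summation formula -/
theorem core_sum (p k : ℕ) (hp : p.Prime) (ζ : ℂ) (hζ : IsPrimitiveRoot ζ (p ^ (k + 1)))
    (g : ℕ × ℕ → ℕ × ℕ → ℤ) :
    ∑ j ∈ (Finset.range (p ^ (k + 1))).filter (fun j => j.Coprime (p ^ (k + 1))),
      ∑ a ∈ Finset.range (p ^ k) ×ˢ Finset.range p,
        ∑ b ∈ Finset.range (p ^ k) ×ˢ Finset.range p,
          (g a b : ℂ) * ((ζ ^ (a.1 + p ^ k * a.2)) ^ j * conj ((ζ ^ (b.1 + p ^ k * b.2)) ^ j)) =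
    (((((p ^ k : ℕ) : ℤ) * ∑ r ∈ Finset.range (p ^ k),
        ((p : ℤ) * ∑ t ∈ Finset.range p, g (r, t) (r, t) -
          ∑ t ∈ Finset.range p, ∑ t' ∈ Finset.range p, g (r, t) (r, t')) : ℤ)) : ℂ) := by
  classical
  set n := p ^ (k + 1) with hn
  set m := p ^ k with hm
  have hnm : n = p * m := by rw [hn, hm, pow_succ']
  have hnpos : 0 < n := pow_pos hp.pos _
  have hmpos : 0 < m := pow_pos hp.pos _
  have hζn : ζ ^ n = 1 := hζ.pow_eq_one
  have hζnorm : ‖ζ‖ = 1 := Complex.norm_eq_one_of_pow_eq_one hζn hnpos.ne'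
  have hζ' : IsPrimitiveRoot (ζ ^ p) m := by
    have := hζ.pow_of_dvd hp.ne_zero (Dvd.intro m hnm.symm)
    rwa [hnm, Nat.mul_div_cancel_left m hp.pos] at this
  set P := Finset.range m ×ˢ Finset.range p with hP
  have hlt : ∀ a ∈ P, a.1 + m * a.2 < n := by
    intro a ha
    rw [hP, Finset.mem_product, Finset.mem_range, Finset.mem_range] at ha
    rw [hnm]
    calc a.1 + m * a.2 < m + m * a.2 := by omega
      _ = m * (a.2 + 1) := by ring
      _ ≤ m * p := Nat.mul_le_mul_left m ha.2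
      _ = p * m := Nat.mul_comm _ _
  have hinj : ∀ a ∈ P, ∀ b ∈ P, a.1 + m * a.2 = b.1 + m * b.2 → a = b := by
    intro a ha b hb h
    rw [hP, Finset.mem_product, Finset.mem_range, Finset.mem_range] at ha hb
    have h1 : (a.1 + m * a.2) % m = (b.1 + m * b.2) % m := by rw [h]
    rw [Nat.add_mul_mod_self_left, Nat.add_mul_mod_self_left, Nat.mod_eq_of_lt ha.1,
      Nat.mod_eq_of_lt hb.1] at h1
    have h2 : m * a.2 = m * b.2 := by omega
    have h3 : a.2 = b.2 := Nat.eq_of_mul_eq_mul_left hmpos h2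
    exact Prod.ext h1 h3
  -- the inner sum
  have hinner : ∀ a ∈ P, ∀ b ∈ P,
      ∑ j ∈ (Finset.range n).filter (fun j => j.Coprime n),
        (g a b : ℂ) * ((ζ ^ (a.1 + m * a.2)) ^ j * conj ((ζ ^ (b.1 + m * b.2)) ^ j)) =
      (g a b : ℂ) * ((if a = b then (n : ℂ) else 0) - (if a.1 = b.1 then (m : ℂ) else 0)) := by
    intro a ha b hb
    rw [← Finset.mul_sum]
    congr 1
    set x := ζ ^ (a.1 + m * a.2) with hx
    set y := ζ ^ (b.1 + m * b.2) with hy
    have hynorm : ‖y‖ = 1 := by rw [hy, norm_pow, hζnorm, one_pow]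
    have hy0 : y ≠ 0 := by
      intro h
      rw [h, norm_zero] at hynorm
      exact zero_ne_one hynorm
    have hconj : ∀ j : ℕ, x ^ j * conj (y ^ j) = (x * y⁻¹) ^ j := by
      intro j
      rw [map_pow, ← Complex.inv_eq_conj hynorm, mul_pow]
    simp_rw [hconj]
    have hω : (x * y⁻¹) ^ n = 1 := by
      rw [mul_pow, inv_pow, hx, hy, ← pow_mul, ← pow_mul, mul_comm _ n, mul_comm _ n, pow_mul,
        pow_mul, hζn, one_pow, one_pow, inv_one, mul_one]
    rw [sum_coprime_pow_eq p k hp _ hω]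
    have h1 : (x * y⁻¹ = 1) ↔ a = b := by
      rw [mul_inv_eq_one₀ hy0]
      constructor
      · intro h
        exact hinj a ha b hb (hζ.pow_inj (hlt a ha) (hlt b hb) h)
      · intro h
        rw [hx, hy, h]
    have h2 : ((x * y⁻¹) ^ p = 1) ↔ a.1 = b.1 := by
      rw [mul_pow, inv_pow, mul_inv_eq_one₀ (pow_ne_zero _ hy0)]
      have hxp : x ^ p = (ζ ^ p) ^ a.1 := by
        rw [hx, ← pow_mul, ← pow_mul, mul_comm, mul_add, pow_add, ← mul_assoc, ← hnm,
          pow_mul ζ n, hζn, one_pow, mul_one]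
      have hyp : y ^ p = (ζ ^ p) ^ b.1 := by
        rw [hy, ← pow_mul, ← pow_mul, mul_comm, mul_add, pow_add, ← mul_assoc, ← hnm,
          pow_mul ζ n, hζn, one_pow, mul_one]
      rw [hxp, hyp]
      rw [hP, Finset.mem_product, Finset.mem_range, Finset.mem_range] at ha hb
      constructor
      · intro h
        exact hζ'.pow_inj ha.1 hb.1 h
      · intro h
        rw [h]
    simp only [h1, h2]
    rfl
  -- swap the sums
  rw [Finset.sum_comm]
  have hswap : ∀ a ∈ P, ∑ j ∈ (Finset.range n).filter (fun j => j.Coprime n), ∑ b ∈ P,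
      (g a b : ℂ) * ((ζ ^ (a.1 + m * a.2)) ^ j * conj ((ζ ^ (b.1 + m * b.2)) ^ j)) =
      ∑ b ∈ P, (g a b : ℂ) * ((if a = b then (n : ℂ) else 0) - (if a.1 = b.1 then (m : ℂ) else 0)) := by
    intro a ha
    rw [Finset.sum_comm]
    exact Finset.sum_congr rfl (fun b hb => hinner a ha b hb)
  rw [Finset.sum_congr rfl hswap]
  -- evaluate
  simp_rw [mul_sub, Finset.sum_sub_distrib, mul_ite, mul_zero]
  have e1 : ∑ a ∈ P, ∑ b ∈ P, (if a = b then (g a b : ℂ) * (n : ℂ) else 0) =
      (n : ℂ) * ∑ r ∈ Finset.range m, ∑ t ∈ Finset.range p, (g (r, t) (r, t) : ℂ) := by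
    have : ∀ a ∈ P, ∑ b ∈ P, (if a = b then (g a b : ℂ) * (n : ℂ) else 0) = (g a a : ℂ) * n := by
      intro a ha
      rw [Finset.sum_ite_eq P a, if_pos ha]
    rw [Finset.sum_congr rfl this, hP, Finset.sum_product, Finset.mul_sum]
    apply Finset.sum_congr rfl
    intro r _
    rw [Finset.mul_sum]
    apply Finset.sum_congr rfl
    intro t _
    ring
  have e2 : ∑ a ∈ P, ∑ b ∈ P, (if a.1 = b.1 then (g a b : ℂ) * (m : ℂ) else 0) =
      (m : ℂ) * ∑ r ∈ Finset.range m, ∑ t ∈ Finset.range p, ∑ t' ∈ Finset.range p,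
        (g (r, t) (r, t') : ℂ) := by
    rw [hP, Finset.sum_product, Finset.mul_sum]
    apply Finset.sum_congr rfl
    intro r hr
    rw [Finset.mul_sum]
    apply Finset.sum_congr rfl
    intro t _
    rw [Finset.sum_product, Finset.mul_sum]
    simp only
    rw [Finset.sum_eq_single r]
    · simp only [if_true]
      apply Finset.sum_congr rfl
      intro t' _
      ring
    · intro r' _ hr'
      apply Finset.sum_eq_zero
      intro t' _
      rw [if_neg (Ne.symm hr')]
    · intro h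
      exact absurd hr h
  rw [e1, e2]
  have hnmC : (n : ℂ) = (p : ℂ) * (m : ℂ) := by
    rw [hnm]
    push_cast
    ring
  push_cast
  rw [← Finset.mul_sum, hnmC]
  ring


end NT

section Pair

variable {V : Type*} [AddCommGroup V] (B : V →ₗ[ℤ] V →ₗ[ℤ] ℤ)

/-- twice the defect `p Σ B(v_t,v_t) - Σ B(v_t,v_t')` is the sum of the norms of the differences -/
theorem two_mul_pair_defect (p : ℕ) (hsym : ∀ x y, B x y = B y x) (v : ℕ → V) :
    2 * ((p : ℤ) * ∑ t ∈ Finset.range p, B (v t) (v t) -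
        ∑ t ∈ Finset.range p, ∑ t' ∈ Finset.range p, B (v t) (v t')) =
      ∑ t ∈ Finset.range p, ∑ t' ∈ Finset.range p, B (v t - v t') (v t - v t') := by
  have h1 : ∀ t t', B (v t - v t') (v t - v t') =
      B (v t) (v t) + B (v t') (v t') - 2 * B (v t) (v t') := by
    intro t t'
    simp only [map_sub, LinearMap.sub_apply]
    rw [hsym (v t') (v t)]
    ring
  simp_rw [h1, Finset.sum_sub_distrib, Finset.sum_add_distrib, ← Finset.mul_sum, Finset.sum_const,
    Finset.card_range, nsmul_eq_mul]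
  rw [← Finset.mul_sum]
  ring

/-- vanishing of the norm is transitive -/
theorem norm_add_eq_zero (hsym : ∀ x y, B x y = B y x) (hpsd : ∀ x, 0 ≤ B x x) {x y : V}
    (hx : B x x = 0) (hy : B y y = 0) : B (x + y) (x + y) = 0 := by
  have h1 : B (x + y) (x + y) = 2 * B x y := by
    simp only [map_add, LinearMap.add_apply]
    rw [hx, hy, hsym y x]
    ring
  have h2 : B (x - y) (x - y) = - (2 * B x y) := by
    simp only [map_sub, LinearMap.sub_apply]
    rw [hx, hy, hsym y x]
    ring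
  have h3 := hpsd (x + y)
  have h4 := hpsd (x - y)
  rw [h1] at h3 ⊢
  rw [h2] at h4
  omega

/-- the pair bound -/
theorem pair_bound (hsym : ∀ x y, B x y = B y x) (hpsd : ∀ x, 0 ≤ B x x) (μ : ℤ) (hμ0 : 0 ≤ μ)
    (hμ : ∀ x, B x x ≠ 0 → μ ≤ B x x) (p : ℕ) (v : ℕ → V) :
    ((p : ℤ) * ∑ t ∈ Finset.range p, B (v t) (v t) -
        ∑ t ∈ Finset.range p, ∑ t' ∈ Finset.range p, B (v t) (v t') = 0 ∧
      ∀ t ∈ Finset.range p, ∀ t' ∈ Finset.range p, B (v t - v t') (v t - v t') = 0) ∨
    ((p : ℤ) - 1) * μ ≤ (p : ℤ) * ∑ t ∈ Finset.range p, B (v t) (v t) -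
        ∑ t ∈ Finset.range p, ∑ t' ∈ Finset.range p, B (v t) (v t') := by
  classical
  have h2 := two_mul_pair_defect B p hsym v
  set N := (p : ℤ) * ∑ t ∈ Finset.range p, B (v t) (v t) -
        ∑ t ∈ Finset.range p, ∑ t' ∈ Finset.range p, B (v t) (v t') with hN
  set D : ℕ → ℕ → ℤ := fun t t' => B (v t - v t') (v t - v t') with hD
  have hD0 : ∀ t t', 0 ≤ D t t' := fun t t' => hpsd _
  by_cases hall : ∀ t ∈ Finset.range p, ∀ t' ∈ Finset.range p, D t t' = 0
  · left
    refine ⟨?_, hall⟩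
    have : ∑ t ∈ Finset.range p, ∑ t' ∈ Finset.range p, D t t' = 0 :=
      Finset.sum_eq_zero (fun t ht => Finset.sum_eq_zero (fun t' ht' => hall t ht t' ht'))
    have h3 : 2 * N = 0 := by rw [h2]; exact this
    omega
  · right
    push Not at hall
    obtain ⟨t₀, ht₀, t₁, ht₁, hne⟩ := hall
    set S := (Finset.range p).filter (fun t => D t₀ t = 0) with hS
    set Sc := (Finset.range p).filter (fun t => ¬ D t₀ t = 0) with hSc
    have ht₀S : t₀ ∈ S := by
      rw [hS, Finset.mem_filter]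
      refine ⟨ht₀, ?_⟩
      show B (v t₀ - v t₀) (v t₀ - v t₀) = 0
      rw [sub_self]
      simp
    have ht₁Sc : t₁ ∈ Sc := by
      rw [hSc, Finset.mem_filter]
      exact ⟨ht₁, hne⟩
    have hcard : S.card + Sc.card = p := by
      rw [hS, hSc, Finset.card_filter_add_card_filter_not, Finset.card_range]
    have hS1 : 1 ≤ S.card := Finset.card_pos.mpr ⟨t₀, ht₀S⟩
    have hSc1 : 1 ≤ Sc.card := Finset.card_pos.mpr ⟨t₁, ht₁Sc⟩
    have hDsymm : ∀ t t', D t t' = D t' t := by
      intro t t'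
      show B (v t - v t') (v t - v t') = B (v t' - v t) (v t' - v t)
      have : v t' - v t = - (v t - v t') := by abel
      rw [this]
      simp only [map_neg, LinearMap.neg_apply, neg_neg]
    have hcross : ∀ t ∈ S, ∀ t' ∈ Sc, μ ≤ D t t' := by
      intro t ht t' ht'
      rw [hS, Finset.mem_filter] at ht
      rw [hSc, Finset.mem_filter] at ht'
      apply hμ
      intro h0
      apply ht'.2
      have := norm_add_eq_zero B hsym hpsd ht.2 h0
      have e : v t₀ - v t + (v t - v t') = v t₀ - v t' := by abel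
      rw [e] at this
      exact this
    -- lower bound
    have hsub : S ×ˢ Sc ∪ Sc ×ˢ S ⊆ Finset.range p ×ˢ Finset.range p := by
      intro x hx
      rw [Finset.mem_union, Finset.mem_product, Finset.mem_product] at hx
      rw [Finset.mem_product]
      rcases hx with ⟨h1, h2⟩ | ⟨h1, h2⟩
      · exact ⟨(Finset.mem_filter.mp h1).1, (Finset.mem_filter.mp h2).1⟩
      · exact ⟨(Finset.mem_filter.mp h1).1, (Finset.mem_filter.mp h2).1⟩
    have hdisj : Disjoint (S ×ˢ Sc) (Sc ×ˢ S) := by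
      rw [Finset.disjoint_left]
      intro x hx hx'
      rw [Finset.mem_product] at hx hx'
      have h1 := (Finset.mem_filter.mp hx.1).2
      have h2 := (Finset.mem_filter.mp hx'.1).2
      exact h2 h1
    have hsum : ∑ t ∈ Finset.range p, ∑ t' ∈ Finset.range p, D t t' =
        ∑ x ∈ Finset.range p ×ˢ Finset.range p, D x.1 x.2 := by
      rw [Finset.sum_product]
    have hlow : ∑ x ∈ S ×ˢ Sc ∪ Sc ×ˢ S, μ ≤ ∑ x ∈ Finset.range p ×ˢ Finset.range p, D x.1 x.2 := by
      calc ∑ x ∈ S ×ˢ Sc ∪ Sc ×ˢ S, μ ≤ ∑ x ∈ S ×ˢ Sc ∪ Sc ×ˢ S, D x.1 x.2 := by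
            apply Finset.sum_le_sum
            intro x hx
            rw [Finset.mem_union, Finset.mem_product, Finset.mem_product] at hx
            rcases hx with ⟨h1, h2⟩ | ⟨h1, h2⟩
            · exact hcross x.1 h1 x.2 h2
            · rw [hDsymm]
              exact hcross x.2 h2 x.1 h1
        _ ≤ _ := Finset.sum_le_sum_of_subset_of_nonneg hsub (fun x _ _ => hD0 _ _)
    rw [Finset.sum_const, Finset.card_union_of_disjoint hdisj, Finset.card_product,
      Finset.card_product, nsmul_eq_mul, ← hsum, ← h2] at hlow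
    have hprod : (p : ℤ) - 1 ≤ (S.card : ℤ) * (Sc.card : ℤ) := by
      have h5 : (S.card : ℤ) + (Sc.card : ℤ) = (p : ℤ) := by exact_mod_cast hcard
      have h6 : (1 : ℤ) ≤ S.card := by exact_mod_cast hS1
      have h7 : (1 : ℤ) ≤ Sc.card := by exact_mod_cast hSc1
      nlinarith
    push_cast at hlow
    nlinarith


end Pair

section NT2

/-- abstract trace bound for `p^(k+1)` -/
theorem trace_bound_succ (p k : ℕ) (hp : p.Prime) (ζ : ℂ) (hζ : IsPrimitiveRoot ζ (p ^ (k + 1)))
    {V : Type*} [AddCommGroup V] (B : V →ₗ[ℤ] V →ₗ[ℤ] ℤ)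
    (hsym : ∀ x y, B x y = B y x) (hpsd : ∀ x, 0 ≤ B x x) (μ : ℤ) (hμ0 : 0 ≤ μ)
    (hμ : ∀ x, B x x ≠ 0 → μ ≤ B x x) (x : ℕ × ℕ → V) :
    ∃ S : ℤ, ∑ j ∈ (Finset.range (p ^ (k + 1))).filter (fun j => j.Coprime (p ^ (k + 1))),
      ∑ a ∈ Finset.range (p ^ k) ×ˢ Finset.range p,
        ∑ b ∈ Finset.range (p ^ k) ×ˢ Finset.range p,
          ((B (x a) (x b) : ℤ) : ℂ) *
            ((ζ ^ (a.1 + p ^ k * a.2)) ^ j * conj ((ζ ^ (b.1 + p ^ k * b.2)) ^ j)) = (S : ℂ) ∧
      (S = 0 ∨ ((p ^ k : ℕ) : ℤ) * (((p : ℤ) - 1) * μ) ≤ S) := by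
  classical
  refine ⟨_, core_sum p k hp ζ hζ (fun a b => B (x a) (x b)), ?_⟩
  set N : ℕ → ℤ := fun r => (p : ℤ) * ∑ t ∈ Finset.range p, B (x (r, t)) (x (r, t)) -
          ∑ t ∈ Finset.range p, ∑ t' ∈ Finset.range p, B (x (r, t)) (x (r, t')) with hN
  have hp1 : (0 : ℤ) ≤ (p : ℤ) - 1 := by
    have := hp.one_le
    omega
  have hNr : ∀ r, N r = 0 ∨ ((p : ℤ) - 1) * μ ≤ N r := by
    intro r
    rcases pair_bound B hsym hpsd μ hμ0 hμ p (fun t => x (r, t)) with h | h
    · exact Or.inl h.1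
    · exact Or.inr h
  have hN0 : ∀ r, 0 ≤ N r := by
    intro r
    rcases hNr r with h | h
    · rw [h]
    · exact le_trans (mul_nonneg hp1 hμ0) h
  have hm0 : (0 : ℤ) ≤ ((p ^ k : ℕ) : ℤ) := Int.natCast_nonneg _
  show ((p ^ k : ℕ) : ℤ) * ∑ r ∈ Finset.range (p ^ k), N r = 0 ∨
    ((p ^ k : ℕ) : ℤ) * (((p : ℤ) - 1) * μ) ≤ ((p ^ k : ℕ) : ℤ) * ∑ r ∈ Finset.range (p ^ k), N r
  by_cases hall : ∀ r ∈ Finset.range (p ^ k), N r = 0
  · left
    rw [Finset.sum_eq_zero hall, mul_zero]
  · right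
    push Not at hall
    obtain ⟨r₀, hr₀, hne⟩ := hall
    have h1 : ((p : ℤ) - 1) * μ ≤ N r₀ := by
      rcases hNr r₀ with h | h
      · exact absurd h hne
      · exact h
    have h2 : N r₀ ≤ ∑ r ∈ Finset.range (p ^ k), N r :=
      Finset.single_le_sum (fun r _ => hN0 r) hr₀
    exact mul_le_mul_of_nonneg_left (h1.trans h2) hm0

/-- decomposition of a single term over the classes -/
theorem class_decomp (m p : ℕ) (hm : 0 < m) (e : ℕ) (he : e < m * p) {M : Type*} [AddCommMonoid M]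
    (f : ℕ × ℕ → M) :
    ∑ a ∈ Finset.range m ×ˢ Finset.range p, (if e = a.1 + m * a.2 then f a else 0) =
      f (e % m, e / m) := by
  classical
  rw [Finset.sum_eq_single (e % m, e / m)]
  · rw [if_pos (Nat.mod_add_div e m).symm]
  · intro b hb hne
    rw [if_neg]
    intro h
    apply hne
    rw [Finset.mem_product, Finset.mem_range, Finset.mem_range] at hb
    have h1 : e % m = b.1 := by
      rw [h, Nat.add_mul_mod_self_left, Nat.mod_eq_of_lt hb.1]
    have h2 : e / m = b.2 := by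
      rw [h, Nat.add_mul_div_left _ _ hm, Nat.div_eq_of_lt hb.1, zero_add]
    exact Prod.ext h1.symm h2.symm
  · intro h
    exfalso
    apply h
    rw [Finset.mem_product, Finset.mem_range, Finset.mem_range]
    exact ⟨Nat.mod_lt _ hm, Nat.div_lt_of_lt_mul he⟩


/-- the integer bilinear form of a matrix restricted to a finset -/
noncomputable def finsetBilin {Ξ : Type*} (s : Finset Ξ) (Q : Ξ → Ξ → ℤ) :
    (Ξ → ℤ) →ₗ[ℤ] (Ξ → ℤ) →ₗ[ℤ] ℤ :=
  LinearMap.mk₂ ℤ (fun x y => ∑ ξ ∈ s, ∑ ξ' ∈ s, x ξ * Q ξ ξ' * y ξ')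
    (by
      intro x x' y
      simp only [Pi.add_apply, add_mul, Finset.sum_add_distrib])
    (by
      intro c x y
      simp only [Pi.smul_apply, smul_eq_mul, Finset.mul_sum]
      apply Finset.sum_congr rfl
      intro ξ _
      apply Finset.sum_congr rfl
      intro ξ' _
      ring)
    (by
      intro x y y'
      simp only [Pi.add_apply, mul_add, Finset.sum_add_distrib])
    (by
      intro c x y
      simp only [Pi.smul_apply, smul_eq_mul, Finset.mul_sum]
      apply Finset.sum_congr rfl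
      intro ξ _
      apply Finset.sum_congr rfl
      intro ξ' _
      ring)

theorem finsetBilin_apply {Ξ : Type*} (s : Finset Ξ) (Q : Ξ → Ξ → ℤ) (x y : Ξ → ℤ) :
    finsetBilin s Q x y = ∑ ξ ∈ s, ∑ ξ' ∈ s, x ξ * Q ξ ξ' * y ξ' := rfl

/-- the complex bilinear form of an integer matrix restricted to a finset -/
noncomputable def finsetBilinC {Ξ : Type*} (s : Finset Ξ) (Q : Ξ → Ξ → ℤ) :
    (Ξ → ℂ) →ₗ[ℂ] (Ξ → ℂ) →ₗ[ℂ] ℂ :=
  LinearMap.mk₂ ℂ (fun x y => ∑ ξ ∈ s, ∑ ξ' ∈ s, x ξ * (Q ξ ξ' : ℂ) * y ξ')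
    (by
      intro x x' y
      simp only [Pi.add_apply, add_mul, Finset.sum_add_distrib])
    (by
      intro c x y
      simp only [Pi.smul_apply, smul_eq_mul, Finset.mul_sum]
      apply Finset.sum_congr rfl
      intro ξ _
      apply Finset.sum_congr rfl
      intro ξ' _
      ring)
    (by
      intro x y y'
      simp only [Pi.add_apply, mul_add, Finset.sum_add_distrib])
    (by
      intro c x y
      simp only [Pi.smul_apply, smul_eq_mul, Finset.mul_sum]
      apply Finset.sum_congr rfl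
      intro ξ _
      apply Finset.sum_congr rfl
      intro ξ' _
      ring)

theorem finsetBilinC_apply {Ξ : Type*} (s : Finset Ξ) (Q : Ξ → Ξ → ℤ) (x y : Ξ → ℂ) :
    finsetBilinC s Q x y = ∑ ξ ∈ s, ∑ ξ' ∈ s, x ξ * (Q ξ ξ' : ℂ) * y ξ' := rfl

/-- **trace bound** for positive semidefinite integral forms over `ℤ[ζ_{p^k}]` -/
theorem trace_bound (p k : ℕ) (hp : p.Prime) {Ξ : Type*} (s : Finset Ξ) (Q : Ξ → Ξ → ℤ)
    (hsym : ∀ ξ ξ', Q ξ ξ' = Q ξ' ξ)
    (hpsd : ∀ c : Ξ → ℤ, 0 ≤ ∑ ξ ∈ s, ∑ ξ' ∈ s, c ξ * Q ξ ξ' * c ξ')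
    (μ : ℤ) (hμ0 : 0 ≤ μ)
    (hμ : ∀ c : Ξ → ℤ, ∑ ξ ∈ s, ∑ ξ' ∈ s, c ξ * Q ξ ξ' * c ξ' ≠ 0 →
      μ ≤ ∑ ξ ∈ s, ∑ ξ' ∈ s, c ξ * Q ξ ξ' * c ξ')
    (c : Ξ → ℤ) (ρ : Ξ → ℂ) (hρ : ∀ ξ ∈ s, ρ ξ ^ (p ^ k) = 1) :
    ∃ S : ℤ, ∑ j ∈ (Finset.range (p ^ k)).filter (fun j => j.Coprime (p ^ k)),
        ∑ ξ ∈ s, ∑ ξ' ∈ s, ((c ξ * Q ξ ξ' * c ξ' : ℤ) : ℂ) * (ρ ξ ^ j * conj (ρ ξ' ^ j)) =
          (S : ℂ) ∧
      (S = 0 ∨ ((p ^ k).totient : ℤ) * μ ≤ S) := by
  classical
  rcases Nat.eq_zero_or_pos k with hk | hk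
  · -- `k = 0`
    subst hk
    refine ⟨∑ ξ ∈ s, ∑ ξ' ∈ s, c ξ * Q ξ ξ' * c ξ', ?_, ?_⟩
    · have hJ : (Finset.range (p ^ 0)).filter (fun j => j.Coprime (p ^ 0)) = {0} := by
        ext j
        simp
      rw [hJ, Finset.sum_singleton]
      push_cast
      apply Finset.sum_congr rfl
      intro ξ _
      apply Finset.sum_congr rfl
      intro ξ' _
      simp
    · by_cases h0 : ∑ ξ ∈ s, ∑ ξ' ∈ s, c ξ * Q ξ ξ' * c ξ' = 0
      · exact Or.inl h0
      · right
        simpa using hμ c h0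
  · obtain ⟨k, rfl⟩ : ∃ k', k = k' + 1 := ⟨k - 1, by omega⟩
    set n := p ^ (k + 1) with hn
    set m := p ^ k with hm
    have hnm : n = m * p := by rw [hn, hm, pow_succ]
    have hnpos : 0 < n := pow_pos hp.pos _
    have hmpos : 0 < m := pow_pos hp.pos _
    have : NeZero n := ⟨hnpos.ne'⟩
    set ζ : ℂ := Complex.exp (2 * Real.pi * Complex.I / n) with hζdef
    have hζ : IsPrimitiveRoot ζ n := Complex.isPrimitiveRoot_exp n hnpos.ne'
    -- exponents
    have hex : ∀ ξ : Ξ, ∃ e : ℕ, e < n ∧ (ξ ∈ s → ζ ^ e = ρ ξ) := by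
      intro ξ
      by_cases hξ : ξ ∈ s
      · obtain ⟨i, hi, hi'⟩ := hζ.eq_pow_of_pow_eq_one (hρ ξ hξ)
        exact ⟨i, hi, fun _ => hi'⟩
      · exact ⟨0, hnpos, fun h => absurd h hξ⟩
    choose e he1 he2 using hex
    set P := Finset.range m ×ˢ Finset.range p with hP
    set B := finsetBilin s Q with hB
    have hBsym : ∀ x y, B x y = B y x := by
      intro x y
      rw [hB, finsetBilin_apply, finsetBilin_apply, Finset.sum_comm]
      apply Finset.sum_congr rfl
      intro ξ _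
      apply Finset.sum_congr rfl
      intro ξ' _
      rw [hsym ξ' ξ]
      ring
    set x : ℕ × ℕ → (Ξ → ℤ) := fun a ξ => if e ξ = a.1 + m * a.2 then c ξ else 0 with hx
    obtain ⟨S, hS, hS'⟩ := trace_bound_succ p k hp ζ hζ B hBsym hpsd μ hμ0 hμ x
    rw [← hm] at hS
    refine ⟨S, ?_, ?_⟩
    · rw [← hS]
      apply Finset.sum_congr rfl
      intro j _
      -- per `j` identity
      set z : ℕ × ℕ → ℂ := fun a => (ζ ^ (a.1 + m * a.2)) ^ j with hz
      set X : ℕ × ℕ → (Ξ → ℂ) := fun a ξ => ((x a ξ : ℤ) : ℂ) * z a with hX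
      set Xc : ℕ × ℕ → (Ξ → ℂ) := fun a ξ => ((x a ξ : ℤ) : ℂ) * conj (z a) with hXc
      have hU : ∀ ξ ∈ s, ∑ a ∈ P, X a ξ = (c ξ : ℂ) * ρ ξ ^ j := by
        intro ξ hξ
        have h1 : ∀ a ∈ P, X a ξ = if e ξ = a.1 + m * a.2 then (c ξ : ℂ) * z a else 0 := by
          intro a _
          simp only [hX, hx]
          split_ifs <;> simp
        rw [Finset.sum_congr rfl h1, hP,
          class_decomp m p hmpos (e ξ) (by rw [← hnm]; exact he1 ξ) (fun a => (c ξ : ℂ) * z a)]
        simp only [hz]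
        rw [Nat.mod_add_div, he2 ξ hξ]
      have hUc : ∀ ξ ∈ s, ∑ a ∈ P, Xc a ξ = (c ξ : ℂ) * conj (ρ ξ ^ j) := by
        intro ξ hξ
        have h1 : ∀ a ∈ P, Xc a ξ =
            if e ξ = a.1 + m * a.2 then (c ξ : ℂ) * conj (z a) else 0 := by
          intro a _
          simp only [hXc, hx]
          split_ifs <;> simp
        rw [Finset.sum_congr rfl h1, hP,
          class_decomp m p hmpos (e ξ) (by rw [← hnm]; exact he1 ξ)
            (fun a => (c ξ : ℂ) * conj (z a))]
        simp only [hz]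
        rw [Nat.mod_add_div, he2 ξ hξ]
      have hlhs : ∑ ξ ∈ s, ∑ ξ' ∈ s,
          ((c ξ * Q ξ ξ' * c ξ' : ℤ) : ℂ) * (ρ ξ ^ j * conj (ρ ξ' ^ j)) =
          finsetBilinC s Q (∑ a ∈ P, X a) (∑ b ∈ P, Xc b) := by
        rw [finsetBilinC_apply]
        apply Finset.sum_congr rfl
        intro ξ hξ
        apply Finset.sum_congr rfl
        intro ξ' hξ'
        rw [Finset.sum_apply, Finset.sum_apply, hU ξ hξ, hUc ξ' hξ']
        push_cast
        ring
      rw [hlhs]
      simp only [map_sum, LinearMap.sum_apply]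
      rw [Finset.sum_comm]
      apply Finset.sum_congr rfl
      intro a _
      apply Finset.sum_congr rfl
      intro b _
      rw [finsetBilinC_apply, hB, finsetBilin_apply]
      push_cast
      rw [Finset.sum_mul]
      apply Finset.sum_congr rfl
      intro ξ _
      rw [Finset.sum_mul]
      apply Finset.sum_congr rfl
      intro ξ' _
      simp only [hX, hXc, hz]
      rw [map_pow]
      ring
    · rcases hS' with h | h
      · exact Or.inl h
      · right
        rw [Nat.totient_prime_pow_succ hp]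
        have hp1 := hp.one_le
        push_cast [Nat.cast_sub hp1]
        push_cast at h
        linarith


/-- the pair defect for integers whose sum is divisible by `p` -/
theorem pair_defect_of_dvd (p : ℕ) (hp : 0 < p) (x : ℕ → ℤ)
    (hdvd : (p : ℤ) ∣ ∑ t ∈ Finset.range p, x t)
    (hne : (p : ℤ) * ∑ t ∈ Finset.range p, x t * x t -
        ∑ t ∈ Finset.range p, ∑ t' ∈ Finset.range p, x t * x t' ≠ 0) :
    2 * ((p : ℤ) - 1) ≤ (p : ℤ) * ∑ t ∈ Finset.range p, x t * x t -
        ∑ t ∈ Finset.range p, ∑ t' ∈ Finset.range p, x t * x t' := by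
  obtain ⟨M, hM⟩ := hdvd
  have hsq : ∑ t ∈ Finset.range p, ∑ t' ∈ Finset.range p, x t * x t' =
      (∑ t ∈ Finset.range p, x t) ^ 2 := by
    rw [pow_two, Finset.sum_mul_sum]
  rw [hsq, hM] at hne ⊢
  set y : ℕ → ℤ := fun t => x t - M with hy
  have hysum : ∑ t ∈ Finset.range p, y t = 0 := by
    simp only [hy, Finset.sum_sub_distrib, Finset.sum_const, Finset.card_range, nsmul_eq_mul]
    rw [hM]
    ring
  have hysq : ∑ t ∈ Finset.range p, y t * y t =
      ∑ t ∈ Finset.range p, x t * x t - (p : ℤ) * M ^ 2 := by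
    have : ∀ t, y t * y t = x t * x t - 2 * M * x t + M ^ 2 := by
      intro t
      simp only [hy]
      ring
    simp only [this, Finset.sum_sub_distrib, Finset.sum_add_distrib, Finset.sum_const,
      Finset.card_range, nsmul_eq_mul, ← Finset.mul_sum]
    rw [hM]
    ring
  have hN : (p : ℤ) * ∑ t ∈ Finset.range p, x t * x t - ((p : ℤ) * M) ^ 2 =
      (p : ℤ) * ∑ t ∈ Finset.range p, y t * y t := by
    rw [hysq]
    ring
  rw [hN] at hne ⊢
  have hy0 : 0 ≤ ∑ t ∈ Finset.range p, y t * y t :=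
    Finset.sum_nonneg (fun t _ => mul_self_nonneg _)
  have hyne : ∑ t ∈ Finset.range p, y t * y t ≠ 0 := by
    intro h
    rw [h, mul_zero] at hne
    exact hne rfl
  have heven : Even (∑ t ∈ Finset.range p, y t * y t) := by
    have h1 : ∑ t ∈ Finset.range p, y t * y t =
        ∑ t ∈ Finset.range p, y t * (y t - 1) + ∑ t ∈ Finset.range p, y t := by
      rw [← Finset.sum_add_distrib]
      apply Finset.sum_congr rfl
      intro t _
      ring
    rw [h1, hysum, add_zero]
    apply Finset.even_sum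
    intro t _
    exact Int.even_mul_pred_self (y t)
  obtain ⟨w, hw⟩ := heven
  have hp' : (1 : ℤ) ≤ (p : ℤ) := by exact_mod_cast hp
  have h2 : 2 ≤ ∑ t ∈ Finset.range p, y t * y t := by omega
  nlinarith

/-- **norm bound** for nonzero elements of the prime above `p` in `ℤ[ζ_{p^k}]` -/
theorem normSq_bound_of_dvd (p k : ℕ) (hp : p.Prime) {Ξ : Type*} (s : Finset Ξ)
    (c : Ξ → ℤ) (ρ : Ξ → ℂ) (hρ : ∀ ξ ∈ s, ρ ξ ^ (p ^ k) = 1)
    (hdvd : (p : ℤ) ∣ ∑ ξ ∈ s, c ξ) :
    ∃ S : ℤ, ∑ j ∈ (Finset.range (p ^ k)).filter (fun j => j.Coprime (p ^ k)),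
        (∑ ξ ∈ s, (c ξ : ℂ) * ρ ξ ^ j) * conj (∑ ξ ∈ s, (c ξ : ℂ) * ρ ξ ^ j) = (S : ℂ) ∧
      (S = 0 ∨ 2 * ((p ^ k).totient : ℤ) ≤ S) := by
  classical
  rcases Nat.eq_zero_or_pos k with hk | hk
  · subst hk
    refine ⟨(∑ ξ ∈ s, c ξ) ^ 2, ?_, ?_⟩
    · have hJ : (Finset.range (p ^ 0)).filter (fun j => j.Coprime (p ^ 0)) = {0} := by
        ext j
        simp
      rw [hJ, Finset.sum_singleton]
      simp only [pow_zero, mul_one]
      rw [← Int.cast_sum, map_intCast]
      push_cast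
      ring
    · obtain ⟨w, hw⟩ := hdvd
      rw [hw]
      by_cases hw0 : w = 0
      · left
        rw [hw0]
        simp
      · right
        simp only [pow_zero, Nat.totient_one, Nat.cast_one, mul_one]
        have hp2 : (2 : ℤ) ≤ (p : ℤ) := by exact_mod_cast hp.two_le
        have hw1 : 1 ≤ w ^ 2 := by
          have := sq_nonneg w
          have : w ^ 2 ≠ 0 := pow_ne_zero 2 hw0
          omega
        have hp4 : (4 : ℤ) ≤ (p : ℤ) ^ 2 := by nlinarith
        calc (2 : ℤ) ≤ 4 * 1 := by norm_num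
          _ ≤ (p : ℤ) ^ 2 * w ^ 2 := mul_le_mul hp4 hw1 zero_le_one (by positivity)
          _ = ((p : ℤ) * w) ^ 2 := by ring
  · obtain ⟨k, rfl⟩ : ∃ k', k = k' + 1 := ⟨k - 1, by omega⟩
    set n := p ^ (k + 1) with hn
    set m := p ^ k with hm
    have hnm : n = m * p := by rw [hn, hm, pow_succ]
    have hnpos : 0 < n := pow_pos hp.pos _
    have hmpos : 0 < m := pow_pos hp.pos _
    have : NeZero n := ⟨hnpos.ne'⟩
    set ζ : ℂ := Complex.exp (2 * Real.pi * Complex.I / n) with hζdef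
    have hζ : IsPrimitiveRoot ζ n := Complex.isPrimitiveRoot_exp n hnpos.ne'
    have hex : ∀ ξ : Ξ, ∃ e : ℕ, e < n ∧ (ξ ∈ s → ζ ^ e = ρ ξ) := by
      intro ξ
      by_cases hξ : ξ ∈ s
      · obtain ⟨i, hi, hi'⟩ := hζ.eq_pow_of_pow_eq_one (hρ ξ hξ)
        exact ⟨i, hi, fun _ => hi'⟩
      · exact ⟨0, hnpos, fun h => absurd h hξ⟩
    choose e he1 he2 using hex
    set P := Finset.range m ×ˢ Finset.range p with hP
    set x : ℕ × ℕ → ℤ := fun a => ∑ ξ ∈ s, (if e ξ = a.1 + m * a.2 then c ξ else 0) with hx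
    -- total sum
    have htot : ∑ a ∈ P, x a = ∑ ξ ∈ s, c ξ := by
      simp only [hx]
      rw [Finset.sum_comm]
      apply Finset.sum_congr rfl
      intro ξ _
      rw [hP, class_decomp m p hmpos (e ξ) (by rw [← hnm]; exact he1 ξ) (fun _ => c ξ)]
    -- the value `Y j`
    have hY : ∀ j : ℕ, ∑ ξ ∈ s, (c ξ : ℂ) * ρ ξ ^ j =
        ∑ a ∈ P, ((x a : ℤ) : ℂ) * (ζ ^ (a.1 + m * a.2)) ^ j := by
      intro j
      simp only [hx]
      push_cast
      simp_rw [Finset.sum_mul]
      rw [Finset.sum_comm]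
      apply Finset.sum_congr rfl
      intro ξ hξ
      have h1 : ∀ a ∈ P, (if e ξ = a.1 + m * a.2 then (c ξ : ℂ) else 0) *
          (ζ ^ (a.1 + m * a.2)) ^ j =
          if e ξ = a.1 + m * a.2 then (c ξ : ℂ) * (ζ ^ (a.1 + m * a.2)) ^ j else 0 := by
        intro a _
        split_ifs <;> simp
      rw [Finset.sum_congr rfl h1, hP,
        class_decomp m p hmpos (e ξ) (by rw [← hnm]; exact he1 ξ)
          (fun a => (c ξ : ℂ) * (ζ ^ (a.1 + m * a.2)) ^ j)]
      simp only
      rw [Nat.mod_add_div, he2 ξ hξ]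
    have hcore := core_sum p k hp ζ hζ (fun a b => x a * x b)
    rw [← hm] at hcore
    set N : ℕ → ℤ := fun r => (p : ℤ) * ∑ t ∈ Finset.range p, x (r, t) * x (r, t) -
        ∑ t ∈ Finset.range p, ∑ t' ∈ Finset.range p, x (r, t) * x (r, t') with hN
    refine ⟨(m : ℤ) * ∑ r ∈ Finset.range m, N r, ?_, ?_⟩
    · rw [← hcore]
      apply Finset.sum_congr rfl
      intro j _
      rw [hY j, map_sum, Finset.sum_mul_sum]
      apply Finset.sum_congr rfl
      intro a _
      apply Finset.sum_congr rfl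
      intro b _
      rw [map_mul, map_intCast]
      push_cast
      ring
    · have hp1 : (0 : ℤ) ≤ (p : ℤ) - 1 := by
        have := hp.one_le
        omega
      have hpair : ∀ r, (N r = 0 ∧ ∀ t ∈ Finset.range p, ∀ t' ∈ Finset.range p,
          (x (r, t) - x (r, t')) * (x (r, t) - x (r, t')) = 0) ∨ ((p : ℤ) - 1) * 1 ≤ N r := by
        intro r
        have := pair_bound (LinearMap.mul ℤ ℤ) (fun a b => by simp [mul_comm])
          (fun a => by simpa using mul_self_nonneg a) 1 zero_le_one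
          (fun a ha => by
            have h0 : 0 ≤ a * a := mul_self_nonneg a
            simp only [LinearMap.mul_apply'] at ha ⊢
            omega) p (fun t => x (r, t))
        simpa only [LinearMap.mul_apply'] using this
      have hN0 : ∀ r, 0 ≤ N r := by
        intro r
        rcases hpair r with h | h
        · rw [h.1]
        · linarith
      have hm0 : (0 : ℤ) ≤ (m : ℤ) := Int.natCast_nonneg _
      have htotient : ((p ^ (k + 1)).totient : ℤ) = (m : ℤ) * ((p : ℤ) - 1) := by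
        rw [Nat.totient_prime_pow_succ hp, ← hm]
        push_cast [Nat.cast_sub hp.one_le]
        ring
      rw [htotient]
      by_cases hall : ∀ r ∈ Finset.range m, N r = 0
      · left
        rw [Finset.sum_eq_zero hall, mul_zero]
      · right
        push Not at hall
        obtain ⟨r₀, hr₀, hne₀⟩ := hall
        have hgoal : 2 * ((p : ℤ) - 1) ≤ ∑ r ∈ Finset.range m, N r := by
          by_cases hsecond : ∃ r₁ ∈ Finset.range m, r₁ ≠ r₀ ∧ N r₁ ≠ 0
          · obtain ⟨r₁, hr₁, hr₁₀, hne₁⟩ := hsecond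
            have h0 : (p : ℤ) - 1 ≤ N r₀ := by
              rcases hpair r₀ with h | h
              · exact absurd h.1 hne₀
              · linarith
            have h1 : (p : ℤ) - 1 ≤ N r₁ := by
              rcases hpair r₁ with h | h
              · exact absurd h.1 hne₁
              · linarith
            have hsub : ({r₀, r₁} : Finset ℕ) ⊆ Finset.range m := by
              intro r hr
              rw [Finset.mem_insert, Finset.mem_singleton] at hr
              rcases hr with rfl | rfl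
              · exact hr₀
              · exact hr₁
            have h2 := Finset.sum_le_sum_of_subset_of_nonneg (f := N) hsub (fun r _ _ => hN0 r)
            rw [Finset.sum_pair (Ne.symm hr₁₀)] at h2
            linarith
          · push Not at hsecond
            -- all other classes are constant
            have hconst : ∀ r ∈ Finset.range m, r ≠ r₀ →
                ∑ t ∈ Finset.range p, x (r, t) = (p : ℤ) * x (r, 0) := by
              intro r hr hrr
              have hNr := hsecond r hr hrr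
              rcases hpair r with h | h
              · have hp0 : 0 ∈ Finset.range p := Finset.mem_range.mpr hp.pos
                have heq : ∀ t ∈ Finset.range p, x (r, t) = x (r, 0) := by
                  intro t ht
                  have := h.2 t ht 0 hp0
                  have := mul_self_eq_zero.mp this
                  linarith
                rw [Finset.sum_congr rfl heq, Finset.sum_const, Finset.card_range, nsmul_eq_mul]
              · exfalso
                have hp2 : (2 : ℤ) ≤ (p : ℤ) := by exact_mod_cast hp.two_le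
                rw [hNr] at h
                linarith
            have hdvd₀ : (p : ℤ) ∣ ∑ t ∈ Finset.range p, x (r₀, t) := by
              have h1 : ∑ a ∈ P, x a = ∑ r ∈ Finset.range m, ∑ t ∈ Finset.range p, x (r, t) := by
                rw [hP, Finset.sum_product]
              rw [htot] at h1
              rw [h1, ← Finset.add_sum_erase _ _ hr₀] at hdvd
              have h2 : (p : ℤ) ∣ ∑ r ∈ (Finset.range m).erase r₀,
                  ∑ t ∈ Finset.range p, x (r, t) := by
                apply Finset.dvd_sum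
                intro r hr
                rw [Finset.mem_erase] at hr
                rw [hconst r hr.2 hr.1]
                exact dvd_mul_right _ _
              exact (dvd_add_left h2).mp hdvd
            have h3 := pair_defect_of_dvd p hp.pos (fun t => x (r₀, t)) hdvd₀ hne₀
            have h4 : N r₀ ≤ ∑ r ∈ Finset.range m, N r :=
              Finset.single_le_sum (fun r _ => hN0 r) hr₀
            exact h3.trans h4
        calc 2 * ((m : ℤ) * ((p : ℤ) - 1)) = (m : ℤ) * (2 * ((p : ℤ) - 1)) := by ring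
          _ ≤ (m : ℤ) * ∑ r ∈ Finset.range m, N r := mul_le_mul_of_nonneg_left hgoal hm0


end NT2

end Cfsg.Agent.Lib.Helper75
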