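import Mathlib
import Cfsg.Agent.Lib.Helper75.MajorSubNT

/-!
# Gram matrices and their sesquilinear forms

Shared library by helper75 (for S4539): an integer matrix which is the Gram matrix of finitely many
complex functions defines a positive semidefinite sesquilinear form; vanishing of the norm of a
vector forces vanishing of all its products.
-/

set_option autoImplicit false

namespace Cfsg.Agent.Lib.Helper75

open scoped ComplexConjugate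

section Gram

variable {Ξ T : Type*}

/-- the sesquilinear form of an integer matrix restricted to a finset -/
noncomputable def sesq (s : Finset Ξ) (Q : Ξ → Ξ → ℤ) (a b : Ξ → ℂ) : ℂ :=
  finsetBilinC s Q a (fun ξ => conj (b ξ))

theorem sesq_apply (s : Finset Ξ) (Q : Ξ → Ξ → ℤ) (a b : Ξ → ℂ) :
    sesq s Q a b = ∑ ξ ∈ s, ∑ ξ' ∈ s, a ξ * (Q ξ ξ' : ℂ) * conj (b ξ') := rfl

/-- the matrix is the Gram matrix of functions `g ξ` on a finite set of points with weight `w` -/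
def IsGram (s : Finset Ξ) (pts : Finset T) (g : Ξ → T → ℂ) (w : ℝ) (Q : Ξ → Ξ → ℤ) : Prop :=
  ∀ ξ ∈ s, ∀ ξ' ∈ s, (Q ξ ξ' : ℂ) = (w : ℂ) * ∑ x ∈ pts, g ξ x * conj (g ξ' x)

theorem sesq_eq_of_isGram {s : Finset Ξ} {pts : Finset T} {g : Ξ → T → ℂ} {w : ℝ}
    {Q : Ξ → Ξ → ℤ} (h : IsGram s pts g w Q) (a b : Ξ → ℂ) :
    sesq s Q a b = (w : ℂ) * ∑ x ∈ pts, (∑ ξ ∈ s, a ξ * g ξ x) * conj (∑ ξ ∈ s, b ξ * g ξ x) := by
  rw [sesq_apply]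
  have h1 : ∀ x ∈ pts, (∑ ξ ∈ s, a ξ * g ξ x) * conj (∑ ξ ∈ s, b ξ * g ξ x) =
      ∑ ξ ∈ s, ∑ ξ' ∈ s, a ξ * conj (b ξ') * (g ξ x * conj (g ξ' x)) := by
    intro x _
    rw [map_sum, Finset.sum_mul_sum]
    apply Finset.sum_congr rfl
    intro ξ _
    apply Finset.sum_congr rfl
    intro ξ' _
    rw [map_mul]
    ring
  have h2 : ∑ x ∈ pts, ∑ ξ ∈ s, ∑ ξ' ∈ s, a ξ * conj (b ξ') * (g ξ x * conj (g ξ' x)) =
      ∑ ξ ∈ s, ∑ ξ' ∈ s, a ξ * conj (b ξ') * ∑ x ∈ pts, g ξ x * conj (g ξ' x) := by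
    rw [Finset.sum_comm]
    apply Finset.sum_congr rfl
    intro ξ _
    rw [Finset.sum_comm]
    apply Finset.sum_congr rfl
    intro ξ' _
    rw [Finset.mul_sum]
  rw [Finset.sum_congr rfl h1, h2, Finset.mul_sum]
  apply Finset.sum_congr rfl
  intro ξ hξ
  rw [Finset.mul_sum]
  apply Finset.sum_congr rfl
  intro ξ' hξ'
  rw [h ξ hξ ξ' hξ']
  ring

theorem sesq_self_of_isGram {s : Finset Ξ} {pts : Finset T} {g : Ξ → T → ℂ} {w : ℝ}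
    {Q : Ξ → Ξ → ℤ} (h : IsGram s pts g w Q) (a : Ξ → ℂ) :
    sesq s Q a a = ((w * ∑ x ∈ pts, Complex.normSq (∑ ξ ∈ s, a ξ * g ξ x) : ℝ) : ℂ) := by
  rw [sesq_eq_of_isGram h]
  push_cast
  congr 1
  apply Finset.sum_congr rfl
  intro x _
  rw [Complex.mul_conj]

theorem sesq_self_nonneg {s : Finset Ξ} {pts : Finset T} {g : Ξ → T → ℂ} {w : ℝ}
    {Q : Ξ → Ξ → ℤ} (h : IsGram s pts g w Q) (hw : 0 ≤ w) (a : Ξ → ℂ) :
    ∃ r : ℝ, 0 ≤ r ∧ sesq s Q a a = (r : ℂ) :=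
  ⟨_, mul_nonneg hw (Finset.sum_nonneg (fun _ _ => Complex.normSq_nonneg _)),
    sesq_self_of_isGram h a⟩

theorem sum_eq_zero_of_sesq_self {s : Finset Ξ} {pts : Finset T} {g : Ξ → T → ℂ} {w : ℝ}
    {Q : Ξ → Ξ → ℤ} (h : IsGram s pts g w Q) (hw : 0 < w) {b : Ξ → ℂ}
    (hb : sesq s Q b b = 0) : ∀ x ∈ pts, ∑ ξ ∈ s, b ξ * g ξ x = 0 := by
  rw [sesq_self_of_isGram h] at hb
  have h1 : w * ∑ x ∈ pts, Complex.normSq (∑ ξ ∈ s, b ξ * g ξ x) = 0 := by exact_mod_cast hb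
  have h2 : ∑ x ∈ pts, Complex.normSq (∑ ξ ∈ s, b ξ * g ξ x) = 0 := by
    rcases mul_eq_zero.mp h1 with h | h
    · exact absurd h hw.ne'
    · exact h
  intro x hx
  have h3 := (Finset.sum_eq_zero_iff_of_nonneg (fun _ _ => Complex.normSq_nonneg _)).mp h2 x hx
  exact Complex.normSq_eq_zero.mp h3

theorem sesq_eq_zero_right {s : Finset Ξ} {pts : Finset T} {g : Ξ → T → ℂ} {w : ℝ}
    {Q : Ξ → Ξ → ℤ} (h : IsGram s pts g w Q) (hw : 0 < w) {b : Ξ → ℂ}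
    (hb : sesq s Q b b = 0) (a : Ξ → ℂ) : sesq s Q a b = 0 := by
  rw [sesq_eq_of_isGram h]
  have h0 := sum_eq_zero_of_sesq_self h hw hb
  rw [Finset.sum_eq_zero, mul_zero]
  intro x hx
  rw [h0 x hx, map_zero, mul_zero]

theorem sesq_eq_zero_left {s : Finset Ξ} {pts : Finset T} {g : Ξ → T → ℂ} {w : ℝ}
    {Q : Ξ → Ξ → ℤ} (h : IsGram s pts g w Q) (hw : 0 < w) {b : Ξ → ℂ}
    (hb : sesq s Q b b = 0) (a : Ξ → ℂ) : sesq s Q b a = 0 := by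
  rw [sesq_eq_of_isGram h]
  have h0 := sum_eq_zero_of_sesq_self h hw hb
  rw [Finset.sum_eq_zero, mul_zero]
  intro x hx
  rw [h0 x hx, zero_mul]

theorem int_psd_of_isGram {s : Finset Ξ} {pts : Finset T} {g : Ξ → T → ℂ} {w : ℝ}
    {Q : Ξ → Ξ → ℤ} (h : IsGram s pts g w Q) (hw : 0 ≤ w) (c : Ξ → ℤ) :
    0 ≤ ∑ ξ ∈ s, ∑ ξ' ∈ s, c ξ * Q ξ ξ' * c ξ' := by
  obtain ⟨r, hr, hr'⟩ := sesq_self_nonneg h hw (fun ξ => (c ξ : ℂ))
  rw [sesq_apply] at hr'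
  have h1 : ((∑ ξ ∈ s, ∑ ξ' ∈ s, c ξ * Q ξ ξ' * c ξ' : ℤ) : ℂ) = (r : ℂ) := by
    rw [← hr']
    push_cast
    apply Finset.sum_congr rfl
    intro ξ _
    apply Finset.sum_congr rfl
    intro ξ' _
    rw [map_intCast]
  have h2 : ((∑ ξ ∈ s, ∑ ξ' ∈ s, c ξ * Q ξ ξ' * c ξ' : ℤ) : ℝ) = r := by exact_mod_cast h1
  have h3 : (0 : ℝ) ≤ ((∑ ξ ∈ s, ∑ ξ' ∈ s, c ξ * Q ξ ξ' * c ξ' : ℤ) : ℝ) := by rw [h2]; exact hr
  exact_mod_cast h3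

/-- the form of powers of roots of unity, in the shape used by `trace_bound` -/
theorem sesq_pow_eq (s : Finset Ξ) (Q : Ξ → Ξ → ℤ) (c c' : Ξ → ℤ) (ρ : Ξ → ℂ) (j : ℕ) :
    sesq s Q (fun ξ => (c ξ : ℂ) * ρ ξ ^ j) (fun ξ => (c' ξ : ℂ) * ρ ξ ^ j) =
      ∑ ξ ∈ s, ∑ ξ' ∈ s, ((c ξ * Q ξ ξ' * c' ξ' : ℤ) : ℂ) * (ρ ξ ^ j * conj (ρ ξ' ^ j)) := by
  rw [sesq_apply]
  apply Finset.sum_congr rfl
  intro ξ _
  apply Finset.sum_congr rfl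
  intro ξ' _
  rw [map_mul, map_intCast]
  push_cast
  ring

end Gram

end Cfsg.Agent.Lib.Helper75
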