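import Mathlib
import Cfsg.Agent.Lib.Helper75.MajorSubGram

/-!
# Splitting off a vector of norm one from an integral Gram form

Shared library by helper75 (for S4539): if `Q(c) = 1` then `Q = y yᵀ + Q⊥` with `y = Q c`, the form
`Q⊥` is again positive semidefinite (it is the form of the projections), and it vanishes modulo `p`
if `Q` has rank one modulo `p`.
-/

set_option autoImplicit false

namespace Cfsg.Agent.Lib.Helper75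

open scoped ComplexConjugate

section Perp

variable {Ξ : Type*}

/-- the vector `Q c` -/
def perpY (s : Finset Ξ) (Q : Ξ → Ξ → ℤ) (c : Ξ → ℤ) (ξ : Ξ) : ℤ := ∑ ξ' ∈ s, Q ξ ξ' * c ξ'

/-- the form on the orthogonal complement of `c` -/
def perpQ (s : Finset Ξ) (Q : Ξ → Ξ → ℤ) (c : Ξ → ℤ) (ξ ξ' : Ξ) : ℤ :=
  Q ξ ξ' - perpY s Q c ξ * perpY s Q c ξ'

/-- the projection of a complex vector -/
noncomputable def perpV (s : Finset Ξ) (Q : Ξ → Ξ → ℤ) (c : Ξ → ℤ) (a : Ξ → ℂ) : Ξ → ℂ :=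
  a - (∑ η ∈ s, a η * (perpY s Q c η : ℂ)) • (fun ξ => (c ξ : ℂ))

theorem perpQ_symm (s : Finset Ξ) (Q : Ξ → Ξ → ℤ) (c : Ξ → ℤ) (hsym : ∀ ξ ξ', Q ξ ξ' = Q ξ' ξ)
    (ξ ξ' : Ξ) : perpQ s Q c ξ ξ' = perpQ s Q c ξ' ξ := by
  unfold perpQ
  rw [hsym ξ ξ', mul_comm]

theorem bilinC_right_c (s : Finset Ξ) (Q : Ξ → Ξ → ℤ) (c : Ξ → ℤ) (a : Ξ → ℂ) :
    finsetBilinC s Q a (fun ξ => (c ξ : ℂ)) = ∑ ξ ∈ s, a ξ * (perpY s Q c ξ : ℂ) := by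
  rw [finsetBilinC_apply]
  apply Finset.sum_congr rfl
  intro ξ _
  unfold perpY
  push_cast
  rw [Finset.mul_sum]
  apply Finset.sum_congr rfl
  intro ξ' _
  ring

theorem bilinC_left_c (s : Finset Ξ) (Q : Ξ → Ξ → ℤ) (c : Ξ → ℤ) (hsym : ∀ ξ ξ', Q ξ ξ' = Q ξ' ξ)
    (b : Ξ → ℂ) :
    finsetBilinC s Q (fun ξ => (c ξ : ℂ)) b = ∑ ξ ∈ s, b ξ * (perpY s Q c ξ : ℂ) := by
  rw [finsetBilinC_apply, Finset.sum_comm]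
  apply Finset.sum_congr rfl
  intro ξ' _
  unfold perpY
  push_cast
  rw [Finset.mul_sum]
  apply Finset.sum_congr rfl
  intro ξ _
  rw [hsym ξ' ξ]
  ring

theorem bilinC_c_c (s : Finset Ξ) (Q : Ξ → Ξ → ℤ) (c : Ξ → ℤ)
    (h1 : ∑ ξ ∈ s, ∑ ξ' ∈ s, c ξ * Q ξ ξ' * c ξ' = 1) :
    finsetBilinC s Q (fun ξ => (c ξ : ℂ)) (fun ξ => (c ξ : ℂ)) = 1 := by
  rw [finsetBilinC_apply]
  have := congrArg (Int.cast : ℤ → ℂ) h1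
  push_cast at this
  exact this

theorem bilinC_perpQ (s : Finset Ξ) (Q : Ξ → Ξ → ℤ) (c : Ξ → ℤ) (a b : Ξ → ℂ) :
    finsetBilinC s (perpQ s Q c) a b = finsetBilinC s Q a b -
      (∑ ξ ∈ s, a ξ * (perpY s Q c ξ : ℂ)) * (∑ ξ ∈ s, b ξ * (perpY s Q c ξ : ℂ)) := by
  rw [finsetBilinC_apply, finsetBilinC_apply, Finset.sum_mul_sum, ← Finset.sum_sub_distrib]
  apply Finset.sum_congr rfl
  intro ξ _
  rw [← Finset.sum_sub_distrib]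
  apply Finset.sum_congr rfl
  intro ξ' _
  unfold perpQ
  push_cast
  ring

/-- the form on the complement is the form of the projections -/
theorem bilinC_perpQ_eq (s : Finset Ξ) (Q : Ξ → Ξ → ℤ) (c : Ξ → ℤ)
    (hsym : ∀ ξ ξ', Q ξ ξ' = Q ξ' ξ) (h1 : ∑ ξ ∈ s, ∑ ξ' ∈ s, c ξ * Q ξ ξ' * c ξ' = 1)
    (a b : Ξ → ℂ) :
    finsetBilinC s (perpQ s Q c) a b = finsetBilinC s Q (perpV s Q c a) (perpV s Q c b) := by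
  rw [bilinC_perpQ]
  unfold perpV
  simp only [map_sub, map_smul, LinearMap.sub_apply, LinearMap.smul_apply, smul_eq_mul]
  rw [bilinC_right_c, bilinC_left_c s Q c hsym, bilinC_c_c s Q c h1]
  ring

theorem conj_perpV (s : Finset Ξ) (Q : Ξ → Ξ → ℤ) (c : Ξ → ℤ) (b : Ξ → ℂ) :
    (fun ξ => conj (perpV s Q c b ξ)) = perpV s Q c (fun ξ => conj (b ξ)) := by
  funext ξ
  unfold perpV
  simp only [Pi.sub_apply, Pi.smul_apply, smul_eq_mul, map_sub, map_mul, map_sum, map_intCast]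

theorem sesq_perpQ_eq (s : Finset Ξ) (Q : Ξ → Ξ → ℤ) (c : Ξ → ℤ)
    (hsym : ∀ ξ ξ', Q ξ ξ' = Q ξ' ξ) (h1 : ∑ ξ ∈ s, ∑ ξ' ∈ s, c ξ * Q ξ ξ' * c ξ' = 1)
    (a b : Ξ → ℂ) :
    sesq s (perpQ s Q c) a b = sesq s Q (perpV s Q c a) (perpV s Q c b) := by
  unfold sesq
  rw [bilinC_perpQ_eq s Q c hsym h1, conj_perpV]

/-- the decomposition of the form -/
theorem sesq_eq_add_perpQ (s : Finset Ξ) (Q : Ξ → Ξ → ℤ) (c : Ξ → ℤ) (a b : Ξ → ℂ) :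
    sesq s Q a b = (∑ ξ ∈ s, a ξ * (perpY s Q c ξ : ℂ)) * conj (∑ ξ ∈ s, b ξ * (perpY s Q c ξ : ℂ)) +
      sesq s (perpQ s Q c) a b := by
  unfold sesq
  rw [bilinC_perpQ]
  simp only [map_sum, map_mul, map_intCast]
  ring

variable {T : Type*}

theorem sesq_perpQ_self_nonneg {s : Finset Ξ} {pts : Finset T} {g : Ξ → T → ℂ} {w : ℝ}
    {Q : Ξ → Ξ → ℤ} (h : IsGram s pts g w Q) (hw : 0 ≤ w) (c : Ξ → ℤ)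
    (hsym : ∀ ξ ξ', Q ξ ξ' = Q ξ' ξ) (h1 : ∑ ξ ∈ s, ∑ ξ' ∈ s, c ξ * Q ξ ξ' * c ξ' = 1)
    (a : Ξ → ℂ) : ∃ r : ℝ, 0 ≤ r ∧ sesq s (perpQ s Q c) a a = (r : ℂ) := by
  rw [sesq_perpQ_eq s Q c hsym h1]
  exact sesq_self_nonneg h hw _

theorem sesq_perpQ_eq_zero_right {s : Finset Ξ} {pts : Finset T} {g : Ξ → T → ℂ} {w : ℝ}
    {Q : Ξ → Ξ → ℤ} (h : IsGram s pts g w Q) (hw : 0 < w) (c : Ξ → ℤ)
    (hsym : ∀ ξ ξ', Q ξ ξ' = Q ξ' ξ) (h1 : ∑ ξ ∈ s, ∑ ξ' ∈ s, c ξ * Q ξ ξ' * c ξ' = 1)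
    {b : Ξ → ℂ} (hb : sesq s (perpQ s Q c) b b = 0) (a : Ξ → ℂ) :
    sesq s (perpQ s Q c) a b = 0 := by
  rw [sesq_perpQ_eq s Q c hsym h1] at hb ⊢
  exact sesq_eq_zero_right h hw hb _

theorem perpQ_int_psd {s : Finset Ξ} {pts : Finset T} {g : Ξ → T → ℂ} {w : ℝ}
    {Q : Ξ → Ξ → ℤ} (h : IsGram s pts g w Q) (hw : 0 ≤ w) (c : Ξ → ℤ)
    (hsym : ∀ ξ ξ', Q ξ ξ' = Q ξ' ξ) (h1 : ∑ ξ ∈ s, ∑ ξ' ∈ s, c ξ * Q ξ ξ' * c ξ' = 1)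
    (c' : Ξ → ℤ) : 0 ≤ ∑ ξ ∈ s, ∑ ξ' ∈ s, c' ξ * perpQ s Q c ξ ξ' * c' ξ' := by
  obtain ⟨r, hr, hr'⟩ := sesq_perpQ_self_nonneg h hw c hsym h1 (fun ξ => (c' ξ : ℂ))
  rw [sesq_apply] at hr'
  have h2 : ((∑ ξ ∈ s, ∑ ξ' ∈ s, c' ξ * perpQ s Q c ξ ξ' * c' ξ' : ℤ) : ℂ) = (r : ℂ) := by
    rw [← hr']
    push_cast
    apply Finset.sum_congr rfl
    intro ξ _
    apply Finset.sum_congr rfl
    intro ξ' _
    rw [map_intCast]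
  have h3 : ((∑ ξ ∈ s, ∑ ξ' ∈ s, c' ξ * perpQ s Q c ξ ξ' * c' ξ' : ℤ) : ℝ) = r := by
    exact_mod_cast h2
  have h4 : (0 : ℝ) ≤ ((∑ ξ ∈ s, ∑ ξ' ∈ s, c' ξ * perpQ s Q c ξ ξ' * c' ξ' : ℤ) : ℝ) := by
    rw [h3]; exact hr
  exact_mod_cast h4

/-- modulo `p` the form on the complement vanishes when `Q` has rank one modulo `p` -/
theorem dvd_perpQ (p : ℕ) [Fact p.Prime] (s : Finset Ξ) (Q : Ξ → Ξ → ℤ) (c : Ξ → ℤ)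
    (h1 : ∑ ξ ∈ s, ∑ ξ' ∈ s, c ξ * Q ξ ξ' * c ξ' = 1) (U : Ξ → ℤ) (u₀ q₀ : ℤ)
    (hu₀ : ¬ (p : ℤ) ∣ u₀)
    (hstar : ∀ ξ ∈ s, ∀ ξ' ∈ s, (p : ℤ) ∣ u₀ ^ 2 * Q ξ ξ' - q₀ * U ξ * U ξ')
    {ξ ξ' : Ξ} (hξ : ξ ∈ s) (hξ' : ξ' ∈ s) : (p : ℤ) ∣ perpQ s Q c ξ ξ' := by
  have hstar' : ∀ ξ ∈ s, ∀ ξ' ∈ s, ((u₀ : ZMod p)) ^ 2 * (Q ξ ξ' : ZMod p) =
      (q₀ : ZMod p) * (U ξ : ZMod p) * (U ξ' : ZMod p) := by
    intro ξ hξ ξ' hξ'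
    have := (ZMod.intCast_zmod_eq_zero_iff_dvd _ p).mpr (hstar ξ hξ ξ' hξ')
    push_cast at this
    exact sub_eq_zero.mp this
  set σ : ZMod p := ∑ η ∈ s, (U η : ZMod p) * (c η : ZMod p) with hσ
  have hy : ∀ ξ ∈ s, ((u₀ : ZMod p)) ^ 2 * (perpY s Q c ξ : ZMod p) =
      (q₀ : ZMod p) * (U ξ : ZMod p) * σ := by
    intro ξ hξ
    unfold perpY
    push_cast
    rw [Finset.mul_sum, hσ, Finset.mul_sum]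
    apply Finset.sum_congr rfl
    intro η hη
    rw [← mul_assoc, hstar' ξ hξ η hη]
    ring
  have hone : ((u₀ : ZMod p)) ^ 2 = (q₀ : ZMod p) * σ ^ 2 := by
    have h2 := congrArg (Int.cast : ℤ → ZMod p) h1
    push_cast at h2
    calc ((u₀ : ZMod p)) ^ 2 = ((u₀ : ZMod p)) ^ 2 *
          ∑ ξ ∈ s, ∑ ξ' ∈ s, (c ξ : ZMod p) * (Q ξ ξ' : ZMod p) * (c ξ' : ZMod p) := by
          rw [h2, mul_one]
      _ = ∑ ξ ∈ s, ∑ ξ' ∈ s, (q₀ : ZMod p) * ((U ξ : ZMod p) * (c ξ : ZMod p)) *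
            ((U ξ' : ZMod p) * (c ξ' : ZMod p)) := by
          rw [Finset.mul_sum]
          apply Finset.sum_congr rfl
          intro ξ hξ
          rw [Finset.mul_sum]
          apply Finset.sum_congr rfl
          intro ξ' hξ'
          have := hstar' ξ hξ ξ' hξ'
          linear_combination (c ξ : ZMod p) * (c ξ' : ZMod p) * this
      _ = (q₀ : ZMod p) * σ ^ 2 := by
          rw [hσ, pow_two, Finset.sum_mul_sum, Finset.mul_sum]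
          apply Finset.sum_congr rfl
          intro ξ _
          rw [Finset.mul_sum]
          apply Finset.sum_congr rfl
          intro ξ' _
          ring
  have hu0 : (u₀ : ZMod p) ≠ 0 := by
    intro h
    exact hu₀ ((ZMod.intCast_zmod_eq_zero_iff_dvd _ p).mp h)
  rw [← ZMod.intCast_zmod_eq_zero_iff_dvd]
  unfold perpQ
  push_cast
  have h4 : ((u₀ : ZMod p)) ^ 4 * ((Q ξ ξ' : ZMod p) -
      (perpY s Q c ξ : ZMod p) * (perpY s Q c ξ' : ZMod p)) = 0 := by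
    have e1 := hstar' ξ hξ ξ' hξ'
    have e2 := hy ξ hξ
    have e3 := hy ξ' hξ'
    linear_combination ((u₀ : ZMod p)) ^ 2 * e1 -
      ((u₀ : ZMod p)) ^ 2 * (perpY s Q c ξ' : ZMod p) * e2 -
      (q₀ : ZMod p) * (U ξ : ZMod p) * σ * e3 + (q₀ : ZMod p) * (U ξ : ZMod p) * (U ξ' : ZMod p) * hone
  rcases mul_eq_zero.mp h4 with h | h
  · exact absurd (pow_eq_zero_iff (by norm_num) |>.mp h) hu0
  · exact h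

/-- the rank one congruence from the congruences `Q ξ ξ' U ξ'' ≡ Q ξ ξ'' U ξ'` -/
theorem rank_one_congr (p : ℕ) (s : Finset Ξ) (Q : Ξ → Ξ → ℤ)
    (hsym : ∀ ξ ξ', Q ξ ξ' = Q ξ' ξ) (U : Ξ → ℤ)
    (hcongr : ∀ ξ ∈ s, ∀ ξ' ∈ s, ∀ ξ'' ∈ s, (p : ℤ) ∣ Q ξ ξ' * U ξ'' - Q ξ ξ'' * U ξ')
    {ξ₀ : Ξ} (hξ₀ : ξ₀ ∈ s) {ξ ξ' : Ξ} (hξ : ξ ∈ s) (hξ' : ξ' ∈ s) :
    (p : ℤ) ∣ (U ξ₀) ^ 2 * Q ξ ξ' - Q ξ₀ ξ₀ * U ξ * U ξ' := by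
  have e1 := hcongr ξ hξ ξ' hξ' ξ₀ hξ₀
  have e2 := hcongr ξ₀ hξ₀ ξ hξ ξ₀ hξ₀
  have e : (U ξ₀) ^ 2 * Q ξ ξ' - Q ξ₀ ξ₀ * U ξ * U ξ' =
      U ξ₀ * (Q ξ ξ' * U ξ₀ - Q ξ ξ₀ * U ξ') + U ξ' * (Q ξ₀ ξ * U ξ₀ - Q ξ₀ ξ₀ * U ξ) := by
    rw [hsym ξ ξ₀]
    ring
  rw [e]
  exact dvd_add (Dvd.dvd.mul_left e1 _) (Dvd.dvd.mul_left e2 _)

end Perp

end Cfsg.Agent.Lib.Helper75
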