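import Mathlib
import Cfsg.Agent.Lib.Helper75.MajorSubPerp
import Cfsg.Agent.Lib.Helper82.CycloNorm

/-!
# The counting argument for `k(B) ≤ p^d` when `l(b) ≤ 2`

Shared library by helper75 (for S4539): the abstract (group free) form of the argument.  The
contribution matrices `A(j) = N_j Q N_jᴴ` of a major subsection are given by a positive
semidefinite integral Gram matrix `Q`, multiplicities `N` and roots of unity; their traces are at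
most `2 p^d`, the columns of characters of height zero do not vanish, and `A(j)² = p^d A(j)`.
-/

set_option autoImplicit false

namespace Cfsg.Agent.Lib.Helper75

open scoped ComplexConjugate

section Count

variable {Ξ X T : Type*}

/-- the contribution matrix attached to multiplicities `n`, a Gram matrix `Q` and roots `ρ` -/
noncomputable def formA (s : Finset Ξ) (Q : Ξ → Ξ → ℤ) (ρ : Ξ → ℂ) (n : X → Ξ → ℤ) (χ ψ : X)
    (j : ℕ) : ℂ :=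
  sesq s Q (fun ξ => (n χ ξ : ℂ) * ρ ξ ^ j) (fun ξ => (n ψ ξ : ℂ) * ρ ξ ^ j)

theorem card_filter_coprime_range (m : ℕ) :
    ((Finset.range m).filter (fun j => j.Coprime m)).card = m.totient := by
  rw [Nat.totient_eq_card_coprime]
  congr 1
  ext j
  simp only [Finset.mem_filter, Finset.mem_range, Nat.coprime_comm]

theorem int_pos_of_sum_pos {J : Finset ℕ} (f : ℕ → ℂ) (hJ : J.Nonempty)
    (hf : ∀ j ∈ J, ∃ r : ℝ, 0 ≤ r ∧ f j = (r : ℂ)) (hne : ∀ j ∈ J, f j ≠ 0) (S : ℤ)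
    (hS : ∑ j ∈ J, f j = (S : ℂ)) : 0 < S := by
  have h1 : ∀ j ∈ J, 0 < (f j).re := by
    intro j hj
    obtain ⟨r, hr, hr'⟩ := hf j hj
    rw [hr', Complex.ofReal_re]
    rcases hr.lt_or_eq with h | h
    · exact h
    · exfalso
      apply hne j hj
      rw [hr', ← h, Complex.ofReal_zero]
  have h2 : (S : ℝ) = ∑ j ∈ J, (f j).re := by
    have := congrArg Complex.re hS
    rw [Complex.re_sum, Complex.intCast_re] at this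
    exact this.symm
  have h3 : (0 : ℝ) < (S : ℝ) := by
    rw [h2]
    exact Finset.sum_pos h1 hJ
  exact_mod_cast h3

theorem all_zero_of_sum_zero {J : Finset ℕ} (f : ℕ → ℂ)
    (hf : ∀ j ∈ J, ∃ r : ℝ, 0 ≤ r ∧ f j = (r : ℂ)) (hS : ∑ j ∈ J, f j = 0) :
    ∀ j ∈ J, f j = 0 := by
  have h1 : ∀ j ∈ J, 0 ≤ (f j).re := by
    intro j hj
    obtain ⟨r, hr, hr'⟩ := hf j hj
    rw [hr', Complex.ofReal_re]
    exact hr
  have h2 : ∑ j ∈ J, (f j).re = 0 := by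
    have := congrArg Complex.re hS
    rw [Complex.re_sum, Complex.zero_re] at this
    exact this
  intro j hj
  have h3 := (Finset.sum_eq_zero_iff_of_nonneg h1).mp h2 j hj
  obtain ⟨r, hr, hr'⟩ := hf j hj
  rw [hr', Complex.ofReal_re] at h3
  rw [hr', h3, Complex.ofReal_zero]

theorem int_nonneg_of_sum {J : Finset ℕ} (f : ℕ → ℂ)
    (hf : ∀ j ∈ J, ∃ r : ℝ, 0 ≤ r ∧ f j = (r : ℂ)) (S : ℤ)
    (hS : ∑ j ∈ J, f j = (S : ℂ)) : 0 ≤ S := by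
  have h1 : ∀ j ∈ J, 0 ≤ (f j).re := by
    intro j hj
    obtain ⟨r, hr, hr'⟩ := hf j hj
    rw [hr', Complex.ofReal_re]
    exact hr
  have h2 : (S : ℝ) = ∑ j ∈ J, (f j).re := by
    have := congrArg Complex.re hS
    rw [Complex.re_sum, Complex.intCast_re] at this
    exact this.symm
  have h3 : (0 : ℝ) ≤ (S : ℝ) := by
    rw [h2]
    exact Finset.sum_nonneg h1
  exact_mod_cast h3

/-- the final counting -/
theorem count_of_bound (φ D : ℕ) (hφ : 0 < φ) (t : Finset X) (F : X → ℕ → ℂ) (J : Finset ℕ)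
    (hJ : J.card = φ) (L : ℕ) (hL : L ≤ 2 * D)
    (htrace : ∀ j ∈ J, ∑ χ ∈ t, F χ j = (L : ℂ))
    (hS : ∀ χ ∈ t, ∃ S : ℤ, ∑ j ∈ J, F χ j = (S : ℂ) ∧ 2 * (φ : ℤ) ≤ S) : t.card ≤ D := by
  have h1 : ∑ χ ∈ t, ∑ j ∈ J, F χ j = ((φ * L : ℕ) : ℂ) := by
    rw [Finset.sum_comm, Finset.sum_congr rfl htrace, Finset.sum_const, hJ, nsmul_eq_mul]
    push_cast
    ring
  have h2 : ∀ χ ∈ t, (2 * φ : ℝ) ≤ (∑ j ∈ J, F χ j).re := by
    intro χ hχ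
    obtain ⟨S, hS1, hS2⟩ := hS χ hχ
    rw [hS1, Complex.intCast_re]
    exact_mod_cast hS2
  have h3 : ((φ * L : ℕ) : ℝ) = ∑ χ ∈ t, (∑ j ∈ J, F χ j).re := by
    have := congrArg Complex.re h1
    rw [Complex.re_sum, Complex.natCast_re] at this
    exact this.symm
  have h4 : (t.card : ℝ) * (2 * φ : ℝ) ≤ ((φ * L : ℕ) : ℝ) := by
    rw [h3]
    have := Finset.sum_le_sum h2
    rw [Finset.sum_const, nsmul_eq_mul] at this
    exact this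
  have h5 : t.card * (2 * φ) ≤ φ * L := by exact_mod_cast h4
  have h6 : φ * L ≤ φ * (2 * D) := Nat.mul_le_mul_left φ hL
  have h7 : (2 * φ) * t.card ≤ (2 * φ) * D := by
    calc (2 * φ) * t.card = t.card * (2 * φ) := by ring
      _ ≤ φ * L := h5
      _ ≤ φ * (2 * D) := h6
      _ = (2 * φ) * D := by ring
  exact Nat.le_of_mul_le_mul_left h7 (by omega)

theorem formA_eq_sum (s : Finset Ξ) (Q : Ξ → Ξ → ℤ) (ρ : Ξ → ℂ) (n : X → Ξ → ℤ) (χ ψ : X)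
    (j : ℕ) : formA s Q ρ n χ ψ j =
      ∑ ξ ∈ s, ∑ ξ' ∈ s, ((n χ ξ * Q ξ ξ' * n ψ ξ' : ℤ) : ℂ) * (ρ ξ ^ j * conj (ρ ξ' ^ j)) :=
  sesq_pow_eq s Q (n χ) (n ψ) ρ j

/-- the case where the form does not represent `1` -/
theorem card_le_of_not_split (p k d : ℕ) (hp : p.Prime) (s : Finset Ξ) (pts : Finset T)
    (g : Ξ → T → ℂ) (w : ℝ) (hw : 0 < w) (Q : Ξ → Ξ → ℤ) (hsym : ∀ ξ ξ', Q ξ ξ' = Q ξ' ξ)
    (hgram : IsGram s pts g w Q)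
    (ρ : Ξ → ℂ) (hρ : ∀ ξ ∈ s, ρ ξ ^ (p ^ k) = 1)
    (t t0 : Finset X) (ht0ne : t0.Nonempty) (n : X → Ξ → ℤ)
    (L : ℕ) (hL : L ≤ 2 * p ^ d)
    (htrace : ∀ j ∈ (Finset.range (p ^ k)).filter (fun j => j.Coprime (p ^ k)),
      ∑ χ ∈ t, formA s Q ρ n χ χ j = (L : ℂ))
    (hne : ∀ χ ∈ t, ∀ ψ ∈ t0, ∀ j ∈ (Finset.range (p ^ k)).filter (fun j => j.Coprime (p ^ k)),
      formA s Q ρ n χ ψ j ≠ 0)
    (hsplit : ¬ ∃ c : Ξ → ℤ, ∑ ξ ∈ s, ∑ ξ' ∈ s, c ξ * Q ξ ξ' * c ξ' = 1) :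
    t.card ≤ p ^ d := by
  set J := (Finset.range (p ^ k)).filter (fun j => j.Coprime (p ^ k)) with hJ
  have hJcard : J.card = (p ^ k).totient := card_filter_coprime_range _
  have hφ : 0 < (p ^ k).totient := Nat.totient_pos.mpr (pow_pos hp.pos k)
  have hJne : J.Nonempty := Finset.card_pos.mp (by rw [hJcard]; exact hφ)
  obtain ⟨ψ₀, hψ₀⟩ := ht0ne
  have hdiag : ∀ (χ : X) (j : ℕ), ∃ r : ℝ, 0 ≤ r ∧ formA s Q ρ n χ χ j = (r : ℂ) :=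
    fun χ j => sesq_self_nonneg hgram hw.le _
  have hdne : ∀ χ ∈ t, ∀ j ∈ J, formA s Q ρ n χ χ j ≠ 0 := by
    intro χ hχ j hj h0
    exact hne χ hχ ψ₀ hψ₀ j hj (sesq_eq_zero_left hgram hw h0 _)
  have hpsd := int_psd_of_isGram hgram hw.le
  apply count_of_bound (p ^ k).totient (p ^ d) hφ t (fun χ j => formA s Q ρ n χ χ j) J hJcard L hL
    htrace
  intro χ hχ
  obtain ⟨S, hS, hS'⟩ := trace_bound p k hp s Q hsym hpsd 2 (by norm_num)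
    (by
      intro c hc
      have h0 := hpsd c
      have h1 : ∑ ξ ∈ s, ∑ ξ' ∈ s, c ξ * Q ξ ξ' * c ξ' ≠ 1 := fun h => hsplit ⟨c, h⟩
      omega) (n χ) ρ hρ
  have hS2 : ∑ j ∈ J, formA s Q ρ n χ χ j = (S : ℂ) := by
    rw [← hS]
    apply Finset.sum_congr rfl
    intro j _
    exact formA_eq_sum s Q ρ n χ χ j
  refine ⟨S, hS2, ?_⟩
  have hSpos : 0 < S := int_pos_of_sum_pos (fun j => formA s Q ρ n χ χ j) hJne
    (fun j _ => hdiag χ j) (hdne χ hχ) S hS2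
  rcases hS' with h | h
  · omega
  · linarith

/-- the vector `Y` of the split case -/
noncomputable def formY (s : Finset Ξ) (Q : Ξ → Ξ → ℤ) (c : Ξ → ℤ) (ρ : Ξ → ℂ) (n : X → Ξ → ℤ)
    (χ : X) (j : ℕ) : ℂ :=
  ∑ ξ ∈ s, ((n χ ξ * perpY s Q c ξ : ℤ) : ℂ) * ρ ξ ^ j

theorem formA_eq_add (s : Finset Ξ) (Q : Ξ → Ξ → ℤ) (c : Ξ → ℤ) (ρ : Ξ → ℂ) (n : X → Ξ → ℤ)
    (χ ψ : X) (j : ℕ) :
    formA s Q ρ n χ ψ j = formY s Q c ρ n χ j * conj (formY s Q c ρ n ψ j) +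
      formA s (perpQ s Q c) ρ n χ ψ j := by
  unfold formA formY
  rw [sesq_eq_add_perpQ s Q c]
  congr 2
  · apply Finset.sum_congr rfl
    intro ξ _
    push_cast
    ring
  · congr 1
    apply Finset.sum_congr rfl
    intro ξ _
    push_cast
    ring

theorem int_form_eq_add (s : Finset Ξ) (Q : Ξ → Ξ → ℤ) (c : Ξ → ℤ) (n : X → Ξ → ℤ) (χ ψ : X) :
    ∑ ξ ∈ s, ∑ ξ' ∈ s, n χ ξ * Q ξ ξ' * n ψ ξ' =
      (∑ ξ ∈ s, n χ ξ * perpY s Q c ξ) * (∑ ξ ∈ s, n ψ ξ * perpY s Q c ξ) +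
        ∑ ξ ∈ s, ∑ ξ' ∈ s, n χ ξ * perpQ s Q c ξ ξ' * n ψ ξ' := by
  rw [Finset.sum_mul_sum, ← Finset.sum_add_distrib]
  apply Finset.sum_congr rfl
  intro ξ _
  rw [← Finset.sum_add_distrib]
  apply Finset.sum_congr rfl
  intro ξ' _
  unfold perpQ
  ring

theorem dvd_int_form_perpQ (p : ℕ) (s : Finset Ξ) (Q' : Ξ → Ξ → ℤ)
    (hdvd : ∀ ξ ∈ s, ∀ ξ' ∈ s, (p : ℤ) ∣ Q' ξ ξ') (a b : Ξ → ℤ) :
    (p : ℤ) ∣ ∑ ξ ∈ s, ∑ ξ' ∈ s, a ξ * Q' ξ ξ' * b ξ' := by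
  apply Finset.dvd_sum
  intro ξ hξ
  apply Finset.dvd_sum
  intro ξ' hξ'
  exact Dvd.dvd.mul_right (Dvd.dvd.mul_left (hdvd ξ hξ ξ' hξ') _) _

/-- the case where the form represents `1` -/
theorem card_le_of_split (p k d : ℕ) [Fact p.Prime] (s : Finset Ξ) (pts : Finset T)
    (g : Ξ → T → ℂ) (w : ℝ) (hw : 0 < w) (Q : Ξ → Ξ → ℤ) (hsym : ∀ ξ ξ', Q ξ ξ' = Q ξ' ξ)
    (hgram : IsGram s pts g w Q)
    (U : Ξ → ℤ)
    (hcongr : ∀ ξ ∈ s, ∀ ξ' ∈ s, ∀ ξ'' ∈ s, (p : ℤ) ∣ Q ξ ξ' * U ξ'' - Q ξ ξ'' * U ξ')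
    (ξ₀ : Ξ) (hξ₀ : ξ₀ ∈ s) (hU0 : ¬ (p : ℤ) ∣ U ξ₀)
    (ρ : Ξ → ℂ) (hρ : ∀ ξ ∈ s, ρ ξ ^ (p ^ k) = 1)
    (t t0 : Finset X) (ht0 : t0 ⊆ t) (ht0ne : t0.Nonempty) (n : X → Ξ → ℤ)
    (L : ℕ) (hL : L ≤ 2 * p ^ d)
    (htrace : ∀ j ∈ (Finset.range (p ^ k)).filter (fun j => j.Coprime (p ^ k)),
      ∑ χ ∈ t, formA s Q ρ n χ χ j = (L : ℂ))
    (hne : ∀ χ ∈ t, ∀ ψ ∈ t0, ∀ j ∈ (Finset.range (p ^ k)).filter (fun j => j.Coprime (p ^ k)),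
      formA s Q ρ n χ ψ j ≠ 0)
    (hidem : ∀ ψ ∈ t, ∀ j ∈ (Finset.range (p ^ k)).filter (fun j => j.Coprime (p ^ k)),
      ∑ χ ∈ t, formA s Q ρ n χ ψ j * conj (formA s Q ρ n χ ψ j) =
        (p : ℂ) ^ d * formA s Q ρ n ψ ψ j)
    (hunit : ∀ ψ ∈ t0, ¬ (p : ℤ) ∣ ∑ ξ ∈ s, ∑ ξ' ∈ s, n ψ ξ * Q ξ ξ' * n ψ ξ')
    (hdvd : ∀ χ ∈ t, χ ∉ t0 → ∀ ψ ∈ t0,
      (p : ℤ) ∣ ∑ ξ ∈ s, ∑ ξ' ∈ s, n χ ξ * Q ξ ξ' * n ψ ξ')
    (c : Ξ → ℤ) (h1 : ∑ ξ ∈ s, ∑ ξ' ∈ s, c ξ * Q ξ ξ' * c ξ' = 1) :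
    t.card ≤ p ^ d := by
  have hp : p.Prime := Fact.out
  have hpint : Prime (p : ℤ) := Nat.prime_iff_prime_int.mp hp
  set J := (Finset.range (p ^ k)).filter (fun j => j.Coprime (p ^ k)) with hJ
  have hJcard : J.card = (p ^ k).totient := card_filter_coprime_range _
  have hφ : 0 < (p ^ k).totient := Nat.totient_pos.mpr (pow_pos hp.pos k)
  have hJne : J.Nonempty := Finset.card_pos.mp (by rw [hJcard]; exact hφ)
  obtain ⟨ψ₀, hψ₀⟩ := ht0ne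
  have hdiag : ∀ (χ : X) (j : ℕ), ∃ r : ℝ, 0 ≤ r ∧ formA s Q ρ n χ χ j = (r : ℂ) :=
    fun χ j => sesq_self_nonneg hgram hw.le _
  have hdne : ∀ χ ∈ t, ∀ j ∈ J, formA s Q ρ n χ χ j ≠ 0 := by
    intro χ hχ j hj h0
    exact hne χ hχ ψ₀ hψ₀ j hj (sesq_eq_zero_left hgram hw h0 _)
  have hpsd := int_psd_of_isGram hgram hw.le
  -- the complement
  have hsymp := perpQ_symm s Q c hsym
  have hpsdp := perpQ_int_psd hgram hw.le c hsym h1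
  have hdvdp : ∀ ξ ∈ s, ∀ ξ' ∈ s, (p : ℤ) ∣ perpQ s Q c ξ ξ' := fun ξ hξ ξ' hξ' =>
    dvd_perpQ p s Q c h1 U (U ξ₀) (Q ξ₀ ξ₀) hU0
      (fun η hη η' hη' => rank_one_congr p s Q hsym U hcongr hξ₀ hη hη') hξ hξ'
  have hRnn : ∀ (χ : X) (j : ℕ), ∃ r : ℝ, 0 ≤ r ∧ formA s (perpQ s Q c) ρ n χ χ j = (r : ℂ) :=
    fun χ j => sesq_perpQ_self_nonneg hgram hw.le c hsym h1 _
  have hYnn : ∀ (χ : X) (j : ℕ), ∃ r : ℝ, 0 ≤ r ∧
      formY s Q c ρ n χ j * conj (formY s Q c ρ n χ j) = (r : ℂ) :=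
    fun χ j => ⟨_, Complex.normSq_nonneg _, Complex.mul_conj _⟩
  -- the integers `s_χ`
  have hmod : ∀ χ ψ : X, (p : ℤ) ∣ (∑ ξ ∈ s, ∑ ξ' ∈ s, n χ ξ * Q ξ ξ' * n ψ ξ') -
      (∑ ξ ∈ s, n χ ξ * perpY s Q c ξ) * (∑ ξ ∈ s, n ψ ξ * perpY s Q c ξ) := by
    intro χ ψ
    rw [int_form_eq_add s Q c n χ ψ, add_sub_cancel_left]
    exact dvd_int_form_perpQ p s _ hdvdp _ _
  have hs0 : ∀ ψ ∈ t0, ¬ (p : ℤ) ∣ ∑ ξ ∈ s, n ψ ξ * perpY s Q c ξ := by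
    intro ψ hψ hd
    apply hunit ψ hψ
    have := dvd_add (hmod ψ ψ) (Dvd.dvd.mul_right hd (∑ ξ ∈ s, n ψ ξ * perpY s Q c ξ))
    rwa [sub_add_cancel] at this
  have hspos : ∀ χ ∈ t, χ ∉ t0 → (p : ℤ) ∣ ∑ ξ ∈ s, n χ ξ * perpY s Q c ξ := by
    intro χ hχ hχ0
    have h2 := hdvd χ hχ hχ0 ψ₀ hψ₀
    have h3 := (dvd_sub h2 (hmod χ ψ₀))
    rw [sub_sub_cancel] at h3
    rcases hpint.dvd_or_dvd h3 with h | h
    · exact h
    · exact absurd h (hs0 ψ₀ hψ₀)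
  -- the minimum of the complement form
  have hμp : ∀ c' : Ξ → ℤ, ∑ ξ ∈ s, ∑ ξ' ∈ s, c' ξ * perpQ s Q c ξ ξ' * c' ξ' ≠ 0 →
      (p : ℤ) ≤ ∑ ξ ∈ s, ∑ ξ' ∈ s, c' ξ * perpQ s Q c ξ ξ' * c' ξ' := by
    intro c' hc'
    have h2 := hpsdp c'
    have h3 := dvd_int_form_perpQ p s _ hdvdp c' c'
    exact Int.le_of_dvd (lt_of_le_of_ne h2 (Ne.symm hc')) h3
  by_cases hcase : ∃ ψ ∈ t0, ∀ j ∈ J, formA s (perpQ s Q c) ρ n ψ ψ j = 0
  · -- case (i)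
    obtain ⟨ψ, hψ, hRψ⟩ := hcase
    have hAY : ∀ χ : X, ∀ j ∈ J, formA s Q ρ n χ ψ j =
        formY s Q c ρ n χ j * conj (formY s Q c ρ n ψ j) := by
      intro χ j hj
      rw [formA_eq_add s Q c ρ n χ ψ j]
      have : formA s (perpQ s Q c) ρ n χ ψ j = 0 :=
        sesq_perpQ_eq_zero_right hgram hw c hsym h1 (hRψ j hj) _
      rw [this, add_zero]
    have hYne : ∀ χ ∈ t, ∀ j ∈ J, formY s Q c ρ n χ j ≠ 0 := by
      intro χ hχ j hj h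
      apply hne χ hχ ψ hψ j hj
      rw [hAY χ j hj, h, zero_mul]
    have hYsum : ∀ j ∈ J, ∑ χ ∈ t, formY s Q c ρ n χ j * conj (formY s Q c ρ n χ j) =
        (p : ℂ) ^ d := by
      intro j hj
      have h2 := hidem ψ (ht0 hψ) j hj
      have hN : formY s Q c ρ n ψ j * conj (formY s Q c ρ n ψ j) ≠ 0 := by
        have := hYne ψ (ht0 hψ) j hj
        exact mul_ne_zero this ((map_ne_zero _).mpr this)
      apply mul_right_cancel₀ hN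
      rw [← hAY ψ j hj, ← h2, Finset.sum_mul]
      apply Finset.sum_congr rfl
      intro χ _
      rw [hAY χ j hj, hAY ψ j hj, map_mul, Complex.conj_conj]
      ring
    have hlow : ∀ χ ∈ t, ((p ^ k).totient : ℝ) ≤
        ∑ j ∈ J, Complex.normSq (formY s Q c ρ n χ j) := by
      intro χ hχ
      apply Cfsg.Agent.Lib.Helper82.totient_le_sum_normSq (p ^ k) (pow_pos hp.pos k) s
        (fun ξ => n χ ξ * perpY s Q c ξ) ρ hρ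
      intro j hj
      have hmodj : j % p ^ k ∈ J := by
        rw [hJ, Finset.mem_filter, Finset.mem_range]
        refine ⟨Nat.mod_lt _ (pow_pos hp.pos k), ?_⟩
        rw [Nat.Coprime, ← Nat.gcd_rec, Nat.gcd_comm]
        exact hj
      have := hYne χ hχ _ hmodj
      unfold formY at this
      intro h0
      apply this
      rw [← h0]
      apply Finset.sum_congr rfl
      intro ξ hξ
      rw [pow_eq_pow_mod j (hρ ξ hξ)]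
    have hsumR : ∀ j ∈ J, ∑ χ ∈ t, Complex.normSq (formY s Q c ρ n χ j) = (p : ℝ) ^ d := by
      intro j hj
      have := hYsum j hj
      have h3 : ((∑ χ ∈ t, Complex.normSq (formY s Q c ρ n χ j) : ℝ) : ℂ) =
          (((p : ℝ) ^ d : ℝ) : ℂ) := by
        push_cast
        rw [← this]
        apply Finset.sum_congr rfl
        intro χ _
        rw [Complex.mul_conj]
      exact_mod_cast h3
    have h4 : (t.card : ℝ) * ((p ^ k).totient : ℝ) ≤ ((p ^ k).totient : ℝ) * (p : ℝ) ^ d := by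
      calc (t.card : ℝ) * ((p ^ k).totient : ℝ) = ∑ χ ∈ t, ((p ^ k).totient : ℝ) := by
            rw [Finset.sum_const, nsmul_eq_mul]
        _ ≤ ∑ χ ∈ t, ∑ j ∈ J, Complex.normSq (formY s Q c ρ n χ j) := Finset.sum_le_sum hlow
        _ = ∑ j ∈ J, ∑ χ ∈ t, Complex.normSq (formY s Q c ρ n χ j) := Finset.sum_comm
        _ = ∑ j ∈ J, (p : ℝ) ^ d := Finset.sum_congr rfl hsumR
        _ = ((p ^ k).totient : ℝ) * (p : ℝ) ^ d := by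
            rw [Finset.sum_const, nsmul_eq_mul, hJcard]
    have h5 : t.card * (p ^ k).totient ≤ (p ^ k).totient * p ^ d := by exact_mod_cast h4
    rw [mul_comm] at h5
    exact Nat.le_of_mul_le_mul_left h5 hφ
  · -- case (ii)
    push Not at hcase
    apply count_of_bound (p ^ k).totient (p ^ d) hφ t (fun χ j => formA s Q ρ n χ χ j) J hJcard L
      hL htrace
    intro χ hχ
    obtain ⟨S, hS, -⟩ := trace_bound p k hp s Q hsym hpsd 0 le_rfl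
      (fun c' _ => hpsd c') (n χ) ρ hρ
    have hS2 : ∑ j ∈ J, formA s Q ρ n χ χ j = (S : ℂ) := by
      rw [← hS]
      apply Finset.sum_congr rfl
      intro j _
      exact formA_eq_sum s Q ρ n χ χ j
    refine ⟨S, hS2, ?_⟩
    have hSpos : 0 < S := int_pos_of_sum_pos (fun j => formA s Q ρ n χ χ j) hJne
      (fun j _ => hdiag χ j) (hdne χ hχ) S hS2
    obtain ⟨S₂, hS₂, hS₂'⟩ := trace_bound p k hp s (perpQ s Q c) hsymp hpsdp (p : ℤ)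
      (by exact_mod_cast hp.pos.le) hμp (n χ) ρ hρ
    have hS₂2 : ∑ j ∈ J, formA s (perpQ s Q c) ρ n χ χ j = (S₂ : ℂ) := by
      rw [← hS₂]
      apply Finset.sum_congr rfl
      intro j _
      exact formA_eq_sum s (perpQ s Q c) ρ n χ χ j
    have hYS : ∑ j ∈ J, formY s Q c ρ n χ j * conj (formY s Q c ρ n χ j) =
        ((S - S₂ : ℤ) : ℂ) := by
      push_cast
      rw [← hS2, ← hS₂2, ← Finset.sum_sub_distrib]
      apply Finset.sum_congr rfl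
      intro j _
      rw [formA_eq_add s Q c ρ n χ χ j, add_sub_cancel_right]
    rcases hS₂' with h0 | hge
    · -- the complement part vanishes
      rw [h0, Int.cast_zero] at hS₂2
      have hall := all_zero_of_sum_zero (fun j => formA s (perpQ s Q c) ρ n χ χ j)
        (fun j _ => hRnn χ j) hS₂2
      have hχ0 : χ ∉ t0 := by
        intro hχ0
        obtain ⟨j, hj, hj'⟩ := hcase χ hχ0
        exact hj' (hall j hj)
      obtain ⟨S₁, hS₁, hS₁'⟩ := normSq_bound_of_dvd p k hp s (fun ξ => n χ ξ * perpY s Q c ξ)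
        ρ hρ (hspos χ hχ hχ0)
      have hSS : S₁ = S - S₂ := by
        have : (S₁ : ℂ) = ((S - S₂ : ℤ) : ℂ) := by
          rw [← hYS, ← hS₁]
          rfl
        exact_mod_cast this
      rcases hS₁' with h | h
      · omega
      · omega
    · have hnn : 0 ≤ S - S₂ := int_nonneg_of_sum
        (fun j => formY s Q c ρ n χ j * conj (formY s Q c ρ n χ j)) (fun j _ => hYnn χ j) _ hYS
      have h2 : (2 : ℤ) ≤ (p : ℤ) := by exact_mod_cast hp.two_le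
      have h3 : (0 : ℤ) ≤ ((p ^ k).totient : ℤ) := Int.natCast_nonneg _
      nlinarith

/-- **the abstract counting theorem** behind `k(B) ≤ p^d` for `l(b) ≤ 2` -/
theorem card_le_of_major_abstract (p k d : ℕ) [Fact p.Prime] (s : Finset Ξ) (pts : Finset T)
    (g : Ξ → T → ℂ) (w : ℝ) (hw : 0 < w) (Q : Ξ → Ξ → ℤ) (hsym : ∀ ξ ξ', Q ξ ξ' = Q ξ' ξ)
    (hgram : IsGram s pts g w Q)
    (U : Ξ → ℤ)
    (hcongr : ∀ ξ ∈ s, ∀ ξ' ∈ s, ∀ ξ'' ∈ s, (p : ℤ) ∣ Q ξ ξ' * U ξ'' - Q ξ ξ'' * U ξ')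
    (ξ₀ : Ξ) (hξ₀ : ξ₀ ∈ s) (hU0 : ¬ (p : ℤ) ∣ U ξ₀)
    (ρ : Ξ → ℂ) (hρ : ∀ ξ ∈ s, ρ ξ ^ (p ^ k) = 1)
    (t t0 : Finset X) (ht0 : t0 ⊆ t) (ht0ne : t0.Nonempty) (n : X → Ξ → ℤ)
    (L : ℕ) (hL : L ≤ 2 * p ^ d)
    (htrace : ∀ j ∈ (Finset.range (p ^ k)).filter (fun j => j.Coprime (p ^ k)),
      ∑ χ ∈ t, formA s Q ρ n χ χ j = (L : ℂ))
    (hne : ∀ χ ∈ t, ∀ ψ ∈ t0, ∀ j ∈ (Finset.range (p ^ k)).filter (fun j => j.Coprime (p ^ k)),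
      formA s Q ρ n χ ψ j ≠ 0)
    (hidem : ∀ ψ ∈ t, ∀ j ∈ (Finset.range (p ^ k)).filter (fun j => j.Coprime (p ^ k)),
      ∑ χ ∈ t, formA s Q ρ n χ ψ j * conj (formA s Q ρ n χ ψ j) =
        (p : ℂ) ^ d * formA s Q ρ n ψ ψ j)
    (hunit : ∀ ψ ∈ t0, ¬ (p : ℤ) ∣ ∑ ξ ∈ s, ∑ ξ' ∈ s, n ψ ξ * Q ξ ξ' * n ψ ξ')
    (hdvd : ∀ χ ∈ t, χ ∉ t0 → ∀ ψ ∈ t0,
      (p : ℤ) ∣ ∑ ξ ∈ s, ∑ ξ' ∈ s, n χ ξ * Q ξ ξ' * n ψ ξ') :
    t.card ≤ p ^ d := by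
  by_cases hsplit : ∃ c : Ξ → ℤ, ∑ ξ ∈ s, ∑ ξ' ∈ s, c ξ * Q ξ ξ' * c ξ' = 1
  · obtain ⟨c, h1⟩ := hsplit
    exact card_le_of_split p k d s pts g w hw Q hsym hgram U hcongr ξ₀ hξ₀ hU0 ρ hρ t t0 ht0 ht0ne
      n L hL htrace hne hidem hunit hdvd c h1
  · exact card_le_of_not_split p k d Fact.out s pts g w hw Q hsym hgram ρ hρ t t0 ht0ne n L hL
      htrace hne hsplit

end Count

end Cfsg.Agent.Lib.Helper75
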