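import Mathlib
import Cfsg.Agent.Lib.Helper75.MajorSubCongr2
import Cfsg.Agent.Lib.Helper75.MajorSubCount

/-!
# `k(B) ≤ p^d` for a block with a major subsection `(y, b)` with `l(b) ≤ 2`

Shared library by helper75 (for S4539): the group theoretic input (contributions of the major
subsection, Brauer's congruence, the trace and idempotence of the contribution matrix) is fed into
the abstract counting theorem `card_le_of_major_abstract`.
-/

set_option autoImplicit false
set_option linter.unusedSectionVars false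
set_option linter.style.haveILetI false

namespace Cfsg.Agent.Lib.Helper75

open Cfsg Finset Cfsg.Agent.Lib.Helper16 Cfsg.Agent.Lib.Helper78 Cfsg.Agent.Lib.Helper79
  Cfsg.Agent.Lib.Helper82
open scoped ComplexConjugate

universe u

section Main

variable {G : Type u} [Group G] [Fintype G] {p : ℕ} [Fact p.Prime] {M : Ideal AlgInt}

open scoped Classical in
/-- the abstract contribution matrix is `p^d` times the matrix of contributions -/
theorem formA_eq_pow_mul_secM (hM : IsPModular p M) (H : Subgroup G) [Fintype H]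
    {b : Set (IrrCharacter H)} (hb : IsPBlock M b) (χ ψ : IrrCharacter G) {z : H}
    (hz : z ∈ Subgroup.center H) (j : ℕ) :
    formA (Finset.univ.filter (fun ξ : IrrCharacter H => ξ ∈ b)) (blockQ p b)
        (fun ξ => cScalar ξ z) (fun (χ : IrrCharacter G) ξ => (resMult H χ ξ : ℤ)) χ ψ j =
      (p : ℂ) ^ blockDefect p b * secM p ((z : G) ^ j) H b (χ : G → ℂ) (ψ : G → ℂ) := by
  rw [pow_mul_secM_eq hM H hb χ ψ hz j, formA_eq_sum, Finset.sum_product]
  apply Finset.sum_congr rfl
  intro ξ _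
  apply Finset.sum_congr rfl
  intro ξ' _
  unfold secCoef secRoot
  simp only
  rw [mul_pow, map_pow]

open scoped Classical in
/-- the Gram property of the reduced contributions of a block -/
theorem isGram_blockQ (hM : IsPModular p M) (H : Subgroup G) [Fintype H]
    {b : Set (IrrCharacter H)} (hb : IsPBlock M b) :
    IsGram (Finset.univ.filter (fun ξ : IrrCharacter H => ξ ∈ b))
      (Finset.univ.filter (fun s : H => ¬ p ∣ orderOf s)) (fun (ξ : IrrCharacter H) x => (ξ : H → ℂ) x)
      ((p : ℝ) ^ blockDefect p b / (Nat.card H : ℝ)) (blockQ p b) := by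
  have hp : p.Prime := Fact.out
  have hMp : M.IsPrime := isPModular_isPrime hM
  have hbne : b.Nonempty := IsPBlock_nonempty hMp.ne_top hb
  intro ξ _ ξ' hξ'
  simp only [Finset.mem_filter, Finset.mem_univ, true_and] at hξ'
  have hpe : ((p : ℂ) ^ coDefect p b) ≠ 0 := pow_ne_zero _ (by exact_mod_cast hp.ne_zero)
  have hgram : (p : ℂ) ^ blockDefect p b * pGram H p ξ ξ' = (blockQ p b ξ ξ' : ℂ) := by
    apply mul_left_cancel₀ hpe
    rw [← mul_assoc, ← pow_add, coDefect_add_blockDefect (p := p) hbne, pow_mul_pGram H hM]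
    exact_mod_cast (congrArg (fun z : ℤ => (z : ℂ)) (blockQ_spec hM ξ hξ')).symm
  rw [← hgram]
  unfold pGram
  push_cast
  ring

open scoped Classical in
/-- **Brauer, Olsson, Robinson, Sambale**: `k(B) ≤ p^d` for a block `B` of defect `d` with a major
subsection `(y, b)` such that `l(b) ≤ 2`. -/
theorem card_le_pow_of_major_subsection (hM : IsPModular p M) (B : Set (IrrCharacter G))
    (y : G) (hy : ∃ k : ℕ, orderOf y = p ^ k)
    (H : Subgroup G) [Fintype H] (hH : ∀ g : G, g ∈ H ↔ Commute y g)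
    (b : Set (IrrCharacter H)) (hind : IsInducedBlock M H b B)
    (hbd : blockDefect p b = blockDefect p B) (hl : blockRank p b ≤ 2) :
    Nat.card B ≤ p ^ blockDefect p B := by
  have hp : p.Prime := Fact.out
  have hMp : M.IsPrime := isPModular_isPrime hM
  have hb : IsPBlock M b := hind.1
  have hB : IsPBlock M B := hind.2.1
  have hbne : b.Nonempty := IsPBlock_nonempty hMp.ne_top hb
  have hBne : B.Nonempty := IsPBlock_nonempty hMp.ne_top hB
  obtain ⟨k, hk⟩ := hy
  have hnpos : 0 < p ^ k := pow_pos hp.pos k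
  -- the central element
  have hyH : y ∈ H := (hH y).mpr (Commute.refl y)
  obtain ⟨z, hz⟩ : ∃ z : H, (z : G) = y := ⟨⟨y, hyH⟩, rfl⟩
  have hzc : z ∈ Subgroup.center H := by
    rw [Subgroup.mem_center_iff]
    intro h
    apply Subtype.ext
    simp only [Subgroup.coe_mul, hz]
    exact ((hH h).mp h.2).eq.symm
  have hzn : z ^ p ^ k = 1 := by
    apply Subtype.ext
    simp only [Subgroup.coe_pow, hz, Subgroup.coe_one]
    rw [← hk]
    exact pow_orderOf_eq_one y
  set sb := Finset.univ.filter (fun ξ : IrrCharacter H => ξ ∈ b) with hsb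
  set sB := Finset.univ.filter (fun χ : IrrCharacter G => χ ∈ B) with hsB
  set sB0 := Finset.univ.filter (fun χ : IrrCharacter G => χ ∈ B ∧
    blockHeight p B (χ : G → ℂ) = 0) with hsB0
  set J := (Finset.range (p ^ k)).filter (fun j => j.Coprime (p ^ k)) with hJ
  -- facts about the powers of the central element
  have hpow : ∀ j ∈ J, (∀ g : G, g ∈ H ↔ Commute (((z ^ j : H) : G)) g) ∧
      (∃ k' : ℕ, orderOf (((z ^ j : H) : G)) = p ^ k') ∧ (z ^ j) ^ p ^ k = 1 ∧
      z ^ j ∈ Subgroup.center H := by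
    intro j hj
    simp only [hJ, Finset.mem_filter, Finset.mem_range] at hj
    have hcop : (orderOf y).Coprime j := by rw [hk]; exact hj.2.symm
    have hord : orderOf (y ^ j) = p ^ k := by rw [hcop.orderOf_pow, hk]
    rw [Subgroup.coe_pow, hz]
    refine ⟨?_, ⟨k, hord⟩, ?_, Subgroup.pow_mem _ hzc j⟩
    · intro g
      rw [hH g]
      constructor
      · intro h
        exact h.pow_left j
      · intro h
        obtain ⟨m, hm⟩ := exists_pow_eq_self_of_coprime hcop.symm
        rw [← hm]
        exact h.pow_left m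
    · rw [← pow_mul, mul_comm, pow_mul, hzn, one_pow]
  have hcoe : ∀ j : ℕ, (z : G) ^ j = ((z ^ j : H) : G) := fun j => (Subgroup.coe_pow H z j).symm
  -- a character of height zero in `b`
  obtain ⟨ξ₀, hξ₀, hξ₀min⟩ := exists_min_factorization (p := p) hbne
  have hξ₀0 : blockHeight p b (ξ₀ : H → ℂ) = 0 := by
    unfold blockHeight
    omega
  obtain ⟨ψ₀, hψ₀, hψ₀min⟩ := exists_min_factorization (p := p) hBne
  have hψ₀0 : blockHeight p B (ψ₀ : G → ℂ) = 0 := by
    unfold blockHeight
    omega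
  have hw : (0 : ℝ) < (p : ℝ) ^ blockDefect p b / (Nat.card H : ℝ) := by
    apply div_pos (pow_pos (by exact_mod_cast hp.pos) _)
    exact_mod_cast Nat.card_pos
  have hcardB : Nat.card B = sB.card := by
    rw [Nat.card_eq_fintype_card, hsB]
    exact Fintype.card_subtype _
  rw [hcardB, ← hbd]
  have hA : ∀ (χ ψ : IrrCharacter G) (j : ℕ), formA sb (blockQ p b)
        (fun ξ => cScalar ξ z) (fun (χ : IrrCharacter G) ξ => (resMult H χ ξ : ℤ)) χ ψ j =
      (p : ℂ) ^ blockDefect p b * secM p ((z : G) ^ j) H b (χ : G → ℂ) (ψ : G → ℂ) :=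
    fun χ ψ j => formA_eq_pow_mul_secM hM H hb χ ψ hzc j
  have hpd0 : (p : ℂ) ^ blockDefect p b ≠ 0 := pow_ne_zero _ (by exact_mod_cast hp.ne_zero)
  apply card_le_of_major_abstract p k (blockDefect p b) sb
    (Finset.univ.filter (fun s : H => ¬ p ∣ orderOf s)) (fun (ξ : IrrCharacter H) x => (ξ : H → ℂ) x)
    ((p : ℝ) ^ blockDefect p b / (Nat.card H : ℝ)) hw (blockQ p b) (blockQ_symm hM b)
    (isGram_blockQ hM H hb) (blockU p b) ?_ ξ₀ (by simpa [hsb] using hξ₀)
    (not_dvd_blockU hp hξ₀ hξ₀0) (fun ξ => cScalar ξ z)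
    (fun ξ _ => cScalar_pow_eq_one ξ hzc hzn) sB sB0 ?_ ⟨ψ₀, by simp [hsB0, hψ₀, hψ₀0]⟩
    (fun (χ : IrrCharacter G) ξ => (resMult H χ ξ : ℤ)) (p ^ blockDefect p b * blockRank p b)
    (by rw [mul_comm]; exact Nat.mul_le_mul_right _ hl) ?_ ?_ ?_ ?_ ?_
  · -- the congruences
    intro ξ _ ξ' hξ' ξ'' hξ''
    simp only [hsb, Finset.mem_filter, Finset.mem_univ, true_and] at hξ' hξ''
    exact blockQ_congr hM hb ξ hξ' hξ''
  · -- the subset
    intro χ hχ
    simp only [hsB0, hsB, Finset.mem_filter, Finset.mem_univ, true_and] at hχ ⊢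
    exact hχ.1
  · -- the trace
    intro j hj
    obtain ⟨hHj, hordj, -, -⟩ := hpow j hj
    simp_rw [hA]
    rw [← Finset.mul_sum]
    have h1 := sum_secM_self hM ((z : G) ^ j) (by rw [hcoe]; exact hordj) H
      (by rw [hcoe]; exact hHj) hb
    have h2 : ∑ χ ∈ sB, secM p ((z : G) ^ j) H b (χ : G → ℂ) (χ : G → ℂ) =
        ∑ χ : IrrCharacter G, secM p ((z : G) ^ j) H b (χ : G → ℂ) (χ : G → ℂ) := by
      rw [hsB, Finset.sum_filter]
      apply Finset.sum_congr rfl
      intro χ _
      split_ifs with hχ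
      · rfl
      · rw [secM_eq_zero_of_not_mem_left hM ((z : G) ^ j) (by rw [hcoe]; exact hordj) H
          (by rw [hcoe]; exact hHj) hind χ hχ]
    rw [h2, h1]
    push_cast
    ring
  · -- nonvanishing
    intro χ hχ ψ hψ j hj
    obtain ⟨hHj, hordj, hznj, hzcj⟩ := hpow j hj
    simp only [hsB0, hsB, Finset.mem_filter, Finset.mem_univ, true_and] at hχ hψ
    rw [hA, hcoe]
    exact mul_ne_zero hpd0
      (secM_ne_zero_of_height_zero hM H hind hbd hχ hψ.1 hψ.2 hzcj hHj hznj hordj)
  · -- idempotence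
    intro ψ hψ j hj
    obtain ⟨hHj, hordj, -, -⟩ := hpow j hj
    simp_rw [hA]
    have h1 := sum_secM_mul_conj hM ((z : G) ^ j) (by rw [hcoe]; exact hordj) H
      (by rw [hcoe]; exact hHj) hb (ψ : G → ℂ)
    have h2 : ∑ χ ∈ sB, secM p ((z : G) ^ j) H b (χ : G → ℂ) (ψ : G → ℂ) *
          conj (secM p ((z : G) ^ j) H b (χ : G → ℂ) (ψ : G → ℂ)) =
        secM p ((z : G) ^ j) H b (ψ : G → ℂ) (ψ : G → ℂ) := by
      rw [← h1, hsB, Finset.sum_filter]
      apply Finset.sum_congr rfl
      intro χ _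
      split_ifs with hχ
      · rw [secM_conj, ← secM_conj p ((z : G) ^ j) H b (ψ : G → ℂ) (χ : G → ℂ), mul_comm]
      · rw [secM_eq_zero_of_not_mem_right hM ((z : G) ^ j) (by rw [hcoe]; exact hordj) H
          (by rw [hcoe]; exact hHj) hind _ χ hχ, zero_mul]
    rw [← h2, Finset.mul_sum, Finset.mul_sum]
    apply Finset.sum_congr rfl
    intro χ _
    rw [map_mul, map_pow, Complex.conj_natCast]
    ring
  · -- the unit property
    intro ψ hψ
    simp only [hsB0, Finset.mem_filter, Finset.mem_univ, true_and] at hψ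
    exact not_dvd_sum_resMult_blockQ hM H hind hbd hψ.1 hψ.1 hψ.2 hψ.2
  · -- divisibility for positive height
    intro χ hχ hχ0 ψ _
    simp only [hsB0, hsB, Finset.mem_filter, Finset.mem_univ, true_and, not_and] at hχ hχ0
    exact dvd_sum_resMult_blockQ_of_height_ne_zero hM H hind hbd ψ hχ (hχ0 hχ) hzc
      (by rw [hz]; exact hH) hzn ⟨k, by rw [hz]; exact hk⟩

end Main

end Cfsg.Agent.Lib.Helper75
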