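import Mathlib
import Cfsg.Agent.Lib.Helper60.PFTenTDefs
import Cfsg.Agent.Lib.Helper51.PFCycCalS
import Cfsg.Agent.Lib.Helper16.PFNineTen
import Cfsg.Agent.Lib.Helper26.PFBookC
import Cfsg.Agent.Lib.Helper25.PFCycEta
import Cfsg.Agent.Lib.Helper25.DadeExp6
import Cfsg.Agent.Lib.Helper3.Dade
import Cfsg.Agent.S1500
import Cfsg.Agent.S1501
import Cfsg.Agent.S1506

/-!
# PF sec.10 T-side, module [TS-TEXP] (helper75, for helper60)
-/

set_option autoImplicit false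

namespace Cfsg.Agent.Lib.Helper75.PFTenT

open Cfsg Cfsg.Agent.Lib.Helper24.PFCyc Cfsg.Agent.Lib.Helper4.PF Cfsg.Agent.Lib.Helper4.PFTen Cfsg.Agent.Lib.Helper58.PF9 Cfsg.Agent.Lib.Helper74.PF127
open Cfsg.Agent.Lib.Helper60.PFTenT

universe u

/-- MODULE [TS-TEXP] -/
theorem texpHyp_of {G : Type u} [Group G] [Fintype G] {T W₁ W₂ : Subgroup G} [Fintype T]
    (hW : IsSelfNormalizingCyclic W₁ W₂)
    (η : WChar W₁ W₂ → (G → ℂ)) (hη : IsCyclicTIFamily W₁ W₂ η) (χ : G → ℂ)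
    (hD : DadeHypothesis (litA0 T) T (supportR T))
    (hWT : W₁ ⊔ W₂ ≤ T)
    (hW0 : ∀ w ∈ W₁ ⊔ W₂, w ∉ W₁ → w ∉ W₂ → w ∈ litA0 T ∧ w ∉ litA T)
    (p : ℕ) (α : ↥T → ℂ) (hα : IsGeneralizedCharacter ↥T α)
    (hαA : ∀ x : ↥T, (x : G) ∉ litA T → α x = 0)
    (hnorm : classInner α α = (p : ℂ) + 1)
    (h1 : classInner α (fun _ => 1) = 0)
    (hgal : ∀ ψ ψ' : WChar W₁ W₂, TrivOn W₁ ψ → TrivOn W₁ ψ' → ψ ≠ 1 → ψ' ≠ 1 →
      classInner (tauM T α) (η ψ) = classInner (tauM T α) (η ψ'))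
    (hΦ : classInner (tauM T α) (etaSum η 1 - χ) = 0) :
    TexpHyp (rowBase W₁ W₂) (colBase W₁ W₂) (Efam η) χ p (tauM T α) := by
  classical
  have hαcf : IsClassFunction ↥T α := Cfsg.Agent.Lib.Helper25.dgen_isClassFunction hα
  have hsub : litA T ⊆ litA0 T := Set.subset_union_left
  have hαA0 : ∀ x : ↥T, (x : G) ∉ litA0 T → α x = 0 := fun x hx => hαA x (fun h => hx (hsub h))
  obtain ⟨hiso, hrec⟩ := Cfsg.Agent.S1500.result (litA0 T) T (supportR T) hD α hαcf hαA0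
  have hXgen : IsGeneralizedCharacter G (tauM T α) :=
    Cfsg.Agent.S1501.result (litA0 T) T (supportR T) hD α hα hαA0
  have hXcf : IsClassFunction G (tauM T α) :=
    Cfsg.Agent.Lib.Helper3.Dade.dade_isClassFunction hD hαcf
  -- vanishing on `W ∖ (W₁ ∪ W₂)`
  have hXW : ∀ w : ↥(W₁ ⊔ W₂), (w : G) ∉ W₁ → (w : G) ∉ W₂ → tauM T α (w : G) = 0 := by
    intro w hw1 hw2
    obtain ⟨hA0, hA⟩ := hW0 w w.2 hw1 hw2
    have hwT : (w : G) ∈ T := hWT w.2
    have hrel : Cfsg.Agent.Lib.Helper3.Dade.Rel (litA0 T) T (supportR T) (w : G)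
        ⟨(w : G), hwT⟩ :=
      ⟨hA0, 1, 1, Subgroup.one_mem _, by simp⟩
    have := Cfsg.Agent.Lib.Helper3.Dade.dade_eq hD hαcf hrel
    unfold tauM
    rw [this]
    exact hαA _ hA
  -- integral coefficients
  have hint : ∀ ω : WChar W₁ W₂, ∃ n : ℤ, classInner (tauM T α) (η ω) = (n : ℂ) := fun ω =>
    Cfsg.Agent.Lib.Helper25.PFCyc.eta_inner_int η hη _ hXgen ω
  choose c hc using hint
  have hX1 : classInner (tauM T α) (fun _ => 1) = 0 := by
    have h2 := hrec (fun _ => 1) (fun _ => 1) (fun _ _ => rfl) (fun a _ => by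
      rw [finsum_mem_eq_finite_toFinset_sum _ (Set.toFinite _)]
      simp only [Finset.sum_const, nsmul_eq_mul, mul_one]
      have : (Set.toFinite ((supportR T (a : G) : Subgroup G) : Set G)).toFinset.card =
          Nat.card (supportR T (a : G)) := by
        rw [← Set.ncard_eq_toFinset_card _ (Set.toFinite _)]
        rfl
      rw [this]
      have hne : (Nat.card (supportR T (a : G)) : ℂ) ≠ 0 := by
        exact_mod_cast (Nat.card_pos (α := supportR T (a : G))).ne'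
      field_simp)
    rw [show tauM T α = dadeIsometry (litA0 T) T (supportR T) α from rfl, h2, h1]
  have hc1 : c 1 = 0 := by
    have := hc 1
    rw [hη.map_one, hX1] at this
    exact_mod_cast this.symm
  have hrect : ∀ φ ψ : WChar W₁ W₂, TrivOn W₂ φ → TrivOn W₁ ψ → c (φ * ψ) = c φ + c ψ := by
    intro φ ψ hφ hψ
    have h2 := Cfsg.Agent.S1506.result W₁ W₂ hW η hη _ hXcf hXW φ 1 ψ 1
      (fun w hw => ⟨hφ w hw, rfl⟩) (fun w hw => ⟨hψ w hw, rfl⟩)
    rw [mul_one (1 : WChar W₁ W₂), mul_one φ, one_mul ψ, hc, hc, hc, hc, hc1] at h2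
    have h3 : ((c (φ * ψ) + 0 : ℤ) : ℂ) = ((c φ + c ψ : ℤ) : ℂ) := by
      push_cast
      rw [← h2]
      push_cast
      ring
    have h4 := Int.cast_injective h3
    omega
  have hrow : ∀ k : RowIdx W₁ W₂, TrivOn W₂ k.1 := fun k => mem_trivSet.mp k.2
  have hcol : ∀ l : ColIdx W₁ W₂, TrivOn W₁ l.1 := fun l => mem_trivSet.mp l.2
  refine ⟨?_, fun k l => c (k.1 * l.1), fun k l => hc _, ?_, ?_, ?_, ?_⟩
  · rw [show tauM T α = dadeIsometry (litA0 T) T (supportR T) α from rfl, hiso α hαcf hαA0, hnorm]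
  · show c ((rowBase W₁ W₂).1 * (colBase W₁ W₂).1) = 0
    have : (rowBase W₁ W₂).1 * (colBase W₁ W₂).1 = (1 : WChar W₁ W₂) := mul_one (1 : WChar W₁ W₂)
    rw [this, hc1]
  · intro k l
    show c (k.1 * l.1) = c (k.1 * (colBase W₁ W₂).1) + c ((rowBase W₁ W₂).1 * l.1)
    have e1 : k.1 * (colBase W₁ W₂).1 = k.1 := mul_one k.1
    have e2 : (rowBase W₁ W₂).1 * l.1 = l.1 := one_mul l.1
    rw [e1, e2]
    exact hrect k.1 l.1 (hrow k) (hcol l)
  · intro l l' hl hl'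
    show c ((rowBase W₁ W₂).1 * l.1) = c ((rowBase W₁ W₂).1 * l'.1)
    have e2 : (rowBase W₁ W₂).1 * l.1 = l.1 := one_mul l.1
    have e2' : (rowBase W₁ W₂).1 * l'.1 = l'.1 := one_mul l'.1
    rw [e2, e2']
    have hl1 : l.1 ≠ 1 := fun h => hl (Subtype.ext h)
    have hl'1 : l'.1 ≠ 1 := fun h => hl' (Subtype.ext h)
    have := hgal l.1 l'.1 (hcol l) (hcol l') hl1 hl'1
    rw [hc, hc] at this
    exact_mod_cast this
  · have h2 : χ = etaSum η 1 - (etaSum η 1 - χ) := by rw [sub_sub_cancel]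
    rw [h2, Cfsg.Agent.Lib.Helper26.classInner_sub_right, hΦ, sub_zero]
    unfold etaSum
    rw [Cfsg.Agent.Lib.Helper26.classInner_sum_right]
    push_cast
    rw [← Finset.sum_coe_sort (trivSet W₁ W₂ W₂)]
    apply Finset.sum_congr rfl
    intro k _
    rw [hc]
    rfl

end Cfsg.Agent.Lib.Helper75.PFTenT
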