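import Mathlib
import Cfsg.Agent.Lib.Helper75.BrauerHalfC
import Cfsg.Agent.Lib.Helper25.BHEta
import Cfsg.Agent.Lib.Helper16.BHExt

set_option autoImplicit false
set_option linter.unusedSectionVars false

/-!
# Brauer's `(p - 1) / 2` bound: the `N_G(P)`-family of exceptional characters (helper75)

`ssum`: the family `S = {ζ(ψ₀^m) : m ∈ N_G(P)}` of exceptional characters of a block with inertial
index `e`; all `Theta`-parts of its sum are `[θ' ∈ orbit θ] * etaN ψ₀ y`, `|S| e = f`,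
`|orbit| e = f`.
-/

namespace Cfsg.Agent.Lib.Helper75.BHSsum

open Cfsg Cfsg.Agent.Lib.Helper78 Cfsg.Agent.Lib.Helper16 Cfsg.Agent.Lib.Helper3.DefOneGen
  Cfsg.Agent.Lib.Helper75.McKayOne Cfsg.Agent.Lib.Helper75.BrauerHalf
open scoped ComplexConjugate IsMulCommutative

universe u

variable {G : Type u} [Group G] [Fintype G] {p : ℕ} [hp : Fact p.Prime] (P : Sylow p G)
  (hP : Nat.card P = p)
variable [Fintype ↥(Subgroup.centralizer ((P : Subgroup G) : Set G))] [Fintype ↥(P : Subgroup G)]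
  [IsMulCommutative ↥(P : Subgroup G)] [Fintype (↥(P : Subgroup G) →* ℂˣ)]
  [Fintype ↥(Subgroup.normalizer ((P : Subgroup G) : Set G))]
variable {M : Ideal AlgInt}

local notation "CP" => Subgroup.centralizer ((P : Subgroup G) : Set G)
local notation "NP" => Subgroup.normalizer ((P : Subgroup G) : Set G)

attribute [local instance] nAct

/-- The `T`-conjugacy relation on the dual of `P` in the literal form of the module specs. -/
def relT (T : Subgroup G) (ψ ψ' : ↥(P : Subgroup G) →* ℂˣ) : Prop :=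
  ∃ n : G, n ∈ T ∧ ∀ w w' : ↥(P : Subgroup G), (w' : G) = n * (w : G) * n⁻¹ → ψ' w' = ψ w

theorem relT_twist {T : Subgroup G} (hTN : T ≤ NP) {ψ ψ' : ↥(P : Subgroup G) →* ℂˣ}
    (h : relT P T ψ ψ') : ∃ m : ↥NP, dualTwist m ψ = ψ' := by
  obtain ⟨n, hn, h⟩ := h
  refine ⟨(⟨n, hTN hn⟩ : ↥NP)⁻¹, ?_⟩
  ext y
  rw [dualTwist_apply]
  have h1 := h ((⟨n, hTN hn⟩ : ↥NP)⁻¹ • y) y (by
    show (y : G) = n * (n⁻¹ * (y : G) * n⁻¹⁻¹) * n⁻¹
    group)
  rw [h1]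

theorem relT_ne_one {T : Subgroup G} (hTN : T ≤ NP) {ψ ψ' : ↥(P : Subgroup G) →* ℂˣ}
    (h : relT P T ψ ψ') (hψ : ψ ≠ 1) : ψ' ≠ 1 := by
  obtain ⟨m, hm⟩ := relT_twist P hTN h
  rw [← hm]
  exact dualTwist_ne_one m hψ

include hP in
open scoped Classical in
theorem card_class (θ : IrrCharacter ↥CP) {ψ : ↥(P : Subgroup G) →* ℂˣ} (hψ : ψ ≠ 1) :
    (Finset.univ.filter (fun ψ' : ↥(P : Subgroup G) →* ℂˣ => relT P (thetaStab P θ) ψ ψ')).card =
      (CP).relIndex (thetaStab P θ) := by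
  obtain ⟨T, hTdef⟩ : ∃ T : Subgroup G, T = thetaStab P θ := ⟨_, rfl⟩
  rw [← hTdef]
  have hTN : T ≤ NP := by rw [hTdef]; exact thetaStab_le P θ
  have hfinT : Fintype ↥T := Fintype.ofFinite _
  let instT : MulDistribMulAction ↥T ↥(P : Subgroup G) :=
    MulDistribMulAction.compHom ↥(P : Subgroup G) (Subgroup.inclusion hTN)
  have hsmul : ∀ (n : ↥T) (y : ↥(P : Subgroup G)),
      ((n • y : ↥(P : Subgroup G)) : G) = (n : G) * (y : G) * (n : G)⁻¹ := fun _ _ => rfl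
  obtain ⟨S, hSdef⟩ : ∃ S : Subgroup ↥T, S = (CP).subgroupOf T := ⟨_, rfl⟩
  have hS : ∀ y : ↥(P : Subgroup G), y ≠ 1 → ∀ n : ↥T, n • y = y ↔ n ∈ S := by
    intro y hy n
    have hy1 : (y : G) ≠ 1 := fun h => hy (Subtype.ext h)
    rw [hSdef, Subgroup.mem_subgroupOf, mem_centralizer_iff_commute hP y.2 hy1]
    constructor
    · intro h
      have h' : (n : G) * (y : G) * (n : G)⁻¹ = (y : G) := by rw [← hsmul, h]
      exact (mul_inv_eq_iff_eq_mul.mp h').symm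
    · intro h
      apply Subtype.ext
      rw [hsmul]
      exact mul_inv_eq_iff_eq_mul.mpr h.eq.symm
  have hmcard : Fintype.card ↥T = Nat.card S * (CP).relIndex T := by
    have h1 := Subgroup.card_mul_index S
    have h2 : S.index = (CP).relIndex T := by
      rw [hSdef]
      rfl
    rw [← Nat.card_eq_fintype_card, ← h1, h2]
  have h3 := card_dualRel_class S hS hψ
  have hfilter : (Finset.univ.filter (fun ψ' : ↥(P : Subgroup G) →* ℂˣ => relT P T ψ ψ')) =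
      Finset.univ.filter (fun ψ' : ↥(P : Subgroup G) →* ℂˣ => dualRel ↥T ψ ψ') := by
    ext ψ'
    simp only [Finset.mem_filter, Finset.mem_univ, true_and]
    constructor
    · rintro ⟨n, hn, h⟩
      exact ⟨⟨n, hn⟩, fun y => h y ((⟨n, hn⟩ : ↥T) • y) rfl⟩
    · rintro ⟨n, h⟩
      refine ⟨(n : G), n.2, ?_⟩
      intro w w' hw
      have : w' = n • w := Subtype.ext (by rw [hsmul]; exact hw)
      rw [this]
      exact h w
  rw [hfilter]
  have hpos : 0 < Nat.card S := Nat.card_pos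
  rw [hmcard, mul_comm] at h3
  exact Nat.eq_of_mul_eq_mul_left hpos h3

include hP in
open scoped Classical in
/-- The `θ`-part of an exceptional character, at every element of `P` (including `1`). -/
theorem fpart_exc (θ : IrrCharacter ↥CP) (hθ : θ ∈ Theta P)
    (Y : Finset (IrrCharacter G)) (ζ : (↥(P : Subgroup G) →* ℂˣ) → IrrCharacter G)
    (hζY : ∀ ψ : ↥(P : Subgroup G) →* ℂˣ, ψ ≠ 1 → ζ ψ ∈ Y)
    (hform : ∀ ψ : ↥(P : Subgroup G) →* ℂˣ, ψ ≠ 1 → ∀ y : ↥(P : Subgroup G), y ≠ 1 →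
      fpart p CP (ζ ψ : G → ℂ) (θ : ↥CP → ℂ) (y : G) =
        ∑ᶠ ψ' ∈ {ψ' : ↥(P : Subgroup G) →* ℂˣ | ∃ n : G, n ∈ thetaStab P θ ∧
          ∀ w w' : ↥(P : Subgroup G), (w' : G) = n * (w : G) * n⁻¹ → ψ' w' = ψ w},
          ((ψ' y : ℂˣ) : ℂ))
    (hD : ∀ η ∈ Y, ∀ θ' ∈ Theta P, Dn P (η : G → ℂ) (θ' : ↥CP → ℂ) =
      if θ' ∈ MulAction.orbit ↥NP θ then (CP).relIndex (thetaStab P θ) else 0)
    (ψ : ↥(P : Subgroup G) →* ℂˣ) (hψ : ψ ≠ 1) (y : ↥(P : Subgroup G)) :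
    fpart p CP (ζ ψ : G → ℂ) (θ : ↥CP → ℂ) (y : G) =
      ∑ ψ' ∈ Finset.univ.filter (fun ψ' : ↥(P : Subgroup G) →* ℂˣ =>
        relT P (thetaStab P θ) ψ ψ'), ((ψ' y : ℂˣ) : ℂ) := by
  by_cases hy : y = 1
  · subst hy
    have h1 : ((1 : ↥(P : Subgroup G)) : G) = 1 := rfl
    rw [h1, Dn_spec P hP (IsIrrCharacter.isCharacter (ζ ψ).2) θ hθ, hD _ (hζY ψ hψ) θ hθ,
      if_pos (MulAction.mem_orbit_self θ), ← card_class P hP θ hψ, Finset.card_eq_sum_ones,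
      Nat.cast_sum]
    apply Finset.sum_congr rfl
    intro ψ' _
    rw [map_one]
    simp
  · rw [hform ψ hψ y hy, finsum_mem_eq_sum_filter_of_fintype]
    apply Finset.sum_congr _ (fun _ _ => rfl)
    ext ψ'
    simp only [Finset.mem_filter, Finset.mem_univ, true_and, Set.mem_ofPred_eq]
    rfl

include hP in
open scoped Classical in
/-- **[BH-SSUM]** -/
theorem ssum (hM : IsPModular p M) (θ : IrrCharacter ↥CP) (hθ : θ ∈ Theta P)
    {B : Set (IrrCharacter G)} (hind : IsInducedBlock M CP (blockOf M (θ : ↥CP → ℂ)) B)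
    (Y : Finset (IrrCharacter G)) (ζ : (↥(P : Subgroup G) →* ℂˣ) → IrrCharacter G)
    (hYB : ∀ η ∈ Y, η ∈ B)
    (hζY : ∀ ψ : ↥(P : Subgroup G) →* ℂˣ, ψ ≠ 1 → ζ ψ ∈ Y)
    (hiff : ∀ ψ ψ' : ↥(P : Subgroup G) →* ℂˣ, ψ ≠ 1 → ψ' ≠ 1 →
      (ζ ψ = ζ ψ' ↔ ∃ n : G, n ∈ thetaStab P θ ∧
        ∀ w w' : ↥(P : Subgroup G), (w' : G) = n * (w : G) * n⁻¹ → ψ' w' = ψ w))
    (hform : ∀ ψ : ↥(P : Subgroup G) →* ℂˣ, ψ ≠ 1 → ∀ y : ↥(P : Subgroup G), y ≠ 1 →
      fpart p CP (ζ ψ : G → ℂ) (θ : ↥CP → ℂ) (y : G) =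
        ∑ᶠ ψ' ∈ {ψ' : ↥(P : Subgroup G) →* ℂˣ | ∃ n : G, n ∈ thetaStab P θ ∧
          ∀ w w' : ↥(P : Subgroup G), (w' : G) = n * (w : G) * n⁻¹ → ψ' w' = ψ w},
          ((ψ' y : ℂˣ) : ℂ))
    (hD : ∀ η ∈ Y, ∀ θ' ∈ Theta P, Dn P (η : G → ℂ) (θ' : ↥CP → ℂ) =
      if θ' ∈ MulAction.orbit ↥NP θ then (CP).relIndex (thetaStab P θ) else 0)
    (ψ₀ : ↥(P : Subgroup G) →* ℂˣ) (hψ₀ : ψ₀ ≠ 1) :
    ∃ S : Finset (IrrCharacter G), ζ ψ₀ ∈ S ∧
      S.card * (CP).relIndex (thetaStab P θ) = (CP).relIndex NP ∧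
      ((Theta P).filter (fun θ' => θ' ∈ MulAction.orbit ↥NP θ)).card *
        (CP).relIndex (thetaStab P θ) = (CP).relIndex NP ∧
      ∀ θ' ∈ Theta P, ∀ y : ↥(P : Subgroup G),
        fpart p CP (∑ η ∈ S, (η : G → ℂ)) (θ' : ↥CP → ℂ) (y : G) =
          if θ' ∈ MulAction.orbit ↥NP θ then etaN P ψ₀ y else 0 := by
  have hTN : thetaStab P θ ≤ NP := thetaStab_le P θ
  obtain ⟨O, hOdef⟩ : ∃ O : Finset (↥(P : Subgroup G) →* ℂˣ),
      O = Finset.univ.filter (fun ψ' : ↥(P : Subgroup G) →* ℂˣ =>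
        ∃ m : ↥NP, dualTwist m ψ₀ = ψ') := ⟨_, rfl⟩
  have hOmem : ∀ ψ' : ↥(P : Subgroup G) →* ℂˣ, ψ' ∈ O ↔ ∃ m : ↥NP, dualTwist m ψ₀ = ψ' := by
    intro ψ'
    rw [hOdef]
    simp
  have hOne : ∀ ψ' ∈ O, ψ' ≠ 1 := by
    intro ψ' h
    obtain ⟨m, rfl⟩ := (hOmem ψ').mp h
    exact dualTwist_ne_one m hψ₀
  have hψ₀O : ψ₀ ∈ O := (hOmem ψ₀).mpr ⟨1, dualTwist_one ψ₀⟩
  -- the fibres of `ζ` on the orbit are the `T`-classes
  have hfib : ∀ ψ ∈ O, O.filter (fun ψ' => ζ ψ' = ζ ψ) =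
      Finset.univ.filter (fun ψ' : ↥(P : Subgroup G) →* ℂˣ => relT P (thetaStab P θ) ψ ψ') := by
    intro ψ hψ
    ext ψ'
    simp only [Finset.mem_filter, Finset.mem_univ, true_and]
    constructor
    · rintro ⟨h1, h2⟩
      exact (hiff ψ ψ' (hOne ψ hψ) (hOne ψ' h1)).mp h2.symm
    · intro h
      have hψ'O : ψ' ∈ O := by
        obtain ⟨m, hm⟩ := relT_twist P hTN h
        obtain ⟨m₀, hm₀⟩ := (hOmem ψ).mp hψ
        exact (hOmem ψ').mpr ⟨m₀ * m, by rw [dualTwist_mul, hm₀, hm]⟩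
      exact ⟨hψ'O, ((hiff ψ ψ' (hOne ψ hψ) (hOne ψ' hψ'O)).mpr h).symm⟩
  have hcore : ∀ y : ↥(P : Subgroup G),
      ∑ η ∈ O.image ζ, fpart p CP (η : G → ℂ) (θ : ↥CP → ℂ) (y : G) = etaN P ψ₀ y := by
    intro y
    rw [Cfsg.Agent.Lib.Helper25.BHEta.etaN_eq_sum, ← hOdef]
    rw [← Finset.sum_fiberwise_of_maps_to (s := O) (t := O.image ζ) (g := ζ)
      (fun ψ hψ => Finset.mem_image_of_mem ζ hψ)]
    apply Finset.sum_congr rfl
    intro η hη
    obtain ⟨ψ, hψ, rfl⟩ := Finset.mem_image.mp hη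
    rw [fpart_exc P hP θ hθ Y ζ hζY hform hD ψ (hOne ψ hψ) y, hfib ψ hψ]
  refine ⟨O.image ζ, Finset.mem_image_of_mem ζ hψ₀O, ?_, ?_, ?_⟩
  · -- `|S| e = f`
    rw [← Cfsg.Agent.Lib.Helper25.BHEta.card_orbitN P hP hψ₀, ← hOdef]
    rw [Finset.card_eq_sum_card_fiberwise (f := ζ) (s := O) (t := O.image ζ)
      (fun ψ hψ => Finset.mem_image_of_mem ζ hψ)]
    rw [Finset.card_eq_sum_ones (O.image ζ), Finset.sum_mul]
    apply Finset.sum_congr rfl
    intro η hη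
    obtain ⟨ψ, hψ, rfl⟩ := Finset.mem_image.mp hη
    rw [one_mul, hfib ψ hψ, card_class P hP θ (hOne ψ hψ)]
  · -- `|orbit| e = f`
    have hCN : CP ≤ NP := Subgroup.centralizer_le_normalizer _
    have hOcard : ((Theta P).filter (fun θ' => θ' ∈ MulAction.orbit ↥NP θ)).card =
        (MulAction.orbit ↥NP θ).ncard := by
      rw [← Set.ncard_coe_finset]
      congr 1
      ext θ'
      simp only [Finset.coe_filter, Set.mem_ofPred_eq]
      constructor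
      · exact fun h => h.2
      · intro h
        refine ⟨?_, h⟩
        obtain ⟨n, rfl⟩ := h
        exact (mem_Theta P _).mpr (smul_trivial_on P n θ ((mem_Theta P θ).mp hθ))
    have hCpos : 0 < Nat.card ↥CP := Nat.card_pos
    have h1 : (MulAction.stabilizer ↥NP θ).index =
        ((Theta P).filter (fun θ' => θ' ∈ MulAction.orbit ↥NP θ)).card := by
      rw [MulAction.index_stabilizer, hOcard]
    have h2 := Subgroup.index_mul_card (MulAction.stabilizer ↥NP θ)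
    rw [h1, card_stabilizer_eq, card_eq_card_mul_relIndex (centralizer_le_thetaStab P θ),
      card_eq_card_mul_relIndex hCN] at h2
    have h3 : (((Theta P).filter (fun θ' => θ' ∈ MulAction.orbit ↥NP θ)).card *
        (CP).relIndex (thetaStab P θ)) * Nat.card ↥CP = (CP).relIndex NP * Nat.card ↥CP := by
      rw [← h2]; ring
    exact Nat.eq_of_mul_eq_mul_right hCpos h3
  · intro θ' hθ' y
    rw [fpart_sum]
    by_cases horb : θ' ∈ MulAction.orbit ↥NP θ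
    · rw [if_pos horb]
      obtain ⟨n, hn, rfl⟩ := (mem_orbit_iff P θ θ').mp horb
      rw [← Cfsg.Agent.Lib.Helper25.BHEta.etaN_smul P ψ₀ ⟨n, hn⟩ y, ← hcore]
      apply Finset.sum_congr rfl
      intro η _
      rw [fpart_thetaConj P (isClassFunction_irr η) n hn θ (y : G)]
      rfl
    · rw [if_neg horb]
      apply Finset.sum_eq_zero
      intro η hη
      obtain ⟨ψ, hψ, rfl⟩ := Finset.mem_image.mp hη
      by_cases hy : y = 1
      · subst hy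
        have h1 : ((1 : ↥(P : Subgroup G)) : G) = 1 := rfl
        rw [h1, Dn_spec P hP (IsIrrCharacter.isCharacter (ζ ψ).2) θ' hθ',
          hD _ (hζY ψ (hOne ψ hψ)) θ' hθ', if_neg horb]
        simp
      · exact Cfsg.Agent.Lib.Helper16.BHExt.fpart_eq_zero_off_orbit P hP hM θ hθ hind (hYB _ (hζY ψ (hOne ψ hψ))) θ' hθ' horb
          y hy

end Cfsg.Agent.Lib.Helper75.BHSsum
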