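import Mathlib
import Cfsg.Agent.Lib.Helper75.BrauerHalfC
import Cfsg.Agent.Lib.Helper75.BrauerHalfSsum
import Cfsg.Agent.Lib.Helper92.BrauerHalfXtype
import Cfsg.Agent.Lib.Helper25.BHGqExc
import Cfsg.Agent.Lib.Helper25.BHEta
import Cfsg.Agent.Lib.Helper16.BHExt
import Cfsg.Agent.Lib.Helper78.BrauerHalfGamma
import Cfsg.Agent.Lib.Helper77.BHIneq
import Cfsg.Agent.Lib.Helper77.BHChar
import Cfsg.Agent.Lib.Helper77.BHTriv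
import Cfsg.Agent.Lib.Helper78.BrauerHalfBlk
import Cfsg.Agent.Lib.Helper25.BrauerEnd

set_option autoImplicit false
set_option linter.unusedSectionVars false

/-!
# Brauer's `(p - 1) / 2` bound: the modules contributed by other seats, restated (helper75)

Every statement below is the exact specification posted on the team board; the proofs are the
landed modules of helper78 (`blk_data`, `Lf_mul_conj`), helper77 (`Lf_one`, `Lf_char_ge`,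
`Lf_nonneg_of_data`, `Lf_nonneg_or_const`), helper16 (`gq_of_root`, `fpart_of_root_const`,
`fpart_eq_zero_off_orbit`), helper25 (`etaN_*`, `card_orbitN`, `gq_exc`), helper92
(`const_of_xtype`) and helper33 (`ssum`).
-/

namespace Cfsg.Agent.Lib.Helper75.BHMods
open Cfsg Cfsg.Agent.Lib.Helper78 Cfsg.Agent.Lib.Helper16 Cfsg.Agent.Lib.Helper3.DefOneGen
  Cfsg.Agent.Lib.Helper75.McKayOne Cfsg.Agent.Lib.Helper75.BrauerHalf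
open scoped ComplexConjugate IsMulCommutative

universe u

variable {G : Type u} [Group G] [Fintype G] {p : ℕ} [hp : Fact p.Prime] (P : Sylow p G)
  (hP : Nat.card P = p)
variable [Fintype ↥(Subgroup.centralizer ((P : Subgroup G) : Set G))] [Fintype ↥(P : Subgroup G)]
  [IsMulCommutative ↥(P : Subgroup G)] [Fintype (↥(P : Subgroup G) →* ℂˣ)]
  [Fintype ↥(Subgroup.normalizer ((P : Subgroup G) : Set G))]
variable {M : Ideal AlgInt}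

local notation "CP" => Subgroup.centralizer ((P : Subgroup G) : Set G)
local notation "NP" => Subgroup.normalizer ((P : Subgroup G) : Set G)

attribute [local instance] nAct


section BLK
include hP in
theorem blk_data (hM : IsPModular p M) (θ : IrrCharacter ↥CP)
    (hθ : ∀ x : ↥CP, (x : G) ∈ (P : Subgroup G) → (θ : ↥CP → ℂ) x = (θ : ↥CP → ℂ) 1)
    {B : Set (IrrCharacter G)} (hind : IsInducedBlock M CP (blockOf M (θ : ↥CP → ℂ)) B) :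
    (∀ χ ∈ B, ∃ a : ℤ, (a = 1 ∨ a = -1) ∧ ∀ y : G, y ∈ (P : Subgroup G) → y ≠ 1 →
        fpart p CP (χ : G → ℂ) (θ : ↥CP → ℂ) y = (a : ℂ)) ∨
    (2 * (CP).relIndex (thetaStab P θ) ≤ p - 1 ∧
      ∃ (δ : ℤ) (Y : Finset (IrrCharacter G))
        (ζ : (↥(P : Subgroup G) →* ℂˣ) → IrrCharacter G),
        (δ = 1 ∨ δ = -1) ∧ (∀ η ∈ Y, η ∈ B) ∧
        (∀ χ ∈ B, χ ∉ Y → ∃ a : ℤ, (a = 1 ∨ a = -1) ∧
          ∀ y : G, y ∈ (P : Subgroup G) → y ≠ 1 →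
            fpart p CP (χ : G → ℂ) (θ : ↥CP → ℂ) y = (a : ℂ)) ∧
        (∀ ψ : ↥(P : Subgroup G) →* ℂˣ, ψ ≠ 1 → ζ ψ ∈ Y) ∧
        (∀ η ∈ Y, ∃ ψ : ↥(P : Subgroup G) →* ℂˣ, ψ ≠ 1 ∧ ζ ψ = η) ∧
        (∀ ψ ψ' : ↥(P : Subgroup G) →* ℂˣ, ψ ≠ 1 → ψ' ≠ 1 →
          (ζ ψ = ζ ψ' ↔ ∃ n : G, n ∈ thetaStab P θ ∧
            ∀ w w' : ↥(P : Subgroup G), (w' : G) = n * (w : G) * n⁻¹ → ψ' w' = ψ w)) ∧
        (∀ ψ : ↥(P : Subgroup G) →* ℂˣ, ψ ≠ 1 → ∀ y : ↥(P : Subgroup G), y ≠ 1 →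
          fpart p CP (ζ ψ : G → ℂ) (θ : ↥CP → ℂ) (y : G) = (δ : ℂ) *
            ∑ᶠ ψ' ∈ {ψ' : ↥(P : Subgroup G) →* ℂˣ | ∃ n : G, n ∈ thetaStab P θ ∧
              ∀ w w' : ↥(P : Subgroup G), (w' : G) = n * (w : G) * n⁻¹ → ψ' w' = ψ w},
              ((ψ' y : ℂˣ) : ℂ)) ∧
        (∀ η ∈ Y, ∀ η' ∈ Y, (η : G → ℂ) 1 = (η' : G → ℂ) 1)) :=
  Cfsg.Agent.Lib.Helper78.BrauerHalf.blk_data P hP hM θ hθ hind
end BLK



section INEQ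
-- [BH-INEQ]
include hP in
open scoped Classical in
theorem Lf_nonneg_of_data {Ξ : G → ℂ} (hΞ : IsCharacter G Ξ) (θ : IrrCharacter ↥CP)
    (hθ : θ ∈ Theta P) (γ : ℤ)
    (hg : ∀ θ' ∈ Theta P, gq P Ξ (θ' : ↥CP → ℂ) =
      if θ' ∈ MulAction.orbit ↥NP θ then (γ : ℂ) else 0)
    (hγ : γ ≤ 0 ∨ 2 * γ ≤ (p : ℤ) - 1) :
    ∃ r : ℝ, 0 ≤ r ∧ Lf P Ξ = (r : ℂ) :=
  Cfsg.Agent.Lib.Helper77.BH.Lf_nonneg_of_data P hP hΞ θ hθ γ hg hγ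

include hP in
open scoped Classical in
theorem Lf_nonneg_or_const {Ξ : G → ℂ} (hΞ : IsCharacter G Ξ) (θ : IrrCharacter ↥CP)
    (hθ : θ ∈ Theta P)
    (hfp : ∀ θ' ∈ Theta P, ∀ y : ↥(P : Subgroup G), y ≠ 1 →
      fpart p CP Ξ (θ' : ↥CP → ℂ) (y : G) =
        if θ' ∈ MulAction.orbit ↥NP θ then 1 else 0) :
    (∃ r : ℝ, 0 ≤ r ∧ Lf P Ξ = (r : ℂ)) ∨
      ∀ y : G, y ∈ (P : Subgroup G) → Ξ y = Ξ 1 :=
  Cfsg.Agent.Lib.Helper77.BH.Lf_nonneg_or_const P hP hΞ θ hθ hfp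
end INEQ

section TRIV
-- [BH-TRIV]
include hP in
theorem Lf_one : Lf P (fun _ : G => (1 : ℂ)) =
    -((p : ℂ) * ((p : ℂ) - 1) * ((CP).relIndex NP : ℂ)) :=
  Cfsg.Agent.Lib.Helper77.BH.Lf_one P hP
end TRIV

section CHAR
-- [BH-CHAR]
include hP in
theorem Lf_char_ge
    (hirr : ∀ Ξ : IrrCharacter G, (Ξ : G → ℂ) ≠ (fun _ : G => (1 : ℂ)) →
      ∃ r : ℝ, 0 ≤ r ∧ Lf P (Ξ : G → ℂ) = (r : ℂ))
    (hone : Lf P (fun _ : G => (1 : ℂ)) =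
      -((p : ℂ) * ((p : ℂ) - 1) * ((CP).relIndex NP : ℂ)))
    {Γ : G → ℂ} (hΓ : IsCharacter G Γ) (m : ℕ)
    (hm : classInner Γ (fun _ : G => (1 : ℂ)) = (m : ℂ)) :
    ∃ r : ℝ, -((m : ℝ) * (p : ℝ) * ((p : ℝ) - 1) * ((CP).relIndex NP : ℝ)) ≤ r ∧
      Lf P Γ = (r : ℂ) :=
  Cfsg.Agent.Lib.Helper77.BH.Lf_char_ge P hP hirr hone hΓ m hm
end CHAR



section ETA
-- [BH-ETA]   (n • y = n y n⁻¹ is Mathlib's MulDistribMulAction ↥NP ↥P; dualTwist n ψ y = ψ (n • y))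
include hP in
open scoped Classical in
theorem card_orbitN {ψ₀ : ↥(P : Subgroup G) →* ℂˣ} (hψ₀ : ψ₀ ≠ 1) :
    (Finset.univ.filter (fun ψ' : ↥(P : Subgroup G) →* ℂˣ =>
      ∃ m : ↥NP, dualTwist m ψ₀ = ψ')).card = (CP).relIndex NP :=
  Cfsg.Agent.Lib.Helper25.BHEta.card_orbitN P hP hψ₀

include hP in
theorem etaN_one {ψ₀ : ↥(P : Subgroup G) →* ℂˣ} (hψ₀ : ψ₀ ≠ 1) :
    etaN P ψ₀ 1 = ((CP).relIndex NP : ℂ) :=
  Cfsg.Agent.Lib.Helper25.BHEta.etaN_one P hP hψ₀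

theorem etaN_smul (ψ₀ : ↥(P : Subgroup G) →* ℂˣ) (n : ↥NP) (y : ↥(P : Subgroup G)) :
    etaN P ψ₀ (n • y) = etaN P ψ₀ y :=
  Cfsg.Agent.Lib.Helper25.BHEta.etaN_smul P ψ₀ n y

include hP in
theorem sum_etaN_normSq {ψ₀ : ↥(P : Subgroup G) →* ℂˣ} (hψ₀ : ψ₀ ≠ 1) :
    ∑ y : ↥(P : Subgroup G), etaN P ψ₀ y * conj (etaN P ψ₀ y) =
      (p : ℂ) * ((CP).relIndex NP : ℂ) :=
  Cfsg.Agent.Lib.Helper25.BHEta.sum_etaN_normSq P hP hψ₀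
end ETA

section GAMMA
-- [BH-GAMMA]
include hP in
open scoped Classical in
theorem Lf_mul_conj (θ : IrrCharacter ↥CP) (hθ : θ ∈ Theta P) {F : G → ℂ}
    (hF : IsClassFunction G F) (E : ↥(P : Subgroup G) → ℂ)
    (hfp : ∀ θ' ∈ Theta P, ∀ y : ↥(P : Subgroup G),
      fpart p CP F (θ' : ↥CP → ℂ) (y : G) =
        if θ' ∈ MulAction.orbit ↥NP θ then E y else 0) :
    ∃ w : ℕ,
      (CP).relIndex NP * ((Theta P).filter (fun θ' => θ' ∈ MulAction.orbit ↥NP θ)).card ≤ w ∧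
      (w ≤ 1 → (θ : ↥CP → ℂ) 1 = 1) ∧
      Lf P (fun g => F g * conj (F g)) = (w : ℂ) *
        (((p : ℂ) - 1) * (E 1 * conj (E 1)) - ((p : ℂ) + 1) *
          ∑ y ∈ Finset.univ.filter (fun y : ↥(P : Subgroup G) => y ≠ 1), E y * conj (E y)) :=
  Cfsg.Agent.Lib.Helper78.BrauerHalfGamma.Lf_mul_conj P hP θ hθ hF E hfp
end GAMMA

section EXT
-- [BH-EXT]
include hP in
open scoped Classical in
/-- Brauer's second main theorem + `N_G(P)`-conjugation: off the orbit of the root the parts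
vanish, on the orbit they are conjugates. -/
theorem fpart_eq_zero_off_orbit (hM : IsPModular p M) (θ : IrrCharacter ↥CP) (hθ : θ ∈ Theta P)
    {B : Set (IrrCharacter G)} (hind : IsInducedBlock M CP (blockOf M (θ : ↥CP → ℂ)) B)
    {Ξ : IrrCharacter G} (hΞ : Ξ ∈ B) (θ' : IrrCharacter ↥CP) (hθ' : θ' ∈ Theta P)
    (hoff : θ' ∉ MulAction.orbit ↥NP θ) (y : ↥(P : Subgroup G)) (hy : y ≠ 1) :
    fpart p CP (Ξ : G → ℂ) (θ' : ↥CP → ℂ) (y : G) = 0 :=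
  Cfsg.Agent.Lib.Helper16.BHExt.fpart_eq_zero_off_orbit P hP hM θ hθ hind hΞ θ' hθ' hoff y hy

include hP in
open scoped Classical in
theorem gq_of_root (hM : IsPModular p M) (θ : IrrCharacter ↥CP) (hθ : θ ∈ Theta P)
    {B : Set (IrrCharacter G)} (hind : IsInducedBlock M CP (blockOf M (θ : ↥CP → ℂ)) B)
    {Ξ : IrrCharacter G} (hΞ : Ξ ∈ B) :
    ∀ θ' ∈ Theta P, gq P (Ξ : G → ℂ) (θ' : ↥CP → ℂ) =
      if θ' ∈ MulAction.orbit ↥NP θ then gq P (Ξ : G → ℂ) (θ : ↥CP → ℂ) else 0 :=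
  Cfsg.Agent.Lib.Helper16.BHExt.gq_of_root P hP hM θ hθ hind hΞ

include hP in
open scoped Classical in
theorem fpart_of_root_const (hM : IsPModular p M) (θ : IrrCharacter ↥CP) (hθ : θ ∈ Theta P)
    {B : Set (IrrCharacter G)} (hind : IsInducedBlock M CP (blockOf M (θ : ↥CP → ℂ)) B)
    {Ξ : IrrCharacter G} (hΞ : Ξ ∈ B) (a : ℂ)
    (ha : ∀ y : G, y ∈ (P : Subgroup G) → y ≠ 1 →
      fpart p CP (Ξ : G → ℂ) (θ : ↥CP → ℂ) y = a) :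
    ∀ θ' ∈ Theta P, ∀ y : ↥(P : Subgroup G), y ≠ 1 →
      fpart p CP (Ξ : G → ℂ) (θ' : ↥CP → ℂ) (y : G) =
        if θ' ∈ MulAction.orbit ↥NP θ then a else 0 :=
  Cfsg.Agent.Lib.Helper16.BHExt.fpart_of_root_const P hP hM θ hθ hind hΞ a ha
end EXT

section XTYPE
-- [BH-XTYPE]
include hP in
open scoped Classical in
theorem const_of_xtype {Ξ : G → ℂ} (hΞ : IsCharacter G Ξ) (hdeg : 2 * charDegree Ξ + 1 < p)
    (θ : IrrCharacter ↥CP) (hθ : θ ∈ Theta P) (a : ℤ) (ha : a = 1 ∨ a = -1)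
    (hfp : ∀ θ' ∈ Theta P, ∀ y : ↥(P : Subgroup G), y ≠ 1 →
      fpart p CP Ξ (θ' : ↥CP → ℂ) (y : G) =
        if θ' ∈ MulAction.orbit ↥NP θ then (a : ℂ) else 0) :
    ∀ y : G, y ∈ (P : Subgroup G) → Ξ y = Ξ 1 :=
  Cfsg.Agent.Lib.Helper92.BrauerHalf.const_of_xtype P hP hΞ hdeg θ hθ a ha hfp
end XTYPE



section SSUM
-- [BH-SSUM]
include hP in
open scoped Classical in
theorem ssum (hM : IsPModular p M) (θ : IrrCharacter ↥CP) (hθ : θ ∈ Theta P)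
    {B : Set (IrrCharacter G)} (hind : IsInducedBlock M CP (blockOf M (θ : ↥CP → ℂ)) B)
    (Y : Finset (IrrCharacter G)) (ζ : (↥(P : Subgroup G) →* ℂˣ) → IrrCharacter G)
    (hYB : ∀ η ∈ Y, η ∈ B)
    (hζY : ∀ ψ : ↥(P : Subgroup G) →* ℂˣ, ψ ≠ 1 → ζ ψ ∈ Y)
    (hiff : ∀ ψ ψ' : ↥(P : Subgroup G) →* ℂˣ, ψ ≠ 1 → ψ' ≠ 1 →
      (ζ ψ = ζ ψ' ↔ ∃ n : G, n ∈ thetaStab P θ ∧
        ∀ w w' : ↥(P : Subgroup G), (w' : G) = n * (w : G) * n⁻¹ → ψ' w' = ψ w))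
    (hform : ∀ ψ : ↥(P : Subgroup G) →* ℂˣ, ψ ≠ 1 → ∀ y : ↥(P : Subgroup G), y ≠ 1 →
      fpart p CP (ζ ψ : G → ℂ) (θ : ↥CP → ℂ) (y : G) =
        ∑ᶠ ψ' ∈ {ψ' : ↥(P : Subgroup G) →* ℂˣ | ∃ n : G, n ∈ thetaStab P θ ∧
          ∀ w w' : ↥(P : Subgroup G), (w' : G) = n * (w : G) * n⁻¹ → ψ' w' = ψ w},
          ((ψ' y : ℂˣ) : ℂ))
    (hD : ∀ η ∈ Y, ∀ θ' ∈ Theta P, Dn P (η : G → ℂ) (θ' : ↥CP → ℂ) =
      if θ' ∈ MulAction.orbit ↥NP θ then (CP).relIndex (thetaStab P θ) else 0)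
    (ψ₀ : ↥(P : Subgroup G) →* ℂˣ) (hψ₀ : ψ₀ ≠ 1) :
    ∃ S : Finset (IrrCharacter G), ζ ψ₀ ∈ S ∧
      S.card * (CP).relIndex (thetaStab P θ) = (CP).relIndex NP ∧
      ((Theta P).filter (fun θ' => θ' ∈ MulAction.orbit ↥NP θ)).card *
        (CP).relIndex (thetaStab P θ) = (CP).relIndex NP ∧
      ∀ θ' ∈ Theta P, ∀ y : ↥(P : Subgroup G),
        fpart p CP (∑ η ∈ S, (η : G → ℂ)) (θ' : ↥CP → ℂ) (y : G) =
          if θ' ∈ MulAction.orbit ↥NP θ then etaN P ψ₀ y else 0 :=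
  Cfsg.Agent.Lib.Helper75.BHSsum.ssum P hP hM θ hθ hind Y ζ hYB hζY hiff hform hD ψ₀ hψ₀
end SSUM

section GQEXC
-- [BH-GQEXC]
include hP in
theorem gq_exc (θ : IrrCharacter ↥CP) (ψ : ↥(P : Subgroup G) →* ℂˣ) (hψ : ψ ≠ 1) (F : G → ℂ)
    (δ : ℂ)
    (hform : ∀ y : ↥(P : Subgroup G), y ≠ 1 →
      fpart p CP F (θ : ↥CP → ℂ) (y : G) = δ *
        ∑ᶠ ψ' ∈ {ψ' : ↥(P : Subgroup G) →* ℂˣ | ∃ n : G, n ∈ thetaStab P θ ∧
          ∀ w w' : ↥(P : Subgroup G), (w' : G) = n * (w : G) * n⁻¹ → ψ' w' = ψ w},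
          ((ψ' y : ℂˣ) : ℂ)) :
    gq P F (θ : ↥CP → ℂ) = -(δ * ((CP).relIndex (thetaStab P θ) : ℂ)) :=
  Cfsg.Agent.Lib.Helper25.BHGqExc.gq_exc P hP θ ψ hψ F δ hform
end GQEXC

end Cfsg.Agent.Lib.Helper75.BHMods
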