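import Mathlib
import Cfsg.Agent.Lib.Helper75.BrauerHalfMods
import Cfsg.Agent.Lib.Helper75.DefOneRoot
import Cfsg.Agent.Lib.Helper75.PQRDegree

set_option autoImplicit false
set_option linter.unusedSectionVars false

/-!
# Brauer's `(p - 1) / 2` bound, part D: the sign of the functional on irreducible characters
(helper75)
-/

namespace Cfsg.Agent.Lib.Helper75.BrauerHalf

open Cfsg Cfsg.Agent.Lib.Helper78 Cfsg.Agent.Lib.Helper16 Cfsg.Agent.Lib.Helper3.DefOneGen
  Cfsg.Agent.Lib.Helper75.McKayOne Cfsg.Agent.Lib.Helper75.BHMods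
open scoped ComplexConjugate IsMulCommutative

universe u

section TypeD

variable {G : Type u} [Group G] [Fintype G] {p : ℕ} [hp : Fact p.Prime] (P : Sylow p G)
  (hP : Nat.card P = p)
variable [Fintype ↥(Subgroup.centralizer ((P : Subgroup G) : Set G))] [Fintype ↥(P : Subgroup G)]
  [IsMulCommutative ↥(P : Subgroup G)] [Fintype (↥(P : Subgroup G) →* ℂˣ)]
  [Fintype ↥(Subgroup.normalizer ((P : Subgroup G) : Set G))]
variable {M : Ideal AlgInt}

local notation "CP" => Subgroup.centralizer ((P : Subgroup G) : Set G)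
local notation "NP" => Subgroup.normalizer ((P : Subgroup G) : Set G)

attribute [local instance] nAct

/-- The trivial character of `C_G(P)`. -/
noncomputable def trivC : IrrCharacter ↥CP :=
  ⟨fun _ => 1, Cfsg.Agent.Lib.Helper78.isIrrCharacter_one⟩

theorem trivC_mem : trivC P ∈ Theta P := by
  rw [mem_Theta]
  intro x _
  rfl

include hP in
theorem dvd_card_of_card : p ∣ Nat.card G := by
  have h1 : Nat.card (P : Subgroup G) = p := hP
  rw [← h1]
  exact Subgroup.card_subgroup_dvd_card _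

include hP in
/-- Characters of degree divisible by `p` vanish on the `p`-singular elements. -/
theorem vanish_of_dvd (hM : IsPModular p M) (Ξ : IrrCharacter G)
    (h : p ∣ charDegree (Ξ : G → ℂ)) {g : G} (hg : p ∣ orderOf g) : (Ξ : G → ℂ) g = 0 := by
  have hMp : M.IsPrime := isPModular_isPrime hM
  have hdiv := dvd_card_of_card P hP
  have hsq := not_sq_dvd_of_card P hP
  have h0 : blockDefect p (blockOf M (Ξ : G → ℂ)) = 0 := by
    by_contra hne
    exact (not_dvd_iff_pos_defect hM hdiv hsq Ξ).mpr (Nat.pos_of_ne_zero hne) h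
  have hB := isPBlock_blockOf (M := M) Ξ
  have hkl := (blockRank_card_defect_zero hM hB).2.2.mp h0
  exact vanish_of_card_eq_blockRank hM hB hkl (self_mem_blockOf hMp.ne_top Ξ) hg

include hP in
open scoped Classical in
/-- **The sign of the functional**: for every irreducible character either `Lf ≥ 0` or `P` lies
in the kernel. -/
theorem Lf_irr_nonneg_or_const (hM : IsPModular p M) (Ξ : IrrCharacter G) :
    (∃ r : ℝ, 0 ≤ r ∧ Lf P (Ξ : G → ℂ) = (r : ℂ)) ∨
      ∀ y : G, y ∈ (P : Subgroup G) → (Ξ : G → ℂ) y = (Ξ : G → ℂ) 1 := by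
  have hMp : M.IsPrime := isPModular_isPrime hM
  have hΞc : IsCharacter G (Ξ : G → ℂ) := IsIrrCharacter.isCharacter Ξ.2
  have hdiv := dvd_card_of_card P hP
  have hsq := not_sq_dvd_of_card P hP
  by_cases hdvd : p ∣ charDegree (Ξ : G → ℂ)
  · -- defect zero
    left
    apply Lf_nonneg_of_data P hP hΞc (trivC P) (trivC_mem P) 0 _ (Or.inl le_rfl)
    intro θ' _
    have h0 : gq P (Ξ : G → ℂ) (θ' : ↥CP → ℂ) = 0 := by
      unfold gq
      apply Finset.sum_eq_zero
      intro y hy
      simp only [Finset.mem_filter, Finset.mem_univ, true_and] at hy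
      exact fpart_eq_zero_of_vanish P hP (fun g hg => vanish_of_dvd P hP hM Ξ hdvd hg) _ y.2
        (fun h => hy (Subtype.ext h))
    rw [h0]
    simp
  · -- positive defect
    have hd := (not_dvd_iff_pos_defect hM hdiv hsq Ξ).mp hdvd
    obtain ⟨-, b, θ₀, hind, hθ₀b, hθ₀P⟩ :=
      Cfsg.Agent.Lib.Helper75.DefOneGen.exists_root hM P hP (isPBlock_blockOf Ξ) hd
    have hb : b = blockOf M (θ₀ : ↥CP → ℂ) := IsPBlock_eq_blockOf hind.1 hθ₀b
    rw [hb] at hind
    have hθ₀ : θ₀ ∈ Theta P := (mem_Theta P θ₀).mpr hθ₀P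
    have hΞB : Ξ ∈ blockOf M (Ξ : G → ℂ) := self_mem_blockOf hMp.ne_top Ξ
    -- the nonexceptional case
    have hX : ∀ a : ℤ, (a = 1 ∨ a = -1) → (∀ y : G, y ∈ (P : Subgroup G) → y ≠ 1 →
        fpart p CP (Ξ : G → ℂ) (θ₀ : ↥CP → ℂ) y = (a : ℂ)) →
        (∃ r : ℝ, 0 ≤ r ∧ Lf P (Ξ : G → ℂ) = (r : ℂ)) ∨
          ∀ y : G, y ∈ (P : Subgroup G) → (Ξ : G → ℂ) y = (Ξ : G → ℂ) 1 := by
      intro a ha hfa
      have hfp := fpart_of_root_const P hP hM θ₀ hθ₀ hind hΞB (a : ℂ) hfa
      rcases ha with ha | ha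
      · rw [ha] at hfp
        apply Lf_nonneg_or_const P hP hΞc θ₀ hθ₀
        intro θ' hθ' y hy
        rw [hfp θ' hθ' y hy]
        simp
      · left
        have hgq := gq_of_root P hP hM θ₀ hθ₀ hind hΞB
        have hg0 : gq P (Ξ : G → ℂ) (θ₀ : ↥CP → ℂ) = ((-((p : ℤ) - 1) : ℤ) : ℂ) := by
          unfold gq
          have h1 : ∀ y ∈ Finset.univ.filter (fun y : ↥(P : Subgroup G) => y ≠ 1),
              fpart p CP (Ξ : G → ℂ) (θ₀ : ↥CP → ℂ) (y : G) = (a : ℂ) := by
            intro y hy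
            simp only [Finset.mem_filter, Finset.mem_univ, true_and] at hy
            exact hfa y y.2 (fun h => hy (Subtype.ext h))
          rw [Finset.sum_congr rfl h1, Finset.sum_const, nsmul_eq_mul,
            Finset.filter_ne' Finset.univ (1 : ↥(P : Subgroup G)),
            Finset.card_erase_of_mem (Finset.mem_univ _), Finset.card_univ,
            ← Nat.card_eq_fintype_card]
          have hP' : Nat.card ↥(P : Subgroup G) = p := hP
          rw [hP', ha, Nat.cast_pred hp.out.pos]
          push_cast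
          ring
        apply Lf_nonneg_of_data P hP hΞc θ₀ hθ₀ (-((p : ℤ) - 1)) _ (Or.inl _)
        · intro θ' hθ'
          rw [hgq θ' hθ', hg0]
        · have := hp.out.one_le
          omega
    rcases blk_data P hP hM θ₀ hθ₀P hind with hall | ⟨he, δ, Y, ζ, hδ, hYB, hXY, hζY, hYsurj,
      hiff, hform, hdegY⟩
    · obtain ⟨a, ha, hfa⟩ := hall Ξ hΞB
      exact hX a ha hfa
    · by_cases hΞY : Ξ ∈ Y
      · left
        obtain ⟨ψ, hψ, hζψ⟩ := hYsurj Ξ hΞY
        have hgq := gq_of_root P hP hM θ₀ hθ₀ hind hΞB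
        have hg0 := gq_exc P hP θ₀ ψ hψ (ζ ψ : G → ℂ) (δ : ℂ) (hform ψ hψ)
        rw [hζψ] at hg0
        apply Lf_nonneg_of_data P hP hΞc θ₀ hθ₀
          (-(δ * ((CP).relIndex (thetaStab P θ₀) : ℤ))) _ _
        · intro θ' hθ'
          rw [hgq θ' hθ', hg0]
          push_cast
          rfl
        · rcases hδ with h | h
          · left
            rw [h]
            have : (0 : ℤ) ≤ ((CP).relIndex (thetaStab P θ₀) : ℤ) := Nat.cast_nonneg _
            linarith
          · right
            rw [h]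
            have hp1 := hp.out.one_le
            have : (2 * (CP).relIndex (thetaStab P θ₀) : ℤ) ≤ ((p - 1 : ℕ) : ℤ) := by
              exact_mod_cast he
            rw [Nat.cast_pred hp.out.pos] at this
            linarith
      · obtain ⟨a, ha, hfa⟩ := hXY Ξ hΞB hΞY
        exact hX a ha hfa

end TypeD

end Cfsg.Agent.Lib.Helper75.BrauerHalf
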