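import Mathlib
import Cfsg.Agent.Lib.Helper75.BrauerHalfMods

set_option autoImplicit false
set_option linter.unusedSectionVars false

/-!
# Brauer's `(p - 1) / 2` bound: the exceptional family of small degree (helper75)
-/

namespace Cfsg.Agent.Lib.Helper75.BrauerHalf

open Cfsg Cfsg.Agent.Lib.Helper78 Cfsg.Agent.Lib.Helper16 Cfsg.Agent.Lib.Helper3.DefOneGen
  Cfsg.Agent.Lib.Helper75.McKayOne Cfsg.Agent.Lib.Helper75.BHMods
open scoped ComplexConjugate IsMulCommutative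

universe u

section Dval

variable {G : Type u} [Group G] [Fintype G] {p : ℕ} [hp : Fact p.Prime] (P : Sylow p G)
  (hP : Nat.card P = p)
variable [Fintype ↥(Subgroup.centralizer ((P : Subgroup G) : Set G))] [Fintype ↥(P : Subgroup G)]
  [IsMulCommutative ↥(P : Subgroup G)] [Fintype (↥(P : Subgroup G) →* ℂˣ)]
  [Fintype ↥(Subgroup.normalizer ((P : Subgroup G) : Set G))]
variable {M : Ideal AlgInt}

local notation "CP" => Subgroup.centralizer ((P : Subgroup G) : Set G)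
local notation "NP" => Subgroup.normalizer ((P : Subgroup G) : Set G)

attribute [local instance] nAct

include hP in
/-- the degree formula -/
theorem apply_one_eq_sum_Dn' {F : G → ℂ} (hF : IsCharacter G F) :
    F 1 = ∑ θ' ∈ Theta P, (Dn P F (θ' : ↥CP → ℂ) : ℂ) * (θ' : ↥CP → ℂ) 1 := by
  classical
  have hone : ¬ p ∣ orderOf (1 : ↥CP) := by
    rw [orderOf_one]
    exact hp.out.one_lt.ne' ∘ Nat.dvd_one.mp
  have h := apply_eq_sum_fpart P hP (IsCharacter.isClassFunction hF) 1 1 hone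
  rw [← Theta_eq_filter P hP] at h
  simp only [OneMemClass.coe_one, mul_one] at h
  rw [h]
  apply Finset.sum_congr rfl
  intro θ' hθ'
  rw [Dn_spec P hP hF θ' hθ']

include hP in
/-- The degree formula in natural numbers. -/
theorem charDegree_eq_sum_Dn {F : G → ℂ} (hF : IsCharacter G F) :
    charDegree F = ∑ θ' ∈ Theta P, Dn P F (θ' : ↥CP → ℂ) * charDegree (θ' : ↥CP → ℂ) := by
  have h1 := apply_one_eq_sum_Dn' P hP hF
  rw [IsCharacter.apply_one_eq_charDegree hF] at h1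
  have h3 : ((charDegree F : ℕ) : ℂ) = ((∑ θ' ∈ Theta P,
      Dn P F (θ' : ↥CP → ℂ) * charDegree (θ' : ↥CP → ℂ) : ℕ) : ℂ) := by
    rw [h1]
    push_cast
    apply Finset.sum_congr rfl
    intro θ' _
    rw [IsCharacter.apply_one_eq_charDegree (IsIrrCharacter.isCharacter θ'.2)]
  exact_mod_cast h3

include hP in
theorem Dn_le_charDegree {F : G → ℂ} (hF : IsCharacter G F) (θ' : IrrCharacter ↥CP)
    (hθ' : θ' ∈ Theta P) : Dn P F (θ' : ↥CP → ℂ) ≤ charDegree F := by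
  rw [charDegree_eq_sum_Dn P hP hF]
  have h1 : Dn P F (θ' : ↥CP → ℂ) ≤ Dn P F (θ' : ↥CP → ℂ) * charDegree (θ' : ↥CP → ℂ) := by
    have : 0 < charDegree (θ' : ↥CP → ℂ) := IsIrrCharacter.charDegree_pos θ'.2
    nlinarith
  exact le_trans h1 (Finset.single_le_sum
    (f := fun θ' : IrrCharacter ↥CP => Dn P F (θ' : ↥CP → ℂ) * charDegree (θ' : ↥CP → ℂ))
    (fun _ _ => Nat.zero_le _) hθ')

include hP in
open scoped Classical in
theorem dval (hM : IsPModular p M) (θ : IrrCharacter ↥CP) (hθ : θ ∈ Theta P)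
    {B : Set (IrrCharacter G)} (hind : IsInducedBlock M CP (blockOf M (θ : ↥CP → ℂ)) B)
    (he : 2 * (CP).relIndex (thetaStab P θ) ≤ p - 1)
    (δ : ℤ) (hδ : δ = 1 ∨ δ = -1) (Y : Finset (IrrCharacter G))
    (ζ : (↥(P : Subgroup G) →* ℂˣ) → IrrCharacter G)
    (hYB : ∀ η ∈ Y, η ∈ B)
    (hYsurj : ∀ η ∈ Y, ∃ ψ : ↥(P : Subgroup G) →* ℂˣ, ψ ≠ 1 ∧ ζ ψ = η)
    (hiff : ∀ ψ ψ' : ↥(P : Subgroup G) →* ℂˣ, ψ ≠ 1 → ψ' ≠ 1 →
      (ζ ψ = ζ ψ' ↔ ∃ n : G, n ∈ thetaStab P θ ∧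
        ∀ w w' : ↥(P : Subgroup G), (w' : G) = n * (w : G) * n⁻¹ → ψ' w' = ψ w))
    (hform : ∀ ψ : ↥(P : Subgroup G) →* ℂˣ, ψ ≠ 1 → ∀ y : ↥(P : Subgroup G), y ≠ 1 →
      fpart p CP (ζ ψ : G → ℂ) (θ : ↥CP → ℂ) (y : G) = (δ : ℂ) *
        ∑ᶠ ψ' ∈ {ψ' : ↥(P : Subgroup G) →* ℂˣ | ∃ n : G, n ∈ thetaStab P θ ∧
          ∀ w w' : ↥(P : Subgroup G), (w' : G) = n * (w : G) * n⁻¹ → ψ' w' = ψ w},
          ((ψ' y : ℂˣ) : ℂ))
    (hdegY : ∀ η ∈ Y, ∀ η' ∈ Y, (η : G → ℂ) 1 = (η' : G → ℂ) 1)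
    (χ : IrrCharacter G) (hχ : χ ∈ Y) (hdeg : 2 * charDegree (χ : G → ℂ) + 1 < p) :
    δ = 1 ∧ ∀ η ∈ Y, ∀ θ' ∈ Theta P, Dn P (η : G → ℂ) (θ' : ↥CP → ℂ) =
      if θ' ∈ MulAction.orbit ↥NP θ then (CP).relIndex (thetaStab P θ) else 0 := by
  have hpp : p.Prime := hp.out
  have hp1 := hpp.one_lt
  have hepos : 0 < (CP).relIndex (thetaStab P θ) := by
    apply Nat.pos_of_ne_zero
    unfold Subgroup.relIndex
    exact Subgroup.index_ne_zero_of_finite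
  -- degrees
  have hdegη : ∀ η ∈ Y, charDegree (η : G → ℂ) = charDegree (χ : G → ℂ) := by
    intro η hη
    unfold charDegree
    rw [hdegY η hη χ hχ]
  -- the basic relation at `θ`
  have hrel : ∀ η ∈ Y, (Dn P (η : G → ℂ) (θ : ↥CP → ℂ) : ℤ) =
      (p : ℤ) * (un P (η : G → ℂ) (θ : ↥CP → ℂ) : ℤ) +
        δ * ((CP).relIndex (thetaStab P θ) : ℤ) := by
    intro η hη
    obtain ⟨ψ, hψ, hζψ⟩ := hYsurj η hη
    have hg := gq_exc P hP θ ψ hψ (ζ ψ : G → ℂ) (δ : ℂ) (hform ψ hψ)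
    rw [hζψ, un_spec P hP (IsIrrCharacter.isCharacter η.2) θ hθ] at hg
    have h1 : ((Dn P (η : G → ℂ) (θ : ↥CP → ℂ) : ℤ) : ℂ) =
        (((p : ℤ) * (un P (η : G → ℂ) (θ : ↥CP → ℂ) : ℤ) +
          δ * ((CP).relIndex (thetaStab P θ) : ℤ) : ℤ) : ℂ) := by
      push_cast
      linear_combination -hg
    exact_mod_cast h1
  have hDle : ∀ η ∈ Y, ∀ θ' ∈ Theta P,
      Dn P (η : G → ℂ) (θ' : ↥CP → ℂ) ≤ charDegree (χ : G → ℂ) := by
    intro η hη θ' hθ'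
    rw [← hdegη η hη]
    exact Dn_le_charDegree P hP (IsIrrCharacter.isCharacter η.2) θ' hθ'
  -- the sign
  have hδ1 : δ = 1 := by
    rcases hδ with h | h
    · exact h
    · exfalso
      have h1 := hrel χ hχ
      rw [h] at h1
      have h2 := un_le_Dn P hP (IsIrrCharacter.isCharacter χ.2) θ hθ
      have h3 := hDle χ hχ θ hθ
      have h2' : (un P (χ : G → ℂ) (θ : ↥CP → ℂ) : ℤ) ≤ (Dn P (χ : G → ℂ) (θ : ↥CP → ℂ) : ℤ) := by
        exact_mod_cast h2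
      have h3' : (Dn P (χ : G → ℂ) (θ : ↥CP → ℂ) : ℤ) ≤ (charDegree (χ : G → ℂ) : ℤ) := by
        exact_mod_cast h3
      have he' : (2 * ((CP).relIndex (thetaStab P θ) : ℤ)) ≤ (p : ℤ) - 1 := by
        have : ((2 * (CP).relIndex (thetaStab P θ) : ℕ) : ℤ) ≤ ((p - 1 : ℕ) : ℤ) := by
          exact_mod_cast he
        rw [Nat.cast_pred hpp.pos] at this
        push_cast at this
        exact this
      have hdeg' : 2 * (charDegree (χ : G → ℂ) : ℤ) + 1 < (p : ℤ) := by exact_mod_cast hdeg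
      have hepos' : (0 : ℤ) < ((CP).relIndex (thetaStab P θ) : ℤ) := by exact_mod_cast hepos
      have hp' : (2 : ℤ) ≤ (p : ℤ) := by exact_mod_cast hpp.two_le
      -- u ≥ 1
      have hu : (1 : ℤ) ≤ (un P (χ : G → ℂ) (θ : ↥CP → ℂ) : ℤ) := by
        by_contra hc
        have hu0 : (un P (χ : G → ℂ) (θ : ↥CP → ℂ) : ℤ) = 0 := by
          have : (0 : ℤ) ≤ (un P (χ : G → ℂ) (θ : ↥CP → ℂ) : ℤ) := Nat.cast_nonneg _
          omega
        rw [hu0] at h1 h2'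
        linarith
      nlinarith
  refine ⟨hδ1, ?_⟩
  intro η hη θ' hθ'
  have hηc : IsCharacter G (η : G → ℂ) := IsIrrCharacter.isCharacter η.2
  have hdeg' : 2 * (charDegree (χ : G → ℂ) : ℤ) + 1 < (p : ℤ) := by exact_mod_cast hdeg
  have hp' : (2 : ℤ) ≤ (p : ℤ) := by exact_mod_cast hpp.two_le
  by_cases horb : θ' ∈ MulAction.orbit ↥NP θ
  · rw [if_pos horb]
    obtain ⟨n, hn, rfl⟩ := (mem_orbit_iff P θ θ').mp horb
    rw [Dn_thetaConj P (IsCharacter.isClassFunction hηc) n hn θ]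
    have h1 := hrel η hη
    rw [hδ1, one_mul] at h1
    have h3 := hDle η hη θ hθ
    have h3' : (Dn P (η : G → ℂ) (θ : ↥CP → ℂ) : ℤ) ≤ (charDegree (χ : G → ℂ) : ℤ) := by
      exact_mod_cast h3
    have hu0 : (un P (η : G → ℂ) (θ : ↥CP → ℂ) : ℤ) = 0 := by
      by_contra hc
      have : (1 : ℤ) ≤ (un P (η : G → ℂ) (θ : ↥CP → ℂ) : ℤ) := by
        have : (0 : ℤ) ≤ (un P (η : G → ℂ) (θ : ↥CP → ℂ) : ℤ) := Nat.cast_nonneg _
        omega
      have hepos' : (0 : ℤ) < ((CP).relIndex (thetaStab P θ) : ℤ) := by exact_mod_cast hepos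
      nlinarith
    rw [hu0, mul_zero, zero_add] at h1
    exact_mod_cast h1
  · rw [if_neg horb]
    have hg := gq_of_root P hP hM θ hθ hind (hYB η hη) θ' hθ'
    rw [if_neg horb, un_spec P hP hηc θ' hθ'] at hg
    have h1 : ((Dn P (η : G → ℂ) (θ' : ↥CP → ℂ) : ℤ) : ℂ) =
        (((p : ℤ) * (un P (η : G → ℂ) (θ' : ↥CP → ℂ) : ℤ) : ℤ) : ℂ) := by
      push_cast
      linear_combination -hg
    have h1' : (Dn P (η : G → ℂ) (θ' : ↥CP → ℂ) : ℤ) =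
        (p : ℤ) * (un P (η : G → ℂ) (θ' : ↥CP → ℂ) : ℤ) := by exact_mod_cast h1
    have h3 := hDle η hη θ' hθ'
    have h3' : (Dn P (η : G → ℂ) (θ' : ↥CP → ℂ) : ℤ) ≤ (charDegree (χ : G → ℂ) : ℤ) := by
      exact_mod_cast h3
    have hu0 : (un P (η : G → ℂ) (θ' : ↥CP → ℂ) : ℤ) = 0 := by
      by_contra hc
      have : (1 : ℤ) ≤ (un P (η : G → ℂ) (θ' : ↥CP → ℂ) : ℤ) := by
        have : (0 : ℤ) ≤ (un P (η : G → ℂ) (θ' : ↥CP → ℂ) : ℤ) := Nat.cast_nonneg _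
        omega
      nlinarith
    rw [hu0, mul_zero] at h1'
    exact_mod_cast h1'

end Dval

end Cfsg.Agent.Lib.Helper75.BrauerHalf
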