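import Mathlib
import Cfsg.Agent.Lib.Helper75.BrauerHalfD
import Cfsg.Agent.Lib.Helper75.BrauerHalfDval

set_option autoImplicit false
set_option linter.unusedSectionVars false

/-!
# Brauer's `(p - 1) / 2` bound, part E: the main lemma (helper75)

If `|P| = p`, no nontrivial irreducible character of `G` has `P` in its kernel, and `χ` is an
irreducible character with `2 χ(1) + 1 < p`, then `χ(1) = 1`.
-/

namespace Cfsg.Agent.Lib.Helper75.BrauerHalf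

open Cfsg Cfsg.Agent.Lib.Helper78 Cfsg.Agent.Lib.Helper16 Cfsg.Agent.Lib.Helper3.DefOneGen
  Cfsg.Agent.Lib.Helper75.McKayOne Cfsg.Agent.Lib.Helper75.BHMods
open scoped ComplexConjugate IsMulCommutative

universe u

section MainLemma

variable {G : Type u} [Group G] [Fintype G] {p : ℕ} [hp : Fact p.Prime] (P : Sylow p G)
  (hP : Nat.card P = p)
variable [Fintype ↥(Subgroup.centralizer ((P : Subgroup G) : Set G))] [Fintype ↥(P : Subgroup G)]
  [IsMulCommutative ↥(P : Subgroup G)] [Fintype (↥(P : Subgroup G) →* ℂˣ)]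
  [Fintype ↥(Subgroup.normalizer ((P : Subgroup G) : Set G))]
variable {M : Ideal AlgInt}

local notation "CP" => Subgroup.centralizer ((P : Subgroup G) : Set G)
local notation "NP" => Subgroup.normalizer ((P : Subgroup G) : Set G)

attribute [local instance] nAct

theorem charDegree_eq_one_of_const {χ : G → ℂ} (h : ∀ g : G, χ g = 1) : charDegree χ = 1 := by
  unfold charDegree
  rw [h 1]
  simp

/-- `⟨F conj F, 1⟩ = |S|` for a sum `F` of distinct irreducible characters. -/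
theorem classInner_sum_mul_conj_one (S : Finset (IrrCharacter G)) :
    classInner (fun g => (∑ η ∈ S, (η : G → ℂ)) g * conj ((∑ η ∈ S, (η : G → ℂ)) g))
      (fun _ : G => (1 : ℂ)) = (S.card : ℂ) := by
  classical
  have h1 : classInner (fun g => (∑ η ∈ S, (η : G → ℂ)) g * conj ((∑ η ∈ S, (η : G → ℂ)) g))
      (fun _ : G => (1 : ℂ)) =
      classInner (∑ η ∈ S, (η : G → ℂ)) (∑ η ∈ S, (η : G → ℂ)) := by
    unfold classInner
    congr 1
    apply Finset.sum_congr rfl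
    intro g _
    simp
  rw [h1, classInner_sum_left]
  have h2 : ∀ η ∈ S, classInner (η : G → ℂ) (∑ η' ∈ S, (η' : G → ℂ)) = 1 := by
    intro η hη
    rw [← classInner_conj_symm, classInner_sum_left]
    have h3 : ∀ η' ∈ S, classInner (η' : G → ℂ) (η : G → ℂ) = if η' = η then 1 else 0 := by
      intro η' _
      rw [classInner_irr η'.2 η.2]
      by_cases h : η' = η
      · rw [if_pos h, if_pos (congrArg Subtype.val h)]
      · rw [if_neg h, if_neg (fun h' => h (Subtype.ext h'))]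
    rw [Finset.sum_congr rfl h3, Finset.sum_ite_eq' S η, if_pos hη, map_one]
  rw [Finset.sum_congr rfl h2, Finset.sum_const, nsmul_eq_mul, mul_one]

theorem arith_core {p f e k s w : ℕ} (hf : 0 < f) (he : 0 < e) (hk : 0 < k)
    (hse : s * e = f) (hke : k * e = f) (hwge : f * k ≤ w) (h2f : 2 * f + 1 < p)
    (hineq : -((s : ℝ) * (p : ℝ) * ((p : ℝ) - 1) * (f : ℝ)) ≤
      (w : ℝ) * (((p : ℝ) - 1) * ((f : ℝ) * (f : ℝ)) -
        ((p : ℝ) + 1) * ((p : ℝ) * (f : ℝ) - (f : ℝ) * (f : ℝ)))) :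
    f = 1 ∧ w ≤ 1 := by
  have hsk : s = k := by
    apply Nat.eq_of_mul_eq_mul_right he
    rw [hse, hke]
  subst hsk
  have hpR : (0 : ℝ) < (p : ℝ) := by
    have : 0 < p := by omega
    exact_mod_cast this
  have hfR : (0 : ℝ) < (f : ℝ) := by exact_mod_cast hf
  have hkR : (0 : ℝ) < (s : ℝ) := by exact_mod_cast hk
  have hwR : (f : ℝ) * (s : ℝ) ≤ (w : ℝ) := by exact_mod_cast hwge
  have hgap : (1 : ℝ) ≤ (p : ℝ) - 1 - 2 * (f : ℝ) := by
    have : (2 * f + 1 + 1 : ℕ) ≤ p := h2f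
    have h' : ((2 * f + 1 + 1 : ℕ) : ℝ) ≤ (p : ℝ) := by exact_mod_cast this
    push_cast at h'
    linarith
  -- rewrite the bracket
  have hbr : ((p : ℝ) - 1) * ((f : ℝ) * (f : ℝ)) -
        ((p : ℝ) + 1) * ((p : ℝ) * (f : ℝ) - (f : ℝ) * (f : ℝ)) =
      -((p : ℝ) * (f : ℝ) * ((p : ℝ) + 1 - 2 * (f : ℝ))) := by ring
  rw [hbr] at hineq
  -- divide by p f
  have h1 : (w : ℝ) * ((p : ℝ) + 1 - 2 * (f : ℝ)) ≤ (s : ℝ) * ((p : ℝ) - 1) := by
    have hpf : (0 : ℝ) < (p : ℝ) * (f : ℝ) := mul_pos hpR hfR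
    have h2 : ((p : ℝ) * (f : ℝ)) * ((w : ℝ) * ((p : ℝ) + 1 - 2 * (f : ℝ))) ≤
        ((p : ℝ) * (f : ℝ)) * ((s : ℝ) * ((p : ℝ) - 1)) := by nlinarith
    exact le_of_mul_le_mul_left h2 hpf
  have hpos : (0 : ℝ) < (p : ℝ) + 1 - 2 * (f : ℝ) := by linarith
  have h3 : (f : ℝ) * (s : ℝ) * ((p : ℝ) + 1 - 2 * (f : ℝ)) ≤ (s : ℝ) * ((p : ℝ) - 1) :=
    le_trans (mul_le_mul_of_nonneg_right hwR hpos.le) h1
  have h4 : (f : ℝ) * ((p : ℝ) + 1 - 2 * (f : ℝ)) ≤ (p : ℝ) - 1 := by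
    have h5 : (s : ℝ) * ((f : ℝ) * ((p : ℝ) + 1 - 2 * (f : ℝ))) ≤ (s : ℝ) * ((p : ℝ) - 1) := by
      nlinarith
    exact le_of_mul_le_mul_left h5 hkR
  have hf1 : f = 1 := by
    by_contra hne
    have hf2 : 2 ≤ f := by omega
    have hf2R : (2 : ℝ) ≤ (f : ℝ) := by exact_mod_cast hf2
    have h6 : ((f : ℝ) - 1) * ((p : ℝ) - 1 - 2 * (f : ℝ)) ≤ 0 := by nlinarith
    have h7 : (0 : ℝ) < ((f : ℝ) - 1) * ((p : ℝ) - 1 - 2 * (f : ℝ)) := by
      apply mul_pos <;> linarith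
    linarith
  refine ⟨hf1, ?_⟩
  subst hf1
  have hs1 : s = 1 := by
    have := Nat.eq_one_of_mul_eq_one_right hke
    exact this
  subst hs1
  have h8 : (w : ℝ) * ((p : ℝ) - 1) ≤ (p : ℝ) - 1 := by
    have := h1
    push_cast at this
    nlinarith
  have hp1 : (0 : ℝ) < (p : ℝ) - 1 := by linarith
  have h9 : (w : ℝ) ≤ 1 := by
    by_contra hc
    push Not at hc
    nlinarith
  exact_mod_cast h9

include hP in
open scoped Classical in
/-- **The main lemma.** -/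
theorem main_lemma_aux (hM : IsPModular p M)
    (hH : ∀ Ξ : IrrCharacter G,
      (∀ y : G, y ∈ (P : Subgroup G) → (Ξ : G → ℂ) y = (Ξ : G → ℂ) 1) →
        ∀ g : G, (Ξ : G → ℂ) g = 1)
    (χ : IrrCharacter G) (hdeg : 2 * charDegree (χ : G → ℂ) + 1 < p) :
    charDegree (χ : G → ℂ) = 1 := by
  have hpp : p.Prime := hp.out
  have hMp : M.IsPrime := isPModular_isPrime hM
  have hχc : IsCharacter G (χ : G → ℂ) := IsIrrCharacter.isCharacter χ.2
  have hdiv := dvd_card_of_card P hP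
  have hsq := not_sq_dvd_of_card P hP
  have hdpos : 0 < charDegree (χ : G → ℂ) := IsIrrCharacter.charDegree_pos χ.2
  have hdvd : ¬ p ∣ charDegree (χ : G → ℂ) := Nat.not_dvd_of_pos_of_lt hdpos (by omega)
  have hd := (not_dvd_iff_pos_defect hM hdiv hsq χ).mp hdvd
  obtain ⟨-, b, θ₀, hind, hθ₀b, hθ₀P⟩ :=
    Cfsg.Agent.Lib.Helper75.DefOneGen.exists_root hM P hP (isPBlock_blockOf χ) hd
  have hb : b = blockOf M (θ₀ : ↥CP → ℂ) := IsPBlock_eq_blockOf hind.1 hθ₀b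
  rw [hb] at hind
  have hθ₀ : θ₀ ∈ Theta P := (mem_Theta P θ₀).mpr hθ₀P
  have hχB : χ ∈ blockOf M (χ : G → ℂ) := self_mem_blockOf hMp.ne_top χ
  -- the nonexceptional case
  have hX : ∀ a : ℤ, (a = 1 ∨ a = -1) → (∀ y : G, y ∈ (P : Subgroup G) → y ≠ 1 →
      fpart p CP (χ : G → ℂ) (θ₀ : ↥CP → ℂ) y = (a : ℂ)) → charDegree (χ : G → ℂ) = 1 := by
    intro a ha hfa
    have hfp := fpart_of_root_const P hP hM θ₀ hθ₀ hind hχB (a : ℂ) hfa
    have hconst := const_of_xtype P hP hχc hdeg θ₀ hθ₀ a ha hfp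
    exact charDegree_eq_one_of_const (hH χ hconst)
  rcases blk_data P hP hM θ₀ hθ₀P hind with hall | ⟨he, δ, Y, ζ, hδ, hYB, hXY, hζY, hYsurj,
    hiff, hform, hdegY⟩
  · obtain ⟨a, ha, hfa⟩ := hall χ hχB
    exact hX a ha hfa
  by_cases hχY : χ ∈ Y
  swap
  · obtain ⟨a, ha, hfa⟩ := hXY χ hχB hχY
    exact hX a ha hfa
  -- the exceptional case
  obtain ⟨hδ1, hD⟩ := dval P hP hM θ₀ hθ₀ hind he δ hδ Y ζ hYB hYsurj hiff hform hdegY χ hχY hdeg
  obtain ⟨ψ₀, hψ₀, hζψ₀⟩ := hYsurj χ hχY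
  have hform1 : ∀ ψ : ↥(P : Subgroup G) →* ℂˣ, ψ ≠ 1 → ∀ y : ↥(P : Subgroup G), y ≠ 1 →
      fpart p CP (ζ ψ : G → ℂ) (θ₀ : ↥CP → ℂ) (y : G) =
        ∑ᶠ ψ' ∈ {ψ' : ↥(P : Subgroup G) →* ℂˣ | ∃ n : G, n ∈ thetaStab P θ₀ ∧
          ∀ w w' : ↥(P : Subgroup G), (w' : G) = n * (w : G) * n⁻¹ → ψ' w' = ψ w},
          ((ψ' y : ℂˣ) : ℂ) := by
    intro ψ hψ y hy
    rw [hform ψ hψ y hy, hδ1]
    simp
  obtain ⟨S, hχS, hScard, hOcard, hfpS⟩ :=
    ssum P hP hM θ₀ hθ₀ hind Y ζ hYB hζY hiff hform1 hD ψ₀ hψ₀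
  have hFchar : IsCharacter G (∑ η ∈ S, (η : G → ℂ)) :=
    Cfsg.Agent.Lib.Helper80.isCharacter_sum S _ (fun η _ => IsIrrCharacter.isCharacter η.2)
  have hFclass : IsClassFunction G (∑ η ∈ S, (η : G → ℂ)) := IsCharacter.isClassFunction hFchar
  obtain ⟨w, hwge, hw1, hLf⟩ := Lf_mul_conj P hP θ₀ hθ₀ hFclass (etaN P ψ₀) hfpS
  have hΓ : IsCharacter G (fun g => (∑ η ∈ S, (η : G → ℂ)) g *
      conj ((∑ η ∈ S, (η : G → ℂ)) g)) :=
    Cfsg.Agent.Lib.Helper80.isCharacter_mul hFchar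
      (Cfsg.Agent.Lib.Helper80.isCharacter_conj hFchar)
  have hirr : ∀ Ξ : IrrCharacter G, (Ξ : G → ℂ) ≠ (fun _ : G => (1 : ℂ)) →
      ∃ r : ℝ, 0 ≤ r ∧ Lf P (Ξ : G → ℂ) = (r : ℂ) := by
    intro Ξ hne
    rcases Lf_irr_nonneg_or_const P hP hM Ξ with h | h
    · exact h
    · exact absurd (funext (hH Ξ h)) hne
  obtain ⟨r, hr, hLr⟩ := Lf_char_ge P hP hirr (Lf_one P hP) hΓ S.card
    (classInner_sum_mul_conj_one S)
  -- the values of `etaN`
  have hE1 := etaN_one P hP hψ₀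
  have hEsum := sum_etaN_normSq P hP hψ₀
  have hEne : ∑ y ∈ Finset.univ.filter (fun y : ↥(P : Subgroup G) => y ≠ 1),
      etaN P ψ₀ y * conj (etaN P ψ₀ y) =
      (p : ℂ) * ((CP).relIndex NP : ℂ) - ((CP).relIndex NP : ℂ) * ((CP).relIndex NP : ℂ) := by
    have h1 := Finset.sum_filter_add_sum_filter_not Finset.univ
      (fun y : ↥(P : Subgroup G) => y = 1) (fun y => etaN P ψ₀ y * conj (etaN P ψ₀ y))
    rw [hEsum, Finset.filter_eq' Finset.univ (1 : ↥(P : Subgroup G)),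
      if_pos (Finset.mem_univ _), Finset.sum_singleton, hE1] at h1
    have h2 : (starRingEnd ℂ) ((CP).relIndex NP : ℂ) = ((CP).relIndex NP : ℂ) := by
      simp
    rw [h2] at h1
    linear_combination h1
  rw [hLr, hE1, hEne] at hLf
  have h2 : (starRingEnd ℂ) ((CP).relIndex NP : ℂ) = ((CP).relIndex NP : ℂ) := by
    simp
  rw [h2] at hLf
  have hreal : r = (w : ℝ) * (((p : ℝ) - 1) * (((CP).relIndex NP : ℝ) * ((CP).relIndex NP : ℝ)) -
      ((p : ℝ) + 1) * ((p : ℝ) * ((CP).relIndex NP : ℝ) -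
        ((CP).relIndex NP : ℝ) * ((CP).relIndex NP : ℝ))) := by
    apply Complex.ofReal_injective
    rw [hLf]
    push_cast
    ring
  rw [hreal] at hr
  -- the degree of `χ`
  have hdegχ : charDegree (χ : G → ℂ) = ∑ θ' ∈ Theta P,
      Dn P (χ : G → ℂ) (θ' : ↥CP → ℂ) * charDegree (θ' : ↥CP → ℂ) :=
    charDegree_eq_sum_Dn P hP hχc
  have hdegχ' : charDegree (χ : G → ℂ) =
      ∑ θ' ∈ (Theta P).filter (fun θ' => θ' ∈ MulAction.orbit ↥NP θ₀),
        (CP).relIndex (thetaStab P θ₀) * charDegree (θ' : ↥CP → ℂ) := by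
    rw [hdegχ, Finset.sum_filter]
    apply Finset.sum_congr rfl
    intro θ' hθ'
    rw [hD χ hχY θ' hθ']
    split_ifs <;> simp
  have hfpos : 0 < (CP).relIndex NP := by
    apply Nat.pos_of_ne_zero
    unfold Subgroup.relIndex
    exact Subgroup.index_ne_zero_of_finite
  have hepos : 0 < (CP).relIndex (thetaStab P θ₀) := by
    apply Nat.pos_of_ne_zero
    unfold Subgroup.relIndex
    exact Subgroup.index_ne_zero_of_finite
  have hθ₀orb : θ₀ ∈ (Theta P).filter (fun θ' => θ' ∈ MulAction.orbit ↥NP θ₀) := by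
    rw [Finset.mem_filter]
    exact ⟨hθ₀, MulAction.mem_orbit_self θ₀⟩
  have hkpos : 0 < ((Theta P).filter (fun θ' => θ' ∈ MulAction.orbit ↥NP θ₀)).card :=
    Finset.card_pos.mpr ⟨θ₀, hθ₀orb⟩
  have hfle : (CP).relIndex NP ≤ charDegree (χ : G → ℂ) := by
    rw [hdegχ', ← hOcard, ← smul_eq_mul, ← Finset.sum_const]
    apply Finset.sum_le_sum
    intro θ' _
    have : 0 < charDegree (θ' : ↥CP → ℂ) := IsIrrCharacter.charDegree_pos θ'.2
    nlinarith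
  obtain ⟨hf1, hwle⟩ := arith_core hfpos hepos hkpos hScard hOcard hwge
    (by omega : 2 * (CP).relIndex NP + 1 < p) hr
  have hθ1 := hw1 hwle
  rw [hf1] at hOcard
  have hk1 : ((Theta P).filter (fun θ' => θ' ∈ MulAction.orbit ↥NP θ₀)).card = 1 :=
    Nat.eq_one_of_mul_eq_one_right hOcard
  have he1 : (CP).relIndex (thetaStab P θ₀) = 1 := Nat.eq_one_of_mul_eq_one_left hOcard
  obtain ⟨θ₁, hθ₁⟩ := Finset.card_eq_one.mp hk1
  have hθ₁eq : θ₁ = θ₀ := by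
    rw [hθ₁, Finset.mem_singleton] at hθ₀orb
    exact hθ₀orb.symm
  rw [hdegχ', hθ₁, Finset.sum_singleton, hθ₁eq, he1, one_mul]
  have h3 : ((charDegree (θ₀ : ↥CP → ℂ) : ℕ) : ℂ) = ((1 : ℕ) : ℂ) := by
    rw [← IsCharacter.apply_one_eq_charDegree (IsIrrCharacter.isCharacter θ₀.2), hθ1]
    simp
  exact_mod_cast h3

end MainLemma

end Cfsg.Agent.Lib.Helper75.BrauerHalf
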