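import Mathlib
import Cfsg.Agent.Lib.Helper75.BrauerHalfE

set_option autoImplicit false

/-!
# Brauer's `(p - 1) / 2` bound, part F: the main lemma without instance arguments (helper75)
-/

namespace Cfsg.Agent.Lib.Helper75.BrauerHalf

open Cfsg

universe u

/-- **Main lemma.**  `|P| = p`, no nontrivial irreducible character has `P` in its kernel;
then every irreducible character of degree `< (p - 1) / 2` is linear. -/
theorem main_lemma {G : Type u} [Group G] [Finite G] {p : ℕ} (hp : p.Prime) (Q : Sylow p G)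
    (hQ : Nat.card Q = p)
    (hH : ∀ Ξ : IrrCharacter G,
      (∀ y : G, y ∈ (Q : Subgroup G) → (Ξ : G → ℂ) y = (Ξ : G → ℂ) 1) →
        ∀ g : G, (Ξ : G → ℂ) g = 1)
    (Ξ : IrrCharacter G) (hdeg : 2 * charDegree (Ξ : G → ℂ) + 1 < p) :
    charDegree (Ξ : G → ℂ) = 1 := by
  have : Fact p.Prime := ⟨hp⟩
  have hfinG : Fintype G := Fintype.ofFinite G
  have hfinC : Fintype ↥(Subgroup.centralizer ((Q : Subgroup G) : Set G)) := Fintype.ofFinite _
  have hfinP : Fintype ↥(Q : Subgroup G) := Fintype.ofFinite _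
  have hfinN : Fintype ↥(Subgroup.normalizer ((Q : Subgroup G) : Set G)) := Fintype.ofFinite _
  have hcyc : IsCyclic ↥(Q : Subgroup G) := isCyclic_of_prime_card hQ
  have hab : IsMulCommutative ↥(Q : Subgroup G) := IsCyclic.isMulCommutative
  have hfinD : Fintype (↥(Q : Subgroup G) →* ℂˣ) := Fintype.ofFinite _
  obtain ⟨M, hM⟩ := Cfsg.Agent.Lib.Helper75.exists_isPModular p hp
  exact main_lemma_aux Q hQ hM hH Ξ hdeg

end Cfsg.Agent.Lib.Helper75.BrauerHalf
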