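import Cfsg.Agent.Lib.Helper75.PGroupField2
import Cfsg.Agent.Lib.Helper15.GallagherExt
import Cfsg.Agent.Lib.Helper34.CentMaxStructAbstract
import Cfsg.Agent.Lib.Helper80.CharBasic
import Cfsg.Agent.S0148

set_option autoImplicit false

namespace Cfsg.Agent.Lib.Helper75

open Cfsg
open Cfsg.Agent.Lib.Helper78 Cfsg.Agent.Lib.Helper77

universe u

section Split

variable {G : Type u} [Group G] [Fintype G]

/-- a nonzero character is the sum of an irreducible character and a character -/
theorem exists_irr_add_of_isCharacter {η : G → ℂ} (hη : IsCharacter G η) (h1 : η 1 ≠ 0) :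
    ∃ (φ : IrrCharacter G) (η' : G → ℂ), IsCharacter G η' ∧ η = (φ : G → ℂ) + η' := by
  classical
  obtain ⟨m, hm⟩ := (isCharacter_iff_exists_nat_combination η).mp hη
  have hex : ∃ φ : IrrCharacter G, m φ ≠ 0 := by
    by_contra hcon
    push Not at hcon
    apply h1
    rw [hm]
    simp [hcon]
  obtain ⟨φ, hφ⟩ := hex
  refine ⟨φ, ∑ ψ : IrrCharacter G, ((if ψ = φ then m ψ - 1 else m ψ : ℕ) : ℂ) • (ψ : G → ℂ),
    (isCharacter_iff_exists_nat_combination _).mpr ⟨_, rfl⟩, ?_⟩
  rw [hm, ← Finset.add_sum_erase Finset.univ _ (Finset.mem_univ φ),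
    ← Finset.add_sum_erase Finset.univ
      (fun ψ : IrrCharacter G => ((if ψ = φ then m ψ - 1 else m ψ : ℕ) : ℂ) • (ψ : G → ℂ))
      (Finset.mem_univ φ)]
  simp only [if_true]
  have h2 : ∀ ψ ∈ Finset.univ.erase φ,
      ((if ψ = φ then m ψ - 1 else m ψ : ℕ) : ℂ) • (ψ : G → ℂ) = (m ψ : ℂ) • (ψ : G → ℂ) := by
    intro ψ hψ
    rw [if_neg (Finset.ne_of_mem_erase hψ)]
  rw [Finset.sum_congr rfl h2, ← add_assoc]
  congr 1
  have h3 : (m φ : ℂ) = 1 + ((m φ - 1 : ℕ) : ℂ) := by
    have : m φ = 1 + (m φ - 1) := by omega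
    conv_lhs => rw [this]
    push_cast
    ring
  rw [h3, add_smul, one_smul]

/-- a character inducing an irreducible character is irreducible -/
theorem isIrrCharacter_of_indFun_irr (H : Subgroup G) [Fintype H] {η : H → ℂ}
    (hη : IsCharacter H η) (hind : IsIrrCharacter G (indFun H η)) : IsIrrCharacter H η := by
  classical
  have hidx : (H.index : ℂ) ≠ 0 := by
    exact_mod_cast Subgroup.index_ne_zero_of_finite
  have h1 : η 1 ≠ 0 := by
    intro h
    have h2 : indFun H η 1 = 0 := by rw [indFun_one, h, mul_zero]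
    exact IsIrrCharacter.apply_one_ne_zero hind h2
  obtain ⟨φ, η', hη', hsum⟩ := exists_irr_add_of_isCharacter hη h1
  have hsplit : indFun H η = indFun H (φ : H → ℂ) + indFun H η' := by
    rw [hsum, indFun_add]
  rw [hsplit] at hind
  rcases Cfsg.Agent.Lib.Helper15.add_irr_eq_zero
    (Cfsg.Agent.S0148.result H _ (IsIrrCharacter.isCharacter φ.2))
    (Cfsg.Agent.S0148.result H _ hη') hind with h | h
  · exfalso
    have h2 := congrFun h 1
    rw [indFun_one] at h2
    rcases mul_eq_zero.mp h2 with h3 | h3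
    · exact hidx h3
    · exact IsIrrCharacter.apply_one_ne_zero φ.2 h3
  · have h2 := congrFun h 1
    rw [indFun_one] at h2
    rcases mul_eq_zero.mp h2 with h3 | h3
    · exact absurd h3 hidx
    · have h4 := Cfsg.Agent.Lib.Helper15.isCharacter_eq_zero_of_apply_one hη' h3
      rw [hsum, h4, add_zero]
      exact φ.2

end Split

end Cfsg.Agent.Lib.Helper75
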