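import Mathlib
import Cfsg.Agent.Lib.Helper22.SibCDefs
import Cfsg.Agent.Lib.Helper74.SibleyExc
import Cfsg.Agent.Lib.Helper64.PFElevenAnchor
import Cfsg.Agent.Lib.Helper75.Clifford

/-!
# PROJECT SIBC, module [SIBC-I] `blockI` (helper75, for helper22)
-/

set_option autoImplicit false
set_option linter.unusedSectionVars false
open Cfsg
open scoped ComplexConjugate

namespace Cfsg.Agent.Lib.Helper75.SibCI

open Cfsg.Agent.Lib.Helper22.SibC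
open Cfsg.Agent.Lib

universe u

variable {G : Type u} [Group G] [Fintype G] (H L W₁ W₂ : Subgroup G) [Fintype L]

/-- an element of `L` with a `G`-conjugate in the normal Sylow `p`-subgroup `H` lies in `H` -/
theorem mem_H_of_conj_mem {p : ℕ} (c : Ctx H L W₁ W₂ p) (y : ↥L) (x : G)
    (h : x⁻¹ * (y : G) * x ∈ H) : (y : G) ∈ H := by
  have hKn : (H.subgroupOf L).Normal := Helper74.subgroupOf_normal_of_conj H L c.hHn
  have hidx : (H.subgroupOf L).index = Nat.card W₁ :=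
    Helper74.index_subgroupOf_eq_card H L W₁ c.hHL c.hW₁L c.hHn c.hinf c.hsup
  obtain ⟨k, hk⟩ := c.hpH ⟨x⁻¹ * (y : G) * x, h⟩
  have hk' : (x⁻¹ * (y : G) * x) ^ (p ^ k) = 1 := by
    have := congrArg Subtype.val hk
    simpa using this
  have hy : (y : G) ^ (p ^ k) = 1 := by
    have h1 : x⁻¹ * (y : G) * x = x⁻¹ * (y : G) * x⁻¹⁻¹ := by rw [inv_inv]
    rw [h1, conj_pow] at hk'
    have h2 : (y : G) ^ (p ^ k) = x⁻¹⁻¹ * (x⁻¹ * (y : G) ^ (p ^ k) * x⁻¹⁻¹) * x⁻¹ := by group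
    rw [h2, hk']
    group
  have hyL : y ^ (p ^ k) = 1 := Subtype.ext (by simpa using hy)
  have h1 : (QuotientGroup.mk y : ↥L ⧸ H.subgroupOf L) ^ (p ^ k) = 1 := by
    rw [← QuotientGroup.mk_pow, hyL, QuotientGroup.mk_one]
  have h2 : (QuotientGroup.mk y : ↥L ⧸ H.subgroupOf L) ^ (H.subgroupOf L).index = 1 := by
    rw [Subgroup.index_eq_card]
    exact pow_card_eq_one'
  have hcop : Nat.Coprime (p ^ k) (H.subgroupOf L).index := by
    rw [hidx]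
    exact Nat.Coprime.pow_left k ((Nat.Prime.coprime_iff_not_dvd c.hp).mpr c.hcop)
  have h3 : orderOf (QuotientGroup.mk y : ↥L ⧸ H.subgroupOf L) ∣ Nat.gcd (p ^ k) (H.subgroupOf L).index :=
    Nat.dvd_gcd (orderOf_dvd_of_pow_eq_one h1) (orderOf_dvd_of_pow_eq_one h2)
  rw [hcop.gcd_eq_one, Nat.dvd_one, orderOf_eq_one_iff, QuotientGroup.eq_one_iff] at h3
  exact Subgroup.mem_subgroupOf.mp h3

/-- (F1): induction from `L` restricted to `L` is the identity on `ℤ[S]°`. -/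
theorem indFun_restrict {p : ℕ} (c : Ctx H L W₁ W₂ p) {R : (↥L → ℂ) → Finset (G → ℂ)}
    (sf : SFacts H L R) {α : ↥L → ℂ} (hα : α ∈ zspanOn (SS H L) ({1}ᶜ : Set ↥L)) (y : ↥L) :
    indFun L α (y : G) = α y := by
  have hKn : (H.subgroupOf L).Normal := Helper74.subgroupOf_normal_of_conj H L c.hHn
  have hSvan : ∀ χ ∈ SS H L, ∀ x : ↥L, (x : G) ∉ H → χ x = 0 := by
    intro χ hχ x hx
    exact Helper74.sibleyS_vanish (H.subgroupOf L) hχ x (fun h => hx (Subgroup.mem_subgroupOf.mp h))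
  obtain ⟨hcf, hvan, -⟩ := Helper74.zspan_props_of_vanish H L (SS H L) sf.cs.isCharacter hSvan hα.1
  have h1 : α 1 = 0 := hα.2 1 (by simp)
  by_cases hy : (y : G) ∈ H
  · exact Helper74.indFun_apply_of_TI H L c.hTI c.hN hcf hvan h1 y hy
  · rw [hvan y hy]
    unfold indFun
    rw [Finset.sum_eq_zero, mul_zero]
    intro x _
    by_cases hx : x⁻¹ * (y : G) * x ∈ L
    · rw [Helper75.extendByZero_of_mem L α hx]
      apply hvan
      intro hH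
      exact hy (mem_H_of_conj_mem H L W₁ W₂ c y x hH)
    · exact Helper75.extendByZero_of_not_mem L α hx

/-- members of `A` are irreducible of degree `q` -/
theorem AA_facts {p : ℕ} (c : Ctx H L W₁ W₂ p) {R : (↥L → ℂ) → Finset (G → ℂ)}
    (sf : SFacts H L R) {ζ : ↥L → ℂ} (hζ : ζ ∈ AA H L) :
    ζ ∈ SS H L ∧ ζ 1 = ((H.subgroupOf L).index : ℂ) ∧ IsIrrCharacter ↥L ζ ∧ classInner ζ ζ = 1 := by
  have hKn : (H.subgroupOf L).Normal := Helper74.subgroupOf_normal_of_conj H L c.hHn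
  have hS : ζ ∈ SS H L := Helper74.sibleyA_subset (H.subgroupOf L) hζ
  have hdeg : ζ 1 = ((H.subgroupOf L).index : ℂ) := Helper74.sibleyA_degree (H.subgroupOf L) hζ
  have hq0 : (H.subgroupOf L).index ≠ 0 := Subgroup.index_ne_zero_of_finite
  have hirr : IsIrrCharacter ↥L ζ := by
    rcases sf.red ζ hS with h | ⟨-, f, hf, hf1⟩
    · exact h
    · exfalso
      rw [hdeg] at hf1
      have h2 : (H.subgroupOf L).index = (H.subgroupOf L).index * f := by exact_mod_cast hf1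
      have h3 : f = 1 := by
        have : (H.subgroupOf L).index * 1 = (H.subgroupOf L).index * f := by rw [mul_one]; exact h2
        exact (Nat.eq_of_mul_eq_mul_left (Nat.pos_of_ne_zero hq0) this).symm
      omega
  refine ⟨hS, hdeg, hirr, ?_⟩
  rw [(Helper26.irrFacts ↥L).orthonormal ζ ζ hirr hirr, if_pos rfl]

/-- (F2): `(τ₁ ζ)|_L = ζ + Δ` for all `ζ ∈ A`. -/
theorem tau1_restrict {p : ℕ} (c : Ctx H L W₁ W₂ p) {R : (↥L → ℂ) → Finset (G → ℂ)}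
    (sf : SFacts H L R) {τ₁ : (↥L → ℂ) → (G → ℂ)} {ε : ℤ} (x : AExt H L τ₁ ε)
    {ζ₁ ζ : ↥L → ℂ} (hζ₁ : ζ₁ ∈ AA H L) (hζ : ζ ∈ AA H L) (y : ↥L) :
    τ₁ ζ (y : G) = ζ y + Dl L τ₁ ζ₁ y := by
  have hKn : (H.subgroupOf L).Normal := Helper74.subgroupOf_normal_of_conj H L c.hHn
  have hζ₁s : ζ₁ ∈ zspan (AA H L) := Submodule.subset_span hζ₁
  have hζs : ζ ∈ zspan (AA H L) := Submodule.subset_span hζ
  have hsm : (-1 : ℤ) • ζ₁ ∈ zspan (AA H L) := Submodule.smul_mem _ _ hζ₁s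
  have hsum : ζ + (-1 : ℤ) • ζ₁ ∈ zspan (AA H L) := Submodule.add_mem _ hζs hsm
  have hvan1 : ∀ z : ↥L, z ∉ ({1}ᶜ : Set ↥L) → (ζ + (-1 : ℤ) • ζ₁) z = 0 := by
    intro z hz
    have hz1 : z = 1 := by
      by_contra h
      exact hz h
    rw [hz1, Pi.add_apply, Pi.smul_apply, (AA_facts H L W₁ W₂ c sf hζ).2.1,
      (AA_facts H L W₁ W₂ c sf hζ₁).2.1]
    simp
  have hmem : ζ + (-1 : ℤ) • ζ₁ ∈ zspanOn (AA H L) ({1}ᶜ : Set ↥L) := ⟨hsum, hvan1⟩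
  have hmemS : ζ + (-1 : ℤ) • ζ₁ ∈ zspanOn (SS H L) ({1}ᶜ : Set ↥L) :=
    ⟨Submodule.span_mono (Helper74.sibleyA_subset (H.subgroupOf L)) hsum, hvan1⟩
  have h1 : τ₁ (ζ + (-1 : ℤ) • ζ₁) = τ₁ ζ + (-1 : ℤ) • τ₁ ζ₁ := by
    rw [x.iso.1 ζ hζs _ hsm, x.iso.2.1 ζ₁ hζ₁s (-1)]
  have h2 := x.ext _ hmem
  have h3 := indFun_restrict H L W₁ W₂ c sf hmemS y
  rw [← h2, h1] at h3
  simp only [Pi.add_apply, Pi.smul_apply] at h3
  unfold Dl
  have h4 : τ₁ ζ (y : G) - τ₁ ζ₁ (y : G) = ζ y - ζ₁ y := by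
    simpa [sub_eq_add_neg] using h3
  linear_combination h4

theorem gen_classFunction {X : Type*} [Group X] {a : X → ℂ} (ha : IsGeneralizedCharacter X a) :
    IsClassFunction X a := by
  obtain ⟨χ1, ψ1, h1, h2, rfl⟩ := ha
  intro g h
  have e1 := Helper80.isClassFunction_of_isCharacter h1 g h
  have e2 := Helper80.isClassFunction_of_isCharacter h2 g h
  simp only [Pi.sub_apply, e1, e2]

theorem Dl_eq (τ₁ : (↥L → ℂ) → (G → ℂ)) (ζ₁ : ↥L → ℂ) :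
    Dl L τ₁ ζ₁ = (fun y : ↥L => τ₁ ζ₁ (y : G)) - ζ₁ := rfl

/-- `⟨χ, Δ⟩ ∈ ℤ` for every character `χ` of `L`. -/
theorem inner_Dl_int {τ₁ : (↥L → ℂ) → (G → ℂ)} {ε : ℤ} (x : AExt H L τ₁ ε)
    {ζ₁ : ↥L → ℂ} (hζ₁ : ζ₁ ∈ AA H L) (hζ₁c : IsCharacter ↥L ζ₁) {χ : ↥L → ℂ}
    (hχ : IsCharacter ↥L χ) :
    ∃ z : ℤ, classInner χ (Dl L τ₁ ζ₁) = (z : ℂ) := by
  have hgen : IsGeneralizedCharacter G (τ₁ ζ₁) := x.iso.2.2.2 ζ₁ (Submodule.subset_span hζ₁)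
  have hcfG : IsClassFunction G (τ₁ ζ₁) := gen_classFunction hgen
  rw [Dl_eq, Helper26.classInner_sub_right, ← Helper75.frobenius_reciprocity L χ hcfG]
  obtain ⟨z1, hz1⟩ := (Helper26.irrFacts G).inner_int
    (Helper26.isGeneralizedCharacter_of_isCharacter (Cfsg.Agent.S0148.result L χ hχ)) hgen
  obtain ⟨z2, hz2⟩ := (Helper26.irrFacts ↥L).inner_int
    (Helper26.isGeneralizedCharacter_of_isCharacter hχ)
    (Helper26.isGeneralizedCharacter_of_isCharacter hζ₁c)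
  exact ⟨z1 - z2, by rw [hz1, hz2]; push_cast; ring⟩


/-- inner products among `χ ∈ S ∖ A`, `ζ₁`, `ζ ∈ A`. -/
theorem inner_facts {p : ℕ} (c : Ctx H L W₁ W₂ p) {R : (↥L → ℂ) → Finset (G → ℂ)}
    (sf : SFacts H L R) {ζ₁ ζ : ↥L → ℂ} (hζ₁ : ζ₁ ∈ AA H L) (hζ : ζ ∈ AA H L)
    {χ : ↥L → ℂ} (hχ : χ ∈ SS H L) (hχA : χ ∉ AA H L) :
    classInner χ ζ = 0 ∧ classInner ζ χ = 0 ∧
      classInner ζ₁ ζ = if ζ = ζ₁ then 1 else 0 := by
  have hζS := (AA_facts H L W₁ W₂ c sf hζ).1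
  have hζ₁S := (AA_facts H L W₁ W₂ c sf hζ₁).1
  have hne : χ ≠ ζ := fun h => hχA (h ▸ hζ)
  refine ⟨sf.cs.orthogonal χ hχ ζ hζS hne, sf.cs.orthogonal ζ hζS χ hχ (Ne.symm hne), ?_⟩
  by_cases h : ζ = ζ₁
  · rw [if_pos h, h]
    exact (AA_facts H L W₁ W₂ c sf hζ₁).2.2.2
  · rw [if_neg h]
    exact sf.cs.orthogonal ζ₁ hζ₁S ζ hζS (Ne.symm h)


/-- (F3) -/
theorem inner_ind_tau1 {p : ℕ} (c : Ctx H L W₁ W₂ p) {R : (↥L → ℂ) → Finset (G → ℂ)}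
    (sf : SFacts H L R) {τ₁ : (↥L → ℂ) → (G → ℂ)} {ε : ℤ} (x : AExt H L τ₁ ε)
    {ζ₁ ζ : ↥L → ℂ} (hζ₁ : ζ₁ ∈ AA H L) (hζ : ζ ∈ AA H L)
    {χ : ↥L → ℂ} (hχ : χ ∈ SS H L) (hχA : χ ∉ AA H L) (f : ℕ) (aχ s : ℂ)
    (hs : classInner ζ₁ (Dl L τ₁ ζ₁) = s)
    (ha : classInner χ (Dl L τ₁ ζ₁) = aχ + f * s) :
    classInner (indFun L (χ - (f : ℤ) • ζ₁)) (τ₁ ζ) = aχ - if ζ = ζ₁ then (f : ℂ) else 0 := by
  have hgen : IsGeneralizedCharacter G (τ₁ ζ) := x.iso.2.2.2 ζ (Submodule.subset_span hζ)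
  have hcfG : IsClassFunction G (τ₁ ζ) := gen_classFunction hgen
  rw [Helper75.frobenius_reciprocity L _ hcfG]
  have h1 : (fun y : ↥L => τ₁ ζ (y : G)) = ζ + Dl L τ₁ ζ₁ := by
    funext y
    exact tau1_restrict H L W₁ W₂ c sf x hζ₁ hζ y
  obtain ⟨h2, -, h3⟩ := inner_facts H L W₁ W₂ c sf hζ₁ hζ hχ hχA
  rw [h1, Helper26.classInner_add_right, Helper26.classInner_sub_left, Helper26.classInner_sub_left,
    Helper26.classInner_zsmul_left, Helper26.classInner_zsmul_left, h2, h3, hs, ha]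
  split_ifs <;> push_cast <;> ring


/-- (F4): Bessel on the orthonormal `τ₁ ζ`, `ζ ∈ As ⊆ A`. -/
theorem bessel_A {p : ℕ} (c : Ctx H L W₁ W₂ p) {R : (↥L → ℂ) → Finset (G → ℂ)}
    (sf : SFacts H L R) {τ₁ : (↥L → ℂ) → (G → ℂ)} {ε : ℤ} (x : AExt H L τ₁ ε)
    {ζ₁ : ↥L → ℂ} (hζ₁ : ζ₁ ∈ AA H L)
    (As : Finset (↥L → ℂ)) (hAs : (↑As : Set (↥L → ℂ)) ⊆ AA H L) (hζ₁As : ζ₁ ∈ As)
    {χ : ↥L → ℂ} (hχ : χ ∈ SS H L) (hχA : χ ∉ AA H L) (f : ℕ)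
    (hdeg : χ 1 = ((H.subgroupOf L).index : ℂ) * f) (a : ℤ) (σ : ℕ)
    (hσ : classInner χ χ = (σ : ℂ))
    (hd : ∀ ζ ∈ AA H L, classInner (indFun L (χ - (f : ℤ) • ζ₁)) (τ₁ ζ) =
      (a : ℂ) - if ζ = ζ₁ then (f : ℂ) else 0) :
    (As.card : ℤ) * a ^ 2 ≤ 2 * f * a + σ := by
  obtain ⟨hζ₁S, hζ₁deg, -, hζ₁n⟩ := AA_facts H L W₁ W₂ c sf hζ₁
  -- `β = χ - f ζ₁` lies in the domain
  have hβ : χ - (f : ℤ) • ζ₁ ∈ zspanOn (SS H L) ({1}ᶜ : Set ↥L) := by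
    refine ⟨Submodule.sub_mem _ (Submodule.subset_span hχ)
      (Submodule.smul_mem _ _ (Submodule.subset_span hζ₁S)), ?_⟩
    intro z hz
    have hz1 : z = 1 := by
      by_contra h
      exact hz h
    rw [hz1, Pi.sub_apply, Pi.smul_apply, hdeg, hζ₁deg]
    simp
    ring
  obtain ⟨h2, h2', -⟩ := inner_facts H L W₁ W₂ c sf hζ₁ hζ₁ hχ hχA
  have hnorm : classInner (indFun L (χ - (f : ℤ) • ζ₁)) (indFun L (χ - (f : ℤ) • ζ₁)) =
      (σ : ℂ) + (f : ℂ) ^ 2 := by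
    have h1 := sf.cs.isometry.2.2.1 _ hβ _ hβ
    show classInner (indL L (χ - (f : ℤ) • ζ₁)) (indL L (χ - (f : ℤ) • ζ₁)) = _
    rw [h1, Helper26.classInner_sub_left, Helper26.classInner_sub_right,
      Helper26.classInner_sub_right, Helper26.classInner_zsmul_left,
      Helper26.classInner_zsmul_right, Helper26.classInner_zsmul_right,
      Helper26.classInner_zsmul_left, hσ, h2, h2', hζ₁n]
    push_cast
    ring
  have hmemA : ∀ k : ↥As, (k : ↥L → ℂ) ∈ AA H L := fun k => hAs k.2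
  have hbes := Helper64.PF11.bessel_on (indFun L (χ - (f : ℤ) • ζ₁))
    (fun k : ↥As => τ₁ (k : ↥L → ℂ))
    (fun k => by
      rw [x.iso.2.2.1 _ (Submodule.subset_span (hmemA k)) _ (Submodule.subset_span (hmemA k))]
      exact (AA_facts H L W₁ W₂ c sf (hmemA k)).2.2.2)
    (fun k l hkl => by
      rw [x.iso.2.2.1 _ (Submodule.subset_span (hmemA k)) _ (Submodule.subset_span (hmemA l))]
      exact sf.cs.orthogonal _ (AA_facts H L W₁ W₂ c sf (hmemA k)).1 _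
        (AA_facts H L W₁ W₂ c sf (hmemA l)).1 (fun h => hkl (Subtype.ext h)))
    (fun k => (a : ℝ) - if (k : ↥L → ℂ) = ζ₁ then (f : ℝ) else 0)
    (fun k => by
      rw [hd _ (hmemA k)]
      split_ifs <;> push_cast <;> ring)
  rw [hnorm] at hbes
  have hre : ((σ : ℂ) + (f : ℂ) ^ 2).re = (σ : ℝ) + (f : ℝ) ^ 2 := by
    simp [pow_two]
  rw [hre] at hbes
  have hsum : ∑ k : ↥As, ((a : ℝ) - if (k : ↥L → ℂ) = ζ₁ then (f : ℝ) else 0) ^ 2 =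
      (As.card : ℝ) * (a : ℝ) ^ 2 - (2 * (a : ℝ) * f - (f : ℝ) ^ 2) := by
    rw [Finset.sum_coe_sort As (fun ζ => ((a : ℝ) - if ζ = ζ₁ then (f : ℝ) else 0) ^ 2)]
    have h5 : ∀ ζ ∈ As, ((a : ℝ) - if ζ = ζ₁ then (f : ℝ) else 0) ^ 2 =
        (a : ℝ) ^ 2 - if ζ = ζ₁ then (2 * (a : ℝ) * f - (f : ℝ) ^ 2) else 0 := by
      intro ζ _
      split_ifs <;> ring
    rw [Finset.sum_congr rfl h5, Finset.sum_sub_distrib, Finset.sum_const, nsmul_eq_mul,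
      Finset.sum_ite_eq' As ζ₁, if_pos hζ₁As]
  rw [hsum] at hbes
  have hfin : ((As.card : ℤ) * a ^ 2 : ℤ) ≤ ((2 * f * a + σ : ℤ)) := by
    have : (((As.card : ℤ) * a ^ 2 : ℤ) : ℝ) ≤ ((2 * f * a + σ : ℤ) : ℝ) := by
      push_cast
      linarith
    exact_mod_cast this
  exact hfin

/-- MODULE [SIBC-I]: restriction to `L` (TI), the coefficients `a χ`, Bessel. -/
theorem blockI {p : ℕ} (c : Ctx H L W₁ W₂ p) {R : (↥L → ℂ) → Finset (G → ℂ)}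
    (sf : SFacts H L R) {τ₁ : (↥L → ℂ) → (G → ℂ)} {ε : ℤ} (x : AExt H L τ₁ ε)
    {ζ₁ : ↥L → ℂ} (hζ₁ : ζ₁ ∈ AA H L) :
    IsClassFunction ↥L (Dl L τ₁ ζ₁) ∧
    (∀ ζ ∈ AA H L, ∀ y : ↥L, τ₁ ζ (y : G) = ζ y + Dl L τ₁ ζ₁ y) ∧
    ∃ (s : ℤ) (a : (↥L → ℂ) → ℤ), classInner ζ₁ (Dl L τ₁ ζ₁) = s ∧
      ∀ χ ∈ SS H L, χ ∉ AA H L → ∀ f : ℕ, χ 1 = ((H.subgroupOf L).index : ℂ) * f →
        classInner χ (Dl L τ₁ ζ₁) = (a χ : ℂ) + f * s ∧ 0 ≤ a χ ∧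
        (∀ (As : Finset (↥L → ℂ)) (σ : ℕ), (↑As : Set (↥L → ℂ)) = AA H L →
          classInner χ χ = (σ : ℂ) → (As.card : ℤ) * a χ ^ 2 ≤ 2 * f * a χ + σ) ∧
        ∀ ζ ∈ AA H L, classInner (indFun L (χ - (f : ℤ) • ζ₁)) (τ₁ ζ) =
          (a χ : ℂ) - if ζ = ζ₁ then (f : ℂ) else 0 := by
  obtain ⟨hζ₁S, hζ₁deg, hζ₁irr, hζ₁n⟩ := AA_facts H L W₁ W₂ c sf hζ₁
  have hζ₁c : IsCharacter ↥L ζ₁ := sf.cs.isCharacter ζ₁ hζ₁S
  have hq0 : ((H.subgroupOf L).index : ℂ) ≠ 0 := by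
    have : (H.subgroupOf L).index ≠ 0 := Subgroup.index_ne_zero_of_finite
    exact_mod_cast this
  refine ⟨?_, fun ζ hζ y => tau1_restrict H L W₁ W₂ c sf x hζ₁ hζ y, ?_⟩
  · rw [Dl_eq]
    intro g h
    have h1 := gen_classFunction (x.iso.2.2.2 ζ₁ (Submodule.subset_span hζ₁)) (g : G) (h : G)
    have h2 := Helper80.isClassFunction_of_isCharacter hζ₁c g h
    simp only [Pi.sub_apply]
    rw [h2]
    have h3 : ((h * g * h⁻¹ : ↥L) : G) = (h : G) * (g : G) * (h : G)⁻¹ := by push_cast; rfl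
    rw [h3, h1]
  · obtain ⟨s, hs⟩ := inner_Dl_int H L x hζ₁ hζ₁c hζ₁c
    have key : ∀ χ : ↥L → ℂ, ∃ z : ℤ, χ ∈ SS H L → ∀ f : ℕ,
        χ 1 = ((H.subgroupOf L).index : ℂ) * f →
        classInner χ (Dl L τ₁ ζ₁) = (z : ℂ) + f * s := by
      intro χ
      by_cases hχ : χ ∈ SS H L ∧ ∃ f : ℕ, χ 1 = ((H.subgroupOf L).index : ℂ) * f
      · obtain ⟨hχS, f0, hf0⟩ := hχ
        obtain ⟨z, hz⟩ := inner_Dl_int H L x hζ₁ hζ₁c (sf.cs.isCharacter χ hχS)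
        refine ⟨z - f0 * s, fun _ f hf => ?_⟩
        have hff : (f : ℂ) = (f0 : ℂ) := by
          rw [hf0] at hf
          exact (mul_left_cancel₀ hq0 hf).symm
        rw [hz, hff]
        push_cast
        ring
      · exact ⟨0, fun hχS f hf => absurd ⟨hχS, f, hf⟩ hχ⟩
    choose a ha using key
    refine ⟨s, a, hs, fun χ hχ hχA f hf => ?_⟩
    have h1 := ha χ hχ f hf
    have hd : ∀ ζ ∈ AA H L, classInner (indFun L (χ - (f : ℤ) • ζ₁)) (τ₁ ζ) =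
        (a χ : ℂ) - if ζ = ζ₁ then (f : ℂ) else 0 := fun ζ hζ =>
      inner_ind_tau1 H L W₁ W₂ c sf x hζ₁ hζ hχ hχA f (a χ) s hs h1
    refine ⟨h1, ?_, fun As σ hAs hσ => ?_, hd⟩
    · -- `0 ≤ a χ`
      have hsub : ((↑({ζ₁} : Finset (↥L → ℂ))) : Set (↥L → ℂ)) ⊆ AA H L := by
        intro ζ hζ
        rw [Finset.coe_singleton, Set.mem_singleton_iff] at hζ
        rw [hζ]
        exact hζ₁
      rcases sf.red χ hχ with hirr | ⟨hn, f', hf', hf'1⟩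
      · have hσ : classInner χ χ = ((1 : ℕ) : ℂ) := by
          rw [(Helper26.irrFacts ↥L).orthonormal χ χ hirr hirr, if_pos rfl]
          simp
        have hb := bessel_A H L W₁ W₂ c sf x hζ₁ {ζ₁} hsub (Finset.mem_singleton_self ζ₁) hχ hχA f hf
          (a χ) 1 hσ hd
        have hf1 : 1 ≤ f := by
          obtain ⟨n, hn, hn1⟩ := (Helper26.irrFacts ↥L).deg_pos χ hirr
          rcases Nat.eq_zero_or_pos f with h0 | h0
          · exfalso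
            rw [hn1, h0] at hf
            simp at hf
            omega
          · exact h0
        rw [Finset.card_singleton] at hb
        by_contra hneg
        have hneg' : a χ ≤ -1 := by omega
        have hf1' : (1 : ℤ) ≤ (f : ℤ) := by exact_mod_cast hf1
        push_cast at hb
        nlinarith
      · have hff : f = f' := by
          rw [hf] at hf'1
          have := mul_left_cancel₀ hq0 hf'1
          exact_mod_cast this
        have hb := bessel_A H L W₁ W₂ c sf x hζ₁ {ζ₁} hsub (Finset.mem_singleton_self ζ₁) hχ hχA f hf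
          (a χ) (H.subgroupOf L).index hn hd
        rw [Finset.card_singleton] at hb
        by_contra hneg
        have hneg' : a χ ≤ -1 := by omega
        have hf1' : ((H.subgroupOf L).index : ℤ) < (f : ℤ) := by
          rw [hff]
          exact_mod_cast hf'
        push_cast at hb
        nlinarith
    · apply bessel_A H L W₁ W₂ c sf x hζ₁ As (by rw [hAs]) (by
        rw [← Finset.mem_coe, hAs]
        exact hζ₁) hχ hχA f hf (a χ) σ hσ hd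

end Cfsg.Agent.Lib.Helper75.SibCI
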