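import Mathlib
import Cfsg.Agent.Lib.Helper64.PFElevenDefs
import Cfsg.Agent.Lib.Helper64.PFElevenDegQ
import Cfsg.Agent.Lib.Helper25.PFCycEta
import Cfsg.Agent.Lib.Helper25.DadeExp6
import Cfsg.Agent.Lib.Helper51.PFCycMuInd
import Cfsg.Agent.S1507

/-!
# PROJECT PF, Peterfalvi section 11 (end game): module [X-BRIDGE] (helper75, for helper64)
-/

set_option autoImplicit false
set_option linter.unusedSectionVars false
open Cfsg
open scoped ComplexConjugate

namespace Cfsg.Agent.Lib.Helper75.PF11X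

open Cfsg.Agent.Lib.Helper24.PFCyc Cfsg.Agent.Lib.Helper4.PF Cfsg.Agent.Lib.Helper64.PF11
open Cfsg.Agent.Lib

universe u

variable {G : Type u} [Group G] [Fintype G]

open Classical in
/-- normal form of the "indicator" alternatives of S1507 -/
theorem indicator_norm {W₁ W₂ : Subgroup G} (X : Subgroup G) (ψ₀ : WChar W₁ W₂) (a : ℂ)
    (f : WChar W₁ W₂ → ℂ)
    (h : ∀ ω : WChar W₁ W₂, f ω =
      if (∀ w : ↥(W₁ ⊔ W₂), (w : G) ∈ X → (ω * ψ₀⁻¹) w = 1) then a else 0)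
    (h1 : f 1 = 1) :
    ∀ ω : WChar W₁ W₂, f ω = if TrivOn X ω then 1 else 0 := by
  have h1' := h 1
  by_cases hc : ∀ w : ↥(W₁ ⊔ W₂), (w : G) ∈ X → ((1 : WChar W₁ W₂) * ψ₀⁻¹) w = 1
  · rw [if_pos hc, h1] at h1'
    have hψ₀ : ∀ w : ↥(W₁ ⊔ W₂), (w : G) ∈ X → ψ₀ w = 1 := by
      intro w hw
      have := hc w hw
      rw [MonoidHom.mul_apply, MonoidHom.one_apply, one_mul, MonoidHom.inv_apply, inv_eq_one] at this
      exact this
    intro ω
    rw [h ω, ← h1']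
    have hiff : (∀ w : ↥(W₁ ⊔ W₂), (w : G) ∈ X → (ω * ψ₀⁻¹) w = 1) ↔ TrivOn X ω := by
      constructor
      · intro hh w hw
        have := hh w hw
        rw [MonoidHom.mul_apply, MonoidHom.inv_apply, hψ₀ w hw, inv_one, mul_one] at this
        exact this
      · intro hh w hw
        rw [MonoidHom.mul_apply, MonoidHom.inv_apply, hψ₀ w hw, inv_one, mul_one]
        exact hh w hw
    by_cases hω : TrivOn X ω
    · rw [if_pos hω, if_pos (hiff.mpr hω)]
    · rw [if_neg hω, if_neg (fun h' => hω (hiff.mp h'))]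
  · rw [if_neg hc, h1] at h1'
    exact absurd h1' one_ne_zero

/-- the number of `ψ` trivial on `W₁` is `|W₂|` -/
theorem card_trivSet_W₁ {W₁ W₂ : Subgroup G} (hW : IsSelfNormalizingCyclic W₁ W₂) :
    (trivSet W₁ W₂ W₁).card = Nat.card W₂ := by
  classical
  have : Fintype ↥(W₁ ⊔ W₂) := Fintype.ofFinite _
  have hcyc : IsCyclic ↥(W₁ ⊔ W₂) := hW.2.2.2.2.1
  have hc : ∀ a b : ↥(W₁ ⊔ W₂), a * b = b * a := by
    intro a b
    obtain ⟨g, hg⟩ := hcyc.exists_generator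
    obtain ⟨i, rfl⟩ := Subgroup.mem_zpowers_iff.mp (hg a)
    obtain ⟨j, rfl⟩ := Subgroup.mem_zpowers_iff.mp (hg b)
    rw [← zpow_add, ← zpow_add, add_comm]
  have h1 : trivSet W₁ W₂ W₁ = Helper25.dualOf (W₁.subgroupOf (W₁ ⊔ W₂)) := by
    ext ω
    rw [mem_trivSet, Helper25.mem_dualOf]
    constructor
    · intro h n hn
      exact h n (Subgroup.mem_subgroupOf.mp hn)
    · intro h w hw
      exact h w (Subgroup.mem_subgroupOf.mpr hw)
  have h2 := Helper25.card_dualOf_mul hc (W₁.subgroupOf (W₁ ⊔ W₂))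
  have h3 : Nat.card ↥(W₁.subgroupOf (W₁ ⊔ W₂)) = Nat.card W₁ :=
    Nat.card_congr (Subgroup.subgroupOfEquivOfLe le_sup_left).toEquiv
  rw [h3, Helper51.PFCyc.card_W hW, ← h1, mul_comm (Nat.card W₁)] at h2
  have hpos : 0 < Nat.card W₁ := Nat.card_pos
  exact Nat.eq_of_mul_eq_mul_right hpos h2

theorem eta_gen {W₁ W₂ : Subgroup G} {η : WChar W₁ W₂ → (G → ℂ)}
    (hη : IsCyclicTIFamily W₁ W₂ η) (ω : WChar W₁ W₂) : IsGeneralizedCharacter G (η ω) := by
  rcases hη.irr_or_neg ω with h | h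
  · exact Helper26.isGeneralizedCharacter_of_isCharacter (Helper80.isCharacter_of_isIrr h)
  · have := Helper25.dgen_neg
      (Helper26.isGeneralizedCharacter_of_isCharacter (Helper80.isCharacter_of_isIrr h))
    rwa [neg_neg] at this

theorem gen_sum {ι : Type*} (s : Finset ι) (f : ι → G → ℂ)
    (h : ∀ i ∈ s, IsGeneralizedCharacter G (f i)) : IsGeneralizedCharacter G (∑ i ∈ s, f i) := by
  classical
  induction s using Finset.induction_on with
  | empty => rw [Finset.sum_empty]; exact Helper25.dgen_zero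
  | insert a s ha ih =>
    rw [Finset.sum_insert ha]
    exact Helper25.dgen_add (h a (Finset.mem_insert_self a s))
      (ih (fun i hi => h i (Finset.mem_insert_of_mem hi)))

open Classical in
/-- **abstract core of [X-BRIDGE]**: a generalized character `Γ` of norm `q + 1` with
`⟨Γ, 1⟩ = 1` vanishing on `W ∖ (W₁ ∪ W₂)` is `∑_φ η_φ - χ` (`q < p`). -/
theorem bridge_core (W₁ W₂ : Subgroup G) (hW : IsSelfNormalizingCyclic W₁ W₂)
    (hodd : Odd (Nat.card ↥(W₁ ⊔ W₂))) (η : WChar W₁ W₂ → (G → ℂ))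
    (hη : IsCyclicTIFamily W₁ W₂ η) (hlt : Nat.card W₁ < Nat.card W₂)
    (Γ : G → ℂ) (hΓ : IsGeneralizedCharacter G Γ)
    (hΓV : ∀ w : ↥(W₁ ⊔ W₂), (w : G) ∉ W₁ → (w : G) ∉ W₂ → Γ w = 0)
    (hnorm : classInner Γ Γ = (Nat.card W₁ : ℂ) + 1)
    (hone : classInner Γ (fun _ => 1) = 1) :
    ∃ χ : G → ℂ, IsGeneralizedCharacter G χ ∧ classInner χ χ = 1 ∧
      (∀ ω, classInner χ (η ω) = 0) ∧ Γ = etaSum η 1 - χ := by
  have hFW : Fintype ↥(W₁ ⊔ W₂) := Fintype.ofFinite _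
  have hFH : Fintype (WChar W₁ W₂) := Fintype.ofFinite _
  have hcardW : Nat.card ↥(W₁ ⊔ W₂) = Nat.card W₁ * Nat.card W₂ := Helper51.PFCyc.card_W hW
  rw [hcardW, Nat.odd_mul] at hodd
  obtain ⟨hqodd, hpodd⟩ := hodd
  have hq2 : 2 ≤ Nat.card W₁ := by
    have h1 : 1 < Nat.card W₁ := (Subgroup.one_lt_card_iff_ne_bot W₁).mpr hW.1
    omega
  have hon1 : ∀ ω : WChar W₁ W₂, classInner (η ω) (η ω) = 1 := by
    intro ω
    rw [hη.orthonormal, if_pos rfl]
  have hon0 : ∀ ω ω' : WChar W₁ W₂, ω ≠ ω' → classInner (η ω) (η ω') = 0 := by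
    intro ω ω' h
    rw [hη.orthonormal, if_neg h]
  have hcf : IsClassFunction G Γ := Helper25.dgen_isClassFunction hΓ
  have hint : ∀ ω : WChar W₁ W₂, ∃ n : ℤ, classInner Γ (η ω) = (n : ℂ) := fun ω =>
    Helper25.PFCyc.eta_inner_int η hη Γ hΓ ω
  choose c hc using hint
  -- Bessel
  have hbes := bessel_on Γ η hon1 hon0 (fun ω => ((c ω : ℤ) : ℝ))
    (fun ω => by rw [hc ω]; push_cast; rfl)
  have hnormR : (classInner Γ Γ).re = (Nat.card W₁ : ℝ) + 1 := by
    rw [hnorm]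
    simp
  rw [hnormR] at hbes
  have hbesZ : ∑ ω : WChar W₁ W₂, (c ω) ^ 2 ≤ (Nat.card W₁ : ℤ) + 1 := by
    have h3 : ((∑ ω : WChar W₁ W₂, (c ω) ^ 2 : ℤ) : ℝ) ≤ (((Nat.card W₁ : ℤ) + 1 : ℤ) : ℝ) := by
      push_cast
      exact hbes
    exact_mod_cast h3
  have hfew : Nat.card {ω : WChar W₁ W₂ // classInner Γ (η ω) ≠ 0} < 2 * Nat.card W₁ := by
    rw [Nat.card_eq_fintype_card, Fintype.card_subtype]
    have h1 : ((Finset.univ.filter (fun ω : WChar W₁ W₂ => classInner Γ (η ω) ≠ 0)).card : ℤ) ≤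
        ∑ ω : WChar W₁ W₂, (c ω) ^ 2 := by
      rw [Finset.card_filter, Nat.cast_sum]
      apply Finset.sum_le_sum
      intro ω _
      by_cases h : classInner Γ (η ω) ≠ 0
      · rw [if_pos h]
        have h0 : c ω ≠ 0 := by
          intro h0
          apply h
          rw [hc ω, h0]
          simp
        have : 0 < (c ω) ^ 2 := by positivity
        push_cast
        omega
      · rw [if_neg h]
        push_cast
        positivity
    have h2 : ((Finset.univ.filter (fun ω : WChar W₁ W₂ => classInner Γ (η ω) ≠ 0)).card : ℤ) <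
        ((2 * Nat.card W₁ : ℕ) : ℤ) := by
      push_cast
      have : (2 : ℤ) ≤ (Nat.card W₁ : ℤ) := by exact_mod_cast hq2
      linarith
    exact_mod_cast h2
  have hΓ1 : classInner Γ (η 1) = 1 := by rw [hη.map_one, hone]
  rcases Cfsg.Agent.S1507.result W₁ W₂ hW
      (by rw [hcardW, Nat.odd_mul]; exact ⟨hqodd, hpodd⟩) η hη hlt Γ hcf hΓV hfew with
    h0 | ⟨ψ₀, a, h2⟩ | ⟨φ₀, a, h3⟩
  · exfalso
    rw [h0 1] at hΓ1
    exact zero_ne_one hΓ1
  · -- the good case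
    have hind := indicator_norm W₂ ψ₀ a (fun ω => classInner Γ (η ω)) h2 hΓ1
    have hΘ : etaSum η 1 = ∑ φ ∈ trivSet W₁ W₂ W₂, η φ := by
      unfold etaSum
      apply Finset.sum_congr rfl
      intro φ _
      rw [mul_one φ]
    have hΘgen : IsGeneralizedCharacter G (etaSum η 1) := by
      rw [hΘ]
      exact gen_sum _ _ (fun φ _ => eta_gen hη φ)
    have hχη : ∀ ω : WChar W₁ W₂, classInner (etaSum η 1 - Γ) (η ω) = 0 := by
      intro ω
      rw [Helper26.classInner_sub_left, hΘ, Helper78.classInner_sum_left, hind ω]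
      by_cases hω : TrivOn W₂ ω
      · rw [if_pos hω, Finset.sum_eq_single ω]
        · rw [hon1 ω]; ring
        · intro φ _ hne
          exact hon0 φ ω hne
        · intro h
          exact absurd (mem_trivSet.mpr hω) h
      · rw [if_neg hω, Finset.sum_eq_zero]
        · ring
        · intro φ hφ
          exact hon0 φ ω (fun h => hω (h ▸ mem_trivSet.mp hφ))
    have hΓΘ : classInner (etaSum η 1) Γ = (Nat.card W₁ : ℂ) := by
      rw [← Helper78.classInner_conj_symm, hΘ, Helper26.classInner_sum_right]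
      have h5 : ∀ φ ∈ trivSet W₁ W₂ W₂, classInner Γ (η φ) = 1 := by
        intro φ hφ
        rw [hind φ, if_pos (mem_trivSet.mp hφ)]
      rw [Finset.sum_congr rfl h5, Finset.sum_const, Helper51.PFCyc.card_trivSet_W₂ hW]
      simp
    refine ⟨etaSum η 1 - Γ, ?_, ?_, hχη, by rw [sub_sub_cancel]⟩
    · have := Helper25.dgen_add hΘgen (Helper25.dgen_neg hΓ)
      rwa [← sub_eq_add_neg] at this
    · rw [Helper26.classInner_sub_right]
      have h6 : classInner (etaSum η 1 - Γ) (etaSum η 1) = 0 := by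
        rw [hΘ, Helper26.classInner_sum_right, ← hΘ]
        exact Finset.sum_eq_zero (fun φ _ => hχη φ)
      rw [h6, Helper26.classInner_sub_left, hΓΘ, hnorm]
      ring
  · -- the impossible case
    exfalso
    have hind := indicator_norm W₁ φ₀ a (fun ω => classInner Γ (η ω)) h3 hΓ1
    have hcω : ∀ ω : WChar W₁ W₂, (c ω) ^ 2 = if TrivOn W₁ ω then 1 else 0 := by
      intro ω
      have h1 := hind ω
      rw [hc ω] at h1
      by_cases hω : TrivOn W₁ ω
      · rw [if_pos hω] at h1 ⊢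
        have : c ω = 1 := by exact_mod_cast h1
        rw [this]; ring
      · rw [if_neg hω] at h1 ⊢
        have : c ω = 0 := by exact_mod_cast h1
        rw [this]; ring
    have h7 : (Finset.univ.filter (fun ω : WChar W₁ W₂ => TrivOn W₁ ω)) = trivSet W₁ W₂ W₁ := by
      ext ω
      rw [mem_trivSet]
      simp
    have h7' : ∑ ω : WChar W₁ W₂, (if TrivOn W₁ ω then (1 : ℤ) else 0) =
        ((Finset.univ.filter (fun ω : WChar W₁ W₂ => TrivOn W₁ ω)).card : ℤ) := by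
      rw [Finset.card_filter, Nat.cast_sum]
      apply Finset.sum_congr rfl
      intro ω _
      split_ifs <;> simp
    rw [Finset.sum_congr rfl (fun ω _ => hcω ω), h7', h7, card_trivSet_W₁ hW] at hbesZ
    have h8 : Nat.card W₂ ≤ Nat.card W₁ + 1 := by exact_mod_cast hbesZ
    have h9 : Nat.card W₂ = Nat.card W₁ + 1 := by omega
    rw [h9] at hpodd
    rcases hqodd with ⟨k, hk⟩
    rcases hpodd with ⟨k', hk'⟩
    omega

section Frame

variable {M W₁ U W₂ : Subgroup G} [Fintype M]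
  {mu : WChar W₁ W₂ → (↥M → ℂ)} {dl : WChar W₁ W₂ → ℂ} {η : WChar W₁ W₂ → (G → ℂ)}
  {d : ℕ} {δ : ℂ} {n : ℤ}

/-- [X-BRIDGE] with the conclusions of [DOM] (`tau_isometry`, `calS0_inner`) as hypotheses. -/
theorem bridge0_aux (F : Frame M W₁ U W₂ mu dl η d δ n)
    (hiso : IsLinearIsometryOn (zspanOn (calS0 M mu) {1}ᶜ) (tauM M) ∧
      (∀ α ∈ zspanOn (calS0 M mu) ({1}ᶜ : Set ↥M), tauM M α 1 = 0) ∧
      (∀ α ∈ zspanOn (calS0 M mu) ({1}ᶜ : Set ↥M),
        classInner (tauM M α) (fun _ => 1) = classInner α (fun _ => 1)) ∧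
      (∀ α ∈ zspanOn (calS0 M mu) ({1}ᶜ : Set ↥M), ∀ w : ↥(W₁ ⊔ W₂),
        (w : G) ∉ W₁ → (w : G) ∉ W₂ → tauM M α (w : G) = 0))
    (hin : classInner (muSum mu 1) (muSum mu 1) = (Nat.card W₁ : ℂ) ∧
      classInner (muSum mu 1) (fun _ => 1) = 1 ∧ muSum mu 1 1 = (Nat.card W₁ : ℂ) ∧
      (∀ ξ ∈ calS M, classInner (muSum mu 1) ξ = 0 ∧ classInner ξ (muSum mu 1) = 0 ∧
        classInner ξ (fun _ => 1) = 0 ∧ IsCharacter ↥M ξ) ∧
      (∀ ξ ∈ calS M, ∀ ξ' ∈ calS M, ξ ≠ ξ' → classInner ξ ξ' = 0) ∧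
      (∀ ξ ∈ calS M, IsIrrCharacter ↥M ξ → classInner ξ ξ = 1) ∧
      (∀ ψ : WChar W₁ W₂, TrivOn W₁ ψ → ψ ≠ 1 →
        classInner (muSum mu ψ) (muSum mu ψ) = (Nat.card W₁ : ℂ) ∧
        muSum mu ψ 1 = ((Nat.card W₁ * d : ℕ) : ℂ)))
    (hlt : Nat.card W₁ < Nat.card W₂)
    (ζ : ↥M → ℂ) (hζ : ζ ∈ calS M) (hζ1 : ζ 1 = (Nat.card W₁ : ℂ)) :
    ∃ χ : G → ℂ, IsGeneralizedCharacter G χ ∧ classInner χ χ = 1 ∧
      (∀ ω, classInner χ (η ω) = 0) ∧
      tauM M (muSum mu 1 - ζ) = etaSum η 1 - χ := by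
  obtain ⟨h00, h01, hdeg0, hξ, -, hirr1, hψ⟩ := hin
  obtain ⟨⟨-, -, hisom, hgen⟩, -, hτ1, hτW⟩ := hiso
  have hW := F.hP.selfNormalizing
  have hq2 : 2 ≤ Nat.card W₁ := by
    have h1 : 1 < Nat.card W₁ := (Subgroup.one_lt_card_iff_ne_bot W₁).mpr hW.1
    omega
  -- `ζ` is irreducible
  have hζirr : IsIrrCharacter ↥M ζ := by
    rcases F.calS_cases ζ hζ with ⟨hirr, -⟩ | ⟨ψ, hψ1, hψne, rfl⟩
    · exact hirr
    · exfalso
      have h1 := (hψ ψ hψ1 hψne).2
      rw [hζ1] at h1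
      have h2 : Nat.card W₁ = Nat.card W₁ * d := by exact_mod_cast h1
      have h3 := F.hdq
      have h4 : d = 1 := by
        have : Nat.card W₁ * 1 = Nat.card W₁ * d := by rw [mul_one]; exact h2
        exact (Nat.eq_of_mul_eq_mul_left (by omega) this).symm
      omega
  -- the domain
  have hα : muSum mu 1 - ζ ∈ zspanOn (calS0 M mu) ({1}ᶜ : Set ↥M) := by
    refine ⟨?_, ?_⟩
    · exact Submodule.sub_mem _ (Submodule.subset_span (Set.mem_insert _ _))
        (Submodule.subset_span (Set.mem_insert_of_mem _ hζ))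
    · intro x hx
      have hx1 : x = 1 := by
        by_contra h
        exact hx h
      rw [hx1, Pi.sub_apply, hdeg0, hζ1, sub_self]
  obtain ⟨hζ0, hζ0', hζ1', -⟩ := hξ ζ hζ
  have hnorm : classInner (tauM M (muSum mu 1 - ζ)) (tauM M (muSum mu 1 - ζ)) =
      (Nat.card W₁ : ℂ) + 1 := by
    rw [hisom _ hα _ hα, Helper26.classInner_sub_left, Helper26.classInner_sub_right,
      Helper26.classInner_sub_right, h00, hζ0, hζ0', hirr1 ζ hζ hζirr]
    ring
  have hone : classInner (tauM M (muSum mu 1 - ζ)) (fun _ => 1) = 1 := by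
    rw [hτ1 _ hα, Helper26.classInner_sub_left, h01, hζ1']
    ring
  have hodd : Odd (Nat.card ↥(W₁ ⊔ W₂)) :=
    Odd.of_dvd_nat F.hodd (Subgroup.card_subgroup_dvd_card _)
  exact bridge_core W₁ W₂ hW hodd η F.hη hlt _ (hgen _ hα) (hτW _ hα) hnorm hone

end Frame

end Cfsg.Agent.Lib.Helper75.PF11X
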