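import Mathlib
import Cfsg.Agent.Lib.Helper64.PFElevenDefs
import Cfsg.Agent.Lib.Helper51.PFElevenDom
import Cfsg.Agent.Lib.Helper75.PFElevenXBridgeCore

/-!
# PROJECT PF, Peterfalvi section 11 (end game): module [X-BRIDGE] `bridge0_of_lt`
(helper75, for helper64; on top of helper51's [DOM])
-/

set_option autoImplicit false

namespace Cfsg.Agent.Lib.Helper75.PF11X

open Cfsg Cfsg.Agent.Lib.Helper24.PFCyc Cfsg.Agent.Lib.Helper4.PF Cfsg.Agent.Lib.Helper64.PF11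

universe u

variable {G : Type u} [Group G] [Fintype G] {M W₁ U W₂ : Subgroup G} [Fintype M]
  {mu : WChar W₁ W₂ → (↥M → ℂ)} {dl : WChar W₁ W₂ → ℂ} {η : WChar W₁ W₂ → (G → ℂ)}
  {d : ℕ} {δ : ℂ} {n : ℤ}

/-- MODULE [X-BRIDGE] -/
theorem bridge0_of_lt (F : Frame M W₁ U W₂ mu dl η d δ n) (hlt : Nat.card W₁ < Nat.card W₂)
    (ζ : ↥M → ℂ) (hζ : ζ ∈ calS M) (hζ1 : ζ 1 = (Nat.card W₁ : ℂ)) :
    ∃ χ : G → ℂ, IsGeneralizedCharacter G χ ∧ classInner χ χ = 1 ∧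
      (∀ ω, classInner χ (η ω) = 0) ∧
      tauM M (muSum mu 1 - ζ) = etaSum η 1 - χ :=
  bridge0_aux F (Cfsg.Agent.Lib.Helper51.PF11.tau_isometry F)
    (Cfsg.Agent.Lib.Helper51.PF11.calS0_inner F) hlt ζ hζ hζ1

end Cfsg.Agent.Lib.Helper75.PF11X
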