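import Mathlib
import Cfsg.Agent.Lib.Helper32.SLMD.Defs2

/-!
# SLMD-[SL2-DICH-IRR] (helper75, for helper32's project S2332), `_of` form

`sl2_dich_irr_of`: the dichotomy `c − t = 0` or `≥ (q−1)/q` for an irreducible representation of `SL₂(F)`,
taking the Schur relation [SL2-SCHUR] and the torus bound [SL2-TORUS] (for this `R`) as hypotheses.
-/

set_option autoImplicit false
set_option linter.unusedSectionVars false
set_option linter.unusedVariables false

namespace Cfsg.Agent.Lib.Helper32.SLMD.DichIrr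

open Matrix Cfsg.Agent.Lib.Helper41 Cfsg.Agent.Lib.Helper39 Module

/-- pure arithmetic: from the Schur relation and the torus bound to the dichotomy -/
theorem arith_dich (q d c : ℕ) (t : ℂ) (hq : 0 < q) (hd : 0 < d) (hcd : c ≤ d)
    (hS : (d : ℂ) * ((c : ℂ) + (q : ℂ) * t) = ((q : ℂ) + 1) * (c : ℂ) ^ 2)
    (hT : c = d ∨ q + 2 * c ≤ 2 * d + 1) :
    ∃ r : ℝ, (c : ℂ) - t = (r : ℂ) ∧ (r = 0 ∨ ((q : ℝ) - 1) / (q : ℝ) ≤ r) := by
  have hqR : (0 : ℝ) < (q : ℝ) := by exact_mod_cast hq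
  have hdR : (0 : ℝ) < (d : ℝ) := by exact_mod_cast hd
  have hqC : (q : ℂ) ≠ 0 := by exact_mod_cast hq.ne'
  have hdC : (d : ℂ) ≠ 0 := by exact_mod_cast hd.ne'
  refine ⟨(((q : ℝ) + 1) * (c : ℝ) * ((d : ℝ) - (c : ℝ))) / ((q : ℝ) * (d : ℝ)), ?_, ?_⟩
  · push_cast
    rw [eq_div_iff (mul_ne_zero hqC hdC)]
    linear_combination (-1 : ℂ) * hS
  · by_cases hc0 : c = 0
    · left
      rw [hc0]
      simp
    by_cases hcd' : c = d
    · left
      rw [hcd']
      simp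
    right
    have hT' : q + 2 * c ≤ 2 * d + 1 := hT.resolve_left hcd'
    have hc1 : (1 : ℝ) ≤ (c : ℝ) := by exact_mod_cast Nat.one_le_iff_ne_zero.mpr hc0
    have hlt : c < d := lt_of_le_of_ne hcd hcd'
    obtain ⟨e, rfl⟩ : ∃ e, d = c + e := ⟨d - c, by omega⟩
    have he1 : (1 : ℝ) ≤ (e : ℝ) := by
      have : 1 ≤ e := by omega
      exact_mod_cast this
    have hqe : (q : ℝ) - 1 ≤ 2 * (e : ℝ) := by
      have : q ≤ 2 * e + 1 := by omega
      have h' : (q : ℝ) ≤ 2 * (e : ℝ) + 1 := by exact_mod_cast this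
      linarith
    rw [div_le_div_iff₀ hqR (mul_pos hqR hdR)]
    push_cast
    have hq0 : (0 : ℝ) ≤ (q : ℝ) := hqR.le
    have key : ((q : ℝ) - 1) * ((c : ℝ) + (e : ℝ)) ≤ ((q : ℝ) + 1) * (c : ℝ) * (e : ℝ) := by
      have h1 : 0 ≤ ((c : ℝ) - 1) * (((q : ℝ) + 1) * (e : ℝ) - ((q : ℝ) - 1)) := by
        apply mul_nonneg
        · linarith
        · nlinarith
      nlinarith
    have e1 : (c : ℝ) + (e : ℝ) - (c : ℝ) = (e : ℝ) := by ring
    rw [e1]
    nlinarith

end Cfsg.Agent.Lib.Helper32.SLMD.DichIrr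

namespace Cfsg.Agent.Lib.Helper32.SLMD

open Matrix Cfsg.Agent.Lib.Helper41 Cfsg.Agent.Lib.Helper39 Module
open scoped LinearAlgebra.Projectivization

variable {F : Type*} [Field F] [Fintype F] [DecidableEq F] {k : ℕ}

section sl2

variable {V : Type*} [AddCommGroup V] [Module ℂ V] [FiniteDimensional ℂ V]

/-- [SL2-DICH-IRR], with [SL2-SCHUR] and [SL2-TORUS] for `R` as hypotheses -/
theorem sl2_dich_irr_of (R : Representation ℂ (Matrix.SpecialLinearGroup (Fin 2) F) V)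
    (hR : R.IsIrreducible)
    (hS : (finrank ℂ V : ℂ) * ((fixUS R : ℂ) + (Fintype.card F : ℂ) * ttSL2 R) =
      ((Fintype.card F : ℂ) + 1) * (fixUS R : ℂ) ^ 2)
    (hT : fixUS R = finrank ℂ V ∨ Fintype.card F + 2 * fixUS R ≤ 2 * finrank ℂ V + 1) :
    ∃ r : ℝ, (fixUS R : ℂ) - ttSL2 R = (r : ℂ) ∧
      (r = 0 ∨ ((Fintype.card F : ℝ) - 1) / (Fintype.card F : ℝ) ≤ r) := by
  have hd : 0 < finrank ℂ V := by
    have hnt : Nontrivial (Subrepresentation R) := hR.toNontrivial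
    rw [Module.finrank_pos_iff]
    by_contra hV
    rw [not_nontrivial_iff_subsingleton] at hV
    obtain ⟨a, b, hab⟩ := hnt.exists_pair_ne
    apply hab
    apply Subrepresentation.toSubmodule_injective
    ext x
    simp [Subsingleton.elim x 0]
  have hcd : fixUS R ≤ finrank ℂ V := Submodule.finrank_le _
  exact DichIrr.arith_dich (Fintype.card F) (finrank ℂ V) (fixUS R) (ttSL2 R) Fintype.card_pos hd hcd
    hS hT

end sl2

end Cfsg.Agent.Lib.Helper32.SLMD
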