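import Mathlib
import Cfsg.Agent.Lib.Helper32.SLMD.Defs2
import Cfsg.Agent.Lib.Helper42.SlmdGSchur2T

/-!
# SLMD-[SL2-SCHUR] (helper75 hedge, for helper32's project S2332): `sl2_schur`, exact Skel statement

[G-SCHUR2T] (helper42) for `G = SL₂(F)`, `ν = uSHom`, `P = borelSub F`, `w = weylW`.
-/

set_option autoImplicit false
set_option linter.unusedSectionVars false
set_option linter.unusedVariables false

namespace Cfsg.Agent.Lib.Helper32.SLMD.SL2Schur

open Matrix Cfsg.Agent.Lib.Helper41 Cfsg.Agent.Lib.Helper39 Module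

variable {F : Type*} [Field F]

theorem borelEl_conj_upperU (s : Fˣ) (a : F) :
    borelEl s 0 * upperU a * (borelEl s 0)⁻¹ = upperU ((s : F) ^ 2 * a) := by
  have h := upperU_mul_borelEl s ((s : F) ^ 2 * a)
  have h2 : ((s⁻¹ : Fˣ) : F) ^ 2 * ((s : F) ^ 2 * a) = a := by
    rw [← mul_assoc, ← mul_pow, Units.inv_mul, one_pow, one_mul]
  rw [h2] at h
  rw [← h, mul_inv_cancel_right]

theorem borel_conj_uSHom (p : Matrix.SpecialLinearGroup (Fin 2) F) (hp : p ∈ borelSub F)
    (n : Multiplicative F) : ∃ n' : Multiplicative F, p * uSHom n * p⁻¹ = uSHom n' := by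
  obtain ⟨s, x, -, rfl⟩ := borelSub_decomp p hp
  refine ⟨Multiplicative.ofAdd ((s : F) ^ 2 * n.toAdd), ?_⟩
  rw [uSHom_apply, uSHom_apply, toAdd_ofAdd, ← borelEl_conj_upperU]
  have hcomm : upperU x * upperU n.toAdd * (upperU x)⁻¹ = upperU (Multiplicative.toAdd n) := by
    rw [← upperU_add, add_comm, upperU_add, mul_inv_cancel_right]
  calc borelEl s 0 * upperU x * upperU n.toAdd * (borelEl s 0 * upperU x)⁻¹
      = borelEl s 0 * (upperU x * upperU n.toAdd * (upperU x)⁻¹) * (borelEl s 0)⁻¹ := by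
        group
    _ = _ := by rw [hcomm]

theorem bruhat (g : Matrix.SpecialLinearGroup (Fin 2) F) :
    g ∈ borelSub F ∨ ∃ p₁ ∈ borelSub F, ∃ p₂ ∈ borelSub F, g = p₁ * weylW * p₂ := by
  by_cases hc : (g : Matrix (Fin 2) (Fin 2) F) 1 0 = 0
  · left; exact hc
  right
  refine ⟨upperU ((g : Matrix (Fin 2) (Fin 2) F) 0 0 / (g : Matrix (Fin 2) (Fin 2) F) 1 0),
    upperU_mem_borelSub _, borelEl (Units.mk0 _ hc) ((g : Matrix (Fin 2) (Fin 2) F) 1 1),
    borelEl_mem _ _, ?_⟩
  have hdet : (g : Matrix (Fin 2) (Fin 2) F) 0 0 * (g : Matrix (Fin 2) (Fin 2) F) 1 1 -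
      (g : Matrix (Fin 2) (Fin 2) F) 0 1 * (g : Matrix (Fin 2) (Fin 2) F) 1 0 = 1 := by
    have := g.2
    rw [Matrix.det_fin_two] at this
    exact this
  apply Cfsg.Agent.Lib.Helper5.sl2_ext
  · simp [Matrix.SpecialLinearGroup.coe_mul, coe_weylW, coe_upperU, coe_borelEl, Matrix.mul_apply,
      Fin.sum_univ_two]
    field_simp
  · simp [Matrix.SpecialLinearGroup.coe_mul, coe_weylW, coe_upperU, coe_borelEl, Matrix.mul_apply,
      Fin.sum_univ_two]
    field_simp
    linear_combination (-1 : F) * hdet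
  · simp [Matrix.SpecialLinearGroup.coe_mul, coe_weylW, coe_upperU, coe_borelEl, Matrix.mul_apply,
      Fin.sum_univ_two]
  · simp [Matrix.SpecialLinearGroup.coe_mul, coe_weylW, coe_upperU, coe_borelEl, Matrix.mul_apply,
      Fin.sum_univ_two]

end Cfsg.Agent.Lib.Helper32.SLMD.SL2Schur

namespace Cfsg.Agent.Lib.Helper32.SLMD

open Matrix Cfsg.Agent.Lib.Helper41 Cfsg.Agent.Lib.Helper39 Module
open scoped LinearAlgebra.Projectivization

variable {F : Type*} [Field F] [Fintype F] [DecidableEq F] {k : ℕ}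

section sl2

variable {V : Type*} [AddCommGroup V] [Module ℂ V] [FiniteDimensional ℂ V]

/-- [SL2-SCHUR] -/
theorem sl2_schur (R : Representation ℂ (Matrix.SpecialLinearGroup (Fin 2) F) V)
    (hR : R.IsIrreducible) :
    (finrank ℂ V : ℂ) * ((fixUS R : ℂ) + (Fintype.card F : ℂ) * ttSL2 R) =
      ((Fintype.card F : ℂ) + 1) * (fixUS R : ℂ) ^ 2 := by
  classical
  have hinj : Function.Injective (uSHom : Multiplicative F →* Matrix.SpecialLinearGroup (Fin 2) F) := by
    intro x y h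
    rw [uSHom_apply, uSHom_apply] at h
    have h1 : upperU (x.toAdd - y.toAdd) = 1 := by
      rw [sub_eq_add_neg, upperU_add, h, ← upperU_add, add_neg_cancel, upperU_zero]
    have h2 := (upperU_eq_one_iff _).mp h1
    have h3 : Multiplicative.toAdd x = Multiplicative.toAdd y := sub_eq_zero.mp h2
    exact Multiplicative.toAdd.injective h3
  have key := schur_two_term R hR (uSHom : Multiplicative F →* Matrix.SpecialLinearGroup (Fin 2) F)
    hinj (borelSub F) weylW
    (fun p hp n => SL2Schur.borel_conj_uSHom p hp n) SL2Schur.bruhat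
  -- the sum `T`
  have hT : ∑ x : Multiplicative F, ∑ y : Multiplicative F,
      R.character (weylW * uSHom x * weylW⁻¹ * uSHom y) =
      (Fintype.card F : ℂ) ^ 2 * ttSL2 R := by
    have hq : (Fintype.card F : ℂ) ^ 2 ≠ 0 := by
      apply pow_ne_zero
      exact_mod_cast Fintype.card_ne_zero
    unfold ttSL2
    rw [mul_div_cancel₀ _ hq, Finset.sum_comm]
    -- now `∑ y, ∑ x, χ(w u(x) w⁻¹ u(y)) = ∑ a, ∑ b, χ(lowerU b * upperU a)`
    refine Fintype.sum_equiv (Multiplicative.toAdd) _ _ (fun y => ?_)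
    refine Fintype.sum_equiv ((Multiplicative.toAdd).trans (Equiv.neg F)) _ _ (fun x => ?_)
    have h1 : weylW * uSHom x * weylW⁻¹ = lowerU (-(Multiplicative.toAdd x)) := by
      rw [← lowerU_conj, neg_neg, uSHom_apply]
    rw [h1, uSHom_apply]
    rfl
  have hc : (finrank ℂ ↥(eigenSub R (uSHom (F := F)) 1) : ℂ) = (fixUS R : ℂ) := rfl
  have hN : (Fintype.card (Multiplicative F) : ℂ) = (Fintype.card F : ℂ) := by
    rw [Fintype.card_multiplicative]
  have hq2 : 2 ≤ Fintype.card F := Fintype.one_lt_card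
  have hP : (Nat.card (borelSub F) : ℂ) = ((Fintype.card F : ℂ) - 1) * (Fintype.card F : ℂ) := by
    rw [card_borelSub]
    push_cast [Nat.cast_sub (by omega : 1 ≤ Fintype.card F)]
    ring
  have hG : (Fintype.card (Matrix.SpecialLinearGroup (Fin 2) F) : ℂ) =
      ((Fintype.card F : ℂ) + 1) * (((Fintype.card F : ℂ) - 1) * (Fintype.card F : ℂ)) := by
    have h1 := Subgroup.card_mul_index (borelSub F)
    rw [index_borelSub, Nat.card_eq_fintype_card (α := Matrix.SpecialLinearGroup (Fin 2) F)] at h1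
    rw [← hP, ← h1]
    push_cast
    ring
  rw [hT, hc, hN, hP, hG] at key
  have hq0 : (Fintype.card F : ℂ) ≠ 0 := by exact_mod_cast Fintype.card_ne_zero
  have hq1 : (Fintype.card F : ℂ) - 1 ≠ 0 := by
    intro h
    have h' : (Fintype.card F : ℂ) = 1 := sub_eq_zero.mp h
    have : Fintype.card F = 1 := by exact_mod_cast h'
    omega
  have hfac : ((Fintype.card F : ℂ) - 1) * (Fintype.card F : ℂ) * (Fintype.card F : ℂ) ^ 2 ≠ 0 :=
    mul_ne_zero (mul_ne_zero hq1 hq0) (pow_ne_zero 2 hq0)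
  apply mul_left_cancel₀ hfac
  linear_combination key

end sl2

end Cfsg.Agent.Lib.Helper32.SLMD
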