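import Mathlib
import Cfsg.Agent.Lib.Helper32.SLMD.Defs2

/-!
# SLMD-[SL2-TORUS] (helper75, for helper32's project S2332), `_of` form

`sl2_torus_of`: for a representation `R` of `SL₂(F)`: `fixUS R = dim V` or `q + 2 fixUS R ≤ 2 dim V + 1`,
taking the counting lemma [G-INDEP] `eigenSub_count` (for `ν = uSHom`, `W = ⊤`) as a hypothesis.
-/

set_option autoImplicit false
set_option linter.unusedSectionVars false
set_option linter.unusedVariables false

namespace Cfsg.Agent.Lib.Helper32.SLMD.Torus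

open Matrix Cfsg.Agent.Lib.Helper41 Cfsg.Agent.Lib.Helper39 Module

universe uF uV

variable {F : Type uF} [Field F] [Fintype F] [DecidableEq F]
variable {V : Type uV} [AddCommGroup V] [Module ℂ V] [FiniteDimensional ℂ V]

/-- the character `Multiplicative F →* ℂˣ` of an additive character -/
noncomputable def lamOf (ψ : AddChar F ℂ) : Multiplicative F →* ℂˣ := ψ.toMonoidHom.toHomUnits

theorem lamOf_apply (ψ : AddChar F ℂ) (x : Multiplicative F) :
    ((lamOf ψ x : ℂˣ) : ℂ) = ψ x.toAdd := by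
  unfold lamOf
  rw [MonoidHom.coe_toHomUnits, AddChar.toMonoidHom_apply]

theorem lamOf_inv_apply (ψ : AddChar F ℂ) (x : Multiplicative F) :
    (((lamOf ψ x)⁻¹ : ℂˣ) : ℂ) = ψ (-x.toAdd) := by
  rw [Units.val_inv_eq_inv_val, lamOf_apply, AddChar.map_neg_eq_inv]

theorem lamOf_injective : Function.Injective (lamOf : AddChar F ℂ → (Multiplicative F →* ℂˣ)) := by
  intro ψ ψ' h
  apply AddChar.ext
  intro x
  have h1 := congrArg (fun l : Multiplicative F →* ℂˣ => ((l (Multiplicative.ofAdd x) : ℂˣ) : ℂ)) h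
  simpa [lamOf_apply] using h1

theorem lamOf_one : lamOf (1 : AddChar F ℂ) = 1 := by
  apply MonoidHom.ext
  intro x
  apply Units.ext
  rw [lamOf_apply]
  simp

/-- completeness: the multiplicities of the characters of `U` add up to `dim V` -/
theorem sum_finrank_eigenSub (R : Representation ℂ (Matrix.SpecialLinearGroup (Fin 2) F) V) :
    ∑ ψ : AddChar F ℂ, finrank ℂ ↥(eigenSub R (uSHom (F := F)) (lamOf ψ)) = finrank ℂ V := by
  have hq : (Fintype.card (Multiplicative F) : ℂ) ≠ 0 := by exact_mod_cast Fintype.card_ne_zero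
  have h1 : ∑ ψ : AddChar F ℂ, ∑ x : Multiplicative F,
      (((lamOf ψ x)⁻¹ : ℂˣ) : ℂ) * R.character (uSHom x) =
      (Fintype.card (Multiplicative F) : ℂ) *
        ((∑ ψ : AddChar F ℂ, finrank ℂ ↥(eigenSub R (uSHom (F := F)) (lamOf ψ)) : ℕ) : ℂ) := by
    rw [Nat.cast_sum, Finset.mul_sum]
    exact Finset.sum_congr rfl (fun ψ _ => sum_twist_character R uSHom (lamOf ψ))
  have h2 : ∑ ψ : AddChar F ℂ, ∑ x : Multiplicative F,
      (((lamOf ψ x)⁻¹ : ℂˣ) : ℂ) * R.character (uSHom x) =
      (Fintype.card (Multiplicative F) : ℂ) * (finrank ℂ V : ℂ) := by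
    rw [Finset.sum_comm]
    have h3 : ∀ x : Multiplicative F, ∑ ψ : AddChar F ℂ,
        (((lamOf ψ x)⁻¹ : ℂˣ) : ℂ) * R.character (uSHom x) =
        (if x = 1 then (Fintype.card (Multiplicative F) : ℂ) * (finrank ℂ V : ℂ) else 0) := by
      intro x
      rw [← Finset.sum_mul]
      have h4 : ∑ ψ : AddChar F ℂ, (((lamOf ψ x)⁻¹ : ℂˣ) : ℂ) =
          ∑ ψ : AddChar F ℂ, ψ (-x.toAdd) :=
        Finset.sum_congr rfl (fun ψ _ => lamOf_inv_apply ψ x)
      rw [h4, AddChar.sum_apply_eq_ite]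
      by_cases hx : x = 1
      · subst hx
        simp [Representation.char_one]
      · have hx' : ¬ (-(Multiplicative.toAdd x) = 0) := by
          intro h0
          apply hx
          have : Multiplicative.toAdd x = 0 := neg_eq_zero.mp h0
          exact this
        rw [if_neg hx', if_neg hx, zero_mul]
    rw [Finset.sum_congr rfl (fun x _ => h3 x), Finset.sum_ite_eq' Finset.univ (1 : Multiplicative F)]
    simp
  have h5 := h1.symm.trans h2
  have h6 := mul_left_cancel₀ hq h5
  exact_mod_cast h6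

/-- if not every vector is `U`-fixed, some non-trivial character of `U` occurs -/
theorem exists_ne_one_eigen (R : Representation ℂ (Matrix.SpecialLinearGroup (Fin 2) F) V)
    (hne : fixUS R ≠ finrank ℂ V) :
    ∃ lam : Multiplicative F →* ℂˣ, lam ≠ 1 ∧ ∃ v ∈ eigenSub R (uSHom (F := F)) lam, v ≠ 0 := by
  classical
  by_contra hcon
  apply hne
  have hzero : ∀ ψ : AddChar F ℂ, ψ ≠ 1 →
      finrank ℂ ↥(eigenSub R (uSHom (F := F)) (lamOf ψ)) = 0 := by
    intro ψ hψ
    by_contra h0
    have hpos : 0 < finrank ℂ ↥(eigenSub R (uSHom (F := F)) (lamOf ψ)) := Nat.pos_of_ne_zero h0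
    obtain ⟨⟨v, hv⟩, hv0⟩ := Module.finrank_pos_iff_exists_ne_zero.mp hpos
    apply hcon
    refine ⟨lamOf ψ, ?_, v, hv, ?_⟩
    · intro h1
      apply hψ
      apply lamOf_injective
      rw [h1, lamOf_one]
    · intro h0'
      apply hv0
      exact Subtype.ext h0'
  have hsum := sum_finrank_eigenSub R
  rw [← Finset.sum_erase_add Finset.univ _ (Finset.mem_univ (1 : AddChar F ℂ)),
    Finset.sum_eq_zero (fun ψ hψ => hzero ψ (Finset.ne_of_mem_erase hψ)), zero_add, lamOf_one] at hsum
  exact hsum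

theorem scaleChar_ne_one' (ψ : Multiplicative F →* ℂˣ) (hψ : ψ ≠ 1) (t : F) (ht : t ≠ 0) :
    scaleChar ψ t ≠ 1 := by
  intro h
  apply hψ
  apply MonoidHom.ext
  intro b
  have h1 := congrArg (fun l : Multiplicative F →* ℂˣ => l (Multiplicative.ofAdd (t⁻¹ * b.toAdd))) h
  simp only [scaleChar_apply, toAdd_ofAdd, MonoidHom.one_apply] at h1
  rw [← mul_assoc, mul_inv_cancel₀ ht, one_mul] at h1
  rw [MonoidHom.one_apply, ← h1]
  rfl

theorem scaleChar_injective' (ψ : Multiplicative F →* ℂˣ) (hψ : ψ ≠ 1) :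
    Function.Injective (scaleChar ψ) := by
  intro t t' h
  by_contra hne
  have hsub : t - t' ≠ 0 := sub_ne_zero.mpr hne
  apply scaleChar_ne_one' ψ hψ (t - t') hsub
  apply MonoidHom.ext
  intro a
  have h1 := congrArg (fun l : Multiplicative F →* ℂˣ => l a) h
  simp only [scaleChar_apply] at h1
  rw [scaleChar_apply, MonoidHom.one_apply, sub_mul, sub_eq_add_neg, ofAdd_add, map_mul, ofAdd_neg,
    map_inv, h1, mul_inv_cancel]

/-- torus transport of eigenvectors -/
theorem torus_eigen (R : Representation ℂ (Matrix.SpecialLinearGroup (Fin 2) F) V)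
    (ψ : Multiplicative F →* ℂˣ) {v : V} (hv : v ∈ eigenSub R (uSHom (F := F)) ψ) (hv0 : v ≠ 0)
    (t : Fˣ) :
    ∃ w ∈ eigenSub R (uSHom (F := F)) (scaleChar ψ ((t : F) ^ 2)), w ≠ 0 := by
  refine ⟨R (borelEl t⁻¹ 0) v, ?_, ?_⟩
  · refine conj_eigenSub R uSHom uSHom (borelEl t⁻¹ 0)
      (fun n' => Multiplicative.ofAdd ((t : F) ^ 2 * n'.toAdd)) ?_ ψ (scaleChar ψ ((t : F) ^ 2))
      (fun n' => rfl) hv
    intro n'
    rw [uSHom_apply, uSHom_apply, toAdd_ofAdd, mul_assoc, upperU_mul_borelEl, ← mul_assoc,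
      inv_mul_cancel, one_mul, inv_inv]
  · intro h0
    apply hv0
    have h1 : R (borelEl t 0) (R (borelEl t⁻¹ 0) v) = v := by
      rw [← Module.End.mul_apply, ← map_mul, borelEl_mul_borelEl, mul_inv_cancel, borelEl_one,
        map_one, Module.End.one_apply]
    rw [← h1, h0, map_zero]

/-- the set of squares of units -/
noncomputable def sqSet (F : Type uF) [Field F] [Fintype F] [DecidableEq F] : Finset Fˣ :=
  Finset.univ.image (fun t : Fˣ => t ^ 2)

theorem card_sqSet : Fintype.card F ≤ 2 * (sqSet F).card + 1 := by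
  classical
  have h1 : (Finset.univ : Finset Fˣ).card ≤ 2 * (sqSet F).card := by
    apply Finset.card_le_mul_card_image
    intro b hb
    obtain ⟨u, -, rfl⟩ := Finset.mem_image.mp hb
    refine le_trans (Finset.card_le_card ?_) (Finset.card_le_two (a := u) (b := -u))
    intro t ht
    rw [Finset.mem_filter] at ht
    have h2 : t ^ 2 = u ^ 2 := ht.2
    rw [Finset.mem_insert, Finset.mem_singleton]
    have h3 : ((t : F)) ^ 2 = (u : F) ^ 2 := by
      have := congrArg (fun x : Fˣ => (x : F)) h2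
      simpa using this
    rcases sq_eq_sq_iff_eq_or_eq_neg.mp h3 with h4 | h4
    · left; exact Units.ext h4
    · right; apply Units.ext; rw [h4]; simp
  rw [Finset.card_univ, Fintype.card_units] at h1
  have hpos : 0 < Fintype.card F := Fintype.card_pos
  omega

theorem main_of (R : Representation ℂ (Matrix.SpecialLinearGroup (Fin 2) F) V)
    (hcount : ∀ (lam : Option {s : Fˣ // s ∈ sqSet F} → (Multiplicative F →* ℂˣ)),
      Function.Injective lam →
      ∑ i, finrank ℂ ↥((⊤ : Submodule ℂ V) ⊓ eigenSub R (uSHom (F := F)) (lam i)) ≤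
        finrank ℂ ↥(⊤ : Submodule ℂ V)) :
    fixUS R = finrank ℂ V ∨ Fintype.card F + 2 * fixUS R ≤ 2 * finrank ℂ V + 1 := by
  classical
  by_cases hne : fixUS R = finrank ℂ V
  · left; exact hne
  right
  obtain ⟨ψ, hψ, v, hv, hv0⟩ := exists_ne_one_eigen R hne
  let lam : Option {s : Fˣ // s ∈ sqSet F} → (Multiplicative F →* ℂˣ) := fun i =>
    match i with
    | none => 1
    | some s => scaleChar ψ ((s.1 : Fˣ) : F)
  have hinj : Function.Injective lam := by
    intro i j hij
    match i, j with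
    | none, none => rfl
    | none, some s =>
      exact absurd hij.symm (scaleChar_ne_one' ψ hψ _ s.1.ne_zero)
    | some s, none =>
      exact absurd hij (scaleChar_ne_one' ψ hψ _ s.1.ne_zero)
    | some s, some s' =>
      have h1 : ((s.1 : Fˣ) : F) = ((s'.1 : Fˣ) : F) := scaleChar_injective' ψ hψ hij
      have h2 : s.1 = s'.1 := Units.ext h1
      rw [Subtype.ext h2]
  have h := hcount lam hinj
  rw [Fintype.sum_option, finrank_top] at h
  have hnone : finrank ℂ ↥((⊤ : Submodule ℂ V) ⊓ eigenSub R (uSHom (F := F)) (lam none)) =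
      fixUS R := by
    rw [top_inf_eq]
    rfl
  have hsome : ∀ s : {s : Fˣ // s ∈ sqSet F},
      1 ≤ finrank ℂ ↥((⊤ : Submodule ℂ V) ⊓ eigenSub R (uSHom (F := F)) (lam (some s))) := by
    intro s
    rw [top_inf_eq]
    obtain ⟨t, -, ht⟩ := Finset.mem_image.mp s.2
    obtain ⟨w, hw, hw0⟩ := torus_eigen R ψ hv hv0 t
    have hst : ((s.1 : Fˣ) : F) = (t : F) ^ 2 := by
      rw [← ht]; simp
    show 0 < finrank ℂ ↥(eigenSub R (uSHom (F := F)) (scaleChar ψ ((s.1 : Fˣ) : F)))
    rw [Module.finrank_pos_iff_exists_ne_zero]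
    refine ⟨⟨w, ?_⟩, ?_⟩
    · rw [hst]; exact hw
    · intro h0
      exact hw0 (congrArg Subtype.val h0)
  have hsum : (sqSet F).card ≤
      ∑ s : {s : Fˣ // s ∈ sqSet F},
        finrank ℂ ↥((⊤ : Submodule ℂ V) ⊓ eigenSub R (uSHom (F := F)) (lam (some s))) := by
    calc (sqSet F).card = ∑ _s : {s : Fˣ // s ∈ sqSet F}, 1 := by
          rw [Finset.sum_const, Finset.card_univ, Fintype.card_coe, smul_eq_mul, mul_one]
      _ ≤ _ := Finset.sum_le_sum (fun s _ => hsome s)
  rw [hnone] at h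
  have hc := card_sqSet (F := F)
  omega

end Cfsg.Agent.Lib.Helper32.SLMD.Torus
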