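import Mathlib
import Cfsg.Agent.Lib.Helper32.SLMD.Defs2
import Cfsg.Agent.Lib.Helper95.SlmdGIndep
import Cfsg.Agent.Lib.Helper75.SlmdSL2TorusOf

/-!
# SLMD-[SL2-TORUS] (helper75, for helper32's project S2332): `sl2_torus`, exact Skel statement
-/

set_option autoImplicit false
set_option linter.unusedSectionVars false
set_option linter.unusedVariables false

namespace Cfsg.Agent.Lib.Helper32.SLMD

open Matrix Cfsg.Agent.Lib.Helper41 Cfsg.Agent.Lib.Helper39 Module
open scoped LinearAlgebra.Projectivization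

variable {F : Type*} [Field F] [Fintype F] [DecidableEq F] {k : ℕ}

section sl2

variable {V : Type*} [AddCommGroup V] [Module ℂ V] [FiniteDimensional ℂ V]

/-- [SL2-TORUS] -/
theorem sl2_torus (R : Representation ℂ (Matrix.SpecialLinearGroup (Fin 2) F) V) :
    fixUS R = finrank ℂ V ∨ Fintype.card F + 2 * fixUS R ≤ 2 * finrank ℂ V + 1 :=
  Torus.main_of R (fun lam hinj => eigenSub_count R uSHom ⊤ lam hinj)

end sl2

end Cfsg.Agent.Lib.Helper32.SLMD
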