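import Mathlib
import Cfsg.Agent.Lib.Helper41.PIM.Defs

/-!
# PIM-[SING] (helper41's project PIM = S4427), formalized by helper75

`sumOn_sing_idem`: for a commutative ring `k` of characteristic `p` and an idempotent `ε` of `k[G]`,
the coefficients of `ε` over the `p`-singular elements sum to `0`.

Reusable pieces:
* `sum_support_eq_zero`: weighted orbit counting for a permutation of order dividing `p`;
* `trace_sum_pow`: Frobenius for trace forms, `τ ((∑ aᵢ)ᵖ) = ∑ τ (aᵢᵖ)` when `τ (xy) = τ (yx)`
  and `p` kills the target (rotation of `p`-tuples);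
* `sumOn_pow_char`, `sumOn_pow_char_pow`: `sumOn T (a ^ p ^ n) = (sumOn {y | y ^ p ^ n ∈ T} a) ^ p ^ n`
  for conjugation-invariant `T`;
* `sumOn_mul_expand`, `sumOn_mul_comm''`, `sumOn_single'`, `sumOnHom`.
-/
set_option autoImplicit false

namespace Cfsg.Agent.Lib.Helper75.PIM

open Cfsg Cfsg.Agent.Lib.Helper41.PIM Finset

universe u

/-- `p ∣ |support σ|` when `σ ^ p = 1`. -/
theorem dvd_card_support {α : Type*} [Fintype α] [DecidableEq α] (p : ℕ) [hp : Fact p.Prime]
    (σ : Equiv.Perm α) (hσ : σ ^ p = 1) : p ∣ σ.support.card := by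
  have h := Equiv.Perm.card_compl_support_modEq (p := p) (n := 1) (σ := σ) (by simpa using hσ)
  have h2 := (Nat.modEq_iff_dvd' (Finset.card_le_univ _)).1 h
  rwa [Finset.card_compl, Nat.sub_sub_self (Finset.card_le_univ _)] at h2

/-- weighted orbit counting: an invariant weight sums to zero over the moved points. -/
theorem sum_support_eq_zero {α k : Type*} [Fintype α] [DecidableEq α] [AddCommMonoid k]
    (p : ℕ) [hp : Fact p.Prime] (hk : ∀ c : k, p • c = 0) (σ : Equiv.Perm α) (hσ : σ ^ p = 1)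
    (f : α → k) (hf : ∀ x, f (σ x) = f x) :
    ∑ x ∈ σ.support, f x = 0 := by
  classical
  have key : ∀ c : k, p ∣ (σ.support.filter (fun x => f x = c)).card := by
    intro c
    have hinv : ∀ x, f (σ x) = c ↔ f x = c := fun x => by rw [hf]
    set τ : Equiv.Perm α := Equiv.Perm.ofSubtype (σ.subtypePerm (p := fun x => f x = c) hinv) with hτ
    have hτp : τ ^ p = 1 := by
      rw [hτ, ← map_pow, Equiv.Perm.subtypePerm_pow]
      have : ∀ h, (σ ^ p).subtypePerm (p := fun x => f x = c) h = 1 := by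
        rw [hσ]; intro h; exact Equiv.Perm.subtypePerm_one _ _
      rw [this, map_one]
    have hsupp : τ.support = σ.support.filter (fun x => f x = c) := by
      ext x
      simp only [Equiv.Perm.mem_support, Finset.mem_filter]
      by_cases hx : f x = c
      · rw [hτ, Equiv.Perm.ofSubtype_apply_of_mem (p := fun x => f x = c) _ hx]
        simp [hx]
      · rw [hτ, Equiv.Perm.ofSubtype_apply_of_not_mem (p := fun x => f x = c) _ hx]
        simp [hx]
    rw [← hsupp]
    exact dvd_card_support p τ hτp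
  have := Finset.sum_comp (s := σ.support) (fun c : k => c) f
  rw [this]
  refine Finset.sum_eq_zero fun c _ => ?_
  obtain ⟨m, hm⟩ := key c
  rw [hm, mul_comm, mul_smul, hk, smul_zero]

theorem sum_pow_eq_sum_tuples {A I : Type*} [Semiring A] [Fintype I] (a : I → A) (n : ℕ) :
    (∑ i, a i) ^ n = ∑ w : Fin n → I, (List.ofFn fun j => a (w j)).prod := by
  induction n with
  | zero => simp
  | succ n ih =>
    rw [pow_succ', ih, Finset.sum_mul_sum, ← Fintype.sum_prod_type']
    refine Fintype.sum_equiv (Fin.consEquiv (fun _ => I)) _ _ ?_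
    rintro ⟨i, w⟩
    simp [List.ofFn_succ, Fin.consEquiv]

/-- rotation of tuples -/
def rot (n : ℕ) (I : Type*) : Equiv.Perm (Fin (n + 1) → I) where
  toFun w := fun j => w (j + 1)
  invFun w := fun j => w (j - 1)
  left_inv w := by funext j; simp
  right_inv w := by funext j; simp

theorem rot_pow_apply (n : ℕ) (I : Type*) (m : ℕ) (w : Fin (n + 1) → I) (j : Fin (n + 1)) :
    ((rot n I) ^ m) w j = w (j + m • 1) := by
  induction m generalizing w j with
  | zero => simp
  | succ m ih =>
    rw [pow_succ, Equiv.Perm.mul_apply, ih]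
    show w (j + m • 1 + 1) = _
    rw [succ_nsmul, add_assoc]

theorem rot_pow_card (n : ℕ) (I : Type*) : (rot n I) ^ (n + 1) = 1 := by
  ext w j
  rw [rot_pow_apply]
  have : (n + 1) • (1 : Fin (n + 1)) = 0 := by
    have := card_nsmul_eq_zero (G := Fin (n + 1)) (x := 1)
    simpa using this
  rw [this, add_zero]; rfl

theorem rot_fixed_iff (n : ℕ) (I : Type*) (w : Fin (n + 1) → I) :
    rot n I w = w ↔ ∀ j, w j = w 0 := by
  constructor
  · intro h j
    have h' : ∀ j, w (j + 1) = w j := fun j => congrFun h j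
    induction j using Fin.induction with
    | zero => rfl
    | succ i ih => rw [← Fin.coeSucc_eq_succ, h', ih]
  · intro h
    funext j
    show w (j + 1) = w j
    rw [h, h j]

theorem trace_prod_rot {A k : Type*} [Semiring A] [AddCommMonoid k] (τ : A →+ k)
    (hτ : ∀ x y, τ (x * y) = τ (y * x)) (n : ℕ) (b : Fin (n + 1) → A) :
    τ (List.ofFn fun j => b (j + 1)).prod = τ (List.ofFn b).prod := by
  rw [List.ofFn_succ' (fun j => b (j + 1)), List.ofFn_succ (f := b)]
  simp only [Fin.coeSucc_eq_succ, Fin.last_add_one, List.concat_eq_append, List.prod_append,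
    List.prod_cons, List.prod_nil, mul_one]
  exact hτ _ _

/-- **Frobenius for trace forms**: if `τ (x y) = τ (y x)` and `p` kills the target, then
`τ ((∑ aᵢ)ᵖ) = ∑ τ (aᵢᵖ)`. -/
theorem trace_sum_pow {A k I : Type*} [Semiring A] [AddCommMonoid k] [Fintype I]
    (p : ℕ) [hp : Fact p.Prime] (hk : ∀ c : k, p • c = 0) (τ : A →+ k)
    (hτ : ∀ x y, τ (x * y) = τ (y * x)) (a : I → A) :
    τ ((∑ i, a i) ^ p) = ∑ i, τ (a i ^ p) := by
  classical
  obtain ⟨n, rfl⟩ := Nat.exists_eq_succ_of_ne_zero hp.out.ne_zero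
  rw [sum_pow_eq_sum_tuples, map_sum]
  set F : (Fin (n + 1) → I) → k := fun w => τ (List.ofFn fun j => a (w j)).prod with hF
  have hinv : ∀ w, F (rot n I w) = F w := fun w =>
    trace_prod_rot τ hτ n (fun j => a (w j))
  have h0 := sum_support_eq_zero (n + 1) hk (rot n I) (rot_pow_card n I) F hinv
  rw [← Finset.sum_add_sum_compl (rot n I).support F, h0, zero_add]
  symm
  refine Finset.sum_bij (fun i _ => fun _ => i) ?_ ?_ ?_ ?_
  · intro i _
    rw [Finset.mem_compl, Equiv.Perm.mem_support, not_not, rot_fixed_iff]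
    intro j; rfl
  · intro i _ i' _ h
    exact congrFun h 0
  · intro w hw
    rw [Finset.mem_compl, Equiv.Perm.mem_support, not_not, rot_fixed_iff] at hw
    exact ⟨w 0, Finset.mem_univ _, by funext j; exact (hw j).symm⟩
  · intro i _
    simp only [hF, List.ofFn_const, List.prod_replicate]

variable {G : Type u} [Group G] [Fintype G]

theorem sumOn_zero' {R : Type*} [Semiring R] (T : Set G) :
    sumOn T (0 : MonoidAlgebra R G) = 0 := by
  simp [sumOn]

theorem sumOn_add' {R : Type*} [Semiring R] (T : Set G) (x y : MonoidAlgebra R G) :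
    sumOn T (x + y) = sumOn T x + sumOn T y := by
  classical
  unfold sumOn
  rw [← Finset.sum_add_distrib]
  refine Finset.sum_congr rfl fun g _ => ?_
  rw [MonoidAlgebra.coeff_add, Finsupp.add_apply]
  split_ifs <;> simp

/-- `sumOn T` as an additive map -/
noncomputable def sumOnHom {R : Type*} [Semiring R] (T : Set G) : MonoidAlgebra R G →+ R where
  toFun := sumOn T
  map_zero' := sumOn_zero' T
  map_add' := sumOn_add' T

theorem sumOnHom_apply {R : Type*} [Semiring R] (T : Set G) (x : MonoidAlgebra R G) :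
    sumOnHom T x = sumOn T x := rfl

omit [Group G] in
theorem sumOn_single' {R : Type*} [Semiring R] (T : Set G) [DecidablePred (· ∈ T)] (g : G) (c : R) :
    sumOn T (MonoidAlgebra.single g c) = if g ∈ T then c else 0 := by
  classical
  unfold sumOn
  rw [Finset.sum_eq_single g]
  · simp only [MonoidAlgebra.coeff_single, Finsupp.single_eq_same]
    split_ifs <;> rfl
  · intro h _ hne
    simp only [MonoidAlgebra.coeff_single, Finsupp.single_eq_of_ne hne, ite_self]
  · intro h; exact absurd (Finset.mem_univ _) h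

theorem sumOn_mul_expand {R : Type*} [Semiring R] (T : Set G) (x y : MonoidAlgebra R G) :
    sumOn T (x * y) =
      ∑ h : G, ∑ t : G, (open Classical in if h * t ∈ T then x.coeff h * y.coeff t else 0) := by
  classical
  unfold sumOn
  have h1 : ∀ g : G, (x * y).coeff g = ∑ h : G, x.coeff h * y.coeff (h⁻¹ * g) := by
    intro g
    rw [MonoidAlgebra.coeff_mul_apply_left, Finsupp.sum_fintype]
    intro i; simp
  simp_rw [h1]
  have h2 : ∀ g : G, (if g ∈ T then ∑ h : G, x.coeff h * y.coeff (h⁻¹ * g) else 0) =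
      ∑ h : G, if g ∈ T then x.coeff h * y.coeff (h⁻¹ * g) else 0 := by
    intro g; split_ifs <;> simp
  simp_rw [h2]
  rw [Finset.sum_comm]
  refine Finset.sum_congr rfl fun h _ => ?_
  symm
  refine Fintype.sum_equiv (Equiv.mulLeft h) _ _ ?_
  intro t
  simp only [Equiv.coe_mulLeft, inv_mul_cancel_left]

theorem sumOn_mul_comm'' {R : Type*} [CommSemiring R] (T : Set G)
    (hT : ∀ g h : G, g ∈ T → h * g * h⁻¹ ∈ T) (x y : MonoidAlgebra R G) :
    sumOn T (x * y) = sumOn T (y * x) := by
  classical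
  rw [sumOn_mul_expand, sumOn_mul_expand, Finset.sum_comm]
  refine Finset.sum_congr rfl fun t _ => Finset.sum_congr rfl fun h _ => ?_
  have hiff : h * t ∈ T ↔ t * h ∈ T := by
    constructor
    · intro hh
      have := hT _ t hh
      simpa [mul_assoc] using this
    · intro hh
      have := hT _ h hh
      simpa [mul_assoc] using this
  by_cases hh : h * t ∈ T
  · rw [if_pos hh, if_pos (hiff.1 hh), mul_comm]
  · rw [if_neg hh, if_neg (fun h' => hh (hiff.2 h'))]

theorem sumOn_pow_char {k : Type*} [CommRing k] (p : ℕ) [hp : Fact p.Prime] [CharP k p]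
    (T : Set G) (hT : ∀ g h : G, g ∈ T → h * g * h⁻¹ ∈ T) (a : MonoidAlgebra k G) :
    sumOn T (a ^ p) = (sumOn {y : G | y ^ p ∈ T} a) ^ p := by
  classical
  have hk : ∀ c : k, p • c = 0 := fun c => by
    rw [nsmul_eq_mul, CharP.cast_eq_zero k p, zero_mul]
  have ha : a = ∑ g : G, MonoidAlgebra.single g (a.coeff g) := by
    conv_lhs => rw [← MonoidAlgebra.sum_coeff_single a]
    rw [Finsupp.sum_fintype]
    intro i; simp
  have h1 := trace_sum_pow p hk (sumOnHom T) (sumOn_mul_comm'' T hT)
    (fun g : G => MonoidAlgebra.single g (a.coeff g))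
  rw [← ha] at h1
  rw [← sumOnHom_apply, h1]
  simp only [sumOnHom_apply, MonoidAlgebra.single_pow, sumOn_single']
  unfold sumOn
  rw [sum_pow_char]
  refine Finset.sum_congr rfl fun g _ => ?_
  by_cases hg : g ^ p ∈ T
  · rw [if_pos hg, if_pos (show g ∈ {y : G | y ^ p ∈ T} from hg)]
  · rw [if_neg hg, if_neg (show ¬ g ∈ {y : G | y ^ p ∈ T} from hg), zero_pow hp.out.ne_zero]

theorem sumOn_pow_char_pow {k : Type*} [CommRing k] (p : ℕ) [hp : Fact p.Prime] [CharP k p]
    (n : ℕ) (T : Set G) (hT : ∀ g h : G, g ∈ T → h * g * h⁻¹ ∈ T) (a : MonoidAlgebra k G) :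
    sumOn T (a ^ p ^ n) = (sumOn {y : G | y ^ p ^ n ∈ T} a) ^ p ^ n := by
  induction n generalizing T a with
  | zero => simp
  | succ n ih =>
    have hT' : ∀ g h : G, g ∈ {y : G | y ^ p ^ n ∈ T} → h * g * h⁻¹ ∈ {y : G | y ^ p ^ n ∈ T} := by
      intro g h hg
      show (h * g * h⁻¹) ^ p ^ n ∈ T
      rw [conj_pow]
      exact hT _ h hg
    rw [pow_succ', pow_mul, ih T hT (a ^ p), sumOn_pow_char p _ hT' a, ← pow_mul]
    congr 2
    ext y
    show (y ^ p) ^ p ^ n ∈ T ↔ y ^ (p * p ^ n) ∈ T
    rw [pow_mul]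

theorem not_dvd_orderOf_pow_card (p : ℕ) [hp : Fact p.Prime] (y : G) :
    ¬ p ∣ orderOf (y ^ p ^ Fintype.card G) := by
  obtain ⟨a, m, hm, ho⟩ := Nat.exists_eq_pow_mul_and_not_dvd (orderOf_pos y).ne' p hp.out.ne_one
  have ha : a ≤ Fintype.card G := by
    have h1 : p ^ a ≤ orderOf y := Nat.le_of_dvd (orderOf_pos y) ⟨m, ho⟩
    have h2 : a < p ^ a := Nat.lt_pow_self hp.out.one_lt
    have h3 : orderOf y ≤ Fintype.card G := orderOf_le_card_univ
    omega
  have h1 : (y ^ p ^ Fintype.card G) ^ m = 1 := by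
    rw [← pow_mul]
    obtain ⟨d, hd⟩ := Nat.exists_eq_add_of_le ha
    rw [hd, pow_add, mul_right_comm, ← ho, pow_mul, pow_orderOf_eq_one, one_pow]
  intro hdvd
  exact hm (hdvd.trans (orderOf_dvd_of_pow_eq_one h1))

omit [Fintype G] in
theorem singSet_conj (p : ℕ) (g h : G) (hg : g ∈ singSet p G) : h * g * h⁻¹ ∈ singSet p G := by
  show p ∣ orderOf (h * g * h⁻¹)
  have : orderOf (h * g * h⁻¹) = orderOf g := by
    have := orderOf_injective (MulAut.conj h).toMonoidHom (MulAut.conj h).injective g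
    simpa using this
  rw [this]; exact hg

/-- **PIM-[SING]**: the coefficients of an idempotent of `k[G]` (`char k = p`) sum to zero over
the `p`-singular elements. -/
theorem sumOn_sing_idem {k : Type*} [CommRing k] (p : ℕ) [Fact p.Prime] [CharP k p]
    (ε : MonoidAlgebra k G) (hε : ε * ε = ε) : sumOn (singSet p G) ε = 0 := by
  classical
  have hp : p.Prime := Fact.out
  have hpos : p ^ Fintype.card G ≠ 0 := pow_ne_zero _ hp.ne_zero
  obtain ⟨N, hN⟩ := Nat.exists_eq_succ_of_ne_zero hpos
  have hid : ε ^ p ^ Fintype.card G = ε := by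
    rw [hN]; exact IsIdempotentElem.pow_succ_eq N hε
  have h := sumOn_pow_char_pow p (Fintype.card G) (singSet p G) (singSet_conj p) ε
  rw [hid] at h
  rw [h]
  have hempty : sumOn {y : G | y ^ p ^ Fintype.card G ∈ singSet p G} ε = 0 := by
    unfold sumOn
    refine Finset.sum_eq_zero fun g _ => ?_
    rw [if_neg]
    exact not_dvd_orderOf_pow_card p g
  rw [hempty, zero_pow hpos]

end Cfsg.Agent.Lib.Helper75.PIM
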