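import Mathlib
import Cfsg.Prelude.Def_Characters
import Cfsg.Agent.Lib.Helper75.Clifford
import Cfsg.Agent.Lib.Helper15.Isaacs1132
import Cfsg.Agent.Lib.Helper80.CharBasic
import Cfsg.Agent.Lib.Helper78.CharValues
import Cfsg.Agent.Lib.Helper78.CharMore
import Cfsg.Agent.Lib.Helper78.BlockSums

set_option autoImplicit false

/-!
# S0889 module [QP-END] (helper75)

`G = H K`, `H ∩ K = N`, `χ = ψ^G` irreducible with `χ|_K = a θ` and `χ|_N = e φ₀`: then
`θ(1)² = |K : N| φ(1)²` for the irreducible constituent `φ` of `ψ|_N`.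
-/

namespace Cfsg.Agent.Lib.Helper75.Berger

open Cfsg Cfsg.Agent.Lib.Helper78
open scoped ComplexConjugate

universe u

section Char

variable {G : Type u} [Group G] [Fintype G]

/-- If `ψ` is an irreducible constituent of multiplicity one... more generally any constituent of
the character `Ξ` of `H`, then the multiplicities of `ψ|_N` are bounded by those of `Ξ|_N`: if an
irreducible `φ'` of `N` does not occur in `Ξ|_N`, it does not occur in `ψ|_N`. -/
theorem classInner_res_eq_zero_of_constituent {H N : Type u} [Group H] [Fintype H] [Group N]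
    [Fintype N] (f : N →* H) {Ξ ψ : H → ℂ} (hΞ : IsCharacter H Ξ) (hψ : IsIrrCharacter H ψ)
    (hc : classInner Ξ ψ ≠ 0) {φ' : N → ℂ} (hφ' : IsIrrCharacter N φ')
    (h0 : classInner (fun n : N => Ξ (f n)) φ' = 0) :
    classInner (fun n : N => ψ (f n)) φ' = 0 := by
  classical
  obtain ⟨m, hm⟩ := (isCharacter_iff_exists_nat_combination Ξ).mp hΞ
  have hmψ : (m ⟨ψ, hψ⟩ : ℂ) = classInner Ξ ψ := by
    have h1 := classInner_nat_combination (fun ξ => (m ξ : ℂ)) ⟨ψ, hψ⟩
    rw [← hm] at h1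
    exact h1.symm
  have hmψ0 : m ⟨ψ, hψ⟩ ≠ 0 := by
    intro h
    rw [h, Nat.cast_zero] at hmψ
    exact hc hmψ.symm
  choose r hr using fun ξ : IrrCharacter H =>
    IsCharacter.exists_nat_classInner
      (Cfsg.Agent.Lib.Helper80.isCharacter_comp f (IsIrrCharacter.isCharacter ξ.2)) ⟨φ', hφ'⟩
  have hfun : (fun n : N => Ξ (f n)) =
      ∑ ξ : IrrCharacter H, (m ξ : ℂ) • (fun n : N => (ξ : H → ℂ) (f n)) := by
    funext n
    rw [hm]
    simp only [Finset.sum_apply, Pi.smul_apply, smul_eq_mul]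
  have hsum : classInner (fun n : N => Ξ (f n)) φ' =
      ((∑ ξ : IrrCharacter H, m ξ * r ξ : ℕ) : ℂ) := by
    rw [hfun, classInner_sum_left]
    push_cast
    apply Finset.sum_congr rfl
    intro ξ _
    rw [classInner_smul_left, hr ξ]
  rw [hsum] at h0
  have h1 : (∑ ξ : IrrCharacter H, m ξ * r ξ) = 0 := by exact_mod_cast h0
  have h2 : m ⟨ψ, hψ⟩ * r ⟨ψ, hψ⟩ = 0 :=
    Finset.sum_eq_zero_iff.mp h1 ⟨ψ, hψ⟩ (Finset.mem_univ _)
  have h3 : r ⟨ψ, hψ⟩ = 0 := by
    rcases Nat.mul_eq_zero.mp h2 with h | h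
    · exact absurd h hmψ0
    · exact h
  have h4 := hr ⟨ψ, hψ⟩
  rw [h3, Nat.cast_zero] at h4
  exact h4

/-- [QP-END] -/
theorem end_step (H K N : Subgroup G) [K.Normal] [N.Normal] [Fintype N] (hNH : N ≤ H) (hNK : N ≤ K)
    (hsup : H ⊔ K = ⊤) (hinf : H ⊓ K = N) (χ : G → ℂ) (hχ : IsIrrCharacter G χ)
    (ψ : H → ℂ) (hψ : IsIrrCharacter H ψ) (hind : indFun H ψ = χ)
    (θ : K → ℂ) (hθ : IsIrrCharacter K θ) (a : ℕ) (hχK : (fun m : K => χ m) = (a : ℂ) • θ)
    (φ₀ : N → ℂ) (hφ₀ : IsIrrCharacter N φ₀) (e : ℕ) (hχN : (fun m : N => χ m) = (e : ℂ) • φ₀)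
    (φ : N → ℂ) (hφ : IsIrrCharacter N φ)
    (hc : classInner (fun m : N => ψ ⟨m, hNH m.2⟩) φ ≠ 0) :
    (θ 1) ^ 2 = (N.relIndex K : ℂ) * (φ 1) ^ 2 := by
  classical
  have hfinH : Fintype H := Fintype.ofFinite _
  have hfinK : Fintype K := Fintype.ofFinite _
  have hχc : IsCharacter G χ := IsIrrCharacter.isCharacter hχ
  have hcf : IsClassFunction G χ := IsCharacter.isClassFunction hχc
  have hχ1 : χ 1 ≠ 0 := IsIrrCharacter.apply_one_ne_zero hχ
  -- Frobenius reciprocity
  have hfrob : classInner ψ (fun h : H => χ h) = 1 := by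
    rw [← classInner_indFun H ψ hcf, hind, classInner_irr_self hχ]
  have hfrob' : classInner (fun h : H => χ h) ψ = 1 := by
    rw [← classInner_conj_symm, hfrob, map_one]
  have hresH : IsCharacter H (fun h : H => χ h) :=
    Cfsg.Agent.Lib.Helper80.isCharacter_restrict H hχc
  -- the restriction of `ψ` to `N`
  let f : N →* H := Subgroup.inclusion hNH
  have hψN : IsCharacter N (fun n : N => ψ (f n)) :=
    Cfsg.Agent.Lib.Helper80.isCharacter_comp f (IsIrrCharacter.isCharacter hψ)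
  have hzero : ∀ φ' : N → ℂ, IsIrrCharacter N φ' → φ' ≠ φ₀ →
      classInner (fun n : N => ψ (f n)) φ' = 0 := by
    intro φ' hφ' hne
    apply classInner_res_eq_zero_of_constituent f hresH hψ (by rw [hfrob']; exact one_ne_zero) hφ'
    have h1 : (fun n : N => (fun h : H => χ h) (f n)) = (e : ℂ) • φ₀ := by
      rw [← hχN]
      rfl
    rw [h1, classInner_smul_left, classInner_irr_ne hφ₀ hφ' (Ne.symm hne), mul_zero]
  have hφeq : φ = φ₀ := by
    by_contra hne
    exact hc (hzero φ hφ hne)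
  subst hφeq
  obtain ⟨a', ha'⟩ := IsCharacter.exists_nat_classInner hψN ⟨φ, hφ⟩
  have hψNeq : (fun n : N => ψ (f n)) = (a' : ℂ) • φ := by
    have h1 := IsCharacter.eq_sum_irr hψN
    rw [Finset.sum_eq_single (⟨φ, hφ⟩ : IrrCharacter N)] at h1
    · rw [h1, ha']
    · intro φ' _ hne
      rw [hzero φ' φ'.2 (fun h => hne (Subtype.ext h)), zero_smul]
    · intro h
      exact absurd (Finset.mem_univ _) h
  -- Mackey-Frobenius
  have hMF := Cfsg.Agent.Lib.Helper15.classInner_res_indFun_of_sup_eq_top H K N hsup hinf ψ χ hcf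
  rw [hind] at hMF
  have hL : classInner (fun n : K => χ n) (fun n : K => χ n) = ((a * a : ℕ) : ℂ) := by
    rw [hχK, classInner_smul_left, classInner_smul_right, classInner_irr_self hθ, mul_one,
      Complex.conj_natCast]
    push_cast
    ring
  have hR : classInner (fun d : N => ψ ⟨d, (hinf.symm.le d.2).1⟩) (fun d : N => χ d) =
      ((a' * e : ℕ) : ℂ) := by
    have h1 : (fun d : N => ψ ⟨d, (hinf.symm.le d.2).1⟩) = (a' : ℂ) • φ := hψNeq
    rw [h1, hχN, classInner_smul_left, classInner_smul_right, classInner_irr_self hφ, mul_one,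
      Complex.conj_natCast]
    push_cast
    ring
  have haa : a * a = a' * e := by
    have h1 : ((a * a : ℕ) : ℂ) = ((a' * e : ℕ) : ℂ) := by
      rw [← hL, ← hR]
      convert hMF using 2
    exact_mod_cast h1
  -- degrees
  have hd1 : χ 1 = (a : ℂ) * θ 1 := by
    have := congrFun hχK 1
    simpa using this
  have hd2 : χ 1 = (e : ℂ) * φ 1 := by
    have := congrFun hχN 1
    simpa using this
  have hd3 : ψ 1 = (a' : ℂ) * φ 1 := by
    have := congrFun hψNeq 1
    simp only [Pi.smul_apply, smul_eq_mul, map_one] at this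
    exact this
  have hd4 : χ 1 = (H.index : ℂ) * ψ 1 := by
    rw [← hind]
    exact Cfsg.Agent.Lib.Helper75.indFun_one H ψ
  -- the index
  have hidx : H.index = N.relIndex K := by
    have h1 : K.index = N.relIndex H := by
      rw [← Subgroup.relIndex_top_right, ← hsup, Subgroup.relIndex_sup_right, ← hinf,
        Subgroup.inf_relIndex_left]
    have h2 : N.relIndex K * K.index = N.index := Subgroup.relIndex_mul_index hNK
    have h3 : N.relIndex H * H.index = N.index := Subgroup.relIndex_mul_index hNH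
    have h4 : N.relIndex H ≠ 0 := by
      unfold Subgroup.relIndex
      exact Subgroup.index_ne_zero_of_finite
    rw [h1] at h2
    have h5 : N.relIndex H * H.index = N.relIndex H * N.relIndex K := by
      rw [h3, ← h2, mul_comm]
    exact Nat.eq_of_mul_eq_mul_left (Nat.pos_of_ne_zero h4) h5
  rw [← hidx]
  -- arithmetic
  have hφ1 : φ 1 ≠ 0 := IsIrrCharacter.apply_one_ne_zero hφ
  have ha0 : (a : ℂ) ≠ 0 := by
    intro h
    rw [h, zero_mul] at hd1
    exact hχ1 hd1
  have he : (e : ℂ) = (H.index : ℂ) * (a' : ℂ) := by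
    have h1 : (e : ℂ) * φ 1 = ((H.index : ℂ) * (a' : ℂ)) * φ 1 := by
      rw [← hd2, hd4, hd3]
      ring
    exact mul_right_cancel₀ hφ1 h1
  have haaC : (a : ℂ) * (a : ℂ) = (a' : ℂ) * (e : ℂ) := by exact_mod_cast haa
  have hθ1 : θ 1 = (e : ℂ) * φ 1 / (a : ℂ) := by
    rw [eq_div_iff ha0, ← hd2, hd1]
    ring
  rw [hθ1, div_pow, div_eq_iff (pow_ne_zero 2 ha0)]
  have : (a : ℂ) ^ 2 = (a' : ℂ) * (e : ℂ) := by rw [sq]; exact haaC
  rw [this, he]
  ring

end Char

end Cfsg.Agent.Lib.Helper75.Berger
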