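import Mathlib
import Cfsg.Prelude.Def_Characters
import Cfsg.Agent.Lib.Helper75.RamDvd
import Cfsg.Agent.Lib.Helper81.IrrTwist
import Cfsg.Agent.Lib.Helper80.CharBasic
import Cfsg.Agent.Lib.Helper78.CharValues
import Cfsg.Agent.Lib.Helper78.CharMore

set_option autoImplicit false

/-!
# S0889 module [QP-ETA] (helper75)

`A ≤ B` normal in `G`, `χ ∈ Irr(G)` with `χ|_A = a η_A`, `χ|_B = a' η_B`: then `η_B(1) = b η_A(1)` with
`b ∣ |B : A|` and `b² ≤ |B : A|`.
-/

namespace Cfsg.Agent.Lib.Helper75.Berger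

open Cfsg Cfsg.Agent.Lib.Helper78
open scoped ComplexConjugate

universe u

section Char

variable {G : Type u} [Group G] [Fintype G]

/-- The norm of the restriction of an irreducible character to a subgroup is at most the index. -/
theorem norm_restrict_le (N : Subgroup G) [Fintype N] {η : G → ℂ} (hη : IsIrrCharacter G η) :
    ∃ r : ℝ, classInner (fun n : N => η n) (fun n : N => η n) = (r : ℂ) ∧ r ≤ (N.index : ℝ) := by
  classical
  refine ⟨(Nat.card N : ℝ)⁻¹ * ∑ n : N, Complex.normSq (η n), ?_, ?_⟩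
  · unfold classInner
    push_cast
    congr 1
    apply Finset.sum_congr rfl
    intro n _
    rw [Complex.mul_conj]
  · have h1 := classInner_irr_self hη
    unfold classInner at h1
    have h2 : (∑ g : G, η g * conj (η g)) = ((∑ g : G, Complex.normSq (η g) : ℝ) : ℂ) := by
      push_cast
      apply Finset.sum_congr rfl
      intro g _
      rw [Complex.mul_conj]
    rw [h2] at h1
    have hG : (0 : ℝ) < (Nat.card G : ℝ) := by exact_mod_cast Nat.card_pos
    have hN : (0 : ℝ) < (Nat.card N : ℝ) := by exact_mod_cast Nat.card_pos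
    have h3 : (∑ g : G, Complex.normSq (η g) : ℝ) = (Nat.card G : ℝ) := by
      have h4 : ((Nat.card G : ℝ)⁻¹ * (∑ g : G, Complex.normSq (η g) : ℝ) : ℝ) = 1 := by
        have : (((Nat.card G : ℝ)⁻¹ * (∑ g : G, Complex.normSq (η g) : ℝ) : ℝ) : ℂ) = ((1 : ℝ) : ℂ) := by
          push_cast
          push_cast at h1
          exact h1
        exact_mod_cast this
      field_simp at h4
      linarith
    have h5 : ∑ n : N, Complex.normSq (η n) ≤ ∑ g : G, Complex.normSq (η g) := by
      have h6 : ∑ n : N, Complex.normSq (η n) =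
          ∑ g ∈ Finset.univ.filter (fun g : G => g ∈ N), Complex.normSq (η g) := by
        rw [Finset.sum_subtype (Finset.univ.filter (fun g : G => g ∈ N)) (p := fun g => g ∈ N)
          (by simp) (fun g => Complex.normSq (η g))]
      rw [h6]
      apply Finset.sum_le_sum_of_subset_of_nonneg (Finset.filter_subset _ _)
      intro g _ _
      exact Complex.normSq_nonneg _
    rw [h3] at h5
    have h7 : (Nat.card G : ℝ) = (Nat.card N : ℝ) * (N.index : ℝ) := by
      rw [← Nat.cast_mul, Subgroup.card_mul_index]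
    rw [h7] at h5
    rw [inv_mul_le_iff₀ hN]
    exact h5

/-- [QP-ETA] -/
theorem eta_step (A B : Subgroup G) [A.Normal] [B.Normal] (hAB : A ≤ B) (χ : G → ℂ)
    (hχ : IsIrrCharacter G χ) (ηA : A → ℂ) (ηB : B → ℂ) (hA : IsIrrCharacter A ηA)
    (hB : IsIrrCharacter B ηB) (a a' : ℕ) (hχA : (fun m : A => χ m) = (a : ℂ) • ηA)
    (hχB : (fun m : B => χ m) = (a' : ℂ) • ηB) :
    ∃ b : ℕ, ηB 1 = (b : ℂ) * ηA 1 ∧ b ∣ A.relIndex B ∧ b ^ 2 ≤ A.relIndex B := by
  classical
  have hfinB : Fintype B := Fintype.ofFinite _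
  have hfinA' : Fintype ↥(A.subgroupOf B) := Fintype.ofFinite _
  have hχ1 : χ 1 ≠ 0 := IsIrrCharacter.apply_one_ne_zero hχ
  have ha' : (a' : ℂ) ≠ 0 := by
    intro h
    have := congrFun hχB 1
    simp only [Pi.smul_apply, smul_eq_mul, h, zero_mul, OneMemClass.coe_one] at this
    exact hχ1 this
  -- transport of `ηA` to `A.subgroupOf B`
  let e : ↥(A.subgroupOf B) ≃* ↥A := Subgroup.subgroupOfEquivOfLe hAB
  have he : ∀ x : ↥(A.subgroupOf B), ((e x : A) : G) = ((x : B) : G) := fun x => rfl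
  let ηA' : ↥(A.subgroupOf B) → ℂ := ηA ∘ e
  have hA' : IsIrrCharacter ↥(A.subgroupOf B) ηA' :=
    Cfsg.Agent.Lib.Helper81.isIrrCharacter_comp_mulEquiv hA e
  -- the basic relation
  have hrel : ∀ x : ↥(A.subgroupOf B), (a' : ℂ) * ηB (x : B) = (a : ℂ) * ηA' x := by
    intro x
    have h1 := congrFun hχB (x : B)
    have h2 := congrFun hχA (e x)
    simp only [Pi.smul_apply, smul_eq_mul] at h1 h2
    rw [← h1]
    show χ ((x : B) : G) = (a : ℂ) * ηA (e x)
    rw [← h2, he]
  -- the restriction of `ηB`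
  have hres : IsCharacter ↥(A.subgroupOf B) (fun x : ↥(A.subgroupOf B) => ηB (x : B)) :=
    Cfsg.Agent.Lib.Helper80.isCharacter_restrict _ (IsIrrCharacter.isCharacter hB)
  obtain ⟨b, hb⟩ := IsCharacter.exists_nat_classInner hres ⟨ηA', hA'⟩
  have hfun : (fun x : ↥(A.subgroupOf B) => ηB (x : B)) = ((a : ℂ) / (a' : ℂ)) • ηA' := by
    funext x
    simp only [Pi.smul_apply, smul_eq_mul]
    rw [div_mul_eq_mul_div, eq_div_iff ha', mul_comm]
    exact hrel x
  have hb' : ((a : ℂ) / (a' : ℂ)) = (b : ℂ) := by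
    have h1 := hb
    rw [hfun, classInner_smul_left, classInner_irr_self hA', mul_one] at h1
    exact h1
  rw [hb'] at hfun
  -- the degree
  have hdeg : ηB 1 = (b : ℂ) * ηA 1 := by
    have h1 := congrFun hfun 1
    simp only [Pi.smul_apply, smul_eq_mul, OneMemClass.coe_one] at h1
    rw [h1]
    show (b : ℂ) * ηA (e 1) = _
    rw [map_one]
  have hb0 : (b : ℂ) ≠ 0 := by
    intro h
    rw [h, zero_mul] at hdeg
    exact IsIrrCharacter.apply_one_ne_zero hB hdeg
  refine ⟨b, hdeg, ?_, ?_⟩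
  · -- divisibility
    have hnorm : (A.subgroupOf B).Normal := inferInstance
    have hinv : ∀ g : B, conjFun (A.subgroupOf B) g ηA' = ηA' := by
      intro g
      funext x
      rw [conjFun_apply]
      have h1 := congrFun hfun x
      have h2 := congrFun hfun ⟨g * x * g⁻¹, hnorm.conj_mem x x.2 g⟩
      simp only [Pi.smul_apply, smul_eq_mul] at h1 h2
      have h3 : ηB (g * (x : B) * g⁻¹) = ηB (x : B) :=
        IsCharacter.isClassFunction (IsIrrCharacter.isCharacter hB) (x : B) g
      have h4 : (b : ℂ) * ηA' ⟨g * x * g⁻¹, hnorm.conj_mem x x.2 g⟩ = (b : ℂ) * ηA' x := by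
        rw [← h1, ← h2]
        exact h3
      exact mul_left_cancel₀ hb0 h4
    have := ramification_dvd_index (A.subgroupOf B) hB hA' hinv b hfun
    exact this
  · -- the square
    obtain ⟨r, hr, hle⟩ := norm_restrict_le (A.subgroupOf B) hB
    rw [hfun, classInner_smul_left, classInner_smul_right, classInner_irr_self hA', mul_one] at hr
    have h1 : ((b ^ 2 : ℕ) : ℂ) = ((r : ℝ) : ℂ) := by
      rw [← hr]
      push_cast
      rw [Complex.conj_natCast]
      ring
    have h2 : ((b ^ 2 : ℕ) : ℝ) = r := by exact_mod_cast h1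
    have h3 : ((b ^ 2 : ℕ) : ℝ) ≤ ((A.subgroupOf B).index : ℝ) := by
      rw [h2]
      exact hle
    have h4 : b ^ 2 ≤ (A.subgroupOf B).index := by exact_mod_cast h3
    exact h4

end Char

end Cfsg.Agent.Lib.Helper75.Berger
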