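import Mathlib
import Cfsg.Prelude.Def_GeometricClasses
import Cfsg.Agent.Lib.Helper94.BHRSP.Sp4Model
import Cfsg.Agent.Lib.Helper94.BHRSP.Sp4Kit

/-!
# Project BHRSP (helper94), phase 2, leaf [3B-R0-MINUS] (helper75)

For `|F| = 3` the group `Rc P = P (Q_8 ⊗ O_2) P⁻¹` has no elementary abelian subgroup of order 8.

The elements of `R₀` are `± E i j`, `E i j = qL i ⊗ dL j` with `qL = (1, A2, B2, C2)`,
`dL = (1, J2, T2, S2)`; products of the `E i j` are computed by sign tables, and the statement "two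
commuting involutions are equal up to sign unless one of them is central" is a decidable fact about
the sign tables.
-/

set_option autoImplicit false

namespace Cfsg.Agent.Lib.Helper75.BhrSp4Minus

open Cfsg Cfsg.Geo Cfsg.Agent.Lib.Helper94.BHRSP Cfsg.Agent.Lib.Helper94.BHRSP.Sp4
open scoped MatrixGroups Matrix

variable {F : Type*} [Field F]

/-- The letters of `Q_8`. -/
def qL : Fin 4 → Matrix (Fin 2) (Fin 2) F := ![1, A2, B2, C2]
/-- The letters of `O_2`. -/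
def dL : Fin 4 → Matrix (Fin 2) (Fin 2) F := ![1, J2, T2, S2]
/-- Addition of indices (Klein four-group). -/
def xr : Fin 4 → Fin 4 → Fin 4 := ![![0, 1, 2, 3], ![1, 0, 3, 2], ![2, 3, 0, 1], ![3, 2, 1, 0]]
/-- Sign table of `Q_8` (`true` = minus). -/
def bQ : Fin 4 → Fin 4 → Bool :=
  ![![false, false, false, false], ![false, true, false, true], ![false, true, true, false],
    ![false, false, true, true]]
/-- Sign table of `O_2` (`true` = minus). -/
def bD : Fin 4 → Fin 4 → Bool :=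
  ![![false, false, false, false], ![false, true, false, true], ![false, true, false, true],
    ![false, false, false, false]]
/-- The sign of a boolean. -/
def sg (b : Bool) : F := if b then -1 else 1

theorem sg_mul (a b : Bool) : (sg a : F) * sg b = sg (xor a b) := by
  cases a <;> cases b <;> simp [sg]

theorem sg_mul_self (a : Bool) : (sg a : F) * sg a = 1 := by
  cases a <;> simp [sg]

theorem sg_ne_zero (a : Bool) : (sg a : F) ≠ 0 := by
  cases a <;> simp [sg]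

theorem qL_mul (h3 : (3 : F) = 0) (i k : Fin 4) :
    (qL i : Matrix (Fin 2) (Fin 2) F) * qL k = (sg (bQ i k) : F) • qL (xr i k) := by
  fin_cases i <;> fin_cases k <;>
    simp [qL, bQ, xr, sg, A2_mul_A2, A2_mul_B2, B2_mul_A2, B2_mul_B2 h3, C2_mul_C2 h3, B2_mul_C2 h3,
      C2_mul_B2 h3, C2_mul_A2, A2_mul_C2]

theorem dL_mul (i k : Fin 4) :
    (dL i : Matrix (Fin 2) (Fin 2) F) * dL k = (sg (bD i k) : F) • dL (xr i k) := by
  fin_cases i <;> fin_cases k <;>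
    simp [dL, bD, xr, sg, J2_mul_J2, T2_mul_T2', J2_mul_T2, T2_mul_J2', S2_mul_S2, T2_mul_S2,
      S2_mul_T2, S2_mul_J2, J2_mul_S2]

/-- The sixteen basic matrices. -/
def E (i j : Fin 4) : Matrix (Fin 2 ⊕ Fin 2) (Fin 2 ⊕ Fin 2) F := tens (qL i) (dL j)

theorem E_zero : (E 0 0 : Matrix (Fin 2 ⊕ Fin 2) (Fin 2 ⊕ Fin 2) F) = 1 := by
  unfold E
  simp [qL, dL, tens_one]

theorem E_mul (h3 : (3 : F) = 0) (i j k l : Fin 4) :
    (E i j : Matrix (Fin 2 ⊕ Fin 2) (Fin 2 ⊕ Fin 2) F) * E k l =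
      (sg (xor (bQ i k) (bD j l)) : F) • E (xr i k) (xr j l) := by
  unfold E
  rw [tens_mul, qL_mul h3, dL_mul, tens_smul_left, tens_smul_right, smul_smul, sg_mul]

theorem xr_self : ∀ i : Fin 4, xr i i = 0 := by decide

theorem xr_comm : ∀ i k : Fin 4, xr i k = xr k i := by decide

/-- The decidable heart: two commuting involutions, none central, have the same type. -/
theorem key_dec : ∀ i j k l : Fin 4, bQ i i = bD j j → bQ k k = bD l l →
    xor (bQ i k) (bD j l) = xor (bQ k i) (bD l j) →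
    (i = 0 ∧ j = 0) ∨ (k = 0 ∧ l = 0) ∨ (i = k ∧ j = l) := by decide

theorem sg_inj (h2 : (2 : F) ≠ 0) {a b : Bool} (h : (sg a : F) = sg b) : a = b := by
  cases a <;> cases b
  · rfl
  · exfalso
    simp only [sg, if_true] at h
    apply h2
    have h' : (1 : F) = -1 := by simpa using h
    linear_combination h'
  · exfalso
    simp only [sg, if_true] at h
    apply h2
    have h' : (-1 : F) = 1 := by simpa using h
    linear_combination -h'
  · rfl

theorem sg_not (a : Bool) : (sg (!a) : F) = - sg a := by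
  cases a <;> simp [sg]

theorem exists_sign_qL {M : Matrix (Fin 2) (Fin 2) F} (hM : IsQ8Mat M) :
    ∃ (a : Bool) (i : Fin 4), M = (sg a : F) • qL i := by
  unfold IsQ8Mat at hM
  rcases hM with rfl | rfl | rfl | rfl | rfl | rfl | rfl | rfl
  · exact ⟨false, 0, by simp [sg, qL]⟩
  · exact ⟨true, 0, by simp [sg, qL]⟩
  · exact ⟨false, 1, by simp [sg, qL]⟩
  · exact ⟨true, 1, by simp [sg, qL]⟩
  · exact ⟨false, 2, by simp [sg, qL]⟩
  · exact ⟨true, 2, by simp [sg, qL]⟩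
  · exact ⟨false, 3, by simp [sg, qL]⟩
  · exact ⟨true, 3, by simp [sg, qL]⟩

theorem exists_sign_dL {M : Matrix (Fin 2) (Fin 2) F} (hM : IsO2Mat M) :
    ∃ (a : Bool) (j : Fin 4), M = (sg a : F) • dL j := by
  unfold IsO2Mat at hM
  rcases hM with rfl | rfl | rfl | rfl | rfl | rfl | rfl | rfl
  · exact ⟨false, 0, by simp [sg, dL]⟩
  · exact ⟨true, 0, by simp [sg, dL]⟩
  · exact ⟨false, 1, by simp [sg, dL]⟩
  · exact ⟨true, 1, by simp [sg, dL]⟩
  · exact ⟨false, 2, by simp [sg, dL]⟩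
  · exact ⟨true, 2, by simp [sg, dL]⟩
  · exact ⟨false, 3, by simp [sg, dL]⟩
  · exact ⟨true, 3, by simp [sg, dL]⟩

/-- Every element of `Q_8 ⊗ O_2` is `± E i j`. -/
theorem exists_sign_E [Fintype F] (hq : Fintype.card F = 3) {q d : GL (Fin 2) F}
    (hq' : q ∈ (Q8 : Subgroup (GL (Fin 2) F))) (hd : d ∈ (O2 : Subgroup (GL (Fin 2) F))) :
    ∃ (a : Bool) (i j : Fin 4),
      ((tensGL q d : GL (Fin 2 ⊕ Fin 2) F) : Matrix (Fin 2 ⊕ Fin 2) (Fin 2 ⊕ Fin 2) F) =
        (sg a : F) • E i j := by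
  obtain ⟨a, i, hqi⟩ := exists_sign_qL ((mem_Q8_iff hq q).mp hq')
  obtain ⟨b, j, hdj⟩ := exists_sign_dL ((mem_O2_iff' hq d).mp hd)
  refine ⟨xor a b, i, j, ?_⟩
  rw [tensGL_val, hqi, hdj, tens_smul_left, tens_smul_right, smul_smul, sg_mul]
  rfl

theorem E_mul_self (h3 : (3 : F) = 0) (i j : Fin 4) :
    (E i j : Matrix (Fin 2 ⊕ Fin 2) (Fin 2 ⊕ Fin 2) F) * E i j =
      (sg (xor (bQ i i) (bD j j)) : F) • 1 := by
  rw [E_mul h3, xr_self, xr_self, E_zero]

theorem smul_one_apply (c : F) :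
    (c • (1 : Matrix (Fin 2 ⊕ Fin 2) (Fin 2 ⊕ Fin 2) F)) (Sum.inl 0) (Sum.inl 0) = c := by
  simp

theorem E_ne_zero (h3 : (3 : F) = 0) (i j : Fin 4) :
    (E i j : Matrix (Fin 2 ⊕ Fin 2) (Fin 2 ⊕ Fin 2) F) ≠ 0 := by
  intro h
  have h1 := E_mul_self h3 i j
  rw [h, Matrix.zero_mul] at h1
  have h2 := congrFun (congrFun h1 (Sum.inl 0)) (Sum.inl 0)
  rw [smul_one_apply] at h2
  exact sg_ne_zero _ h2.symm

/-- An involution `± E i j` has `bQ i i = bD j j`. -/
theorem invol_type (h3 : (3 : F) = 0) (h2 : (2 : F) ≠ 0) (a : Bool) (i j : Fin 4)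
    (h : ((sg a : F) • E i j) * ((sg a : F) • E i j) =
      (1 : Matrix (Fin 2 ⊕ Fin 2) (Fin 2 ⊕ Fin 2) F)) : bQ i i = bD j j := by
  rw [Matrix.smul_mul, Matrix.mul_smul, smul_smul, sg_mul_self, one_smul, E_mul_self h3] at h
  have h1 := congrFun (congrFun h (Sum.inl 0)) (Sum.inl 0)
  rw [smul_one_apply] at h1
  have h4 : xor (bQ i i) (bD j j) = false := by
    apply sg_inj h2
    rw [h1]
    simp [sg]
  revert h4
  cases bQ i i <;> cases bD j j <;> simp

/-- Two commuting elements `± E i j`, `± E k l`. -/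
theorem comm_type (h3 : (3 : F) = 0) (h2 : (2 : F) ≠ 0) (a b : Bool) (i j k l : Fin 4)
    (h : ((sg a : F) • E i j) * ((sg b : F) • E k l) =
      ((sg b : F) • E k l) * ((sg a : F) • (E i j : Matrix (Fin 2 ⊕ Fin 2) (Fin 2 ⊕ Fin 2) F))) :
    xor (bQ i k) (bD j l) = xor (bQ k i) (bD l j) := by
  rw [Matrix.smul_mul, Matrix.mul_smul, Matrix.smul_mul, Matrix.mul_smul, E_mul h3, E_mul h3,
    xr_comm k i, xr_comm l j, smul_smul, smul_smul, smul_smul, smul_smul] at h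
  have h1 : ((sg a : F) * sg b * sg (xor (bQ i k) (bD j l)) -
      sg b * sg a * sg (xor (bQ k i) (bD l j))) • E (xr i k) (xr j l) =
      (0 : Matrix (Fin 2 ⊕ Fin 2) (Fin 2 ⊕ Fin 2) F) := by
    rw [sub_smul, h, sub_self]
  rcases smul_eq_zero.mp h1 with h4 | h4
  · apply sg_inj h2
    have h5 : (sg a : F) * sg b ≠ 0 := mul_ne_zero (sg_ne_zero a) (sg_ne_zero b)
    apply mul_left_cancel₀ h5
    linear_combination h4
  · exact absurd h4 (E_ne_zero h3 _ _)

/-- Two commuting involutions of `R₀` are equal up to sign unless one of them is `± 1`. -/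
theorem key_mat (h3 : (3 : F) = 0) (h2 : (2 : F) ≠ 0) (a b : Bool) (i j k l : Fin 4)
    {X Y : Matrix (Fin 2 ⊕ Fin 2) (Fin 2 ⊕ Fin 2) F} (hX : X = (sg a : F) • E i j)
    (hY : Y = (sg b : F) • E k l) (hXX : X * X = 1) (hYY : Y * Y = 1) (hXY : X * Y = Y * X) :
    X = 1 ∨ X = -1 ∨ Y = 1 ∨ Y = -1 ∨ Y = X ∨ Y = -X := by
  subst hX
  subst hY
  have h1 := invol_type h3 h2 a i j hXX
  have h4 := invol_type h3 h2 b k l hYY
  have h5 := comm_type h3 h2 a b i j k l hXY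
  rcases key_dec i j k l h1 h4 h5 with ⟨rfl, rfl⟩ | ⟨rfl, rfl⟩ | ⟨rfl, rfl⟩
  · rw [E_zero]
    cases a
    · left; simp [sg]
    · right; left; simp [sg]
  · rw [E_zero]
    cases b
    · right; right; left; simp [sg]
    · right; right; right; left; simp [sg]
  · right; right; right; right
    by_cases hab : a = b
    · left; rw [hab]
    · right
      have : b = !a := by
        revert hab
        cases a <;> cases b <;> simp
      rw [this, sg_not, neg_smul]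

variable [Fintype F]

/-- **[3B-R0-MINUS]** `Rc P` has no elementary abelian subgroup of order 8.  (helper49 landed the same
statement a few seconds earlier as `Cfsg.Agent.Lib.Helper94.BHRSP.Sp4.isOfMinusType_Rc` in
`Lib/Helper49/BhrSp4R0Minus.lean`; this copy lives in the namespace `Cfsg.Agent.Lib.Helper75.BhrSp4Minus`
so that both files can be imported together.) -/
theorem isOfMinusType_Rc (hq : Fintype.card F = 3) (P : GL (Fin 2 ⊕ Fin 2) F) :
    IsOfMinusType 2 (Rc P) := by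
  classical
  intro A hcomm hsq
  have h3 := three_eq_zero hq
  have h2 := two_ne_zero3 hq
  -- conjugate back to `R₀`
  let Φ : ↥(Rc P) → Matrix (Fin 2 ⊕ Fin 2) (Fin 2 ⊕ Fin 2) F := fun x =>
    ((P⁻¹ * (x : GL (Fin 2 ⊕ Fin 2) F) * P : GL (Fin 2 ⊕ Fin 2) F) :
      Matrix (Fin 2 ⊕ Fin 2) (Fin 2 ⊕ Fin 2) F)
  have hΦinj : Function.Injective Φ := by
    intro x y h
    have h' : P⁻¹ * (x : GL (Fin 2 ⊕ Fin 2) F) * P = P⁻¹ * (y : GL (Fin 2 ⊕ Fin 2) F) * P :=
      Units.ext h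
    exact Subtype.ext (mul_left_cancel (mul_right_cancel h'))
  have hΦmul : ∀ x y : ↥(Rc P), Φ (x * y) = Φ x * Φ y := by
    intro x y
    show ((P⁻¹ * ((x * y : ↥(Rc P)) : GL (Fin 2 ⊕ Fin 2) F) * P : GL (Fin 2 ⊕ Fin 2) F) :
      Matrix (Fin 2 ⊕ Fin 2) (Fin 2 ⊕ Fin 2) F) =
      ((P⁻¹ * (x : GL (Fin 2 ⊕ Fin 2) F) * P : GL (Fin 2 ⊕ Fin 2) F) :
        Matrix (Fin 2 ⊕ Fin 2) (Fin 2 ⊕ Fin 2) F) *
      ((P⁻¹ * (y : GL (Fin 2 ⊕ Fin 2) F) * P : GL (Fin 2 ⊕ Fin 2) F) :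
        Matrix (Fin 2 ⊕ Fin 2) (Fin 2 ⊕ Fin 2) F)
    rw [← Units.val_mul, Subgroup.coe_mul]
    congr 1
    group
  have hΦone : Φ 1 = 1 := by
    show ((P⁻¹ * ((1 : ↥(Rc P)) : GL (Fin 2 ⊕ Fin 2) F) * P : GL (Fin 2 ⊕ Fin 2) F) :
      Matrix (Fin 2 ⊕ Fin 2) (Fin 2 ⊕ Fin 2) F) = 1
    rw [Subgroup.coe_one, mul_one, inv_mul_cancel, Units.val_one]
  have hΦform : ∀ x : ↥(Rc P), ∃ (a : Bool) (i j : Fin 4), Φ x = (sg a : F) • E i j := by
    intro x
    obtain ⟨q, hq', d, hd, hx⟩ := (mem_Rc_iff P x).mp x.2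
    obtain ⟨a, i, j, hE⟩ := exists_sign_E hq hq' hd
    refine ⟨a, i, j, ?_⟩
    show ((P⁻¹ * (x : GL (Fin 2 ⊕ Fin 2) F) * P : GL (Fin 2 ⊕ Fin 2) F) :
      Matrix (Fin 2 ⊕ Fin 2) (Fin 2 ⊕ Fin 2) F) = _
    rw [← hE, hx]
    congr 1
    group
  have hinv : ∀ x ∈ A, Φ x * Φ x = 1 := fun x hx => by rw [← hΦmul, hsq x hx, hΦone]
  have hcm : ∀ x ∈ A, ∀ y ∈ A, Φ x * Φ y = Φ y * Φ x := by
    intro x hx y hy
    rw [← hΦmul, ← hΦmul]
    have h := hcomm.is_comm.comm ⟨x, hx⟩ ⟨y, hy⟩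
    have h' : x * y = y * x := congrArg Subtype.val h
    rw [h']
  obtain ⟨x0, hx0⟩ : ∃ x0 : Matrix (Fin 2 ⊕ Fin 2) (Fin 2 ⊕ Fin 2) F,
      ∀ x ∈ A, Φ x = 1 ∨ Φ x = -1 ∨ Φ x = x0 ∨ Φ x = -x0 := by
    by_cases hall : ∀ x ∈ A, Φ x = 1 ∨ Φ x = -1
    · exact ⟨1, fun x hx => (hall x hx).elim Or.inl (fun h => Or.inr (Or.inl h))⟩
    · obtain ⟨a, hne⟩ := not_forall.mp hall
      obtain ⟨ha, hne⟩ := Classical.not_imp.mp hne
      refine ⟨Φ a, fun x hx => ?_⟩
      obtain ⟨sa, i, j, hA⟩ := hΦform a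
      obtain ⟨sb, k, l, hB⟩ := hΦform x
      rcases key_mat h3 h2 sa sb i j k l hA hB (hinv a ha) (hinv x hx) (hcm a ha x hx) with
        h | h | h | h | h | h
      · exact absurd (Or.inl h) hne
      · exact absurd (Or.inr h) hne
      · exact Or.inl h
      · exact Or.inr (Or.inl h)
      · exact Or.inr (Or.inr (Or.inl h))
      · exact Or.inr (Or.inr (Or.inr h))
  have hcard : Nat.card A ≤ 4 := by
    let S : Finset (Matrix (Fin 2 ⊕ Fin 2) (Fin 2 ⊕ Fin 2) F) := {1, -1, x0, -x0}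
    have hmap : ∀ x : A, Φ x.1 ∈ S := by
      intro x
      simp only [S, Finset.mem_insert, Finset.mem_singleton]
      exact hx0 x.1 x.2
    let ψ : A → S := fun x => ⟨Φ x.1, hmap x⟩
    have hψ : Function.Injective ψ := fun x y h =>
      Subtype.ext (hΦinj (congrArg Subtype.val h))
    calc Nat.card A ≤ Nat.card S := Nat.card_le_card_of_injective ψ hψ
      _ = S.card := Nat.card_eq_finsetCard S
      _ ≤ 4 := Finset.card_le_four
  calc Nat.card A ≤ 4 := hcard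
    _ < 2 ^ (2 + 1) := by norm_num

end Cfsg.Agent.Lib.Helper75.BhrSp4Minus
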