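import Mathlib
import Cfsg.Agent.Lib.Helper75.BGChar
import Cfsg.Agent.Lib.Helper71.Fitting
import Cfsg.Agent.Lib.Helper1.MinimalNormal

/-!
# The Broline–Garrison theorem (Isaacs 12.19, 12.20) (helper75)

* `normalizer_sup_eq_top_of_relIndex` : Frattini argument for a `p`-subgroup `P ≤ N ⊴ G` with
  `p ∤ |N : P|`.
* `inf_normal_of_coatom` : `K ⊓ M ⊴ G` for `K` nilpotent normal, `M` maximal, `K ≰ M`.
* `broline_garrison` : if `ker χ` is not nilpotent, or `ker χ = F(G) < G` with `G / F(G)` solvable,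
  there is `ψ ∈ Irr(G)` with `ψ(1) > χ(1)` and `ker ψ < ker χ`.
-/

set_option autoImplicit false

namespace Cfsg.Agent.Lib.Helper75

open Cfsg

section GroupTheory

variable {G : Type*} [Group G]

/-- Frattini argument for a `p`-subgroup `P` of a normal subgroup `N` with `p ∤ |N : P|`. -/
theorem normalizer_sup_eq_top_of_relIndex [Finite G] {p : ℕ} [Fact p.Prime] (N P : Subgroup G)
    [N.Normal] (hPN : P ≤ N) (hP : IsPGroup p P) (hidx : ¬ p ∣ P.relIndex N) :
    Subgroup.normalizer (P : Set G) ⊔ N = ⊤ := by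
  have hQ : IsPGroup p (P.subgroupOf N) := hP.comap_subtype
  have hidx' : ¬ p ∣ (P.subgroupOf N).index := hidx
  have hfr := Sylow.normalizer_sup_eq_top (hQ.toSylow hidx')
  have hcoe : ((hQ.toSylow hidx' : Sylow p N) : Subgroup N).map N.subtype = P := by
    rw [IsPGroup.toSylow_coe, Subgroup.subgroupOf_map_subtype, inf_of_le_left hPN]
  rw [hcoe] at hfr
  exact hfr

/-- A Sylow witness inside a subgroup. -/
theorem exists_sylow_witness [Finite G] (p : ℕ) [Fact p.Prime] (N : Subgroup G) :
    ∃ P : Subgroup G, P ≤ N ∧ IsPGroup p P ∧ ¬ p ∣ P.relIndex N := by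
  let Q : Sylow p N := default
  refine ⟨(Q : Subgroup N).map N.subtype, Subgroup.map_subtype_le _, Q.2.map _, ?_⟩
  have h2 : ((Q : Subgroup N).map N.subtype).relIndex N = (Q : Subgroup N).index := by
    rw [Subgroup.relIndex, Subgroup.subgroupOf,
      Subgroup.comap_map_eq_self_of_injective (Subgroup.subtype_injective N)]
  rw [h2]
  exact Q.not_dvd_index

/-- If `K` is a nilpotent normal subgroup and `M` a maximal subgroup not containing `K`, then
`K ⊓ M` is normal. -/
theorem inf_normal_of_coatom (K M : Subgroup G) [hK : K.Normal] [hnil : Group.IsNilpotent K]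
    (hM : IsCoatom M) (hKM : ¬ K ≤ M) : (K ⊓ M).Normal := by
  have hlt : M.subgroupOf K < ⊤ := by
    rw [lt_top_iff_ne_top, Ne, Subgroup.subgroupOf_eq_top]
    exact hKM
  have hnc := Group.normalizerCondition_of_isNilpotent (G := K) (M.subgroupOf K) hlt
  obtain ⟨x, hxN, hxM⟩ := SetLike.exists_of_lt hnc
  rw [← Subgroup.normalizer_eq_top_iff]
  have hMle : M ≤ Subgroup.normalizer ((K ⊓ M : Subgroup G) : Set G) := by
    intro m hm
    rw [Subgroup.mem_normalizer_iff]
    intro n
    constructor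
    · rintro ⟨hnK, hnM⟩
      exact ⟨hK.conj_mem n hnK m, M.mul_mem (M.mul_mem hm hnM) (M.inv_mem hm)⟩
    · rintro ⟨hnK, hnM⟩
      refine ⟨?_, ?_⟩
      · have := hK.conj_mem _ hnK m⁻¹
        simpa [mul_assoc] using this
      · have := M.mul_mem (M.mul_mem (M.inv_mem hm) hnM) hm
        simpa [mul_assoc] using this
  have hx : (x : G) ∈ Subgroup.normalizer ((K ⊓ M : Subgroup G) : Set G) := by
    rw [Subgroup.mem_normalizer_iff]
    intro n
    rw [Subgroup.mem_normalizer_iff] at hxN
    constructor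
    · rintro ⟨hnK, hnM⟩
      have := (hxN ⟨n, hnK⟩).mp (by rw [Subgroup.mem_subgroupOf]; exact hnM)
      rw [Subgroup.mem_subgroupOf] at this
      exact ⟨hK.conj_mem n hnK x, by simpa using this⟩
    · rintro ⟨hnK, hnM⟩
      have hnK' : n ∈ K := by
        have := hK.conj_mem _ hnK (x : G)⁻¹
        simpa [mul_assoc] using this
      refine ⟨hnK', ?_⟩
      have := (hxN ⟨n, hnK'⟩).mpr (by rw [Subgroup.mem_subgroupOf]; simpa using hnM)
      rw [Subgroup.mem_subgroupOf] at this
      exact this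
  have hxM' : (x : G) ∉ M := by rwa [Subgroup.mem_subgroupOf] at hxM
  have hlt2 : M < Subgroup.normalizer ((K ⊓ M : Subgroup G) : Set G) := by
    refine lt_of_le_of_ne hMle ?_
    intro heq
    apply hxM'
    rw [heq]
    exact hx
  exact hM.2 _ hlt2

end GroupTheory

section Final

variable {G : Type*} [Group G] [Finite G]

open Cfsg.Agent.Lib.Helper78

/-- Finishing lemma: a constituent of `(χ_M)^G` of larger degree has kernel strictly inside
`K = ker χ`. -/
theorem bg_finish (χ ψ : IrrCharacter G) (K M : Subgroup G)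
    (hK : ∀ g : G, g ∈ K ↔ (χ : G → ℂ) g = (χ : G → ℂ) 1) (hM : IsCoatom M) (hKM : K ⊔ M = ⊤)
    (hcons : ∀ [Fintype G] [Fintype M],
      classInner (fun m : M => (ψ : G → ℂ) m) (fun m : M => (χ : G → ℂ) m) ≠ 0)
    (hdeg : charDegree (χ : G → ℂ) < charDegree (ψ : G → ℂ)) :
    ∃ L : Subgroup G, (∀ g : G, g ∈ L ↔ (ψ : G → ℂ) g = (ψ : G → ℂ) 1) ∧ L < K := by
  classical
  have : Fintype G := Fintype.ofFinite G
  have : Fintype M := Fintype.ofFinite M
  have hψc : IsCharacter G (ψ : G → ℂ) := IsIrrCharacter.isCharacter ψ.2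
  have hM' : ∀ L : Subgroup G, M ≤ L → L = M ∨ L = ⊤ := by
    intro L hL
    rcases eq_or_lt_of_le hL with h | h
    · left; exact h.symm
    · right; exact hM.2 L h
  have key := ker_le_of_degree_lt χ ψ K M (fun h hh => (hK h).mp hh) hKM hM' hcons hdeg
  refine ⟨Cfsg.Agent.Lib.Helper80.charKer (ψ : G → ℂ) hψc, fun g => Iff.rfl, ?_⟩
  have hle : Cfsg.Agent.Lib.Helper80.charKer (ψ : G → ℂ) hψc ≤ K := by
    intro k hk
    exact (hK k).mpr (key k hk).2
  refine lt_of_le_of_ne hle ?_
  intro heq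
  apply hM.1
  rw [← hKM, ← heq]
  apply (sup_eq_right.mpr _).symm
  intro k hk
  exact (key k hk).1

omit [Finite G] in
/-- Elements of `N ⊔ H` for normal `N` are products. -/
theorem exists_mul_of_mem_normal_sup (N H : Subgroup G) [N.Normal] {g : G} (hg : g ∈ N ⊔ H) :
    ∃ n ∈ N, ∃ h ∈ H, n * h = g := by
  have : g ∈ ((N ⊔ H : Subgroup G) : Set G) := hg
  rw [Subgroup.normal_mul] at this
  obtain ⟨n, hn, h, hh, rfl⟩ := Set.mem_mul.mp this
  exact ⟨n, hn, h, hh, rfl⟩

/-- Broline–Garrison, first case: the kernel is not nilpotent. -/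
theorem broline_garrison_case1 (χ : IrrCharacter G) (K : Subgroup G) [hKn : K.Normal]
    (hK : ∀ g : G, g ∈ K ↔ (χ : G → ℂ) g = (χ : G → ℂ) 1) (hnil : ¬ Group.IsNilpotent K) :
    ∃ ψ : IrrCharacter G, charDegree (χ : G → ℂ) < charDegree (ψ : G → ℂ) ∧
      ∃ L : Subgroup G, (∀ g : G, g ∈ L ↔ (ψ : G → ℂ) g = (ψ : G → ℂ) 1) ∧ L < K := by
  classical
  have : Fintype G := Fintype.ofFinite G
  -- a non-normal Sylow subgroup of `K`
  have h03 := (Group.isNilpotent_of_finite_tfae (G := K)).out 0 3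
  rw [h03] at hnil
  push Not at hnil
  obtain ⟨p, hp, P, hPn⟩ := hnil
  set P' : Subgroup G := (P : Subgroup K).map K.subtype with hP'
  have hP'K : P' ≤ K := Subgroup.map_subtype_le _
  have hP'p : IsPGroup p P' := P.2.map _
  have hP'idx : ¬ p ∣ P'.relIndex K := by
    have h2 : P'.relIndex K = (P : Subgroup K).index := by
      rw [Subgroup.relIndex, hP', Subgroup.subgroupOf,
        Subgroup.comap_map_eq_self_of_injective (Subgroup.subtype_injective K)]
    rw [h2]
    exact P.not_dvd_index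
  have hNtop : Subgroup.normalizer (P' : Set G) ≠ ⊤ := by
    intro htop
    apply hPn
    have hn : P'.Normal := Subgroup.normalizer_eq_top_iff.mp htop
    have : (P : Subgroup K) = P'.subgroupOf K := by
      rw [hP', Subgroup.subgroupOf,
        Subgroup.comap_map_eq_self_of_injective (Subgroup.subtype_injective K)]
    rw [this]
    exact hn.subgroupOf K
  obtain ⟨M, hM, hNM⟩ := (eq_top_or_exists_le_coatom _).resolve_left hNtop
  have hP'M : P' ≤ M := le_trans Subgroup.le_normalizer hNM
  have hKM : K ⊔ M = ⊤ := by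
    have := normalizer_sup_eq_top_of_relIndex K P' hP'K hP'p hP'idx
    rw [eq_top_iff, ← this, sup_comm]
    exact sup_le_sup_left hNM K
  have : Fintype M := Fintype.ofFinite M
  have hfrat : ∀ R : Subgroup G, R.Normal → K ⊓ M ≤ R → R ≤ K → R = K := by
    intro R hRn hR1 hR2
    have hP'R : P' ≤ R := le_trans (le_inf hP'K hP'M) hR1
    have hidxR : ¬ p ∣ P'.relIndex R := by
      intro hdvd
      apply hP'idx
      rw [← Subgroup.relIndex_mul_relIndex P' R K hP'R hR2]
      exact Dvd.dvd.mul_right hdvd _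
    have hRM : R ⊔ M = ⊤ := by
      have := normalizer_sup_eq_top_of_relIndex R P' hP'R hP'p hidxR
      rw [eq_top_iff, ← this, sup_comm]
      exact sup_le_sup_left hNM R
    apply le_antisymm hR2
    intro k hk
    have hk' : k ∈ R ⊔ M := by rw [hRM]; exact Subgroup.mem_top k
    obtain ⟨r, hr, m, hm, rfl⟩ := exists_mul_of_mem_normal_sup R M hk'
    have hmK : m ∈ K := by
      have := K.mul_mem (K.inv_mem (hR2 hr)) hk
      simpa using this
    exact R.mul_mem hr (hR1 ⟨hmK, hm⟩)
  obtain ⟨ψ, hcons, hdeg⟩ := exists_constituent_degree_gt χ K M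
    (fun h hh => (hK h).mp hh) hKM hM.1 hfrat
  refine ⟨ψ, hdeg, bg_finish χ ψ K M hK hM hKM ?_ hdeg⟩
  intro i1 i2
  convert hcons using 2

/-- Broline–Garrison, second case: `ker χ = F(G) < G` with `G / F(G)` solvable. -/
theorem broline_garrison_case2 (χ : IrrCharacter G) (K : Subgroup G) [hKn : K.Normal]
    (hK : ∀ g : G, g ∈ K ↔ (χ : G → ℂ) g = (χ : G → ℂ) 1) (hKF : K = Cfsg.fittingSubgroup G)
    (hsolv : Group.IsSolvable (G ⧸ K)) (hKtop : K ≠ ⊤) :
    ∃ ψ : IrrCharacter G, charDegree (χ : G → ℂ) < charDegree (ψ : G → ℂ) ∧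
      ∃ L : Subgroup G, (∀ g : G, g ∈ L ↔ (ψ : G → ℂ) g = (ψ : G → ℂ) 1) ∧ L < K := by
  classical
  have : Fintype G := Fintype.ofFinite G
  by_contra hcon
  push Not at hcon
  have hχc : IsCharacter G (χ : G → ℂ) := IsIrrCharacter.isCharacter χ.2
  have hKnil : Group.IsNilpotent K := by
    rw [hKF]; exact Cfsg.Agent.Lib.Helper71.fittingSubgroup_isNilpotent
  have hχmul : ∀ k ∈ K, ∀ x : G, (χ : G → ℂ) (k * x) = (χ : G → ℂ) x := by
    intro k hk x
    exact Cfsg.Agent.Lib.Helper80.char_mul_of_mem_charKer hχc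
      (a := k) ((hK k).mp hk) x
  -- Claim A + B
  have claimB : ∀ M : Subgroup G, IsCoatom M → K ⊔ M = ⊤ →
      ∀ g : G, (χ : G → ℂ) g ≠ 0 → g ∈ K ⊔ M.normalCore := by
    intro M hM hKM g hg
    have : Fintype M := Fintype.ofFinite M
    have hall : ∀ ψ : IrrCharacter G,
        classInner (fun m : M => (ψ : G → ℂ) m) (fun m : M => (χ : G → ℂ) m) ≠ 0 →
        charDegree (ψ : G → ℂ) ≤ charDegree (χ : G → ℂ) := by
      intro ψ hcons
      by_contra hlt
      push Not at hlt
      obtain ⟨L, hL1, hL2⟩ := bg_finish χ ψ K M hK hM hKM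
        (by intro i1 i2; convert hcons using 2) hlt
      exact hcon ψ hlt L hL1 hL2
    have hvan := vanish_off_core χ K M (fun h hh => (hK h).mp hh) hKM hall
    have hg' : g ∈ K ⊔ M := by rw [hKM]; exact Subgroup.mem_top g
    obtain ⟨k, hk, m, hm, rfl⟩ := exists_mul_of_mem_normal_sup K M hg'
    rw [hχmul k hk m] at hg
    have hmcore : m ∈ M.normalCore := by
      intro y
      have := hvan m hm hg y⁻¹
      simpa using this
    exact Subgroup.mul_mem _ (Subgroup.mem_sup_left hk) (Subgroup.mem_sup_right hmcore)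
  set S : Set G := {g | (χ : G → ℂ) g ≠ 0} with hS
  set Y : Subgroup G := K ⊔ Subgroup.normalClosure S with hY
  have hKY : K ≤ Y := le_sup_left
  have hSY : S ⊆ Y := fun g hg => Subgroup.mem_sup_right (Subgroup.subset_normalClosure hg)
  have hYle : ∀ M : Subgroup G, IsCoatom M → K ⊔ M = ⊤ → Y ≤ K ⊔ M.normalCore := by
    intro M hM hKM
    apply sup_le le_sup_left
    apply Subgroup.normalClosure_le_normal
    intro g hg
    exact claimB M hM hKM g hg
  by_cases hYK : Y = K
  · -- `χ` vanishes off `K`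
    apply hKtop
    have hvan : ∀ g : G, g ∉ K → (χ : G → ℂ) g = 0 := by
      intro g hg
      by_contra h0
      apply hg
      rw [← hYK]
      exact hSY h0
    have h1 : classInner (χ : G → ℂ) (fun _ : G => (1 : ℂ)) ≠ 0 := by
      unfold classInner
      have hsum : ∑ g : G, (χ : G → ℂ) g * (starRingEnd ℂ) 1 =
          (Nat.card K : ℂ) * (χ : G → ℂ) 1 := by
        have h2 : ∀ g : G, (χ : G → ℂ) g * (starRingEnd ℂ) 1 =
            if g ∈ K then (χ : G → ℂ) 1 else 0 := by
          intro g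
          split_ifs with hg
          · rw [(hK g).mp hg]; simp
          · rw [hvan g hg]; simp
        rw [Finset.sum_congr rfl (fun g _ => h2 g), Finset.sum_ite, Finset.sum_const_zero,
          add_zero, Finset.sum_const, nsmul_eq_mul]
        congr 1
        rw [Nat.card_eq_fintype_card, Fintype.card_subtype]
      rw [hsum]
      have hχ1 : (χ : G → ℂ) 1 ≠ 0 := by
        rw [IsCharacter.apply_one_eq_charDegree hχc]
        have := Cfsg.Agent.Lib.Helper79.irr_charDegree_pos χ
        exact_mod_cast this.ne'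
      have hK0 : (Nat.card K : ℂ) ≠ 0 := by
        have : Nat.card K ≠ 0 := Nat.card_pos.ne'
        exact_mod_cast this
      have hG0 : (Nat.card G : ℂ) ≠ 0 := by
        have : Nat.card G ≠ 0 := Nat.card_pos.ne'
        exact_mod_cast this
      exact mul_ne_zero (inv_ne_zero hG0) (mul_ne_zero hK0 hχ1)
    have h3 : (χ : G → ℂ) = fun _ : G => (1 : ℂ) := by
      by_contra hne
      exact h1 (classInner_irr_ne χ.2 isIrrCharacter_one hne)
    rw [eq_top_iff]
    intro g _
    rw [hK g, h3]
  · -- a chief factor `E / K` inside `Y / K`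
    have hKltY : ¬ Y ≤ K := fun h => hYK (le_antisymm h hKY)
    have hYn : Y.Normal := inferInstance
    set f := QuotientGroup.mk' K with hf
    have hfs : Function.Surjective f := QuotientGroup.mk'_surjective K
    have hYbar : (Y.map f).Normal := hYn.map f hfs
    have hYbar1 : Y.map f ≠ ⊥ := by
      intro h
      apply hKltY
      have := (Subgroup.map_eq_bot_iff Y).mp h
      rwa [QuotientGroup.ker_mk'] at this
    obtain ⟨q, Rb, hq, hRbn, hRb1, hRbY, hRbq, -, -, -⟩ :=
      Cfsg.Agent.Lib.Helper1.exists_normal_pSubgroup_le_of_isSolvable (Y.map f) hYbar hYbar1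
    have hqf : Fact q.Prime := ⟨hq⟩
    set E : Subgroup G := Rb.comap f with hE
    have hEn : E.Normal := hRbn.comap f
    have hKE : K ≤ E := by
      intro k hk
      rw [hE, Subgroup.mem_comap]
      have : f k = 1 := by
        rw [← MonoidHom.mem_ker, QuotientGroup.ker_mk']; exact hk
      rw [this]; exact Rb.one_mem
    have hEY : E ≤ Y := by
      have h1 : E ≤ (Y.map f).comap f := Subgroup.comap_mono hRbY
      rw [Subgroup.comap_map_eq, QuotientGroup.ker_mk', sup_of_le_left hKY] at h1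
      exact h1
    have hEmap : E.map f = Rb := Subgroup.map_comap_eq_self_of_surjective hfs Rb
    have hEK : ¬ E ≤ K := by
      intro h
      apply hRb1
      rw [← hEmap]
      rw [Subgroup.map_eq_bot_iff, QuotientGroup.ker_mk']
      exact h
    obtain ⟨Q, hQE, hQq, hQidx⟩ := exists_sylow_witness q E
    -- `E = K ⊔ Q`
    have hEKQ : E ≤ K ⊔ Q := by
      rw [← Subgroup.relIndex_eq_one]
      have h1 : (K ⊔ Q).relIndex E ∣ K.relIndex E := Subgroup.relIndex_dvd_of_le_left E le_sup_left
      have h2 : (K ⊔ Q).relIndex E ∣ Q.relIndex E := Subgroup.relIndex_dvd_of_le_left E le_sup_right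
      have h3 : K.relIndex E = Nat.card Rb := by
        have := Subgroup.relIndex_ker (K := E) f
        rw [QuotientGroup.ker_mk', hEmap] at this
        exact this
      obtain ⟨n, hn⟩ := hRbq.exists_card_eq
      rw [h3, hn] at h1
      obtain ⟨j, -, hj⟩ := (Nat.dvd_prime_pow hq).mp h1
      rw [hj] at h2 ⊢
      rcases Nat.eq_zero_or_pos j with h0 | hpos
      · rw [h0, pow_zero]
      · exfalso
        apply hQidx
        exact dvd_trans (dvd_pow_self q hpos.ne') h2
    -- `Q` is not normal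
    have hQnn : Subgroup.normalizer (Q : Set G) ≠ ⊤ := by
      intro htop
      have hn : Q.Normal := Subgroup.normalizer_eq_top_iff.mp htop
      have hQnil : Group.IsNilpotent Q := hQq.isNilpotent
      have hQF : Q ≤ K := by
        rw [hKF]
        exact le_sSup ⟨hn, hQnil⟩
      exact hEK (le_trans hEKQ (sup_le le_rfl hQF))
    obtain ⟨M, hM, hNM⟩ := (eq_top_or_exists_le_coatom _).resolve_left hQnn
    have hQM : Q ≤ M := le_trans Subgroup.le_normalizer hNM
    have hKM : K ⊔ M = ⊤ := by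
      have h1 := normalizer_sup_eq_top_of_relIndex E Q hQE hQq hQidx
      rw [eq_top_iff, ← h1]
      apply sup_le (le_trans hNM le_sup_right)
      exact le_trans hEKQ (sup_le le_sup_left (le_trans hQM le_sup_right))
    have hKnotM : ¬ K ≤ M := by
      intro h
      apply hM.1
      rw [← hKM]
      exact (sup_eq_right.mpr h).symm
    have hinfn : (K ⊓ M).Normal := inf_normal_of_coatom K M hM hKnotM
    have hinfcore : K ⊓ M ≤ M.normalCore :=
      (Subgroup.normal_le_normalCore).mpr inf_le_right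
    have hQcore : Q ≤ M.normalCore := by
      intro x hx
      have hx1 : x ∈ K ⊔ M.normalCore := hYle M hM hKM (hEY (hQE hx))
      obtain ⟨k, hk, c, hc, rfl⟩ := exists_mul_of_mem_normal_sup K M.normalCore hx1
      have hcM : c ∈ M := Subgroup.normalCore_le M hc
      have hkM : k ∈ M := by
        have := M.mul_mem (hQM hx) (M.inv_mem hcM)
        simpa using this
      exact Subgroup.mul_mem _ (hinfcore ⟨hk, hkM⟩) hc
    have hE0n : (E ⊓ M.normalCore).Normal := inferInstance
    have hidx0 : ¬ q ∣ Q.relIndex (E ⊓ M.normalCore) := by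
      intro hdvd
      apply hQidx
      rw [← Subgroup.relIndex_mul_relIndex Q (E ⊓ M.normalCore) E (le_inf hQE hQcore) inf_le_left]
      exact Dvd.dvd.mul_right hdvd _
    have hfr := normalizer_sup_eq_top_of_relIndex (E ⊓ M.normalCore) Q (le_inf hQE hQcore) hQq hidx0
    apply hM.1
    rw [eq_top_iff, ← hfr]
    exact sup_le hNM (le_trans inf_le_right (Subgroup.normalCore_le M))

/-- **Broline–Garrison.** -/
theorem broline_garrison (χ : IrrCharacter G) (K : Subgroup G) [K.Normal]
    (hK : ∀ g : G, g ∈ K ↔ (χ : G → ℂ) g = (χ : G → ℂ) 1)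
    (h : ¬ K ≤ Cfsg.fittingSubgroup G ∨
      (K = Cfsg.fittingSubgroup G ∧ Group.IsSolvable (G ⧸ K) ∧ K ≠ ⊤)) :
    ∃ ψ : IrrCharacter G, charDegree (χ : G → ℂ) < charDegree (ψ : G → ℂ) ∧
      ∃ L : Subgroup G, (∀ g : G, g ∈ L ↔ (ψ : G → ℂ) g = (ψ : G → ℂ) 1) ∧ L < K := by
  rcases h with h | ⟨h1, h2, h3⟩
  · apply broline_garrison_case1 χ K hK
    intro hnil
    apply h
    exact le_sSup ⟨inferInstance, hnil⟩
  · exact broline_garrison_case2 χ K hK h1 h2 h3

end Final

end Cfsg.Agent.Lib.Helper75
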