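import Mathlib
import Cfsg.Agent.Lib.Helper82.SubsecUnit
import Cfsg.Agent.S4431

/-!
# Broué's lemma: contributions of an arbitrary induced block to characters of height zero are units

Let `b` be a block of the subgroup `H` of `G` inducing `B` (no condition on the defects).  For
`χ, ψ ∈ B` of height zero the integer `∑_{ξ, ξ' ∈ b} n_{χ ξ} Q_b(ξ, ξ') n_{ψ ξ'}` is prime to `p`.

Shared library by helper75 (for S4541).
-/

set_option autoImplicit false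
set_option linter.unusedSectionVars false

namespace Cfsg.Agent.Lib.Helper75

open Cfsg Finset Cfsg.Agent.Lib.Helper16 Cfsg.Agent.Lib.Helper78 Cfsg.Agent.Lib.Helper79
  Cfsg.Agent.Lib.Helper82
open scoped ComplexConjugate

universe u

section BroueUnit

variable {G : Type u} [Group G] [Fintype G] {p : ℕ} [Fact p.Prime] {M : Ideal AlgInt}

open scoped Classical in
/-- The inner product of the truncated restriction of `χ` with `ξ₀ ∈ b` as an integer. -/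
theorem classInner_trunc_res_eq (hM : IsPModular p M) (H : Subgroup G) [Fintype H]
    {b : Set (IrrCharacter H)} (hb : IsPBlock M b) (χ : IrrCharacter G) {ξ₀ : IrrCharacter H}
    (hξ₀ : ξ₀ ∈ b) :
    classInner (fun h : H => if p ∣ orderOf h then (0 : ℂ) else
        ((p ^ (Nat.card H).factorization p : ℕ) : ℂ) * (χ : G → ℂ) h) (ξ₀ : H → ℂ) =
      (((p : ℤ) ^ coDefect p b * ∑ ξ ∈ Finset.univ.filter (fun ξ : IrrCharacter H => ξ ∈ b),
        (resMult H χ ξ : ℤ) * blockQ p b ξ ξ₀ : ℤ) : ℂ) := by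
  have e : (fun h : H => if p ∣ orderOf h then (0 : ℂ) else
        ((p ^ (Nat.card H).factorization p : ℕ) : ℂ) * (χ : G → ℂ) h) =
      ∑ ξ : IrrCharacter H, (resMult H χ ξ : ℂ) • tld p (ξ : H → ℂ) := by
    funext h
    rw [Finset.sum_apply]
    simp only [Pi.smul_apply, smul_eq_mul]
    unfold tld
    split_ifs with hh
    · simp
    · rw [res_apply_eq_sum H χ h, Finset.mul_sum]
      apply Finset.sum_congr rfl
      intro ξ _
      ring
  rw [e, classInner_sum_left]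
  simp_rw [classInner_smul_left, contrib_spec hM]
  rw [Finset.mul_sum, Finset.sum_filter]
  push_cast
  apply Finset.sum_congr rfl
  intro ξ _
  split_ifs with hξ
  · have := congrArg (fun z : ℤ => (z : ℂ)) (blockQ_spec hM ξ hξ₀)
    push_cast at this
    rw [← this]
    ring
  · rw [contrib_symm hM, contrib_eq_zero_of_not_mem hM hb hξ₀ hξ]
    simp

open scoped Classical in
/-- The row of `N Q_b` at a character of height zero of `B` is a unit at every character of height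
zero of `b`. -/
theorem not_dvd_sum_resMult_blockQ_row (hM : IsPModular p M) (H : Subgroup G) [Fintype H]
    {b : Set (IrrCharacter H)} {B : Set (IrrCharacter G)} (hind : IsInducedBlock M H b B)
    {χ : IrrCharacter G} (hχ : χ ∈ B) (hχ0 : blockHeight p B (χ : G → ℂ) = 0)
    {ξ₀ : IrrCharacter H} (hξ₀ : ξ₀ ∈ b) (h0 : blockHeight p b (ξ₀ : H → ℂ) = 0) :
    ¬ (p : ℤ) ∣ ∑ ξ ∈ Finset.univ.filter (fun ξ : IrrCharacter H => ξ ∈ b),
      (resMult H χ ξ : ℤ) * blockQ p b ξ ξ₀ := by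
  have hp : p.Prime := Fact.out
  have hMp : M.IsPrime := isPModular_isPrime hM
  have hMtop : M ≠ ⊤ := hMp.ne_top
  have hnot := (Cfsg.Agent.S4431.result p M hM H b B hind χ ξ₀ hξ₀).2 hχ hχ0
  rw [classInner_trunc_res_eq hM H hind.1 χ hξ₀, irr_apply_one_eq_charDegree] at hnot
  intro hdvd
  apply hnot
  obtain ⟨c, hc⟩ := hdvd
  have hU := blockU_spec (p := p) hξ₀
  have hUC : ((charDegree (ξ₀ : H → ℂ) : ℕ) : ℂ) =
      (p : ℂ) ^ coDefect p b * (blockU p b ξ₀ : ℂ) := by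
    have := (congrArg (fun z : ℤ => (z : ℂ)) hU).symm
    push_cast at this
    exact_mod_cast this
  rw [hc, hUC]
  have hpe : ((p : ℂ) ^ coDefect p b) ≠ 0 := pow_ne_zero _ (by exact_mod_cast hp.ne_zero)
  have hU0 : ¬ MemLocalIdeal M ((blockU p b ξ₀ : ℤ) : ℂ) := by
    rw [memLocalIdeal_intCast_iff hM]
    exact not_dvd_blockU hp hξ₀ h0
  have e : (((p : ℤ) ^ coDefect p b * ((p : ℤ) * c) : ℤ) : ℂ) /
      ((p : ℂ) ^ coDefect p b * (blockU p b ξ₀ : ℂ)) = ((p : ℂ) * (c : ℂ)) / (blockU p b ξ₀ : ℂ) := by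
    push_cast
    field_simp
  rw [e]
  apply memLocalIdeal_div _ (memLocalRing_intCast hMtop _) hU0
  exact memLocalIdeal_mul_right (memLocalIdeal_p hM) (memLocalRing_intCast hMtop c)

open scoped Classical in
/-- **Broué's lemma** (the unit property for arbitrary induced blocks). -/
theorem not_dvd_sum_resMult_blockQ_of_induced (hM : IsPModular p M) (H : Subgroup G) [Fintype H]
    {b : Set (IrrCharacter H)} {B : Set (IrrCharacter G)} (hind : IsInducedBlock M H b B)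
    {χ ψ : IrrCharacter G} (hχ : χ ∈ B) (hψ : ψ ∈ B)
    (hχ0 : blockHeight p B (χ : G → ℂ) = 0) (hψ0 : blockHeight p B (ψ : G → ℂ) = 0) :
    ¬ (p : ℤ) ∣ ∑ ξ ∈ Finset.univ.filter (fun ξ : IrrCharacter H => ξ ∈ b),
      ∑ ξ' ∈ Finset.univ.filter (fun ξ : IrrCharacter H => ξ ∈ b),
        (resMult H χ ξ : ℤ) * blockQ p b ξ ξ' * (resMult H ψ ξ' : ℤ) := by
  have hp : p.Prime := Fact.out
  have hpZ : Prime (p : ℤ) := Nat.prime_iff_prime_int.mp hp
  have hMp : M.IsPrime := isPModular_isPrime hM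
  have hb : IsPBlock M b := hind.1
  have hbne : b.Nonempty := IsPBlock_nonempty hMp.ne_top hb
  obtain ⟨ξ₀, hξ₀, hξ₀min⟩ := exists_min_factorization (p := p) hbne
  have hξ₀0 : blockHeight p b (ξ₀ : H → ℂ) = 0 := by
    unfold blockHeight
    omega
  set sb := Finset.univ.filter (fun ξ : IrrCharacter H => ξ ∈ b) with hsb
  have hmem : ∀ ξ, ξ ∈ sb ↔ ξ ∈ b := by
    intro ξ
    simp [hsb]
  set v := blockU p b with hv
  set Q := blockQ p b with hQ
  set a : IrrCharacter G → ℤ := fun φ => ∑ ξ ∈ sb, (resMult H φ ξ : ℤ) * Q ξ ξ₀ with ha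
  set w : IrrCharacter G → ℤ := fun φ => ∑ ξ ∈ sb, (resMult H φ ξ : ℤ) * v ξ with hw
  have haχ : ¬ (p : ℤ) ∣ a χ := not_dvd_sum_resMult_blockQ_row hM H hind hχ hχ0 hξ₀ hξ₀0
  have haψ : ¬ (p : ℤ) ∣ a ψ := not_dvd_sum_resMult_blockQ_row hM H hind hψ hψ0 hξ₀ hξ₀0
  have hv0 : ¬ (p : ℤ) ∣ v ξ₀ := not_dvd_blockU hp hξ₀ hξ₀0
  have hq0 : ¬ (p : ℤ) ∣ Q ξ₀ ξ₀ := not_dvd_blockQ_self hM hb hξ₀ hξ₀0
  -- `a φ * v ξ₀ ≡ Q ξ₀ ξ₀ * w φ`
  have h1 : ∀ φ : IrrCharacter G, (p : ℤ) ∣ a φ * v ξ₀ - Q ξ₀ ξ₀ * w φ := by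
    intro φ
    have e : a φ * v ξ₀ - Q ξ₀ ξ₀ * w φ =
        ∑ ξ ∈ sb, (resMult H φ ξ : ℤ) * (Q ξ₀ ξ * v ξ₀ - Q ξ₀ ξ₀ * v ξ) := by
      rw [ha, hw]
      simp only [Finset.sum_mul, Finset.mul_sum]
      rw [← Finset.sum_sub_distrib]
      apply Finset.sum_congr rfl
      intro ξ _
      rw [hQ, blockQ_symm hM b ξ ξ₀]
      ring
    rw [e]
    apply Finset.dvd_sum
    intro ξ hξ
    exact Dvd.dvd.mul_left (blockQ_congr hM hb ξ₀ ((hmem ξ).mp hξ) hξ₀) _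
  -- the double sum times `v ξ₀` is congruent to `a χ * w ψ`
  have h2 : (p : ℤ) ∣ (∑ ξ ∈ sb, ∑ ξ' ∈ sb,
      (resMult H χ ξ : ℤ) * Q ξ ξ' * (resMult H ψ ξ' : ℤ)) * v ξ₀ - a χ * w ψ := by
    have e : (∑ ξ ∈ sb, ∑ ξ' ∈ sb,
        (resMult H χ ξ : ℤ) * Q ξ ξ' * (resMult H ψ ξ' : ℤ)) * v ξ₀ - a χ * w ψ =
        ∑ ξ ∈ sb, ∑ ξ' ∈ sb, (resMult H χ ξ : ℤ) * (resMult H ψ ξ' : ℤ) *
          (Q ξ ξ' * v ξ₀ - Q ξ ξ₀ * v ξ') := by
      have e1 : a χ * w ψ = ∑ ξ ∈ sb, ∑ ξ' ∈ sb,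
          ((resMult H χ ξ : ℤ) * Q ξ ξ₀) * ((resMult H ψ ξ' : ℤ) * v ξ') := by
        rw [ha, hw]
        exact Finset.sum_mul_sum _ _ _ _
      rw [e1, Finset.sum_mul, ← Finset.sum_sub_distrib]
      apply Finset.sum_congr rfl
      intro ξ _
      rw [Finset.sum_mul, ← Finset.sum_sub_distrib]
      apply Finset.sum_congr rfl
      intro ξ' _
      ring
    rw [e]
    apply Finset.dvd_sum
    intro ξ _
    apply Finset.dvd_sum
    intro ξ' hξ'
    exact Dvd.dvd.mul_left (blockQ_congr hM hb ξ ((hmem ξ').mp hξ') hξ₀) _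
  intro hdvd
  -- then `p ∣ a χ * w ψ`, so `p ∣ w ψ`, so `p ∣ a ψ * v ξ₀`
  have h3 : (p : ℤ) ∣ a χ * w ψ := by
    have := dvd_sub (Dvd.dvd.mul_right hdvd (v ξ₀)) h2
    rwa [sub_sub_cancel] at this
  have h4 : (p : ℤ) ∣ w ψ := (hpZ.dvd_or_dvd h3).resolve_left haχ
  have h5 : (p : ℤ) ∣ a ψ * v ξ₀ := by
    have := dvd_add (h1 ψ) (Dvd.dvd.mul_left h4 (Q ξ₀ ξ₀))
    rwa [sub_add_cancel] at this
  rcases hpZ.dvd_or_dvd h5 with h | h
  · exact haψ h
  · exact hv0 h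

end BroueUnit

end Cfsg.Agent.Lib.Helper75
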