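import Mathlib
import Cfsg.Agent.Lib.Helper55.CfgDefs
import Cfsg.Agent.S0026
import Cfsg.Agent.S0055
import Cfsg.Agent.S3734

/-!
# S1329-[LCS] (helper55's project S1329): the lower-central-series lemma

If `Γ = ⁅D, Y⁆` is central in `Y` (`D ≤ Y` both `A`-invariant, `A` abelian acting coprimely,
`⁅Y, A⁆ = Y`), then `Γ ⊓ C(A) ≤ ZStar A Y`.
-/

set_option autoImplicit false

namespace Cfsg.Agent.Lib.Helper75.CFG

open Cfsg.Agent.Lib.Helper55.CFG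
open scoped commutatorElement

section identities
variable {G : Type*} [Group G]

theorem lcs_comm_mul_right_id (u y y' : G) :
    ⁅u, y * y'⁆ = ⁅u, y⁆ * (y * ⁅u, y'⁆ * y⁻¹) := by
  simp only [commutatorElement_def]; group

theorem lcs_comm_mul_left_id (u u' y : G) :
    ⁅u * u', y⁆ = (u * ⁅u', y⁆ * u⁻¹) * ⁅u, y⁆ := by
  simp only [commutatorElement_def]; group

theorem lcs_comm_inv_right_id (u y : G) : ⁅u, y⁻¹⁆ = y⁻¹ * ⁅u, y⁆⁻¹ * y := by
  simp only [commutatorElement_def]; group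

theorem lcs_comm_inv_left_id (u y : G) : ⁅u⁻¹, y⁆ = u⁻¹ * ⁅u, y⁆⁻¹ * u := by
  simp only [commutatorElement_def]; group

theorem lcs_conj_comm_id (a u y : G) :
    a * ⁅u, y⁆ * a⁻¹ = ⁅a * u * a⁻¹, a * y * a⁻¹⁆ := by
  simp only [commutatorElement_def]; group

/-- `z c = c z` gives `z⁻¹ c⁻¹ z = c⁻¹` -/
theorem lcs_inv_conj_of_comm {z c : G} (h : z * c = c * z) : z⁻¹ * c⁻¹ * z = c⁻¹ := by
  have h2 : z⁻¹ * c⁻¹ = c⁻¹ * z⁻¹ := by
    rw [← mul_inv_rev, ← mul_inv_rev, h]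
  rw [h2, mul_assoc, inv_mul_cancel, mul_one]

/-- `z c = c z` gives `z c z⁻¹ = c` -/
theorem lcs_conj_of_comm {z c : G} (h : z * c = c * z) : z * c * z⁻¹ = c := by
  rw [h, mul_assoc, mul_inv_cancel, mul_one]

end identities

section bimult
variable {G : Type*} [Group G] {D Y : Subgroup G}

/-- the centrality hypothesis in elementwise form -/
def CentralComm (D Y : Subgroup G) : Prop :=
  ∀ u ∈ D, ∀ y ∈ Y, ∀ z ∈ Y, z * ⁅u, y⁆ = ⁅u, y⁆ * z

theorem lcs_comm_mul_right (hc : CentralComm D Y) {u y y' : G} (hu : u ∈ D) (hy : y ∈ Y)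
    (hy' : y' ∈ Y) : ⁅u, y * y'⁆ = ⁅u, y⁆ * ⁅u, y'⁆ := by
  rw [lcs_comm_mul_right_id, lcs_conj_of_comm (hc u hu y' hy' y hy)]

theorem lcs_comm_inv_right (hc : CentralComm D Y) {u y : G} (hu : u ∈ D) (hy : y ∈ Y) :
    ⁅u, y⁻¹⁆ = ⁅u, y⁆⁻¹ := by
  rw [lcs_comm_inv_right_id, lcs_inv_conj_of_comm (hc u hu y hy y hy)]

theorem lcs_comm_mul_left (hDY : D ≤ Y) (hc : CentralComm D Y) {u u' y : G} (hu : u ∈ D)
    (hu' : u' ∈ D) (hy : y ∈ Y) : ⁅u * u', y⁆ = ⁅u', y⁆ * ⁅u, y⁆ := by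
  rw [lcs_comm_mul_left_id, lcs_conj_of_comm (hc u' hu' y hy u (hDY hu))]

theorem lcs_comm_inv_left (hDY : D ≤ Y) (hc : CentralComm D Y) {u y : G} (hu : u ∈ D)
    (hy : y ∈ Y) : ⁅u⁻¹, y⁆ = ⁅u, y⁆⁻¹ := by
  rw [lcs_comm_inv_left_id, lcs_inv_conj_of_comm (hc u hu y hy u (hDY hu))]

/-- for fixed `u ∈ D`, the `y ∈ Y` with `⁅u, y⁆ ∈ T` form a subgroup -/
def rightSub (hc : CentralComm D Y) (T : Subgroup G) (u : G) (hu : u ∈ D) : Subgroup G where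
  carrier := {y | y ∈ Y ∧ ⁅u, y⁆ ∈ T}
  mul_mem' := by
    rintro y y' ⟨hy, hyT⟩ ⟨hy', hyT'⟩
    refine ⟨Y.mul_mem hy hy', ?_⟩
    rw [lcs_comm_mul_right hc hu hy hy']
    exact T.mul_mem hyT hyT'
  one_mem' := ⟨Y.one_mem, by rw [commutatorElement_one_right]; exact T.one_mem⟩
  inv_mem' := by
    rintro y ⟨hy, hyT⟩
    refine ⟨Y.inv_mem hy, ?_⟩
    rw [lcs_comm_inv_right hc hu hy]
    exact T.inv_mem hyT

theorem mem_rightSub (hc : CentralComm D Y) (T : Subgroup G) (u : G) (hu : u ∈ D) (y : G) :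
    y ∈ rightSub hc T u hu ↔ y ∈ Y ∧ ⁅u, y⁆ ∈ T := Iff.rfl

/-- for fixed `w ∈ Y`, the `x ∈ D` with `⁅x, w⁆ ∈ T` form a subgroup -/
def leftSub (hDY : D ≤ Y) (hc : CentralComm D Y) (T : Subgroup G) (w : G) (hw : w ∈ Y) :
    Subgroup G where
  carrier := {x | x ∈ D ∧ ⁅x, w⁆ ∈ T}
  mul_mem' := by
    rintro x x' ⟨hx, hxT⟩ ⟨hx', hxT'⟩
    refine ⟨D.mul_mem hx hx', ?_⟩
    rw [lcs_comm_mul_left hDY hc hx hx' hw]
    exact T.mul_mem hxT' hxT
  one_mem' := ⟨D.one_mem, by rw [commutatorElement_one_left]; exact T.one_mem⟩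
  inv_mem' := by
    rintro x ⟨hx, hxT⟩
    refine ⟨D.inv_mem hx, ?_⟩
    rw [lcs_comm_inv_left hDY hc hx hw]
    exact T.inv_mem hxT

theorem mem_leftSub (hDY : D ≤ Y) (hc : CentralComm D Y) (T : Subgroup G) (w : G) (hw : w ∈ Y)
    (x : G) : x ∈ leftSub hDY hc T w hw ↔ x ∈ D ∧ ⁅x, w⁆ ∈ T := Iff.rfl

end bimult

section steps
variable {G : Type*} [Group G]

/-- `A` normalizes `⁅H, K⁆` when it normalizes `H` and `K` -/
theorem lcs_le_normalizer_commutator (A H K : Subgroup G)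
    (hH : A ≤ Subgroup.normalizer (H : Set G)) (hK : A ≤ Subgroup.normalizer (K : Set G)) :
    A ≤ Subgroup.normalizer ((⁅H, K⁆ : Subgroup G) : Set G) := by
  rw [Subgroup.le_normalizer_iff]
  intro a ha
  have hsub : ⁅H, K⁆ ≤ (⁅H, K⁆ : Subgroup G).comap (MulAut.conj a).toMonoidHom := by
    rw [Subgroup.commutator_le]
    intro h hh k hk
    rw [Subgroup.mem_comap]
    change a * ⁅h, k⁆ * a⁻¹ ∈ ⁅H, K⁆
    rw [lcs_conj_comm_id]
    exact Subgroup.commutator_mem_commutator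
      ((Subgroup.le_normalizer_iff.mp hH) a ha h hh) ((Subgroup.le_normalizer_iff.mp hK) a ha k hk)
  intro k hk
  exact hsub hk

/-- `A` normalizes `H ⊓ K` when it normalizes `H` and `K` -/
theorem lcs_le_normalizer_inf (A H K : Subgroup G)
    (hH : A ≤ Subgroup.normalizer (H : Set G)) (hK : A ≤ Subgroup.normalizer (K : Set G)) :
    A ≤ Subgroup.normalizer ((H ⊓ K : Subgroup G) : Set G) :=
  le_trans (le_inf hH hK) Subgroup.inf_normalizer_le_normalizer_inf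

/-- step (ii'): `⁅C_D(A), Y⁆ ≤ ⁅Γ, A⁆` -/
theorem lcs_fixed_comm_mem (A Y D : Subgroup G) (hAY : A ≤ Subgroup.normalizer (Y : Set G))
    (hYA : ⁅Y, A⁆ = Y) (hc : CentralComm D Y) (u : G) (hu : u ∈ D)
    (huA : u ∈ Subgroup.centralizer (A : Set G)) (y : G) (hy : y ∈ Y) :
    ⁅u, y⁆ ∈ ⁅⁅D, Y⁆, A⁆ := by
  have hYAle : ⁅Y, A⁆ ≤ Y := Subgroup.le_normalizer_iff_commutator_le_left.mp hAY
  have h1 : ⁅Y, A⁆ ≤ rightSub hc ⁅⁅D, Y⁆, A⁆ u hu := by
    rw [Subgroup.commutator_le]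
    intro v hv a ha
    rw [mem_rightSub]
    refine ⟨hYAle (Subgroup.commutator_mem_commutator hv ha), ?_⟩
    have hconj : a * v⁻¹ * a⁻¹ ∈ Y := (Subgroup.le_normalizer_iff.mp hAY) a ha _ (Y.inv_mem hv)
    have e : ⁅v, a⁆ = v * (a * v⁻¹ * a⁻¹) := by
      rw [commutatorElement_def]; group
    have hau : a * u * a⁻¹ = u :=
      lcs_conj_of_comm (Subgroup.mem_centralizer_iff.mp huA a ha)
    have e2 : ⁅u, a * v⁻¹ * a⁻¹⁆ = a * ⁅u, v⁆⁻¹ * a⁻¹ := by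
      rw [← lcs_comm_inv_right hc hu hv, lcs_conj_comm_id, hau]
    rw [e, lcs_comm_mul_right hc hu hv hconj, e2]
    have e3 : ⁅u, v⁆ * (a * ⁅u, v⁆⁻¹ * a⁻¹) = ⁅⁅u, v⁆, a⁆ := by
      rw [commutatorElement_def ⁅u, v⁆ a]; simp only [mul_assoc]
    rw [e3]
    exact Subgroup.commutator_mem_commutator (Subgroup.commutator_mem_commutator hu hv) ha
  have hy' : y ∈ ⁅Y, A⁆ := by rw [hYA]; exact hy
  exact (h1 hy').2

/-- step (i'): `⁅⁅D, B⁆, C_Y(B)⁆ ≤ ⁅Γ, A⁆` -/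
theorem lcs_comm_B_mem (A Y D B : Subgroup G) (hBA : B ≤ A)
    (hBD : B ≤ Subgroup.normalizer (D : Set G)) (hDY : D ≤ Y) (hc : CentralComm D Y)
    (w : G) (hw : w ∈ Y) (hwB : w ∈ Subgroup.centralizer (B : Set G)) (x : G)
    (hx : x ∈ ⁅D, B⁆) : ⁅x, w⁆ ∈ ⁅⁅D, Y⁆, A⁆ := by
  have hDBle : ⁅D, B⁆ ≤ D := Subgroup.le_normalizer_iff_commutator_le_left.mp hBD
  have h1 : ⁅D, B⁆ ≤ leftSub hDY hc ⁅⁅D, Y⁆, A⁆ w hw := by
    rw [Subgroup.commutator_le]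
    intro v hv b hb
    rw [mem_leftSub]
    refine ⟨hDBle (Subgroup.commutator_mem_commutator hv hb), ?_⟩
    have hconj : b * v⁻¹ * b⁻¹ ∈ D := (Subgroup.le_normalizer_iff.mp hBD) b hb _ (D.inv_mem hv)
    have e : ⁅v, b⁆ = v * (b * v⁻¹ * b⁻¹) := by
      rw [commutatorElement_def]; group
    have hbw : b * w * b⁻¹ = w :=
      lcs_conj_of_comm (Subgroup.mem_centralizer_iff.mp hwB b hb)
    have e2 : ⁅b * v⁻¹ * b⁻¹, w⁆ = b * ⁅v, w⁆⁻¹ * b⁻¹ := by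
      rw [← lcs_comm_inv_left hDY hc hv hw, lcs_conj_comm_id, hbw]
    rw [e, lcs_comm_mul_left hDY hc hv hconj hw, e2]
    have e3 : b * ⁅v, w⁆⁻¹ * b⁻¹ * ⁅v, w⁆ = ⁅b, ⁅v, w⁆⁻¹⁆ := by
      rw [commutatorElement_def b ⁅v, w⁆⁻¹, inv_inv]
    rw [e3, Subgroup.commutator_comm]
    exact Subgroup.commutator_mem_commutator (hBA hb)
      (Subgroup.inv_mem _ (Subgroup.commutator_mem_commutator hv hw))
  exact (h1 hx).2

end steps

section main
variable {G : Type*} [Group G]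

theorem lcs_isMulCommutative_of_central {V Y : Subgroup G} (hVY : V ≤ Y)
    (hVc : V ≤ Subgroup.centralizer (Y : Set G)) : IsMulCommutative V :=
  ⟨⟨fun a b => Subtype.ext (by
    have := Subgroup.mem_centralizer_iff.mp (hVc b.2) a (hVY a.2)
    simpa using this)⟩⟩

/-- **S1329-[LCS]**. -/
theorem lcs_lemma {G : Type*} [Group G] [Finite G] (A Y D : Subgroup G)
    (hAab : IsMulCommutative A) (hAY : A ≤ Subgroup.normalizer (Y : Set G))
    (hcop : (Nat.card A).Coprime (Nat.card Y)) (hYA : ⁅Y, A⁆ = Y)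
    (hDY : D ≤ Y) (hDA : A ≤ Subgroup.normalizer (D : Set G))
    (hcent : ⁅D, Y⁆ ≤ Subgroup.centralizer (Y : Set G)) :
    ⁅D, Y⁆ ⊓ Subgroup.centralizer (A : Set G) ≤ ZStar A Y := by
  have := hAab
  have hc : CentralComm D Y := fun u hu y hy z hz =>
    Subgroup.mem_centralizer_iff.mp (hcent (Subgroup.commutator_mem_commutator hu hy)) z hz
  have hsolvA : Group.IsSolvable A := Group.isSolvable_of_comm (fun a b => mul_comm' a b)
  -- `Γ ≤ Y`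
  have hΓY : ⁅D, Y⁆ ≤ Y := by
    rw [Subgroup.commutator_le]
    intro u hu y hy
    rw [commutatorElement_def]
    exact Y.mul_mem (Y.mul_mem (Y.mul_mem (hDY hu) hy) (Y.inv_mem (hDY hu))) (Y.inv_mem hy)
  have hAΓ : A ≤ Subgroup.normalizer ((⁅D, Y⁆ : Subgroup G) : Set G) :=
    lcs_le_normalizer_commutator A D Y hDA hAY
  have hWΓ : ⁅⁅D, Y⁆, A⁆ ≤ ⁅D, Y⁆ := Subgroup.le_normalizer_iff_commutator_le_left.mp hAΓ
  have hΓab : IsMulCommutative (⁅D, Y⁆ : Subgroup G) := lcs_isMulCommutative_of_central hΓY hcent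
  have hcopΓ : (Nat.card A).Coprime (Nat.card (⁅D, Y⁆ : Subgroup G)) :=
    Nat.Coprime.coprime_dvd_right (Subgroup.card_dvd_of_le hΓY) hcop
  -- the generators
  have h3734 : (⨆ B ∈ Cocyc A, ⁅Y ⊓ Subgroup.centralizer (B : Set G), A⁆) = Y :=
    ((Cfsg.Agent.S3734.result A Y hAab hAY hcop).2).trans hYA
  set F : Subgroup G := ⨆ B ∈ Cocyc A,
    (⁅D, Y⁆ ⊓ ⁅Y ⊓ Subgroup.centralizer (B : Set G), A⁆) ⊓ Subgroup.centralizer (A : Set G)
    with hF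
  have hF_le_Z : F ≤ ZStar A Y := by
    refine iSup₂_le fun B hB => le_trans ?_ (le_ZStar A Y hB)
    intro x hx
    exact ⟨⟨hΓY hx.1.1, hx.2⟩, hx.1.2⟩
  have hF_le_Γ : F ≤ ⁅D, Y⁆ := iSup₂_le fun B _ => inf_le_left.trans inf_le_left
  have hF_le_C : F ≤ Subgroup.centralizer (A : Set G) := iSup₂_le fun B _ => inf_le_right
  -- `A` normalizes `Y ⊓ C(B)`, `D ⊓ C(B)`
  have hnormC : ∀ B : Subgroup G, B ≤ A →
      A ≤ Subgroup.normalizer ((Subgroup.centralizer (B : Set G) : Subgroup G) : Set G) :=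
    fun B hBA => Cfsg.Agent.S3734.le_normalizer_centralizer A (fun x hx => hBA hx)
  -- key: `⁅u, w⁆ ∈ F ⊔ W`
  have key : ∀ B ∈ Cocyc A, ∀ u ∈ D, ∀ w ∈ ⁅Y ⊓ Subgroup.centralizer (B : Set G), A⁆,
      ⁅u, w⁆ ∈ F ⊔ ⁅⁅D, Y⁆, A⁆ := by
    intro B hB u hu w hw
    have hBA : B ≤ A := hB.1
    have hAYB : A ≤ Subgroup.normalizer
        ((Y ⊓ Subgroup.centralizer (B : Set G) : Subgroup G) : Set G) :=
      lcs_le_normalizer_inf A _ _ hAY (hnormC B hBA)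
    have hADB : A ≤ Subgroup.normalizer
        ((D ⊓ Subgroup.centralizer (B : Set G) : Subgroup G) : Set G) :=
      lcs_le_normalizer_inf A _ _ hDA (hnormC B hBA)
    have hYBle : ⁅Y ⊓ Subgroup.centralizer (B : Set G), A⁆ ≤
        Y ⊓ Subgroup.centralizer (B : Set G) :=
      Subgroup.le_normalizer_iff_commutator_le_left.mp hAYB
    have hwY : w ∈ Y := (hYBle hw).1
    have hwB : w ∈ Subgroup.centralizer (B : Set G) := (hYBle hw).2
    -- first decomposition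
    have hBD : B ≤ Subgroup.normalizer (D : Set G) := hBA.trans hDA
    have hcopBD : (Nat.card B).Coprime (Nat.card D) :=
      Nat.Coprime.coprime_dvd_left (Subgroup.card_dvd_of_le hBA)
        (Nat.Coprime.coprime_dvd_right (Subgroup.card_dvd_of_le hDY) hcop)
    have hsolvB : Group.IsSolvable B := Group.isSolvable_of_comm (fun a b => Subtype.ext (by
      have := congrArg Subtype.val (mul_comm' (⟨a.1, hBA a.2⟩ : A) ⟨b.1, hBA b.2⟩)
      exact this))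
    obtain ⟨u₂, hu₂, u₁, hu₁, rfl⟩ :=
      Cfsg.Agent.S0026.exists_commutator_mul_fixed B D hBD hcopBD (Or.inl hsolvB) u hu
    have hcopA1 : (Nat.card A).Coprime
        (Nat.card (D ⊓ Subgroup.centralizer (B : Set G) : Subgroup G)) :=
      Nat.Coprime.coprime_dvd_right
        (Subgroup.card_dvd_of_le (inf_le_left.trans hDY)) hcop
    obtain ⟨u'', hu'', u', hu', rfl⟩ :=
      Cfsg.Agent.S0026.exists_commutator_mul_fixed A (D ⊓ Subgroup.centralizer (B : Set G))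
        hADB hcopA1 (Or.inl hsolvA) u₁ hu₁
    -- all three pieces are in the left subgroup
    have hmem : u₂ * (u'' * u') ∈ leftSub hDY hc (F ⊔ ⁅⁅D, Y⁆, A⁆) w hwY := by
      refine Subgroup.mul_mem _ ?_ (Subgroup.mul_mem _ ?_ ?_)
      · rw [mem_leftSub]
        refine ⟨Subgroup.le_normalizer_iff_commutator_le_left.mp hBD hu₂, ?_⟩
        exact (le_sup_right : ⁅⁅D, Y⁆, A⁆ ≤ F ⊔ ⁅⁅D, Y⁆, A⁆)
          (lcs_comm_B_mem A Y D B hBA hBD hDY hc w hwY hwB u₂ hu₂)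
      · rw [mem_leftSub]
        have hu''D : u'' ∈ D :=
          (Subgroup.le_normalizer_iff_commutator_le_left.mp hADB hu'').1
        have hu''YB : u'' ∈ ⁅Y ⊓ Subgroup.centralizer (B : Set G), A⁆ :=
          Subgroup.commutator_mono (inf_le_inf_right _ hDY) le_rfl hu''
        refine ⟨hu''D, ?_⟩
        -- `V = Γ ⊓ Y(B)`
        have hV : ⁅u'', w⁆ ∈ ⁅D, Y⁆ ⊓ ⁅Y ⊓ Subgroup.centralizer (B : Set G), A⁆ := by
          refine ⟨Subgroup.commutator_mem_commutator hu''D hwY, ?_⟩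
          rw [commutatorElement_def]
          exact Subgroup.mul_mem _ (Subgroup.mul_mem _ (Subgroup.mul_mem _ hu''YB hw)
            (Subgroup.inv_mem _ hu''YB)) (Subgroup.inv_mem _ hw)
        have hVY : ⁅D, Y⁆ ⊓ ⁅Y ⊓ Subgroup.centralizer (B : Set G), A⁆ ≤ Y :=
          inf_le_left.trans hΓY
        have : IsMulCommutative
            (⁅D, Y⁆ ⊓ ⁅Y ⊓ Subgroup.centralizer (B : Set G), A⁆ : Subgroup G) :=
          lcs_isMulCommutative_of_central hVY (inf_le_left.trans hcent)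
        have hAV : A ≤ Subgroup.normalizer
            ((⁅D, Y⁆ ⊓ ⁅Y ⊓ Subgroup.centralizer (B : Set G), A⁆ : Subgroup G) : Set G) :=
          lcs_le_normalizer_inf A _ _ hAΓ (Subgroup.normalizer_commutator_ge_right _ A)
        have hcopV : (Nat.card A).Coprime (Nat.card
            (⁅D, Y⁆ ⊓ ⁅Y ⊓ Subgroup.centralizer (B : Set G), A⁆ : Subgroup G)) :=
          Nat.Coprime.coprime_dvd_right (Subgroup.card_dvd_of_le hVY) hcop
        have h55 := (Cfsg.Agent.S0055.result A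
          (⁅D, Y⁆ ⊓ ⁅Y ⊓ Subgroup.centralizer (B : Set G), A⁆) hAV hcopV).2
        rw [← h55] at hV
        refine (sup_le_sup ?_ ?_ : _ ≤ F ⊔ ⁅⁅D, Y⁆, A⁆) hV
        · exact le_iSup₂_of_le B hB le_rfl
        · exact Subgroup.commutator_mono inf_le_left le_rfl
      · rw [mem_leftSub]
        refine ⟨hu'.1.1, ?_⟩
        exact (le_sup_right : ⁅⁅D, Y⁆, A⁆ ≤ F ⊔ ⁅⁅D, Y⁆, A⁆)
          (lcs_fixed_comm_mem A Y D hAY hYA hc u' hu'.1.1 hu'.2 w hwY)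
    exact ((mem_leftSub hDY hc _ w hwY _).mp hmem).2
  -- `Γ ≤ F ⊔ W`
  have hΓ_le : ⁅D, Y⁆ ≤ F ⊔ ⁅⁅D, Y⁆, A⁆ := by
    rw [Subgroup.commutator_le]
    intro u hu y hy
    have h1 : (⨆ B ∈ Cocyc A, ⁅Y ⊓ Subgroup.centralizer (B : Set G), A⁆) ≤
        rightSub hc (F ⊔ ⁅⁅D, Y⁆, A⁆) u hu := by
      refine iSup₂_le fun B hB w hw => ?_
      rw [mem_rightSub]
      have hAYB : A ≤ Subgroup.normalizer
          ((Y ⊓ Subgroup.centralizer (B : Set G) : Subgroup G) : Set G) :=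
        lcs_le_normalizer_inf A _ _ hAY (hnormC B hB.1)
      exact ⟨(Subgroup.le_normalizer_iff_commutator_le_left.mp hAYB hw).1, key B hB u hu w hw⟩
    rw [h3734] at h1
    exact (h1 hy).2
  -- the final step
  intro x hx
  obtain ⟨hxΓ, hxC⟩ := hx
  have hx' := hΓ_le hxΓ
  have hFW : F ≤ Subgroup.normalizer ((⁅⁅D, Y⁆, A⁆ : Subgroup G) : Set G) := by
    rw [Subgroup.le_normalizer_iff]
    intro f hf c hcW
    have hcomm : f * c = c * f :=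
      Subgroup.mem_centralizer_iff.mp (hcent (hWΓ hcW)) f (hΓY (hF_le_Γ hf))
    rw [lcs_conj_of_comm hcomm]
    exact hcW
  rw [← SetLike.mem_coe, Subgroup.coe_mul_of_left_le_normalizer_right F _ hFW] at hx'
  obtain ⟨f, hf, c, hcW, hfc⟩ := hx'
  have hfc' : f * c = x := hfc
  subst hfc'
  have hcC : c ∈ Subgroup.centralizer (A : Set G) := by
    have := Subgroup.mul_mem _ (Subgroup.inv_mem _ (hF_le_C hf)) hxC
    simpa using this
  have hc1 : c ∈ (⁅D, Y⁆ ⊓ Subgroup.centralizer (A : Set G)) ⊓ ⁅⁅D, Y⁆, A⁆ :=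
    ⟨⟨hWΓ hcW, hcC⟩, hcW⟩
  rw [(Cfsg.Agent.S0055.result A ⁅D, Y⁆ hAΓ hcopΓ).1, Subgroup.mem_bot] at hc1
  rw [hc1, mul_one]
  exact hF_le_Z hf

end main

end Cfsg.Agent.Lib.Helper75.CFG
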