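import Mathlib
import Cfsg.Prelude.Def_Blocks
import Cfsg.Prelude.Def_CharExt
import Cfsg.Prelude.Def_Transfer
import Cfsg.Agent.Lib.Helper75.GaloisPow
import Cfsg.Agent.Lib.Helper15.DetChar
import Cfsg.Agent.Lib.Helper15.OddGalois
import Cfsg.Agent.Lib.Helper81.IrrTwist
import Cfsg.Agent.Lib.Helper81.Gallagher

set_option autoImplicit false
open Cfsg

namespace Cfsg.Agent.Lib.Helper75

section Det

variable {G : Type*} [Group G] [Finite G]

/-- The determinantal character commutes with ring endomorphisms of `ℂ`. -/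
theorem detChar_galois {χ : G → ℂ} (hχ : IsCharacter G χ) (σ : ℂ →+* ℂ) (g : G) :
    Cfsg.detChar (fun x => σ (χ x)) g = σ (Cfsg.detChar χ g) := by
  obtain ⟨n, ρ, rfl⟩ := hχ
  have h1 : (fun x => σ (ρ.character x)) =
      (Cfsg.Agent.Lib.Helper81.galoisTwist σ ρ).character := by
    funext x
    rw [Cfsg.Agent.Lib.Helper81.galoisTwist_character]
  rw [h1, Cfsg.Agent.Lib.Helper15.detChar_eq_det, Cfsg.Agent.Lib.Helper15.detChar_eq_det,
    Cfsg.Agent.Lib.Helper81.galoisTwist_apply, LinearMap.det_toLin', ← RingHom.mapMatrix_apply,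
    ← RingHom.map_det, LinearMap.det_toMatrix']

end Det

section PPart

variable {G : Type*} [Group G] [Finite G]

/-- Global exponents splitting every element into its `p`-part and `p'`-part. -/
theorem exists_pPart_exponents (p : ℕ) [hp : Fact p.Prime] :
    ∃ α β : ℕ, ∀ g : G, (∃ j : ℕ, orderOf (g ^ α) = p ^ j) ∧
      Nat.Coprime (orderOf (g ^ β)) p ∧ g ^ α * g ^ β = g := by
  set c := Nat.card G with hc
  have hcpos : 0 < c := Nat.card_pos
  set a := c.factorization p with ha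
  set n' := c / p ^ a with hn'
  have hcop : Nat.Coprime (p ^ a) n' := by
    apply Nat.Coprime.pow_left
    exact Nat.coprime_ordCompl hp.out hcpos.ne'
  have hprod : p ^ a * n' = c := Nat.ordProj_mul_ordCompl_eq_self c p
  -- CRT
  obtain ⟨α, hα1, hα2⟩ : ∃ α : ℕ, α ≡ 1 [MOD p ^ a] ∧ α ≡ 0 [MOD n'] :=
    ⟨Nat.chineseRemainder hcop 1 0, (Nat.chineseRemainder hcop 1 0).2.1,
      (Nat.chineseRemainder hcop 1 0).2.2⟩
  obtain ⟨β, hβ1, hβ2⟩ : ∃ β : ℕ, β ≡ 0 [MOD p ^ a] ∧ β ≡ 1 [MOD n'] :=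
    ⟨Nat.chineseRemainder hcop 0 1, (Nat.chineseRemainder hcop 0 1).2.1,
      (Nat.chineseRemainder hcop 0 1).2.2⟩
  have hsum : α + β ≡ 1 [MOD c] := by
    rw [← hprod]
    apply (Nat.modEq_and_modEq_iff_modEq_mul hcop).mp
    constructor
    · simpa using Nat.ModEq.add hα1 hβ1
    · simpa using Nat.ModEq.add hα2 hβ2
  refine ⟨α, β, fun g => ⟨?_, ?_, ?_⟩⟩
  · have h1 : (g ^ α) ^ (p ^ a) = 1 := by
      rw [← pow_mul]
      have h2 : c ∣ α * p ^ a := by
        rw [← hprod, mul_comm α]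
        exact Nat.mul_dvd_mul_left _ ((Nat.modEq_zero_iff_dvd).mp hα2)
      obtain ⟨q, hq⟩ := h2
      rw [hq, pow_mul, hc, pow_card_eq_one', one_pow]
    obtain ⟨j, -, hj⟩ := (Nat.dvd_prime_pow hp.out).mp (orderOf_dvd_of_pow_eq_one h1)
    exact ⟨j, hj⟩
  · have h1 : (g ^ β) ^ n' = 1 := by
      rw [← pow_mul]
      have h2 : c ∣ β * n' := by
        rw [← hprod, mul_comm β, mul_comm (p ^ a)]
        exact Nat.mul_dvd_mul_left _ ((Nat.modEq_zero_iff_dvd).mp hβ1)
      obtain ⟨q, hq⟩ := h2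
      rw [hq, pow_mul, hc, pow_card_eq_one', one_pow]
    have h3 : Nat.Coprime n' p := (Nat.coprime_ordCompl hp.out hcpos.ne').symm
    exact Nat.Coprime.coprime_dvd_left (orderOf_dvd_of_pow_eq_one h1) h3
  · rw [← pow_add]
    have h1 : g ^ (α + β) = g ^ 1 :=
      pow_eq_pow_iff_modEq.mpr (hsum.of_dvd (orderOf_dvd_natCard g))
    rw [h1, pow_one]

end PPart

end Cfsg.Agent.Lib.Helper75
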