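import Mathlib
import Cfsg.Agent.Lib.Helper75.BrolineGarrison
import Cfsg.Agent.Lib.Helper77.Deflation

/-!
# Garrison's theorem: nilpotent length is at most the number of character degrees (helper75)

* `isNilpotent_section_comap` : nilpotency of a section `Ā/B̄` of a quotient lifts to the
  corresponding section of the group.
* `cdSet`, `ncard_cdSet_quotient_fitting_lt` : `|cd(G / F(G))| < |cd(G)|` for solvable
  non-nilpotent `G` (via Broline–Garrison).
* `garrison` : Isaacs 12.21.
-/

set_option autoImplicit false

universe u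

namespace Cfsg.Agent.Lib.Helper75

open Cfsg

section Quot

variable {G : Type*} [Group G]

/-- quotients of nilpotent subgroups are nilpotent -/
theorem isNilpotent_quotient_subgroupOf (A B : Subgroup G) (hA : Group.IsNilpotent A)
    (_h : (B.subgroupOf A).Normal) : Group.IsNilpotent (↥A ⧸ B.subgroupOf A) :=
  inferInstance

/-- nilpotency of a section of a quotient lifts to the corresponding section of the group -/
theorem isNilpotent_section_comap {Gb : Type*} [Group Gb] (f : G →* Gb) (A B : Subgroup G)
    (Ab Bb : Subgroup Gb) (hA : A = Ab.comap f) (hB : B = Bb.comap f)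
    (hb : (Bb.subgroupOf Ab).Normal) (hnil : Group.IsNilpotent (↥Ab ⧸ Bb.subgroupOf Ab))
    (h : (B.subgroupOf A).Normal) : Group.IsNilpotent (↥A ⧸ B.subgroupOf A) := by
  subst hA hB
  have hle : (Bb.comap f).subgroupOf (Ab.comap f) ≤
      (Bb.subgroupOf Ab).comap (f.subgroupComap Ab) := by
    intro x hx
    rw [Subgroup.mem_comap, Subgroup.mem_subgroupOf]
    rw [Subgroup.mem_subgroupOf, Subgroup.mem_comap] at hx
    exact hx
  let ψ := QuotientGroup.map ((Bb.comap f).subgroupOf (Ab.comap f)) (Bb.subgroupOf Ab)
    (f.subgroupComap Ab) hle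
  have hinj : Function.Injective ψ := by
    rw [← MonoidHom.ker_eq_bot_iff, eq_bot_iff]
    intro x hx
    obtain ⟨y, rfl⟩ := QuotientGroup.mk_surjective x
    rw [MonoidHom.mem_ker] at hx
    change ((f.subgroupComap Ab y : Ab) : Ab ⧸ Bb.subgroupOf Ab) = 1 at hx
    rw [QuotientGroup.eq_one_iff, Subgroup.mem_subgroupOf] at hx
    rw [Subgroup.mem_bot, QuotientGroup.eq_one_iff, Subgroup.mem_subgroupOf, Subgroup.mem_comap]
    exact hx
  have : Group.IsNilpotent ψ.range := inferInstance
  exact Group.nilpotent_of_mulEquiv (MonoidHom.ofInjective hinj).symm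

end Quot

section Garrison

open Cfsg.Agent.Lib.Helper78

/-- the set of irreducible character degrees -/
def cdSet (G : Type*) [Group G] : Set ℕ :=
  {d | ∃ χ : IrrCharacter G, charDegree (χ : G → ℂ) = d}

theorem cdSet_finite (G : Type*) [Group G] [Finite G] : (cdSet G).Finite := by
  have : cdSet G = Set.range (fun χ : IrrCharacter G => charDegree (χ : G → ℂ)) := by
    ext d
    simp [cdSet]
  rw [this]
  exact Set.finite_range _

theorem one_mem_cdSet (G : Type u) [Group G] : 1 ∈ cdSet G :=
  ⟨trivIrr G, charDegree_trivIrr⟩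

/-- Garrison's step: passing to `G / F(G)` loses the largest character degree. -/
theorem ncard_cdSet_quotient_fitting_lt (G : Type u) [Group G] [Finite G]
    (hsolv : Group.IsSolvable G) (hF : Cfsg.fittingSubgroup G ≠ ⊤) :
    (cdSet (G ⧸ Cfsg.fittingSubgroup G)).ncard < (cdSet G).ncard := by
  classical
  set F := Cfsg.fittingSubgroup G with hFdef
  obtain ⟨f, hf, hmax⟩ := Set.exists_max_image (cdSet G) id (cdSet_finite G) ⟨1, one_mem_cdSet G⟩
  have hsub : cdSet (G ⧸ F) ⊆ cdSet G \ {f} := by
    rintro d ⟨χ', rfl⟩
    set χ : IrrCharacter G := Cfsg.Agent.Lib.Helper77.inflate F χ' with hχ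
    have hdeg : charDegree (χ : G → ℂ) = charDegree (χ' : G ⧸ F → ℂ) := by
      unfold charDegree
      rw [hχ, Cfsg.Agent.Lib.Helper77.inflate_apply]
      rfl
    refine ⟨⟨χ, hdeg⟩, ?_⟩
    rw [Set.mem_singleton_iff]
    intro hdf
    have hχc : IsCharacter G (χ : G → ℂ) := IsIrrCharacter.isCharacter χ.2
    set K := Cfsg.Agent.Lib.Helper80.charKer (χ : G → ℂ) hχc with hK
    have hFK : F ≤ K := by
      intro n hn
      exact Cfsg.Agent.Lib.Helper77.inflate_apply_of_mem F χ' n hn
    have hcase : ¬ K ≤ Cfsg.fittingSubgroup G ∨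
        (K = Cfsg.fittingSubgroup G ∧ Group.IsSolvable (G ⧸ K) ∧ K ≠ ⊤) := by
      by_cases hKF : K ≤ Cfsg.fittingSubgroup G
      · right
        have hKeq : K = Cfsg.fittingSubgroup G := le_antisymm hKF hFK
        refine ⟨hKeq, inferInstance, ?_⟩
        rw [hKeq]
        exact hF
      · left; exact hKF
    obtain ⟨ψ, hψ, -⟩ := broline_garrison χ K (fun g => Iff.rfl) hcase
    have h1 := hmax _ ⟨ψ, rfl⟩
    simp only [id] at h1
    omega
  have hfin : (cdSet G \ {f}).Finite := (cdSet_finite G).subset Set.sdiff_subset
  calc (cdSet (G ⧸ F)).ncard ≤ (cdSet G \ {f}).ncard := Set.ncard_le_ncard hsub hfin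
    _ < (cdSet G).ncard := by
      rw [Set.ncard_sdiff_singleton_of_mem hf]
      have : 0 < (cdSet G).ncard := (Set.ncard_pos (cdSet_finite G)).mpr ⟨1, one_mem_cdSet G⟩
      omega

/-- **Garrison**: nilpotent length at most the number of character degrees (flexible form). -/
theorem garrison_aux : ∀ (n : ℕ) (G : Type u) [Group G] [Finite G], Group.IsSolvable G →
    (cdSet G).ncard ≤ n →
    ∃ N : Fin (n + 1) → Subgroup G, N 0 = ⊥ ∧ N (Fin.last n) = ⊤ ∧ Monotone N ∧
      (∀ i, (N i).Normal) ∧
      ∀ i : Fin n, ∀ h : ((N i.castSucc).subgroupOf (N i.succ)).Normal,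
        Group.IsNilpotent (↥(N i.succ) ⧸ (N i.castSucc).subgroupOf (N i.succ)) := by
  intro n
  induction n with
  | zero =>
    intro G _ _ _ hcard
    exfalso
    have : 0 < (cdSet G).ncard := (Set.ncard_pos (cdSet_finite G)).mpr ⟨1, one_mem_cdSet G⟩
    omega
  | succ n ih =>
    intro G _ _ hsolv hcard
    by_cases hF : Cfsg.fittingSubgroup G = ⊤
    · -- `G` nilpotent
      have hGnil : Group.IsNilpotent G := by
        have h1 : Group.IsNilpotent (Cfsg.fittingSubgroup G) :=
          Cfsg.Agent.Lib.Helper71.fittingSubgroup_isNilpotent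
        rw [hF] at h1
        exact Group.nilpotent_of_mulEquiv Subgroup.topEquiv
      refine ⟨fun i => if i = 0 then ⊥ else ⊤, by simp, ?_, ?_, ?_, ?_⟩
      · have : Fin.last (n + 1) ≠ 0 := Fin.last_pos.ne'
        simp [this]
      · intro i j hij
        by_cases hi : i = 0
        · simp [hi]
        · have hj : j ≠ 0 := by
            intro hj
            rw [hj] at hij
            exact hi (Fin.le_zero_iff.mp hij)
          simp [hi, hj]
      · intro i
        by_cases hi : i = 0
        · simp only [hi, if_true]; infer_instance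
        · simp only [hi, if_false]; infer_instance
      · intro i h
        apply isNilpotent_quotient_subgroupOf _ _ _ h
        have hne : i.succ ≠ 0 := Fin.succ_ne_zero i
        change Group.IsNilpotent ↥(if i.succ = 0 then (⊥ : Subgroup G) else ⊤)
        rw [if_neg hne]
        infer_instance
    · -- induction via `G / F(G)`
      have hlt := ncard_cdSet_quotient_fitting_lt G hsolv hF
      have hsolvq : Group.IsSolvable (G ⧸ Cfsg.fittingSubgroup G) := inferInstance
      obtain ⟨Nb, hNb0, hNbl, hNbm, hNbn, hNbq⟩ :=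
        ih (G ⧸ Cfsg.fittingSubgroup G) hsolvq (by omega)
      let f := QuotientGroup.mk' (Cfsg.fittingSubgroup G)
      let N : Fin (n + 1 + 1) → Subgroup G :=
        fun i => Fin.cases ⊥ (fun j => (Nb j).comap f) i
      have hN0 : N 0 = ⊥ := rfl
      have hNs : ∀ j : Fin (n + 1), N j.succ = (Nb j).comap f := by
        intro j
        simp only [N, Fin.cases_succ]
      refine ⟨N, hN0, ?_, ?_, ?_, ?_⟩
      · rw [← Fin.succ_last, hNs, hNbl, Subgroup.comap_top]
      · intro i j hij
        induction i using Fin.cases with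
        | zero => rw [hN0]; exact bot_le
        | succ i =>
          induction j using Fin.cases with
          | zero => exact absurd hij (by simp [Fin.succ_ne_zero])
          | succ j =>
            rw [hNs, hNs]
            exact Subgroup.comap_mono (hNbm (Fin.succ_le_succ_iff.mp hij))
      · intro i
        induction i using Fin.cases with
        | zero => rw [hN0]; infer_instance
        | succ i =>
          rw [hNs]
          exact (hNbn i).comap f
      · intro i h
        induction i using Fin.cases with
        | zero =>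
          apply isNilpotent_quotient_subgroupOf _ _ _ h
          have h1 : N (Fin.succ (0 : Fin (n + 1))) = Cfsg.fittingSubgroup G := by
            rw [hNs, hNb0, MonoidHom.comap_bot, QuotientGroup.ker_mk']
          rw [h1]
          exact Cfsg.Agent.Lib.Helper71.fittingSubgroup_isNilpotent
        | succ i =>
          have hn : ((Nb i.castSucc).subgroupOf (Nb i.succ)).Normal := by
            have := hNbn i.castSucc
            infer_instance
          exact isNilpotent_section_comap f _ _ (Nb i.succ) (Nb i.castSucc)
            (hNs i.succ) (by rw [← Fin.succ_castSucc, hNs]) hn (hNbq i hn) h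

/-- **Garrison**: a solvable group with `n` character degrees has nilpotent length at most `n`. -/
theorem garrison {G : Type u} [Group G] [Finite G] (hsolv : Group.IsSolvable G) (n : ℕ)
    (hcd : Nat.card {d : ℕ // ∃ χ : Cfsg.IrrCharacter G, Cfsg.charDegree (χ : G → ℂ) = d} = n) :
    ∃ N : Fin (n + 1) → Subgroup G, N 0 = ⊥ ∧ N (Fin.last n) = ⊤ ∧ Monotone N ∧
      (∀ i, (N i).Normal) ∧
      ∀ i : Fin n, ∀ _h : (N i.castSucc).subgroupOf (N i.succ) |>.Normal,
        Group.IsNilpotent (↥(N i.succ) ⧸ (N i.castSucc).subgroupOf (N i.succ)) := by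
  apply garrison_aux n G hsolv
  rw [← hcd, ← _root_.Nat.card_coe_set_eq]
  exact le_of_eq rfl

end Garrison

end Cfsg.Agent.Lib.Helper75
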