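import Mathlib
import Cfsg.Agent.Lib.Helper88.GlaubSubDefs

set_option autoImplicit false
set_option linter.unusedSectionVars false

/-!
# S5278 module [ACT-B2] (helper75): `p`-minimality from generation by two conjugates

A finite group generated by `A` and `A^x` for every `x` outside a proper subgroup `Ms ≥ A`
(`A` a `p`-group) is `p`-minimal, and `Ms` is its unique maximal subgroup over a Sylow
`p`-subgroup containing `A`.
-/

namespace Cfsg.Agent.Lib.Helper75.GlaubSub

open Cfsg Cfsg.Agent.Lib.Helper88.GlaubSub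

section Core

variable {L : Type*} [Group L] [Finite L] {p : ℕ} [Fact p.Prime]

/-- proper overgroups of `A` lie in `M` -/
theorem le_of_generation (A M : Subgroup L)
    (hgen : ∀ x : L, x ∉ M → A ⊔ A.map (MulAut.conj x).toMonoidHom = ⊤)
    (Y : Subgroup L) (hAY : A ≤ Y) (hY : Y ≠ ⊤) : Y ≤ M := by
  intro y hy
  by_contra hyM
  apply hY
  rw [eq_top_iff, ← hgen y hyM]
  apply sup_le hAY
  rintro _ ⟨a, ha, rfl⟩
  show y * a * y⁻¹ ∈ Y
  exact Y.mul_mem (Y.mul_mem hy (hAY ha)) (Y.inv_mem hy)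

theorem isCoatom_of_generation (A M : Subgroup L) (hAM : A ≤ M) (hM : M ≠ ⊤)
    (hgen : ∀ x : L, x ∉ M → A ⊔ A.map (MulAut.conj x).toMonoidHom = ⊤) : IsCoatom M := by
  refine ⟨hM, ?_⟩
  intro Y hMY
  by_contra hY
  exact (not_le_of_gt hMY) (le_of_generation A M hgen Y (hAM.trans hMY.le) hY)

/-- the group is not a `p`-group -/
theorem not_isPGroup_of_generation (A M : Subgroup L) (hAM : A ≤ M) (hM : M ≠ ⊤)
    (hgen : ∀ x : L, x ∉ M → A ⊔ A.map (MulAut.conj x).toMonoidHom = ⊤) : ¬ IsPGroup p L := by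
  intro hL
  have : Group.IsNilpotent L := hL.isNilpotent
  have hco := isCoatom_of_generation A M hAM hM hgen
  have hnorm : M.Normal :=
    Subgroup.NormalizerCondition.normal_of_coatom M Group.normalizerCondition_of_isNilpotent hco
  obtain ⟨x, hx⟩ : ∃ x : L, x ∉ M := by
    by_contra h
    exact hM (eq_top_iff.mpr fun x _ => not_not.mp (not_exists.mp h x))
  apply hM
  rw [eq_top_iff, ← hgen x hx]
  apply sup_le hAM
  rintro _ ⟨a, ha, rfl⟩
  show x * a * x⁻¹ ∈ M
  exact hnorm.conj_mem a (hAM ha) x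

/-- a Sylow subgroup over `A` lies in `M`, is not normal, and `M` is the only coatom over it -/
theorem sylow_facts (A M : Subgroup L) (hAM : A ≤ M) (hM : M ≠ ⊤)
    (hgen : ∀ x : L, x ∉ M → A ⊔ A.map (MulAut.conj x).toMonoidHom = ⊤)
    (S : Sylow p L) (hAS : A ≤ (S : Subgroup L)) :
    (S : Subgroup L) ≤ M ∧ ¬ (S : Subgroup L).Normal ∧
      ∀ K : Subgroup L, IsCoatom K → (S : Subgroup L) ≤ K → K = M := by
  have hStop : (S : Subgroup L) ≠ ⊤ := by
    intro h
    apply not_isPGroup_of_generation (p := p) A M hAM hM hgen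
    have h1 : IsPGroup p (S : Subgroup L) := S.isPGroup'
    rw [h] at h1
    intro g
    obtain ⟨k, hk⟩ := h1 ⟨g, Subgroup.mem_top g⟩
    exact ⟨k, by simpa [Subtype.ext_iff] using hk⟩
  have hSM : (S : Subgroup L) ≤ M := le_of_generation A M hgen _ hAS hStop
  refine ⟨hSM, ?_, ?_⟩
  · intro hnorm
    obtain ⟨x, hx⟩ : ∃ x : L, x ∉ M := by
      by_contra h
      exact hM (eq_top_iff.mpr fun x _ => not_not.mp (not_exists.mp h x))
    apply hStop
    rw [eq_top_iff, ← hgen x hx]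
    apply sup_le hAS
    rintro _ ⟨a, ha, rfl⟩
    show x * a * x⁻¹ ∈ (S : Subgroup L)
    exact hnorm.conj_mem a (hAS ha) x
  · intro K hK hSK
    have hKM : K ≤ M := le_of_generation A M hgen K (hAS.trans hSK) hK.1
    rcases eq_or_lt_of_le hKM with h | h
    · exact h
    · exact absurd (hK.2 M h) hM

theorem conj_comp (g x : L) :
    (MulAut.conj x).toMonoidHom.comp (MulAut.conj g).toMonoidHom =
      (MulAut.conj (x * g)).toMonoidHom := by
  ext a
  simp [mul_assoc]

/-- the generation hypothesis is invariant under conjugation -/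
theorem generation_conj (A M : Subgroup L)
    (hgen : ∀ x : L, x ∉ M → A ⊔ A.map (MulAut.conj x).toMonoidHom = ⊤) (g : L) :
    ∀ x : L, x ∉ M.map (MulAut.conj g).toMonoidHom →
      A.map (MulAut.conj g).toMonoidHom ⊔
        (A.map (MulAut.conj g).toMonoidHom).map (MulAut.conj x).toMonoidHom = ⊤ := by
  intro x hx
  have hx' : g⁻¹ * x * g ∉ M := by
    intro h
    apply hx
    refine ⟨g⁻¹ * x * g, h, ?_⟩
    show g * (g⁻¹ * x * g) * g⁻¹ = x
    group
  have h1 := hgen _ hx'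
  have h2 : (A ⊔ A.map (MulAut.conj (g⁻¹ * x * g)).toMonoidHom).map (MulAut.conj g).toMonoidHom =
      ⊤ := by
    rw [h1, ← MonoidHom.range_eq_map, MonoidHom.range_eq_top]
    exact (MulAut.conj g).surjective
  rw [Subgroup.map_sup, Subgroup.map_map, conj_comp] at h2
  rw [Subgroup.map_map, conj_comp, ← h2]
  congr 3
  group

theorem map_conj_ne_top (M : Subgroup L) (hM : M ≠ ⊤) (g : L) :
    M.map (MulAut.conj g).toMonoidHom ≠ ⊤ := by
  intro h
  apply hM
  rw [eq_top_iff]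
  intro x _
  have : g * x * g⁻¹ ∈ M.map (MulAut.conj g).toMonoidHom := by rw [h]; trivial
  obtain ⟨m, hm, hmx⟩ := this
  have hmx' : g * m * g⁻¹ = g * x * g⁻¹ := hmx
  have : m = x := by
    have := mul_right_cancel hmx'
    exact mul_left_cancel this
  rw [← this]
  exact hm

/-- **Core of [ACT-B2]** in the group `L` itself. -/
theorem pminimal_core (A M : Subgroup L) (hA : IsPGroup p A) (hAM : A ≤ M) (hM : M ≠ ⊤)
    (hgen : ∀ x : L, x ∉ M → A ⊔ A.map (MulAut.conj x).toMonoidHom = ⊤) :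
    IsPMinimal p L ∧ IsCoatom M ∧
      ∃ Ts : Sylow p L, A ≤ (Ts : Subgroup L) ∧ (Ts : Subgroup L) ≤ M := by
  obtain ⟨Ts, hTs⟩ := hA.exists_le_sylow
  refine ⟨?_, isCoatom_of_generation A M hAM hM hgen, Ts, hTs,
    (sylow_facts A M hAM hM hgen Ts hTs).1⟩
  intro S
  obtain ⟨g, rfl⟩ := MulAction.exists_smul_eq L Ts S
  have hgen' := generation_conj A M hgen g
  have hAM' : A.map (MulAut.conj g).toMonoidHom ≤ M.map (MulAut.conj g).toMonoidHom :=
    Subgroup.map_mono hAM
  have hM' := map_conj_ne_top M hM g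
  have hAS : A.map (MulAut.conj g).toMonoidHom ≤ ((g • Ts : Sylow p L) : Subgroup L) := by
    rintro _ ⟨a, ha, rfl⟩
    rw [Sylow.coe_subgroup_smul]
    exact Subgroup.smul_mem_pointwise_smul a (MulAut.conj g) _ (hTs ha)
  obtain ⟨h1, h2, h3⟩ := sylow_facts _ _ hAM' hM' hgen' (g • Ts) hAS
  refine ⟨h2, M.map (MulAut.conj g).toMonoidHom,
    ⟨isCoatom_of_generation _ _ hAM' hM' hgen', h1⟩, ?_⟩
  rintro K ⟨hK, hSK⟩
  exact h3 K hK hSK

end Core

section Main

universe u

variable {Hh U : Type u} [Group Hh] [Finite Hh] [CommGroup U] [Finite U] [MulDistribMulAction Hh U]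
  {p : ℕ} [Fact p.Prime]

/-- [ACT-B2] a group generated by `A` and `A^x` for every `x` outside a proper subgroup `Ms ≥ A`
(`A` a `p`-group) is `p`-minimal, `Ms` is its unique maximal subgroup over a Sylow `p`-subgroup
containing `A`. -/
theorem pminimal_of_generation (Ls Ms A : Subgroup Hh) (hA : IsPGroup p A) (hAMs : A ≤ Ms)
    (hMs : Ms ≤ Ls) (hne : ¬ Ls ≤ Ms)
    (hgen : ∀ x ∈ Ls, x ∉ Ms → A ⊔ A.map (MulAut.conj x).toMonoidHom = Ls) :
    IsPMinimal p ↥Ls ∧ IsCoatom (Ms.subgroupOf Ls) ∧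
      ∃ Ts : Sylow p ↥Ls, A ≤ (Ts : Subgroup ↥Ls).map Ls.subtype ∧
        (Ts : Subgroup ↥Ls) ≤ Ms.subgroupOf Ls := by
  have hALs : A ≤ Ls := hAMs.trans hMs
  have hA' : IsPGroup p (A.subgroupOf Ls) := hA.comap_of_injective Ls.subtype Ls.subtype_injective
  have hAM' : A.subgroupOf Ls ≤ Ms.subgroupOf Ls := fun x hx => hAMs hx
  have hM' : Ms.subgroupOf Ls ≠ ⊤ := fun h => hne (Subgroup.subgroupOf_eq_top.mp h)
  have hgen' : ∀ x : ↥Ls, x ∉ Ms.subgroupOf Ls →
      A.subgroupOf Ls ⊔ (A.subgroupOf Ls).map (MulAut.conj x).toMonoidHom = ⊤ := by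
    intro x hx
    have h1 := hgen (x : Hh) x.2 hx
    apply Subgroup.map_injective Ls.subtype_injective
    rw [Subgroup.map_sup, Subgroup.map_map, Subgroup.map_subgroupOf_eq_of_le hALs,
      ← MonoidHom.range_eq_map, Subgroup.range_subtype]
    have h2 : (A.subgroupOf Ls).map (Ls.subtype.comp (MulAut.conj x).toMonoidHom) =
        A.map (MulAut.conj (x : Hh)).toMonoidHom := by
      have h3 : Ls.subtype.comp (MulAut.conj x).toMonoidHom =
          (MulAut.conj (x : Hh)).toMonoidHom.comp Ls.subtype := by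
        ext a
        simp
      rw [h3, ← Subgroup.map_map, Subgroup.map_subgroupOf_eq_of_le hALs]
    rw [h2, h1]
  obtain ⟨h1, h2, Ts, h3, h4⟩ := pminimal_core (p := p) _ _ hA' hAM' hM' hgen'
  refine ⟨h1, h2, Ts, ?_, h4⟩
  intro a ha
  exact ⟨⟨a, hALs ha⟩, h3 ha, rfl⟩

end Main

end Cfsg.Agent.Lib.Helper75.GlaubSub
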