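import Mathlib
import Cfsg.Agent.Lib.Helper88.GlaubSubDefs

set_option autoImplicit false
set_option linter.unusedSectionVars false

/-!
# S5278 module [ACT-C] (helper75): S2999 in action form

Transport of the statement of S2999 through the semidirect product `U ⋊ Hh`.
-/

namespace Cfsg.Agent.Lib.Helper75.GlaubSub

open Cfsg Cfsg.Agent.Lib.Helper88.GlaubSub
open scoped commutatorElement

section Equiv

variable {H K : Type*} [Group H] [Group K] {p : ℕ} [Fact p.Prime]

theorem isCoatom_map_equiv (e : H ≃* K) (M : Subgroup H) (hM : IsCoatom M) :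
    IsCoatom (M.map e.toMonoidHom) := by
  have h := (OrderIso.isCoatom_iff (MulEquiv.mapSubgroup e) M).mpr hM
  simpa using h

theorem isCoatom_comap_equiv (e : H ≃* K) (M : Subgroup K) (hM : IsCoatom M) :
    IsCoatom (M.comap e.toMonoidHom) := by
  have h := (OrderIso.isCoatom_iff (MulEquiv.comapSubgroup e) M).mpr hM
  simpa using h

/-- `p`-minimality is invariant under isomorphism. -/
theorem isPMinimal_of_mulEquiv (e : H ≃* K) (h : IsPMinimal p H) : IsPMinimal p K := by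
  intro S'
  have hrange : (S' : Subgroup K) ≤ e.toMonoidHom.range := by
    rw [MonoidHom.range_eq_top.mpr e.surjective]
    exact le_top
  have hinj : Function.Injective e.toMonoidHom := e.injective
  obtain ⟨hn, M, ⟨hMco, hSM⟩, huniq⟩ := h (S'.comapOfInjective e.toMonoidHom hinj hrange)
  have hcoe : ((S'.comapOfInjective e.toMonoidHom hinj hrange : Sylow p H) : Subgroup H) =
      (S' : Subgroup K).comap e.toMonoidHom := Sylow.coe_comapOfInjective _ _ _ _
  rw [hcoe] at hn hSM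
  have hmc : ∀ X : Subgroup K, (X.comap e.toMonoidHom).map e.toMonoidHom = X := fun X =>
    Subgroup.map_comap_eq_self_of_surjective e.surjective X
  refine ⟨fun hnorm => hn (hnorm.comap e.toMonoidHom), M.map e.toMonoidHom,
    ⟨isCoatom_map_equiv e M hMco, ?_⟩, ?_⟩
  · rw [← hmc (S' : Subgroup K)]
    exact Subgroup.map_mono hSM
  · rintro K' ⟨hK'co, hK'⟩
    have h1 := huniq (K'.comap e.toMonoidHom) ⟨isCoatom_comap_equiv e K' hK'co, by
      rw [hcoe]
      exact Subgroup.comap_mono hK'⟩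
    rw [← h1, hmc]

end Equiv

section Semi

universe u

variable {Hh U : Type u} [Group Hh] [CommGroup U] [MulDistribMulAction Hh U]

/-- the semidirect product `U ⋊ Hh` -/
abbrev Amb (Hh U : Type u) [Group Hh] [CommGroup U] [MulDistribMulAction Hh U] : Type u :=
  U ⋊[MulDistribMulAction.toMulAut Hh U] Hh

/-- `U → U ⋊ Hh` -/
def iL : U →* Amb Hh U := SemidirectProduct.inl

/-- `Hh → U ⋊ Hh` -/
def iR : Hh →* Amb Hh U := SemidirectProduct.inr

theorem iL_injective : Function.Injective (iL : U →* Amb Hh U) := SemidirectProduct.inl_injective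

theorem iR_injective : Function.Injective (iR : Hh →* Amb Hh U) := SemidirectProduct.inr_injective

theorem inr_conj_inl (h : Hh) (u : U) :
    (iR h : Amb Hh U) * iL u * (iR h)⁻¹ = iL (h • u) := by
  have := SemidirectProduct.inl_aut (φ := MulDistribMulAction.toMulAut Hh U) h u
  rw [← map_inv]
  exact this.symm

theorem inr_mul_inl (h : Hh) (u : U) : (iR h : Amb Hh U) * iL u = iL (h • u) * iR h := by
  rw [← inr_conj_inl]
  group

theorem commute_iff (h : Hh) (u : U) :
    (iR h : Amb Hh U) * iL u = iL u * iR h ↔ h • u = u := by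
  rw [inr_mul_inl]
  constructor
  · intro hh
    exact iL_injective (mul_right_cancel hh)
  · intro hh
    rw [hh]

theorem normal_range_iL : ((iL : U →* Amb Hh U).range).Normal := by
  have h : (iL : U →* Amb Hh U).range =
      (SemidirectProduct.rightHom : Amb Hh U →* Hh).ker :=
    SemidirectProduct.range_inl_eq_ker_rightHom
  rw [h]
  exact MonoidHom.normal_ker _

/-- the centralizer in `U` of the image of `B` is the image of the fixed points -/
theorem range_inf_centralizer (B : Subgroup Hh) :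
    (iL : U →* Amb Hh U).range ⊓
      Subgroup.centralizer ((B.map (iR : Hh →* Amb Hh U) : Subgroup (Amb Hh U)) : Set (Amb Hh U)) =
      (fixOf (U := U) B).map iL := by
  ext x
  constructor
  · rintro ⟨⟨u, rfl⟩, hc⟩
    refine ⟨u, ?_, rfl⟩
    intro b hb
    have h1 := Subgroup.mem_centralizer_iff.mp hc (iR b) ⟨b, hb, rfl⟩
    exact (commute_iff b u).mp h1
  · rintro ⟨u, hu, rfl⟩
    refine ⟨⟨u, rfl⟩, ?_⟩
    show iL u ∈ Subgroup.centralizer _
    rw [Subgroup.mem_centralizer_iff]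
    rintro _ ⟨b, hb, rfl⟩
    exact (commute_iff b u).mpr (hu b hb)

theorem card_range_inf_centralizer (B : Subgroup Hh) :
    Nat.card ↥((iL : U →* Amb Hh U).range ⊓
      Subgroup.centralizer ((B.map (iR : Hh →* Amb Hh U) : Subgroup (Amb Hh U)) : Set (Amb Hh U))) =
      Nat.card (fixOf (U := U) B) := by
  rw [range_inf_centralizer]
  exact Subgroup.card_map_of_injective iL_injective

theorem card_range_iL : Nat.card ↥((iL : U →* Amb Hh U).range) = Nat.card U :=
  (Nat.card_congr (MonoidHom.ofInjective iL_injective).toEquiv).symm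

theorem conj_comp_iR (y : Hh) :
    (MulAut.conj ((iR y : Amb Hh U))).toMonoidHom.comp (iR : Hh →* Amb Hh U) =
      (iR : Hh →* Amb Hh U).comp (MulAut.conj y).toMonoidHom := by
  apply MonoidHom.ext
  intro a
  show (iR y : Amb Hh U) * iR a * (iR y)⁻¹ = iR (y * a * y⁻¹)
  rw [map_mul, map_mul, map_inv]

end Semi

section Main

universe u

variable {Hh U : Type u} [Group Hh] [Finite Hh] [CommGroup U] [Finite U] [MulDistribMulAction Hh U]
  {p : ℕ} [Fact p.Prime]

/-- [ACT-C] S2999 in action form (transport through the semidirect product `U ⋊ Hh`). -/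
theorem sl2_of_action (h2999 : S2999Stmt.{u}) [FaithfulSMul Hh U] (hU : ∀ u : U, u ^ p = 1)
    (Ls : Subgroup Hh) (hmin : IsPMinimal p ↥Ls)
    (Ts : Sylow p ↥Ls) (Msub : Subgroup ↥Ls) (hM : IsCoatom Msub)
    (hTM : (Ts : Subgroup ↥Ls) ≤ Msub)
    (A : Subgroup Hh) (hAT : A ≤ (Ts : Subgroup ↥Ls).map Ls.subtype)
    (hAc : ∀ a ∈ A, ∀ b ∈ A, a * b = b * a) (hAp : ∀ a ∈ A, a ^ p = 1)
    (hi1 : Nat.card U ≤ Nat.card A * Nat.card (fixOf (U := U) A))
    (hi2 : ∀ B : Subgroup Hh, B ≤ A → B ≠ ⊥ → B ≠ A →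
      Nat.card B * Nat.card (fixOf (U := U) B) < Nat.card A * Nat.card (fixOf (U := U) A))
    (hii : ∃ u : U, (∀ h ∈ (Ts : Subgroup ↥Ls).map Ls.subtype, h • u = u) ∧
      ∃ h ∈ Ls, h • u ≠ u)
    (hiii : ∀ x : ↥Ls, x ∉ Msub → A ⊔ A.map (MulAut.conj (x : Hh)).toMonoidHom = Ls) :
    ∃ (F : Type) (_ : Field F) (_ : Fintype F), Fintype.card F = Nat.card A ∧
      ∃ (ρ : ↥Ls ≃* Matrix.SpecialLinearGroup (Fin 2) F) (ψ : U →* Multiplicative (Fin 2 → F)),
        Function.Surjective ψ ∧ (∀ u : U, ψ u = 1 ↔ ∀ h ∈ Ls, h • u = u) ∧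
        ∀ (h : ↥Ls) (u : U), Multiplicative.toAdd (ψ ((h : Hh) • u)) =
          ((ρ h : Matrix.SpecialLinearGroup (Fin 2) F) :
            Matrix (Fin 2) (Fin 2) F).mulVec (Multiplicative.toAdd (ψ u)) := by
  have hfinG : Finite (Amb Hh U) := Finite.of_equiv _ SemidirectProduct.equivProd.symm
  -- the isomorphism `Ls ≃ P`
  obtain ⟨e, he⟩ : ∃ e : ↥Ls ≃* ↥(Ls.map (iR : Hh →* Amb Hh U)),
      ∀ y : ↥Ls, ((e y : ↥(Ls.map (iR : Hh →* Amb Hh U))) : Amb Hh U) = iR (y : Hh) :=
    ⟨Ls.equivMapOfInjective iR iR_injective, fun y => rfl⟩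
  have hesymm : ∀ x : ↥(Ls.map (iR : Hh →* Amb Hh U)), (x : Amb Hh U) = iR ((e.symm x : ↥Ls) : Hh) := by
    intro x
    rw [← he, MulEquiv.apply_symm_apply]
  -- hypotheses of S2999
  have hV : IsElementaryAbelian p (iL : U →* Amb Hh U).range := by
    refine ⟨⟨⟨?_⟩⟩, ?_⟩
    · rintro ⟨_, ⟨a, rfl⟩⟩ ⟨_, ⟨b, rfl⟩⟩
      apply Subtype.ext
      show (iL a : Amb Hh U) * iL b = iL b * iL a
      rw [← map_mul, ← map_mul, mul_comm]
    · rintro _ ⟨a, rfl⟩
      rw [← map_pow, hU, map_one]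
  have hVn : ((iL : U →* Amb Hh U).range).Normal := normal_range_iL
  have hPV : Ls.map (iR : Hh →* Amb Hh U) ≤
      Subgroup.normalizer (((iL : U →* Amb Hh U).range : Subgroup (Amb Hh U)) : Set (Amb Hh U)) := by
    intro x _
    rw [Subgroup.mem_normalizer_iff]
    intro h
    constructor
    · intro hh
      exact hVn.conj_mem h hh x
    · intro hh
      have := hVn.conj_mem _ hh x⁻¹
      simpa [mul_assoc] using this
  have hfaith : Ls.map (iR : Hh →* Amb Hh U) ⊓
      Subgroup.centralizer (((iL : U →* Amb Hh U).range : Subgroup (Amb Hh U)) : Set (Amb Hh U)) =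
      ⊥ := by
    rw [eq_bot_iff]
    rintro _ ⟨⟨h, -, rfl⟩, hc⟩
    have h1 : ∀ u : U, h • u = (1 : Hh) • u := by
      intro u
      rw [one_smul]
      have h2 := Subgroup.mem_centralizer_iff.mp hc (iL u) ⟨u, rfl⟩
      exact (commute_iff h u).mp h2.symm
    have h3 : h = 1 := FaithfulSMul.eq_of_smul_eq_smul h1
    rw [h3, map_one]
    exact Subgroup.mem_bot.mpr rfl
  have hmin' : IsPMinimal p ↥(Ls.map (iR : Hh →* Amb Hh U)) := isPMinimal_of_mulEquiv e hmin
  -- the Sylow subgroup and the coatom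
  have hinj : Function.Injective e.symm.toMonoidHom := e.symm.injective
  have hrange : (Ts : Subgroup ↥Ls) ≤ e.symm.toMonoidHom.range := by
    rw [MonoidHom.range_eq_top.mpr e.symm.surjective]
    exact le_top
  obtain ⟨T, hT⟩ : ∃ T : Sylow p ↥(Ls.map (iR : Hh →* Amb Hh U)),
      (T : Subgroup ↥(Ls.map (iR : Hh →* Amb Hh U))) = (Ts : Subgroup ↥Ls).comap e.symm.toMonoidHom :=
    ⟨Ts.comapOfInjective e.symm.toMonoidHom hinj hrange, Sylow.coe_comapOfInjective _ _ _ _⟩
  have hM' : IsCoatom (Msub.comap e.symm.toMonoidHom) := isCoatom_comap_equiv e.symm Msub hM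
  have hTM' : (T : Subgroup ↥(Ls.map (iR : Hh →* Amb Hh U))) ≤ Msub.comap e.symm.toMonoidHom := by
    rw [hT]
    exact Subgroup.comap_mono hTM
  have hAT' : A.map (iR : Hh →* Amb Hh U) ≤
      (T : Subgroup ↥(Ls.map (iR : Hh →* Amb Hh U))).map (Ls.map (iR : Hh →* Amb Hh U)).subtype := by
    rintro _ ⟨a, ha, rfl⟩
    obtain ⟨t, ht, hta⟩ := hAT ha
    refine ⟨e t, ?_, ?_⟩
    · rw [SetLike.mem_coe, hT]
      show e.symm (e t) ∈ (Ts : Subgroup ↥Ls)
      rw [MulEquiv.symm_apply_apply]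
      exact ht
    · show ((e t : ↥(Ls.map (iR : Hh →* Amb Hh U))) : Amb Hh U) = iR a
      rw [he]
      congr 1
  have hAel : IsElementaryAbelian p (A.map (iR : Hh →* Amb Hh U)) := by
    refine ⟨⟨⟨?_⟩⟩, ?_⟩
    · rintro ⟨_, ⟨a, ha, rfl⟩⟩ ⟨_, ⟨b, hb, rfl⟩⟩
      apply Subtype.ext
      show (iR a : Amb Hh U) * iR b = iR b * iR a
      rw [← map_mul, ← map_mul, hAc a ha b hb]
    · rintro _ ⟨a, ha, rfl⟩
      rw [← map_pow, hAp a ha, map_one]
  have hcardmap : ∀ B : Subgroup Hh, Nat.card ↥(B.map (iR : Hh →* Amb Hh U)) = Nat.card B :=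
    fun B => Subgroup.card_map_of_injective iR_injective
  have hi : Nat.card ↥((iL : U →* Amb Hh U).range) ≤ Nat.card ↥(A.map (iR : Hh →* Amb Hh U)) *
      Nat.card ↥((iL : U →* Amb Hh U).range ⊓ Subgroup.centralizer
        ((A.map (iR : Hh →* Amb Hh U) : Subgroup (Amb Hh U)) : Set (Amb Hh U))) ∧
      ∀ A₀ : Subgroup (Amb Hh U), A₀ ≤ A.map (iR : Hh →* Amb Hh U) → A₀ ≠ ⊥ →
        A₀ ≠ A.map (iR : Hh →* Amb Hh U) →
        Nat.card ↥A₀ * Nat.card ↥((iL : U →* Amb Hh U).range ⊓ Subgroup.centralizer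
          ((A₀ : Subgroup (Amb Hh U)) : Set (Amb Hh U))) <
        Nat.card ↥(A.map (iR : Hh →* Amb Hh U)) *
          Nat.card ↥((iL : U →* Amb Hh U).range ⊓ Subgroup.centralizer
            ((A.map (iR : Hh →* Amb Hh U) : Subgroup (Amb Hh U)) : Set (Amb Hh U))) := by
    refine ⟨?_, ?_⟩
    · rw [card_range_iL, hcardmap, card_range_inf_centralizer]
      exact hi1
    · intro A₀ hA₀ hne hneA
      have hmc : (A₀.comap (iR : Hh →* Amb Hh U)).map (iR : Hh →* Amb Hh U) = A₀ := by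
        apply Subgroup.map_comap_eq_self
        intro x hx
        obtain ⟨a, -, rfl⟩ := hA₀ hx
        exact ⟨a, rfl⟩
      have hB : A₀.comap (iR : Hh →* Amb Hh U) ≤ A := by
        intro x hx
        obtain ⟨a, ha, hax⟩ := hA₀ (Subgroup.mem_comap.mp hx)
        rw [← iR_injective hax]
        exact ha
      have hBne : A₀.comap (iR : Hh →* Amb Hh U) ≠ ⊥ := by
        intro h
        apply hne
        rw [← hmc, h, Subgroup.map_bot]
      have hBneA : A₀.comap (iR : Hh →* Amb Hh U) ≠ A := by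
        intro h
        apply hneA
        rw [← hmc, h]
      have h1 := hi2 _ hB hBne hBneA
      rw [← hmc, hcardmap, hcardmap, card_range_inf_centralizer, card_range_inf_centralizer]
      exact h1
  have hii' : ⁅(iL : U →* Amb Hh U).range ⊓ Subgroup.centralizer
      ((((T : Subgroup ↥(Ls.map (iR : Hh →* Amb Hh U))).map
        (Ls.map (iR : Hh →* Amb Hh U)).subtype) : Subgroup (Amb Hh U)) : Set (Amb Hh U)),
      Ls.map (iR : Hh →* Amb Hh U)⁆ ≠ ⊥ := by
    obtain ⟨u, hfix, h₀, hh₀, hmove⟩ := hii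
    intro hbot
    have hmem : ⁅(iL u : Amb Hh U), iR h₀⁆ ∈ ⁅(iL : U →* Amb Hh U).range ⊓ Subgroup.centralizer
        ((((T : Subgroup ↥(Ls.map (iR : Hh →* Amb Hh U))).map
          (Ls.map (iR : Hh →* Amb Hh U)).subtype) : Subgroup (Amb Hh U)) : Set (Amb Hh U)),
        Ls.map (iR : Hh →* Amb Hh U)⁆ := by
      apply Subgroup.commutator_mem_commutator
      · refine ⟨⟨u, rfl⟩, ?_⟩
        show iL u ∈ Subgroup.centralizer _
        rw [Subgroup.mem_centralizer_iff]
        rintro _ ⟨x, hx, rfl⟩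
        rw [SetLike.mem_coe, hT] at hx
        have hx' : e.symm x ∈ (Ts : Subgroup ↥Ls) := hx
        show ((x : ↥(Ls.map (iR : Hh →* Amb Hh U))) : Amb Hh U) * iL u = iL u * (x : Amb Hh U)
        rw [hesymm x]
        exact (commute_iff _ u).mpr (hfix _ ⟨e.symm x, hx', rfl⟩)
      · exact ⟨h₀, hh₀, rfl⟩
    rw [hbot, Subgroup.mem_bot, commutatorElement_eq_one_iff_commute] at hmem
    exact hmove ((commute_iff h₀ u).mp hmem.eq.symm)
  have hiii' : ∀ x : ↥(Ls.map (iR : Hh →* Amb Hh U)), x ∉ Msub.comap e.symm.toMonoidHom →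
      A.map (iR : Hh →* Amb Hh U) ⊔
        (A.map (iR : Hh →* Amb Hh U)).map (MulAut.conj (x : Amb Hh U)).toMonoidHom =
      Ls.map (iR : Hh →* Amb Hh U) := by
    intro x hx
    have h1 := hiii (e.symm x) hx
    rw [hesymm x, Subgroup.map_map, conj_comp_iR, ← Subgroup.map_map, ← Subgroup.map_sup, h1]
  -- apply S2999
  obtain ⟨F, iF, iFt, hcardF, ⟨eiso⟩, -, hact⟩ := h2999 (iL : U →* Amb Hh U).range
    (Ls.map (iR : Hh →* Amb Hh U)) hV hPV hfaith hmin' T (Msub.comap e.symm.toMonoidHom) hM' hTM'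
    (A.map (iR : Hh →* Amb Hh U)) hAT' hAel hi hii' hiii'
  obtain ⟨-, -, ρ', ψ', hρrange, hψsurj, hker, hequiv⟩ := hact
  refine ⟨F, iF, iFt, by rw [hcardF, hcardmap], ?_⟩
  -- the isomorphism
  have hρsurj : Function.Surjective (ρ'.comp e.toMonoidHom) := by
    have h1 : Function.Surjective ρ' := MonoidHom.range_eq_top.mp hρrange
    exact h1.comp e.surjective
  have hcard : Nat.card ↥Ls = Nat.card (Matrix.SpecialLinearGroup (Fin 2) F) := by
    rw [Nat.card_congr e.toEquiv, Nat.card_congr eiso.toEquiv]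
  have hbij : Function.Bijective (ρ'.comp e.toMonoidHom) :=
    (Nat.bijective_iff_surjective_and_card _).mpr ⟨hρsurj, hcard⟩
  refine ⟨MulEquiv.ofBijective (ρ'.comp e.toMonoidHom) hbij,
    ψ'.comp (iL : U →* Amb Hh U).rangeRestrict, ?_, ?_, ?_⟩
  · exact hψsurj.comp (MonoidHom.rangeRestrict_surjective _)
  · intro u
    show ψ' ((iL : U →* Amb Hh U).rangeRestrict u) = 1 ↔ _
    rw [hker]
    constructor
    · rintro ⟨-, hc⟩ h hh
      have h1 := Subgroup.mem_centralizer_iff.mp hc (iR h) ⟨h, hh, rfl⟩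
      exact (commute_iff h u).mp h1
    · intro hfix
      refine ⟨⟨u, rfl⟩, ?_⟩
      show iL u ∈ Subgroup.centralizer _
      rw [Subgroup.mem_centralizer_iff]
      rintro _ ⟨h, hh, rfl⟩
      exact (commute_iff h u).mpr (hfix h hh)
  · intro h u
    obtain ⟨w, hw, hwψ⟩ := hequiv (e h) ((iL : U →* Amb Hh U).rangeRestrict u)
    have hw' : w = (iL : U →* Amb Hh U).rangeRestrict ((h : Hh) • u) := by
      apply Subtype.ext
      rw [hw, he]
      exact inr_conj_inl (h : Hh) u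
    rw [hw'] at hwψ
    exact hwψ

end Main

end Cfsg.Agent.Lib.Helper75.GlaubSub
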