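import Mathlib
import Cfsg.Agent.Lib.Helper88.GlaubSubDefs
import Cfsg.Agent.Lib.Helper5.SL2Tori

set_option autoImplicit false
set_option linter.unusedSectionVars false

/-!
# S5278 module [ACT-D] (helper75): the torus of `SL₂(F)` normalizing a subgroup of order `|F|`
-/

namespace Cfsg.Agent.Lib.Helper75.GlaubSub

open Cfsg Cfsg.Agent.Lib.Helper88.GlaubSub Cfsg.Agent.Lib.Helper5
open Matrix
open scoped Pointwise

section Act

variable {F : Type*} [Field F]

local notation "SL2" => Matrix.SpecialLinearGroup (Fin 2) F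

theorem mulVec_two (M : Matrix (Fin 2) (Fin 2) F) (v : Fin 2 → F) (i : Fin 2) :
    M.mulVec v i = M i 0 * v 0 + M i 1 * v 1 := by
  simp [Matrix.mulVec, dotProduct, Fin.sum_univ_two]

theorem act_mul (a b : SL2) (v : Fin 2 → F) :
    (a * b).1.mulVec v = a.1.mulVec (b.1.mulVec v) := by
  rw [Matrix.SpecialLinearGroup.coe_mul, Matrix.mulVec_mulVec]

theorem act_one (v : Fin 2 → F) : (1 : SL2).1.mulVec v = v := by
  rw [Matrix.SpecialLinearGroup.coe_one, Matrix.one_mulVec]

theorem act_inv_act (a : SL2) (v : Fin 2 → F) : (a⁻¹).1.mulVec (a.1.mulVec v) = v := by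
  rw [← act_mul, inv_mul_cancel, act_one]

theorem act_act_inv (a : SL2) (v : Fin 2 → F) : a.1.mulVec ((a⁻¹).1.mulVec v) = v := by
  rw [← act_mul, mul_inv_cancel, act_one]

theorem act_smul (a : SL2) (c : F) (v : Fin 2 → F) : a.1.mulVec (c • v) = c • a.1.mulVec v :=
  Matrix.mulVec_smul _ _ _

/-- the split torus on the first basis vector -/
theorem splitTorus_act (z : Fˣ) (c : F) :
    (splitTorusHom F z).1.mulVec (c • ![1, 0]) = ((z : F) * c) • ![1, 0] := by
  funext i
  rw [mulVec_two]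
  have h : (splitTorusHom F z).1 = !![(z : F), 0; 0, ((z⁻¹ : Fˣ) : F)] := rfl
  rw [h]
  fin_cases i <;> simp

theorem conj_torus_act (γ : SL2) (z : Fˣ) (c : F) :
    (γ * splitTorusHom F z * γ⁻¹).1.mulVec (c • γ.1.mulVec ![1, 0]) =
      ((z : F) * c) • γ.1.mulVec ![1, 0] := by
  rw [act_mul, act_mul, act_smul, act_inv_act, splitTorus_act, act_smul]

theorem act_e1_ne_zero (γ : SL2) : γ.1.mulVec ![1, 0] ≠ 0 := by
  intro h
  have h1 := act_inv_act γ ![1, 0]
  rw [h, Matrix.mulVec_zero] at h1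
  have := congrFun h1 0
  simp at this

end Act

/-- [ACT-D] the torus of `SL₂(F)` normalizing a subgroup `A'` of order `q = |F|` (`q` odd). -/
theorem exists_torus {F : Type} [Field F] [Fintype F] (hodd : Odd (Fintype.card F))
    (A' : Subgroup (Matrix.SpecialLinearGroup (Fin 2) F)) (hA' : Nat.card A' = Fintype.card F) :
    ∃ (d' : Matrix.SpecialLinearGroup (Fin 2) F) (e : Fin 2 → F), e ≠ 0 ∧
      d' ∈ Subgroup.normalizer (A' : Set (Matrix.SpecialLinearGroup (Fin 2) F)) ∧
      d' ^ (Fintype.card F - 1) = 1 ∧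
      (∀ v : Fin 2 → F, (∀ a ∈ A', (a : Matrix (Fin 2) (Fin 2) F).mulVec v = v) →
        ∃ c : F, v = c • e) ∧
      (∀ c c' : F, c ≠ 0 → c' ≠ 0 →
        ∃ k : ℕ, ((d' ^ k : Matrix.SpecialLinearGroup (Fin 2) F) :
          Matrix (Fin 2) (Fin 2) F).mulVec (c • e) = c' • e) ∧
      ∀ c : F, c ≠ 0 → (d' : Matrix (Fin 2) (Fin 2) F).mulVec (c • e) ≠ c • e := by
  classical
  obtain ⟨p, hchar⟩ := CharP.exists F
  have hpp : p.Prime := by
    obtain ⟨n, hp, -⟩ := FiniteField.card F p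
    exact hp
  have hpf : Fact p.Prime := ⟨hpp⟩
  obtain ⟨n, -, hq⟩ := FiniteField.card F p
  -- `A'` is a Sylow `p`-subgroup
  have hAp : IsPGroup p A' := IsPGroup.of_card (n := n) (by rw [hA', hq])
  have hidx : ¬ p ∣ A'.index := by
    have h1 := Subgroup.card_mul_index A'
    rw [hA', card_SL2] at h1
    have h2 : A'.index = Fintype.card F ^ 2 - 1 :=
      Nat.eq_of_mul_eq_mul_left Fintype.card_pos h1
    rw [h2]
    intro h
    have h3 : p ∣ Fintype.card F ^ 2 := dvd_pow (char_dvd_card p) two_ne_zero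
    have hq1 : 1 ≤ Fintype.card F ^ 2 := Nat.one_le_pow _ _ Fintype.card_pos
    have h4 : p ∣ 1 := (Nat.dvd_sub_iff_right hq1 h3).mp h
    exact hpp.one_lt.ne' (Nat.dvd_one.mp h4)
  obtain ⟨γ, hγ⟩ := exists_smul_unipSLSylow_eq p (hAp.toSylow hidx)
  have hAeq : A' = MulAut.conj γ • unipSL F := by
    have h1 := congrArg (fun P : Sylow p (Matrix.SpecialLinearGroup (Fin 2) F) =>
      (P : Subgroup (Matrix.SpecialLinearGroup (Fin 2) F))) hγ
    simp only [smul_unipSLSylow_coe] at h1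
    rw [h1]
    rfl
  have hmemA : ∀ u ∈ unipSL F, γ * u * γ⁻¹ ∈ A' := by
    intro u hu
    rw [hAeq]
    exact Subgroup.smul_mem_pointwise_smul u (MulAut.conj γ) _ hu
  -- the generator of the torus
  obtain ⟨ζ, hζ⟩ := IsCyclic.exists_generator (α := Fˣ)
  have hcardU : Nat.card Fˣ = Fintype.card F - 1 := by
    rw [Nat.card_units, Nat.card_eq_fintype_card]
  have hq3 : 3 ≤ Fintype.card F := by
    have h2 : 2 ≤ Fintype.card F := Fintype.one_lt_card
    obtain ⟨m, hm⟩ := hodd
    omega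
  have hζ1 : ζ ≠ 1 := by
    intro h
    have h1 := orderOf_eq_card_of_forall_mem_zpowers hζ
    rw [h, orderOf_one, hcardU] at h1
    omega
  refine ⟨γ * splitTorusHom F ζ * γ⁻¹, γ.1.mulVec ![1, 0], act_e1_ne_zero γ, ?_, ?_, ?_, ?_, ?_⟩
  · -- normalizer
    have h1 : (splitTorusHom F ζ) • (unipSLSylow p : Sylow p (Matrix.SpecialLinearGroup (Fin 2) F)) =
        unipSLSylow p := smul_unipSLSylow_eq_self p (by
          show (!![(ζ : F), 0; 0, ((ζ⁻¹ : Fˣ) : F)] : Matrix (Fin 2) (Fin 2) F) 1 0 = 0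
          simp)
    have h2 : (γ * splitTorusHom F ζ * γ⁻¹) • (hAp.toSylow hidx) = hAp.toSylow hidx := by
      rw [← hγ, mul_smul, mul_smul, inv_smul_smul, h1]
    exact Sylow.smul_eq_iff_mem_normalizer.mp h2
  · rw [conj_pow, ← map_pow]
    have h1 : ζ ^ (Fintype.card F - 1) = 1 := by
      rw [← hcardU]
      exact pow_card_eq_one'
    rw [h1, map_one, mul_one, mul_inv_cancel]
  · intro v hv
    obtain ⟨w, hwdef⟩ : ∃ w : Fin 2 → F, w = (γ⁻¹).1.mulVec v := ⟨_, rfl⟩
    have hT := hv _ (hmemA _ (transvection01_mem_unipSL (1 : F)))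
    rw [act_mul, act_mul, ← hwdef] at hT
    have hT2 : (Matrix.SpecialLinearGroup.transvection (zero_ne_one : (0 : Fin 2) ≠ 1)
        (1 : F)).1.mulVec w = w := by
      have := congrArg (fun u => (γ⁻¹).1.mulVec u) hT
      simp only [act_inv_act] at this
      rw [← hwdef] at this
      exact this
    have hw1 : w 1 = 0 := by
      have h0 := congrFun hT2 0
      rw [mulVec_two] at h0
      simp only [transvection01_00, transvection01_01, one_mul] at h0
      exact (add_eq_left).mp h0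
    refine ⟨w 0, ?_⟩
    have hw : w = w 0 • ![1, 0] := by
      funext i
      fin_cases i
      · simp
      · simp [hw1]
    rw [← act_smul, ← hw, hwdef, act_act_inv]
  · intro c c' hc hc'
    obtain ⟨k, hk⟩ : ∃ k : ℕ, ζ ^ k = Units.mk0 c' hc' * (Units.mk0 c hc)⁻¹ :=
      (Submonoid.mem_powers_iff _ _).mp (mem_powers_iff_mem_zpowers.mpr (hζ _))
    refine ⟨k, ?_⟩
    rw [conj_pow, ← map_pow, conj_torus_act, hk]
    congr 1
    simp [mul_assoc, inv_mul_cancel₀ hc]
  · intro c hc h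
    rw [conj_torus_act] at h
    have h1 : ((ζ : F) * c - c) • γ.1.mulVec ![1, 0] = 0 := by
      rw [sub_smul, h, sub_self]
    rcases smul_eq_zero.mp h1 with h2 | h2
    · have h3 : ((ζ : F) - 1) * c = 0 := by rw [sub_mul, one_mul]; exact h2
      rcases mul_eq_zero.mp h3 with h4 | h4
      · apply hζ1
        apply Units.ext
        rw [Units.val_one]
        exact sub_eq_zero.mp h4
      · exact hc h4
    · exact act_e1_ne_zero γ h2

end Cfsg.Agent.Lib.Helper75.GlaubSub
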