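import Cfsg.Agent.Lib.Helper75.M22BLBBase

/-!
# Project M22B, module [LB2]: lower bounds for the centralizers of the 2-elements (helper75)
-/

set_option autoImplicit false

namespace Cfsg.Agent.Lib.Helper75.M22BLB
open Cfsg Cfsg.Agent.Lib.Helper7 Cfsg.Agent.Lib.Helper92 Cfsg.Agent.Lib.Helper92.SylM22
open Cfsg.Agent.Lib.Helper29.M22B

/-! ### `t2` -/

/-- `t2` commutes with the generators of `S0` and with `y3t`, and `y3t ^ 3 = 1`. -/
def chkLB1 : Bool :=
  ((List.range 3).all fun j =>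
    compT (evT (gW.getD j [])) t2T == compT t2T (evT (gW.getD j []))) &&
  compT y3tT t2T == compT t2T y3tT && SylM22.powT y3tT 3 == idT

theorem chkLB1_ok : chkLB1 = true := by decide +kernel

theorem chkLB1_spec : (∀ j < 3, compT (evT (gW.getD j [])) t2T = compT t2T (evT (gW.getD j []))) ∧
    compT y3tT t2T = compT t2T y3tT ∧ SylM22.powT y3tT 3 = idT := by
  have h := chkLB1_ok
  simp only [chkLB1, List.all_eq_true, List.mem_range, Bool.and_eq_true, beq_iff_eq] at h
  exact ⟨h.1.1, h.1.2, h.2⟩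

theorem S0_le_cent_t2 :
    S0 ≤ Subgroup.centralizer ({t2} : Set (Equiv.Perm GolayPt)) ⊓ Spor.M22 := by
  unfold S0
  rw [Subgroup.closure_le]
  rintro g ⟨j, hj, rfl⟩
  exact mem_cent_inf.mpr ⟨comm_of_tables (matches_gP j) matches_t2 (chkLB1_spec.1 j hj),
    S0_le_M22 (gP_mem_S0 hj)⟩

theorem y3t_pow : y3t ^ 3 = 1 := by
  apply SylM22.eq_of_matches (matches_powT matches_y3t 3)
  rw [chkLB1_spec.2.2]
  exact matches_one

theorem y3t_ne_one : y3t ≠ 1 :=
  ne_of_matches matches_y3t matches_one (i := 1) (by decide) (by decide)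

theorem orderOf_y3t : orderOf y3t = 3 := by
  have : Fact (Nat.Prime 3) := ⟨by norm_num⟩
  exact orderOf_eq_prime y3t_pow y3t_ne_one

theorem lb_t2 : 384 ≤
    Nat.card ↥(Subgroup.centralizer ({t2} : Set (Equiv.Perm GolayPt)) ⊓ Spor.M22) := by
  have h128 : 128 ∣
      Nat.card ↥(Subgroup.centralizer ({t2} : Set (Equiv.Perm GolayPt)) ⊓ Spor.M22) := by
    have := Subgroup.card_dvd_of_le S0_le_cent_t2
    rwa [card_S0] at this
  have h3 : 3 ∣
      Nat.card ↥(Subgroup.centralizer ({t2} : Set (Equiv.Perm GolayPt)) ⊓ Spor.M22) := by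
    have := Subgroup.orderOf_dvd_natCard
      (Subgroup.centralizer ({t2} : Set (Equiv.Perm GolayPt)) ⊓ Spor.M22)
      (mem_cent_inf.mpr ⟨comm_of_tables matches_y3t matches_t2 chkLB1_spec.2.1, y3t_mem⟩)
    rwa [orderOf_y3t] at this
  have h384 : 128 * 3 ∣
      Nat.card ↥(Subgroup.centralizer ({t2} : Set (Equiv.Perm GolayPt)) ⊓ Spor.M22) :=
    Nat.Coprime.mul_dvd_of_dvd_of_dvd (by norm_num) h128 h3
  exact Nat.le_of_dvd Nat.card_pos h384

/-! ### `u4a`, `u4b` -/

/-- An element of `S0` with the `i`-th table. -/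
noncomputable def tblE (i : ℕ) : Equiv.Perm GolayPt :=
  if h : i < 128 then (exists_mem_of_tbl i h).choose else 1

theorem tblE_mem {i : ℕ} (h : i < 128) : tblE i ∈ S0 := by
  unfold tblE
  rw [dif_pos h]
  exact (exists_mem_of_tbl i h).choose_spec.1

theorem matches_tblE {i : ℕ} (h : i < 128) : Matches (tblE i) (tbl i) := by
  unfold tblE
  rw [dif_pos h]
  exact (exists_mem_of_tbl i h).choose_spec.2

/-- The listed elements commute with the table `X` and are pairwise distinct. -/
def chkCent (L : List ℕ) (N : ℕ) (X : List ℕ) : Bool := (List.range N).all fun n =>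
  decide (L.getD n 0 < 128) && compT (tbl (L.getD n 0)) X == compT X (tbl (L.getD n 0)) &&
  (List.range N).all fun k =>
    n == k || (List.range 24).any fun j => (tbl (L.getD n 0)).getD j 0 != (tbl (L.getD k 0)).getD j 0

theorem lb_of_chkCent {L : List ℕ} {N : ℕ} {X : List ℕ} {x : Equiv.Perm GolayPt}
    (hx : Matches x X) (h : chkCent L N X = true) :
    N ≤ Nat.card ↥(Subgroup.centralizer ({x} : Set (Equiv.Perm GolayPt)) ⊓ Spor.M22) := by
  simp only [chkCent, List.all_eq_true, List.mem_range, Bool.and_eq_true, beq_iff_eq,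
    Bool.or_eq_true, List.any_eq_true, bne_iff_ne, decide_eq_true_eq] at h
  refine le_card_of_tables N (fun n => tblE (L.getD n 0)) (fun n => tbl (L.getD n 0))
    (fun n hn => matches_tblE (h n hn).1.1) (fun n hn => ?_) ?_
  · exact mem_cent_inf.mpr ⟨comm_of_tables (matches_tblE (h n hn).1.1) hx (h n hn).1.2,
      S0_le_M22 (tblE_mem (h n hn).1.1)⟩
  · intro i hi k hk hik
    rcases (h i hi).2 k hk with h1 | ⟨j, hj, h1⟩
    · exact h1
    · exact absurd (hik j hj) h1

theorem chkCent4a_ok : chkCent cent4a 32 u4aT = true := by decide +kernel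

theorem chkCent4b_ok : chkCent cent4b 16 u4bT = true := by decide +kernel

/-! ### `u8` -/

theorem u8_pow : u8 ^ 2 ^ (2 + 1) = 1 := by
  have h : SylM22.powT u8T 8 = idT := by decide +kernel
  apply SylM22.eq_of_matches (matches_powT matches_u8 8)
  rw [h]
  exact matches_one

theorem u8_pow_four_ne : ¬ u8 ^ 2 ^ 2 = 1 :=
  ne_of_matches (matches_powT matches_u8 4) matches_one (i := 3) (by decide) (by decide +kernel)

theorem orderOf_u8 : orderOf u8 = 8 := by
  have : Fact (Nat.Prime 2) := ⟨by norm_num⟩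
  exact orderOf_eq_prime_pow (p := 2) (n := 2) u8_pow_four_ne u8_pow

end Cfsg.Agent.Lib.Helper75.M22BLB

namespace Cfsg.Agent.Lib.Helper29.M22B
open Cfsg Cfsg.Agent.Lib.Helper7 Cfsg.Agent.Lib.Helper92 Cfsg.Agent.Lib.Helper92.SylM22
open Cfsg.Agent.Lib.Helper75.M22BLB

/-- [LB2] lower bounds for the centralizers of the 2-elements (`t2` is central in `S0` and commutes
with `y3t` of order 3; `cent4a`, `cent4b` list the centralizers in `S0`; `u8` has order 8). -/
theorem cent_lb_two (i : ℕ) (hi : 1 ≤ i ∧ i ≤ 4) :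
    cOrd i ≤ Nat.card ↥(Subgroup.centralizer ({rep i} : Set (Equiv.Perm GolayPt)) ⊓ Spor.M22) := by
  obtain ⟨h1, h4⟩ := hi
  interval_cases i
  · exact lb_t2
  · exact lb_of_chkCent matches_u4a chkCent4a_ok
  · exact lb_of_chkCent matches_u4b chkCent4b_ok
  · have := orderOf_le_card_cent u8_mem
    rwa [orderOf_u8] at this

end Cfsg.Agent.Lib.Helper29.M22B
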