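import Cfsg.Agent.Lib.Helper75.M22BLBBase

/-!
# Project M22B, module [LB3]: lower bounds for the centralizers of the elements of odd order and of
`g6` (helper75)
-/

set_option autoImplicit false

namespace Cfsg.Agent.Lib.Helper75.M22BLB
open Cfsg Cfsg.Agent.Lib.Helper7 Cfsg.Agent.Lib.Helper92 Cfsg.Agent.Lib.Helper92.SylM22
open Cfsg.Agent.Lib.Helper29.M22B

/-- The four-group `{1, v1, z3 v1 z3⁻¹, z3² v1 z3⁻²}` (`z3⁻¹ = z3²`, `z3⁻² = z3`). -/
noncomputable def lbVE : ℕ → Equiv.Perm GolayPt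
  | 0 => 1
  | 1 => v1
  | 2 => z3 * (v1 * z3 ^ 2)
  | _ => z3 ^ 2 * (v1 * z3)

/-- Tables of the four-group. -/
def lbVT : ℕ → List ℕ
  | 0 => idT
  | 1 => v1T
  | 2 => compT z3T (compT v1T (SylM22.powT z3T 2))
  | _ => compT (SylM22.powT z3T 2) (compT v1T z3T)

theorem matches_lbVE : ∀ j, Matches (lbVE j) (lbVT j)
  | 0 => matches_one
  | 1 => matches_v1
  | 2 => matches_mul matches_z3 (matches_mul matches_v1 (matches_powT matches_z3 2))
  | (_ + 3) => matches_mul (matches_powT matches_z3 2) (matches_mul matches_v1 matches_z3)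

theorem lbVE_mem : ∀ j, lbVE j ∈ Spor.M22
  | 0 => Spor.M22.one_mem
  | 1 => v1_mem
  | 2 => Spor.M22.mul_mem z3_mem (Spor.M22.mul_mem v1_mem (Spor.M22.pow_mem z3_mem 2))
  | (_ + 3) => Spor.M22.mul_mem (Spor.M22.pow_mem z3_mem 2) (Spor.M22.mul_mem v1_mem z3_mem)

/-- The 36 elements `x3^a z3^b v`. -/
noncomputable def lbE5 (n : ℕ) : Equiv.Perm GolayPt :=
  x3 ^ (n / 12) * (z3 ^ ((n / 4) % 3) * lbVE (n % 4))

/-- Their tables. -/
def lbT5 (n : ℕ) : List ℕ :=
  compT (SylM22.powT x3T (n / 12)) (compT (SylM22.powT z3T ((n / 4) % 3)) (lbVT (n % 4)))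

theorem matches_lbE5 (n : ℕ) : Matches (lbE5 n) (lbT5 n) :=
  matches_mul (matches_powT matches_x3 _) (matches_mul (matches_powT matches_z3 _) (matches_lbVE _))

theorem lbE5_mem (n : ℕ) : lbE5 n ∈ Spor.M22 :=
  Spor.M22.mul_mem (Spor.M22.pow_mem x3_mem _)
    (Spor.M22.mul_mem (Spor.M22.pow_mem z3_mem _) (lbVE_mem _))

/-- All 36 commute with `x3` and are pairwise distinct. -/
def chkLB5 : Bool := (List.range 36).all fun n =>
  compT (lbT5 n) x3T == compT x3T (lbT5 n) &&
  (List.range 36).all fun k =>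
    n == k || (List.range 24).any fun j => (lbT5 n).getD j 0 != (lbT5 k).getD j 0

theorem chkLB5_ok : chkLB5 = true := by decide +kernel

/-- The 12 elements `x3^a v`. -/
noncomputable def lbE7 (n : ℕ) : Equiv.Perm GolayPt := x3 ^ (n / 4) * lbVE (n % 4)

/-- Their tables. -/
def lbT7 (n : ℕ) : List ℕ := compT (SylM22.powT x3T (n / 4)) (lbVT (n % 4))

theorem matches_lbE7 (n : ℕ) : Matches (lbE7 n) (lbT7 n) :=
  matches_mul (matches_powT matches_x3 _) (matches_lbVE _)

theorem lbE7_mem (n : ℕ) : lbE7 n ∈ Spor.M22 :=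
  Spor.M22.mul_mem (Spor.M22.pow_mem x3_mem _) (lbVE_mem _)

/-- All 12 commute with `g6` and are pairwise distinct. -/
def chkLB7 : Bool := (List.range 12).all fun n =>
  compT (lbT7 n) g6T == compT g6T (lbT7 n) &&
  (List.range 12).all fun k =>
    n == k || (List.range 24).any fun j => (lbT7 n).getD j 0 != (lbT7 k).getD j 0

theorem chkLB7_ok : chkLB7 = true := by decide +kernel

theorem lb_x3 : 36 ≤
    Nat.card ↥(Subgroup.centralizer ({x3} : Set (Equiv.Perm GolayPt)) ⊓ Spor.M22) := by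
  have h := chkLB5_ok
  simp only [chkLB5, List.all_eq_true, List.mem_range, Bool.and_eq_true, beq_iff_eq,
    Bool.or_eq_true, List.any_eq_true, bne_iff_ne] at h
  refine le_card_of_tables 36 lbE5 lbT5 (fun n _ => matches_lbE5 n) (fun n hn => ?_) ?_
  · exact mem_cent_inf.mpr ⟨comm_of_tables (matches_lbE5 n) matches_x3 (h n hn).1, lbE5_mem n⟩
  · intro i hi k hk hik
    rcases (h i hi).2 k hk with h1 | ⟨j, hj, h1⟩
    · exact h1
    · exact absurd (hik j hj) h1

theorem lb_g6 : 12 ≤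
    Nat.card ↥(Subgroup.centralizer ({g6} : Set (Equiv.Perm GolayPt)) ⊓ Spor.M22) := by
  have h := chkLB7_ok
  simp only [chkLB7, List.all_eq_true, List.mem_range, Bool.and_eq_true, beq_iff_eq,
    Bool.or_eq_true, List.any_eq_true, bne_iff_ne] at h
  refine le_card_of_tables 12 lbE7 lbT7 (fun n _ => matches_lbE7 n) (fun n hn => ?_) ?_
  · exact mem_cent_inf.mpr ⟨comm_of_tables (matches_lbE7 n) matches_g6 (h n hn).1, lbE7_mem n⟩
  · intro i hi k hk hik
    rcases (h i hi).2 k hk with h1 | ⟨j, hj, h1⟩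
    · exact h1
    · exact absurd (hik j hj) h1

theorem orderOf_g7' : orderOf g7 = 7 := orderOf_ms

end Cfsg.Agent.Lib.Helper75.M22BLB

namespace Cfsg.Agent.Lib.Helper29.M22B
open Cfsg Cfsg.Agent.Lib.Helper7 Cfsg.Agent.Lib.Helper92 Cfsg.Agent.Lib.Helper92.SylM22
open Cfsg.Agent.Lib.Helper75.M22BLB

/-- [LB3] lower bounds for `x3` (`P3` and the four-group) and `g6 = x3 * v1` (`⟨g6⟩` and the
four-group), and for the elements of prime order `5, 7, 11` (their own powers). -/
theorem cent_lb_odd (i : ℕ) (hi : 5 ≤ i ∧ i < 12) :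
    cOrd i ≤ Nat.card ↥(Subgroup.centralizer ({rep i} : Set (Equiv.Perm GolayPt)) ⊓ Spor.M22) := by
  obtain ⟨h5, h12⟩ := hi
  interval_cases i
  · exact lb_x3
  · have := orderOf_le_card_cent n5_mem
    rwa [orderOf_n5] at this
  · exact lb_g6
  · have := orderOf_le_card_cent g7_mem
    rwa [orderOf_g7'] at this
  · have := orderOf_le_card_cent (Spor.M22.inv_mem g7_mem)
    rwa [orderOf_inv, orderOf_g7'] at this
  · have := orderOf_le_card_cent s11_mem
    rwa [orderOf_s11] at this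
  · have := orderOf_le_card_cent (Spor.M22.inv_mem s11_mem)
    rwa [orderOf_inv, orderOf_s11] at this

end Cfsg.Agent.Lib.Helper29.M22B
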