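import Cfsg.Agent.Lib.Helper29.M22B.Defs
import Cfsg.Agent.Lib.Helper29.M22B.Data

/-!
# Project M22B: generic lemmas for the lower bounds [LB2] [LB3] (helper75)

Lower bounds for `|C(x) ∩ M22|` from explicit lists of tables, from cyclic subgroups and from
Lagrange's theorem.
-/

set_option autoImplicit false

namespace Cfsg.Agent.Lib.Helper75.M22BLB
open Cfsg Cfsg.Agent.Lib.Helper7 Cfsg.Agent.Lib.Helper92 Cfsg.Agent.Lib.Helper92.SylM22
open Cfsg.Agent.Lib.Helper29.M22B

/-- Membership in `C(x) ∩ M22`. -/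
theorem mem_cent_inf {x g : Equiv.Perm GolayPt} :
    g ∈ Subgroup.centralizer ({x} : Set (Equiv.Perm GolayPt)) ⊓ Spor.M22 ↔
      g * x = x * g ∧ g ∈ Spor.M22 := by
  rw [Subgroup.mem_inf, Subgroup.mem_centralizer_iff]
  constructor
  · rintro ⟨h1, h2⟩
    exact ⟨(h1 x rfl).symm, h2⟩
  · rintro ⟨h1, h2⟩
    refine ⟨fun h hh => ?_, h2⟩
    rw [Set.mem_singleton_iff] at hh
    rw [hh]
    exact h1.symm

/-- Commutation from tables. -/
theorem comm_of_tables {g x : Equiv.Perm GolayPt} {T X : List ℕ} (hg : Matches g T)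
    (hx : Matches x X) (h : compT T X = compT X T) : g * x = x * g := by
  apply SylM22.eq_of_matches (matches_mul hg hx)
  rw [h]
  exact matches_mul hx hg

/-- A list of `N` elements of a subgroup with pairwise distinct tables. -/
theorem le_card_of_tables {C : Subgroup (Equiv.Perm GolayPt)} (N : ℕ)
    (E : ℕ → Equiv.Perm GolayPt) (T : ℕ → List ℕ) (hm : ∀ n < N, Matches (E n) (T n))
    (hC : ∀ n < N, E n ∈ C)
    (hd : ∀ i < N, ∀ k < N, (∀ j < 24, (T i).getD j 0 = (T k).getD j 0) → i = k) :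
    N ≤ Nat.card ↥C := by
  have hinj : Function.Injective (fun n : Fin N => (⟨E n, hC n n.2⟩ : ↥C)) := by
    intro a b h
    have h' : E a = E b := congrArg Subtype.val h
    apply Fin.ext
    apply hd a a.2 b b.2
    intro j hj
    have hb : Matches (E a) (T b) := by rw [h']; exact hm b b.2
    exact getD_eq_of_matches (hm a a.2) hb hj
  have := Nat.card_le_card_of_injective _ hinj
  rwa [Nat.card_fin] at this

/-- The cyclic group generated by `x` lies in `C(x) ∩ M22`. -/
theorem orderOf_le_card_cent {x : Equiv.Perm GolayPt} (hx : x ∈ Spor.M22) :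
    orderOf x ≤ Nat.card ↥(Subgroup.centralizer ({x} : Set (Equiv.Perm GolayPt)) ⊓ Spor.M22) := by
  rw [← Nat.card_zpowers]
  apply Subgroup.card_le_of_le
  rw [Subgroup.zpowers_le]
  exact mem_cent_inf.mpr ⟨rfl, hx⟩

end Cfsg.Agent.Lib.Helper75.M22BLB
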