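import Cfsg.Agent.Lib.Helper29.M22B.Defs
import Cfsg.Agent.Lib.Helper29.M22B.Data

/-!
# Project M22B, module [S3]: the Sylow 3-subgroup `P3 = ⟨x3, z3⟩` of `M22`

`P3` is elementary abelian of order 9, it centralizes `x3`, and each of its nonidentity elements is
conjugate to `x3` in `M22` (certificate `p3Words`).
-/

set_option autoImplicit false

namespace Cfsg.Agent.Lib.Helper75.M22BS3
open Cfsg Cfsg.Agent.Lib.Helper7 Cfsg.Agent.Lib.Helper92 Cfsg.Agent.Lib.Helper92.SylM22
open Cfsg.Agent.Lib.Helper29.M22B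

/-- Table of `x3 ^ (k / 3) * z3 ^ (k % 3)`. -/
def p3T (k : ℕ) : List ℕ := compT (SylM22.powT x3T (k / 3)) (SylM22.powT z3T (k % 3))

/-- The element `x3 ^ (k / 3) * z3 ^ (k % 3)`. -/
noncomputable def p3E (k : ℕ) : Equiv.Perm GolayPt := x3 ^ (k / 3) * z3 ^ (k % 3)

theorem matches_p3E (k : ℕ) : Matches (p3E k) (p3T k) :=
  matches_mul (matches_powT matches_x3 _) (matches_powT matches_z3 _)

/-- Tables of `x3, z3, x3², z3²`. -/
def p3GenT (j : ℕ) : List ℕ := [x3T, z3T, SylM22.powT x3T 2, SylM22.powT z3T 2].getD j idT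

/-- Index of the product of the `j`-th generator with the `k`-th element. -/
def p3LM (j k : ℕ) : ℕ :=
  [3 * ((k / 3 + 1) % 3) + k % 3, 3 * (k / 3) + (k % 3 + 1) % 3,
    3 * ((k / 3 + 2) % 3) + k % 3, 3 * (k / 3) + (k % 3 + 2) % 3].getD j 0

/-- Left multiplication table check. -/
def chkP3LM : Bool := (List.range 4).all fun j => (List.range 9).all fun k =>
  compT (p3GenT j) (p3T k) == p3T (p3LM j k) && decide (p3LM j k < 9)

theorem chkP3LM_ok : chkP3LM = true := by decide +kernel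

theorem chkP3LM_spec {j k : ℕ} (hj : j < 4) (hk : k < 9) :
    compT (p3GenT j) (p3T k) = p3T (p3LM j k) ∧ p3LM j k < 9 := by
  have h := chkP3LM_ok
  simp only [chkP3LM, List.all_eq_true, List.mem_range, Bool.and_eq_true, beq_iff_eq,
    decide_eq_true_eq] at h
  exact h j hj k hk

/-- Inverses and identity. -/
def chkP3Inv : Bool := compT x3T (SylM22.powT x3T 2) == idT &&
  compT z3T (SylM22.powT z3T 2) == idT && p3T 0 == idT && compT z3T x3T == compT x3T z3T

theorem chkP3Inv_ok : chkP3Inv = true := by decide +kernel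

theorem chkP3Inv_spec : compT x3T (SylM22.powT x3T 2) = idT ∧
    compT z3T (SylM22.powT z3T 2) = idT ∧ p3T 0 = idT ∧ compT z3T x3T = compT x3T z3T := by
  have h := chkP3Inv_ok
  simp only [chkP3Inv, Bool.and_eq_true, beq_iff_eq] at h
  exact ⟨h.1.1.1, h.1.1.2, h.1.2, h.2⟩

theorem x3_inv : x3⁻¹ = x3 ^ 2 := by
  apply inv_eq_of_mul_eq_one_right
  apply SylM22.eq_of_matches (matches_mul matches_x3 (matches_powT matches_x3 2))
  rw [chkP3Inv_spec.1]
  exact matches_one

theorem z3_inv : z3⁻¹ = z3 ^ 2 := by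
  apply inv_eq_of_mul_eq_one_right
  apply SylM22.eq_of_matches (matches_mul matches_z3 (matches_powT matches_z3 2))
  rw [chkP3Inv_spec.2.1]
  exact matches_one

theorem z3_mul_x3 : z3 * x3 = x3 * z3 := by
  apply SylM22.eq_of_matches (matches_mul matches_z3 matches_x3)
  rw [chkP3Inv_spec.2.2.2]
  exact matches_mul matches_x3 matches_z3

/-- Every element of `P3` has one of the nine tables. -/
theorem exists_p3T_of_mem {g : Equiv.Perm GolayPt}
    (hg : g ∈ Subgroup.closure ({x3, z3} : Set (Equiv.Perm GolayPt))) :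
    ∃ k < 9, Matches g (p3T k) := by
  induction hg using Subgroup.closure_induction_left with
  | one => exact ⟨0, by norm_num, chkP3Inv_spec.2.2.1 ▸ matches_one⟩
  | mul_left x hx y _ ih =>
    obtain ⟨k, hk, hm⟩ := ih
    rcases hx with rfl | hx
    · obtain ⟨h1, h2⟩ := chkP3LM_spec (j := 0) (by norm_num) hk
      exact ⟨_, h2, h1 ▸ matches_mul matches_x3 hm⟩
    · rw [Set.mem_singleton_iff] at hx
      subst hx
      obtain ⟨h1, h2⟩ := chkP3LM_spec (j := 1) (by norm_num) hk
      exact ⟨_, h2, h1 ▸ matches_mul matches_z3 hm⟩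
  | inv_mul_cancel x hx y _ ih =>
    obtain ⟨k, hk, hm⟩ := ih
    rcases hx with rfl | hx
    · obtain ⟨h1, h2⟩ := chkP3LM_spec (j := 2) (by norm_num) hk
      rw [x3_inv]
      exact ⟨_, h2, h1 ▸ matches_mul (matches_powT matches_x3 2) hm⟩
    · rw [Set.mem_singleton_iff] at hx
      subst hx
      obtain ⟨h1, h2⟩ := chkP3LM_spec (j := 3) (by norm_num) hk
      rw [z3_inv]
      exact ⟨_, h2, h1 ▸ matches_mul (matches_powT matches_z3 2) hm⟩

theorem p3E_mem (k : ℕ) : p3E k ∈ Subgroup.closure ({x3, z3} : Set (Equiv.Perm GolayPt)) :=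
  Subgroup.mul_mem _ (Subgroup.pow_mem _ (Subgroup.subset_closure (by simp)) _)
    (Subgroup.pow_mem _ (Subgroup.subset_closure (by simp)) _)

/-- The nine tables are pairwise distinct. -/
def chkP3Nodup : Bool := (List.range 9).all fun i => (List.range 9).all fun k =>
  i == k || (List.range 24).any fun j => (p3T i).getD j 0 != (p3T k).getD j 0

theorem chkP3Nodup_ok : chkP3Nodup = true := by decide +kernel

theorem chkP3Nodup_spec {i k : ℕ} (hi : i < 9) (hk : k < 9)
    (h : ∀ j < 24, (p3T i).getD j 0 = (p3T k).getD j 0) : i = k := by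
  have h' := chkP3Nodup_ok
  simp only [chkP3Nodup, List.all_eq_true, List.mem_range, Bool.or_eq_true, beq_iff_eq,
    List.any_eq_true, bne_iff_ne] at h'
  rcases h' i hi k hk with h1 | ⟨j, hj, h1⟩
  · exact h1
  · exact absurd (h j hj) h1

/-- The certificate check for the eight conjugators. -/
def chkP3 : Bool := (List.range 9).all fun k =>
  k == 0 || (compT (evT (p3Words.getD k [])) (p3T k) == compT x3T (evT (p3Words.getD k [])) &&
    (evT (p3Words.getD k [])).getD 23 0 == 23 && (evT (p3Words.getD k [])).getD 0 0 == 0)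

theorem chkP3_ok : chkP3 = true := by decide +kernel

end Cfsg.Agent.Lib.Helper75.M22BS3

namespace Cfsg.Agent.Lib.Helper29.M22B
open Cfsg Cfsg.Agent.Lib.Helper7 Cfsg.Agent.Lib.Helper92 Cfsg.Agent.Lib.Helper92.SylM22
open Cfsg.Agent.Lib.Helper75.M22BS3

/-- [S3a] `P3 = ⟨x3, z3⟩` is elementary abelian of order 9. -/
theorem card_P3 : Nat.card ↥(Subgroup.closure ({x3, z3} : Set (Equiv.Perm GolayPt))) = 9 := by
  have hA : ∀ g : ↥(Subgroup.closure ({x3, z3} : Set (Equiv.Perm GolayPt))),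
      ∃ i : Fin 9, Matches (g : Equiv.Perm GolayPt) (p3T i) := by
    intro g
    obtain ⟨i, hi, hm⟩ := exists_p3T_of_mem g.2
    exact ⟨⟨i, hi⟩, hm⟩
  choose f hf using hA
  have hbij : Function.Bijective f := by
    constructor
    · intro g g' h
      apply Subtype.ext
      apply SylM22.eq_of_matches (hf g)
      rw [h]
      exact hf g'
    · intro i
      refine ⟨⟨p3E i, p3E_mem i⟩, ?_⟩
      apply Fin.ext
      apply chkP3Nodup_spec (f ⟨p3E i, p3E_mem i⟩).2 i.2
      intro j hj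
      exact getD_eq_of_matches (hf ⟨p3E i, p3E_mem i⟩) (matches_p3E i) hj
  rw [Nat.card_congr (Equiv.ofBijective f hbij), Nat.card_fin]

/-- [S3b] `P3 ≤ C(x3) ∩ M22`. -/
theorem P3_le : Subgroup.closure ({x3, z3} : Set (Equiv.Perm GolayPt)) ≤
    Subgroup.centralizer ({x3} : Set (Equiv.Perm GolayPt)) ⊓ Spor.M22 := by
  rw [Subgroup.closure_le]
  intro g hg
  rw [SetLike.mem_coe, Subgroup.mem_inf, Subgroup.mem_centralizer_iff]
  rcases hg with rfl | hg
  · refine ⟨?_, x3_mem⟩
    intro h hh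
    rw [Set.mem_singleton_iff] at hh
    rw [hh]
  · rw [Set.mem_singleton_iff] at hg
    subst hg
    refine ⟨?_, z3_mem⟩
    intro h hh
    rw [Set.mem_singleton_iff] at hh
    rw [hh]
    exact z3_mul_x3.symm

/-- [S3c] every nonidentity element of `P3` is `M22`-conjugate to `x3`.  Data: `p3Words`. -/
theorem conj_P3 (g : Equiv.Perm GolayPt)
    (hg : g ∈ Subgroup.closure ({x3, z3} : Set (Equiv.Perm GolayPt))) (h1 : g ≠ 1) :
    ∃ h ∈ Spor.M22, h * g * h⁻¹ = x3 := by
  obtain ⟨k, hk, hm⟩ := exists_p3T_of_mem hg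
  have hk0 : k ≠ 0 := by
    rintro rfl
    apply h1
    apply SylM22.eq_of_matches hm
    rw [chkP3Inv_spec.2.2.1]
    exact matches_one
  have h := chkP3_ok
  simp only [chkP3, List.all_eq_true, List.mem_range, Bool.and_eq_true, beq_iff_eq,
    Bool.or_eq_true] at h
  rcases h k hk with h | ⟨⟨hc, h23⟩, h0⟩
  · exact absurd h hk0
  · refine ⟨m24Word (p3Words.getD k []), word_mem_M22 _ _ rfl h23 h0, ?_⟩
    rw [mul_inv_eq_iff_eq_mul]
    have ha := matches_mul (matches_evT (p3Words.getD k [])) hm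
    have hb := matches_mul matches_x3 (matches_evT (p3Words.getD k []))
    rw [hc] at ha
    exact SylM22.eq_of_matches ha hb

end Cfsg.Agent.Lib.Helper29.M22B
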