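import Mathlib
import Cfsg.Agent.Lib.Helper75.MajorSubCongr2

/-!
# Brauer's (5G) for major subsections

Shared library by helper75 (for S4540): `p^d m_{χψ}` is divisible by `p^h` in the local ring, `h`
the height of `χ`, and `p^d m_{χχ} / p^h` lies in the local ideal if `h ≥ 1`.
-/

set_option autoImplicit false
set_option linter.unusedSectionVars false
set_option linter.style.haveILetI false

namespace Cfsg.Agent.Lib.Helper75

open Cfsg Finset Cfsg.Agent.Lib.Helper16 Cfsg.Agent.Lib.Helper78 Cfsg.Agent.Lib.Helper79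
  Cfsg.Agent.Lib.Helper82
open scoped ComplexConjugate

universe u

section FiveG

variable {G : Type u} [Group G] [Fintype G] {p : ℕ} [Fact p.Prime] {M : Ideal AlgInt}

omit [Fact p.Prime] in
/-- the reduced degree is divisible by `p^h`, `h` the height -/
theorem exists_blockU_eq_pow_mul {B : Set (IrrCharacter G)} {χ : IrrCharacter G} (hχ : χ ∈ B) :
    ∃ U' : ℤ, blockU p B χ = (p : ℤ) ^ blockHeight p B (χ : G → ℂ) * U' := by
  have h1 := factorization_eq_coDefect_add_blockHeight (p := p) hχ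
  unfold blockU
  have h2 : p ^ (coDefect p B + blockHeight p B (χ : G → ℂ)) ∣ charDegree (χ : G → ℂ) := by
    rw [← h1]
    exact Nat.ordProj_dvd _ p
  rw [pow_add] at h2
  obtain ⟨c, hc⟩ := Nat.dvd_div_of_mul_dvd h2
  exact ⟨c, by exact_mod_cast hc⟩

open scoped Classical in
/-- **Brauer (5G)**: `p^d m_{χψ}` is divisible by `p^h`, `h` the height of `χ` -/
theorem memLocalRing_pow_mul_secM_div (hM : IsPModular p M) (H : Subgroup G) [Fintype H]
    {b : Set (IrrCharacter H)} {B : Set (IrrCharacter G)} (hind : IsInducedBlock M H b B)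
    (hdef : blockDefect p b = blockDefect p B) {χ : IrrCharacter G} (ψ : IrrCharacter G)
    (hχ : χ ∈ B) {z : H}
    (hz : z ∈ Subgroup.center H) (hH : ∀ g : G, g ∈ H ↔ Commute (z : G) g)
    (hu : ∃ k : ℕ, orderOf (z : G) = p ^ k) :
    MemLocalRing M ((p : ℂ) ^ blockDefect p b * secM p (z : G) H b (χ : G → ℂ) (ψ : G → ℂ) /
      (p : ℂ) ^ blockHeight p B (χ : G → ℂ)) := by
  have hp : p.Prime := Fact.out
  have hMp : M.IsPrime := isPModular_isPrime hM
  have hMtop : M ≠ ⊤ := hMp.ne_top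
  have hb : IsPBlock M b := hind.1
  obtain ⟨U', hU'⟩ := exists_blockU_eq_pow_mul (p := p) hχ
  have hrel := ordCompl_mul_pow_mul_eq (p := p) hχ
    (secM p (z : G) H b (χ : G → ℂ) (ψ : G → ℂ))
  rw [← hdef] at hrel
  have hm0 : ((ordCompl[p] (Nat.card G) : ℕ) : ℂ) ≠ 0 := by
    have := Nat.ordCompl_pos p (Nat.card_pos (α := G)).ne'
    exact_mod_cast this.ne'
  have hph : (p : ℂ) ^ blockHeight p B (χ : G → ℂ) ≠ 0 :=
    pow_ne_zero _ (by exact_mod_cast hp.ne_zero)
  have e : (p : ℂ) ^ blockDefect p b * secM p (z : G) H b (χ : G → ℂ) (ψ : G → ℂ) /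
      (p : ℂ) ^ blockHeight p B (χ : G → ℂ) =
      (U' : ℂ) * ((ordCompl[p] (Nat.card G) : ℕ) : ℂ)⁻¹ * ((Nat.card G : ℂ) / (χ : G → ℂ) 1 *
        secM p (z : G) H b (χ : G → ℂ) (ψ : G → ℂ)) := by
    rw [div_eq_iff hph]
    have h2 : (blockU p B χ : ℂ) = (p : ℂ) ^ blockHeight p B (χ : G → ℂ) * (U' : ℂ) := by
      rw [hU']
      push_cast
      rfl
    rw [h2] at hrel
    field_simp
    linear_combination hrel
  rw [e]
  exact memLocalRing_mul (memLocalRing_mul (memLocalRing_intCast hMtop _)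
    (memLocalRing_inv_natCast hM (Nat.not_dvd_ordCompl hp Nat.card_pos.ne')))
    (memLocalRing_card_div_mul_secM hM H hb χ ψ hz hH hu)

open scoped Classical in
/-- the diagonal contribution `p^d m_{χχ}` of a character of positive height `h` is divisible by
`p^h` times a non-unit -/
theorem memLocalIdeal_pow_mul_secM_self_div (hM : IsPModular p M) (H : Subgroup G) [Fintype H]
    {b : Set (IrrCharacter H)} {B : Set (IrrCharacter G)} (hind : IsInducedBlock M H b B)
    (hdef : blockDefect p b = blockDefect p B) {χ : IrrCharacter G}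
    (hχ : χ ∈ B) (hχ0 : blockHeight p B (χ : G → ℂ) ≠ 0) {z : H}
    (hz : z ∈ Subgroup.center H) (hH : ∀ g : G, g ∈ H ↔ Commute (z : G) g)
    {k : ℕ} (hzk : z ^ p ^ k = 1) (hu : ∃ k : ℕ, orderOf (z : G) = p ^ k) :
    MemLocalIdeal M ((p : ℂ) ^ blockDefect p b * secM p (z : G) H b (χ : G → ℂ) (χ : G → ℂ) /
      (p : ℂ) ^ blockHeight p B (χ : G → ℂ)) := by
  have hp : p.Prime := Fact.out
  have hMp : M.IsPrime := isPModular_isPrime hM
  have hMtop : M ≠ ⊤ := hMp.ne_top
  have hb : IsPBlock M b := hind.1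
  have hB : IsPBlock M B := hind.2.1
  have hBne : B.Nonempty := ⟨χ, hχ⟩
  obtain ⟨U', hU'⟩ := exists_blockU_eq_pow_mul (p := p) hχ
  have hrel := ordCompl_mul_pow_mul_eq (p := p) hχ
    (secM p (z : G) H b (χ : G → ℂ) (χ : G → ℂ))
  rw [← hdef] at hrel
  have hm0 : ((ordCompl[p] (Nat.card G) : ℕ) : ℂ) ≠ 0 := by
    have := Nat.ordCompl_pos p (Nat.card_pos (α := G)).ne'
    exact_mod_cast this.ne'
  have hph : (p : ℂ) ^ blockHeight p B (χ : G → ℂ) ≠ 0 :=
    pow_ne_zero _ (by exact_mod_cast hp.ne_zero)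
  have e : (p : ℂ) ^ blockDefect p b * secM p (z : G) H b (χ : G → ℂ) (χ : G → ℂ) /
      (p : ℂ) ^ blockHeight p B (χ : G → ℂ) =
      (U' : ℂ) * ((ordCompl[p] (Nat.card G) : ℕ) : ℂ)⁻¹ * ((Nat.card G : ℂ) / (χ : G → ℂ) 1 *
        secM p (z : G) H b (χ : G → ℂ) (χ : G → ℂ)) := by
    rw [div_eq_iff hph]
    have h2 : (blockU p B χ : ℂ) = (p : ℂ) ^ blockHeight p B (χ : G → ℂ) * (U' : ℂ) := by
      rw [hU']
      push_cast
      rfl
    rw [h2] at hrel
    field_simp
    linear_combination hrel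
  rw [e]
  apply memLocalIdeal_mul_left (memLocalRing_mul (memLocalRing_intCast hMtop _)
    (memLocalRing_inv_natCast hM (Nat.not_dvd_ordCompl hp Nat.card_pos.ne')))
  -- a character of height zero
  obtain ⟨ψ', hψ', hψ'min⟩ := exists_min_factorization (p := p) hBne
  have hψ'0 : blockHeight p B (ψ' : G → ℂ) = 0 := by
    unfold blockHeight
    omega
  have hcg := memLocalIdeal_card_div_mul_secM_sub hM H hb χ ψ' χ (sameBlock_of_mem hB hχ hψ')
    hz hH hu
  have hX' : MemLocalIdeal M ((Nat.card G : ℂ) / (ψ' : G → ℂ) 1 *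
      secM p (z : G) H b (ψ' : G → ℂ) (χ : G → ℂ)) := by
    have hrel' := ordCompl_mul_pow_mul_eq (p := p) hψ'
      (secM p (z : G) H b (ψ' : G → ℂ) (χ : G → ℂ))
    rw [← hdef] at hrel'
    have h1 : MemLocalIdeal M ((p : ℂ) ^ blockDefect p b *
        secM p (z : G) H b (ψ' : G → ℂ) (χ : G → ℂ)) := by
      rw [memLocalIdeal_pow_mul_secM_iff hM H hb ψ' χ hz hzk]
      have h2 := dvd_sum_resMult_blockQ_of_height_ne_zero hM H hind hdef ψ' hχ hχ0 hz hH hzk hu
      have h3 : ∑ ξ ∈ Finset.univ.filter (fun ξ : IrrCharacter H => ξ ∈ b),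
          ∑ ξ' ∈ Finset.univ.filter (fun ξ : IrrCharacter H => ξ ∈ b),
            (resMult H ψ' ξ : ℤ) * blockQ p b ξ ξ' * (resMult H χ ξ' : ℤ) =
          ∑ ξ ∈ Finset.univ.filter (fun ξ : IrrCharacter H => ξ ∈ b),
          ∑ ξ' ∈ Finset.univ.filter (fun ξ : IrrCharacter H => ξ ∈ b),
            (resMult H χ ξ : ℤ) * blockQ p b ξ ξ' * (resMult H ψ' ξ' : ℤ) := by
        rw [Finset.sum_comm]
        apply Finset.sum_congr rfl
        intro ξ _
        apply Finset.sum_congr rfl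
        intro ξ' _
        rw [blockQ_symm hM b ξ' ξ]
        ring
      rw [h3]
      exact h2
    have h4 : MemLocalIdeal M ((blockU p B ψ' : ℂ) * ((Nat.card G : ℂ) / (ψ' : G → ℂ) 1 *
        secM p (z : G) H b (ψ' : G → ℂ) (χ : G → ℂ))) := by
      rw [← hrel']
      exact memLocalIdeal_mul_left (memLocalRing_natCast hMtop _) h1
    rw [memLocalIdeal_mul_iff (memLocalRing_intCast hMtop _)
      (memLocalRing_card_div_mul_secM hM H hb ψ' χ hz hH hu)] at h4
    rcases h4 with h4 | h4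
    · exfalso
      rw [memLocalIdeal_intCast_iff hM] at h4
      exact not_dvd_blockU hp hψ' hψ'0 h4
    · exact h4
  have := memLocalIdeal_add hcg hX'
  rwa [sub_add_cancel] at this

end FiveG

end Cfsg.Agent.Lib.Helper75
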