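import Mathlib

/-!
# A `2`-adic coefficient lemma for `ℤ[ζ]`, `ζ^(2^k) = -1`

Shared library by helper75 (for S4540): in a domain `R` with a prime ideal `I` above `2` and an
element `ζ` with `ζ^(2^k) = -1`, if `b f(ζ) ∈ 2^h R` for an integer polynomial `f` of degree less
than `2^k` and some `b ∉ I`, then all coefficients of `f` are divisible by `2^h`.
-/

set_option autoImplicit false

namespace Cfsg.Agent.Lib.Helper75

open Polynomial

section TwoAdic

variable {R : Type*} [CommRing R]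

/-- `ζ^(2^m) - 1` is divisible by `(ζ - 1)^(2^m)` when `ζ^(2^k) = -1` and `m ≤ k` -/
theorem exists_pow_two_pow_sub_one_eq (ζ : R) (k : ℕ) (hζ : ζ ^ 2 ^ k = -1) :
    ∀ m ≤ k, ∃ a : R, ζ ^ 2 ^ m - 1 = (ζ - 1) ^ 2 ^ m * a := by
  intro m
  induction m with
  | zero =>
    intro _
    exact ⟨1, by simp⟩
  | succ m ih =>
    intro hm
    obtain ⟨a, ha⟩ := ih (by omega)
    obtain ⟨w, hw⟩ : ∃ w : R, w = ζ ^ 2 ^ m := ⟨_, rfl⟩
    rw [← hw] at ha
    have hN : 1 ≤ 2 ^ (k - m) := Nat.one_le_two_pow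
    have hw1 : w ^ (2 ^ (k - m) - 1) * w = -1 := by
      rw [← pow_succ, Nat.sub_add_cancel hN, hw, ← pow_mul, ← pow_add,
        Nat.add_sub_cancel' (by omega : m ≤ k)]
      exact hζ
    -- `w + 1 = (w - 1) * g`
    have hg : ∃ g : R, w + 1 = (w - 1) * g := by
      refine ⟨-(w * ∑ i ∈ Finset.range (2 ^ (k - m) - 1), w ^ i), ?_⟩
      have := geom_sum_mul w (2 ^ (k - m) - 1)
      linear_combination w * this + hw1
    obtain ⟨g, hg⟩ := hg
    refine ⟨a * a * g, ?_⟩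
    have e : ζ ^ 2 ^ (m + 1) - 1 = (w - 1) * (w + 1) := by
      rw [hw, pow_succ, pow_mul]
      ring
    rw [e, hg, ha, pow_succ, pow_mul]
    ring

/-- `2` is divisible by `(ζ - 1)^(2^k)` -/
theorem exists_two_eq_pow_mul (ζ : R) (k : ℕ) (hζ : ζ ^ 2 ^ k = -1) :
    ∃ a : R, (2 : R) = (ζ - 1) ^ 2 ^ k * a := by
  obtain ⟨a, ha⟩ := exists_pow_two_pow_sub_one_eq ζ k hζ k le_rfl
  refine ⟨-a, ?_⟩
  rw [hζ] at ha
  linear_combination -ha

variable [IsDomain R]

/-- the coefficient lemma modulo `2` -/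
theorem C_two_dvd_of_mul_eq (I : Ideal R) (hI : I.IsPrime) (h20 : (2 : R) ≠ 0) (ζ : R) (k : ℕ)
    (hζ : ζ ^ 2 ^ k = -1) (hζI : ζ - 1 ∈ I) (hodd : ∀ c : ℤ, (c : R) ∈ I → (2 : ℤ) ∣ c) :
    ∀ n : ℕ, n ≤ 2 ^ k → ∀ f : ℤ[X], f.natDegree < n → ∀ b : R, b ∉ I → ∀ a : R,
      b * aeval ζ f = (ζ - 1) ^ n * a → C (2 : ℤ) ∣ f := by
  have hπ0 : ζ - 1 ≠ 0 := by
    intro h
    have h1 : ζ = 1 := sub_eq_zero.mp h
    rw [h1, one_pow] at hζ
    apply h20
    linear_combination hζ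
  obtain ⟨a₂, ha₂⟩ := exists_two_eq_pow_mul ζ k hζ
  intro n
  induction n with
  | zero =>
    intro _ f hf _ _ _ _
    exact absurd hf (Nat.not_lt_zero _)
  | succ n ih =>
    intro hn f hf b hb a hab
    -- `f(ζ) ∈ I`
    have h1 : b * aeval ζ f ∈ I := by
      rw [hab, pow_succ, mul_assoc]
      exact I.mul_mem_left _ (I.mul_mem_right _ hζI)
    have h2 : aeval ζ f ∈ I := (hI.mem_or_mem h1).resolve_left hb
    -- `f(1)` is even
    have hdiv : (ζ - 1) ∣ aeval ζ f - ((f.eval 1 : ℤ) : R) := by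
      have h3 := Polynomial.sub_dvd_eval_sub ζ 1 (f.map (Int.castRingHom R))
      have h4 : (f.map (Int.castRingHom R)).eval 1 = ((f.eval 1 : ℤ) : R) := by
        rw [Polynomial.eval_one_map]
        rfl
      have h4' : (f.map (Int.castRingHom R)).eval ζ = aeval ζ f := by
        rw [Polynomial.eval_map, Polynomial.aeval_def, algebraMap_int_eq]
      rw [h4, h4'] at h3
      exact h3
    obtain ⟨q', hq'⟩ := hdiv
    have h5 : ((f.eval 1 : ℤ) : R) ∈ I := by
      have : ((f.eval 1 : ℤ) : R) = aeval ζ f - (ζ - 1) * q' := by rw [← hq']; ring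
      rw [this]
      exact I.sub_mem h2 (I.mul_mem_right _ hζI)
    obtain ⟨c, hc⟩ := hodd _ h5
    -- division by `X - 1`
    obtain ⟨q, hq⟩ : ∃ q : ℤ[X], q = f /ₘ (X - C 1) := ⟨_, rfl⟩
    have hfq : f = (X - C 1) * q + C (2 * c) := by
      have := Polynomial.modByMonic_add_div f (X - C (1 : ℤ))
      rw [Polynomial.modByMonic_X_sub_C_eq_C_eval, hc, ← hq] at this
      rw [← this]
      ring
    by_cases hn0 : n = 0
    · -- `f` is constant
      subst hn0
      have hf0 : f.natDegree = 0 := by omega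
      have hfC := Polynomial.eq_C_of_natDegree_eq_zero hf0
      have : f.eval 1 = f.coeff 0 := by
        conv_lhs => rw [hfC]
        simp
      rw [hfC, ← this, hc, Polynomial.C_mul]
      exact Dvd.intro _ rfl
    have hqdeg : q.natDegree < n := by
      rw [hq, Polynomial.natDegree_divByMonic f (Polynomial.monic_X_sub_C (1 : ℤ)),
        Polynomial.natDegree_X_sub_C]
      omega
    -- the new relation
    have hq1 : aeval ζ f = (ζ - 1) * aeval ζ q + 2 * (c : R) := by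
      have hC : aeval ζ (C (2 * c) : ℤ[X]) = 2 * (c : R) := by
        rw [Polynomial.aeval_C, algebraMap_int_eq, eq_intCast]
        push_cast
        ring
      have hC1 : aeval ζ (C 1 : ℤ[X]) = 1 := by
        rw [Polynomial.aeval_C, map_one]
      conv_lhs => rw [hfq]
      rw [map_add, map_mul, map_sub, aeval_X, hC, hC1]
    have hk : n + 1 + (2 ^ k - 1 - n) = 2 ^ k := by omega
    have hnew : b * aeval ζ q =
        (ζ - 1) ^ n * (a - b * (c : R) * ((ζ - 1) ^ (2 ^ k - 1 - n) * a₂)) := by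
      apply mul_left_cancel₀ hπ0
      have e2 : (2 : R) = (ζ - 1) ^ (n + 1) * ((ζ - 1) ^ (2 ^ k - 1 - n) * a₂) := by
        rw [← mul_assoc, ← pow_add, hk]
        exact ha₂
      have e3 : (ζ - 1) * (b * aeval ζ q) = b * aeval ζ f - b * (c : R) * 2 := by
        rw [hq1]; ring
      rw [e3, hab]
      conv_lhs => rw [e2]
      rw [pow_succ]
      ring
    have hdvd := ih (by omega) q hqdeg b hb _ hnew
    rw [hfq]
    apply dvd_add (Dvd.dvd.mul_left hdvd _)
    rw [Polynomial.C_mul]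
    exact Dvd.intro _ rfl

/-- the coefficient lemma modulo `2^h` -/
theorem C_two_pow_dvd_of_mul_eq (I : Ideal R) (hI : I.IsPrime) (h20 : (2 : R) ≠ 0) (ζ : R)
    (k : ℕ) (hζ : ζ ^ 2 ^ k = -1) (hζI : ζ - 1 ∈ I)
    (hodd : ∀ c : ℤ, (c : R) ∈ I → (2 : ℤ) ∣ c) :
    ∀ h : ℕ, ∀ f : ℤ[X], f.natDegree < 2 ^ k → ∀ b : R, b ∉ I → ∀ a : R,
      b * aeval ζ f = 2 ^ h * a → C ((2 : ℤ) ^ h) ∣ f := by
  obtain ⟨a₂, ha₂⟩ := exists_two_eq_pow_mul ζ k hζ
  intro h
  induction h with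
  | zero =>
    intro f _ _ _ _ _
    rw [pow_zero, Polynomial.C_1]
    exact one_dvd _
  | succ h ih =>
    intro f hf b hb a hab
    have h1 : b * aeval ζ f = (ζ - 1) ^ 2 ^ k * (a₂ * 2 ^ h * a) := by
      linear_combination hab + (2 ^ h * a) * ha₂
    obtain ⟨f₁, hf₁⟩ := C_two_dvd_of_mul_eq I hI h20 ζ k hζ hζI hodd (2 ^ k) le_rfl f hf b hb _ h1
    have hf₁deg : f₁.natDegree < 2 ^ k := by
      rw [hf₁, Polynomial.natDegree_C_mul (by norm_num : (2 : ℤ) ≠ 0)] at hf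
      exact hf
    have h2 : b * aeval ζ f₁ = 2 ^ h * a := by
      apply mul_left_cancel₀ h20
      have : aeval ζ f = 2 * aeval ζ f₁ := by
        rw [hf₁, map_mul, Polynomial.aeval_C, algebraMap_int_eq, eq_intCast]
        push_cast
        ring
      rw [this] at hab
      rw [pow_succ] at hab
      linear_combination hab
    obtain ⟨g, hg⟩ := ih f₁ hf₁deg b hb a h2
    refine ⟨g, ?_⟩
    rw [hf₁, hg, pow_succ, Polynomial.C_mul]
    ring

end TwoAdic

end Cfsg.Agent.Lib.Helper75
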