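import Mathlib
import Cfsg.Agent.Lib.Helper75.TwoAdicCoeff
import Cfsg.Agent.Lib.Helper75.MajorSubNT
import Cfsg.Agent.Lib.Helper82.SubsecMain

/-!
# Integer combinations of `2`-power roots of unity as polynomial values

Shared library by helper75 (for S4540): an integer combination of `2^(k+1)`-th roots of unity is
the value at a primitive root `ζ` of an integer polynomial of degree `< 2^k`; the trace over the
conjugates is `2^k` times the constant coefficient, which for a real value is the value at `1`; the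
coefficients are divisible by `2^h` if the value lies in `2^h` times the local ring.
-/

set_option autoImplicit false

namespace Cfsg.Agent.Lib.Helper75

open Polynomial Cfsg Cfsg.Agent.Lib.Helper16 Cfsg.Agent.Lib.Helper82
open scoped ComplexConjugate

section Bridge

variable {M : Ideal AlgInt}

/-- the coefficient lemma for complex numbers and the local ring at `M` -/
theorem C_two_pow_dvd_of_memLocalRing (hM : IsPModular 2 M) (ζ : ℂ) (k : ℕ)
    (hζ : ζ ^ 2 ^ k = -1) (h : ℕ) (f : ℤ[X]) (hf : f.natDegree < 2 ^ k)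
    (hloc : MemLocalRing M (aeval ζ f / 2 ^ h)) : C ((2 : ℤ) ^ h) ∣ f := by
  have hMp : M.IsPrime := isPModular_isPrime hM
  have hζ1 : ζ ^ 2 ^ (k + 1) = 1 := by
    rw [pow_succ, pow_mul, hζ]
    norm_num
  have hint : IsIntegral ℤ ζ := by
    apply IsIntegral.of_pow (pow_pos (by norm_num : 0 < 2) (k + 1))
    rw [hζ1]
    exact isIntegral_one
  set ζ' : AlgInt := ⟨ζ, hint⟩ with hζ'
  have hζ'pow : ζ' ^ 2 ^ k = -1 := by
    apply Subtype.ext
    simpa using hζ
  have hζ'1 : ζ' ^ 2 ^ (k + 1) = 1 := by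
    apply Subtype.ext
    simpa using hζ1
  have hζI : ζ' - 1 ∈ M := by
    have := one_sub_mem_of_pow_prime_pow_eq_one hMp Nat.prime_two (isPModular_mem hM) (k + 1) ζ' hζ'1
    have e : ζ' - 1 = -(1 - ζ') := by ring
    rw [e]
    exact M.neg_mem this
  have hodd : ∀ c : ℤ, (c : AlgInt) ∈ M → (2 : ℤ) ∣ c := by
    intro c hc
    have h1 := memLocalIdeal_of_mem hMp.ne_top hc
    have h2 : ((c : AlgInt) : ℂ) = (c : ℂ) := by simp
    rw [h2, memLocalIdeal_intCast_iff hM] at h1
    exact_mod_cast h1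
  have h20 : (2 : AlgInt) ≠ 0 := by
    intro h0
    have := congrArg (fun x : AlgInt => (x : ℂ)) h0
    simp at this
  obtain ⟨a, b, hb, hab⟩ := hloc
  have hb0 : (b : ℂ) ≠ 0 := coe_ne_zero_of_not_mem hb
  have hcoe : ((aeval ζ' f : AlgInt) : ℂ) = aeval ζ f := by
    have := Subalgebra.aeval_coe AlgInt ζ' f
    exact this.symm
  have hrel : b * aeval ζ' f = 2 ^ h * a := by
    apply Subtype.ext
    have h2h : (2 : ℂ) ^ h ≠ 0 := pow_ne_zero _ (by norm_num)
    have e1 : ((b * aeval ζ' f : AlgInt) : ℂ) = (b : ℂ) * aeval ζ f := by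
      rw [← hcoe]
      rfl
    have e2 : ((2 ^ h * a : AlgInt) : ℂ) = (2 : ℂ) ^ h * (a : ℂ) := by
      push_cast
      rfl
    rw [e1, e2]
    field_simp at hab
    linear_combination -hab
  exact C_two_pow_dvd_of_mul_eq M hMp h20 ζ' k hζ'pow hζI hodd h f hf b hb a hrel


/-- a primitive `2^(k+1)`-th root of unity has `ζ^(2^k) = -1` -/
theorem pow_two_pow_eq_neg_one {ζ : ℂ} {k : ℕ} (hζ : IsPrimitiveRoot ζ (2 ^ (k + 1))) :
    ζ ^ 2 ^ k = -1 := by
  have h1 : ζ ^ 2 ^ k * ζ ^ 2 ^ k = 1 := by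
    rw [← pow_add, ← two_mul, ← pow_succ']
    exact hζ.pow_eq_one
  rcases mul_self_eq_one_iff.mp h1 with h | h
  · exfalso
    exact hζ.pow_ne_one_of_pos_of_lt (pow_pos (by norm_num) k).ne'
      (Nat.pow_lt_pow_right (by norm_num) (Nat.lt_succ_self k)) h
  · exact h

/-- an integer combination of `2^(k+1)`-th roots of unity is the value of a polynomial of degree
less than `2^k` -/
theorem exists_poly_repr (k : ℕ) (ζ : ℂ) (hζ : IsPrimitiveRoot ζ (2 ^ (k + 1))) {ι : Type*}
    (I : Finset ι) (a : ι → ℤ) (μ : ι → ℂ) (hμ : ∀ i ∈ I, μ i ^ 2 ^ (k + 1) = 1) :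
    ∃ F : ℤ[X], F.natDegree < 2 ^ k ∧
      (∀ j : ℕ, Odd j → aeval (ζ ^ j) F = ∑ i ∈ I, (a i : ℂ) * μ i ^ j) ∧
      (2 : ℤ) ∣ F.eval 1 - ∑ i ∈ I, a i := by
  classical
  have hneg := pow_two_pow_eq_neg_one hζ
  have hex : ∀ i : ι, ∃ e : ℕ, i ∈ I → μ i = ζ ^ e := by
    intro i
    by_cases hi : i ∈ I
    · obtain ⟨e, -, he⟩ := hζ.eq_pow_of_pow_eq_one (hμ i hi)
      exact ⟨e, fun _ => he.symm⟩
    · exact ⟨0, fun h => absurd h hi⟩
  choose e he using hex
  set P : ℤ[X] := ∑ i ∈ I, C (a i) * X ^ e i with hP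
  set q : ℤ[X] := X ^ 2 ^ k + C 1 with hq
  have hqm : q.Monic := Polynomial.monic_X_pow_add_C 1 (pow_pos (by norm_num) k).ne'
  have hqdeg : q.natDegree = 2 ^ k := Polynomial.natDegree_X_pow_add_C
  have hq1 : q ≠ 1 := by
    intro h
    have := congrArg Polynomial.natDegree h
    rw [hqdeg, Polynomial.natDegree_one] at this
    exact (pow_pos (by norm_num) k).ne' this
  have hdecomp := Polynomial.modByMonic_add_div P q
  refine ⟨P %ₘ q, ?_, ?_, ?_⟩
  · have := Polynomial.natDegree_modByMonic_lt P hqm hq1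
    rwa [hqdeg] at this
  · intro j hj
    have hq0 : aeval (ζ ^ j) q = 0 := by
      rw [hq, map_add, map_pow, aeval_X, aeval_C, map_one, ← pow_mul, mul_comm, pow_mul, hneg,
        hj.neg_one_pow]
      ring
    have h1 : aeval (ζ ^ j) P = aeval (ζ ^ j) (P %ₘ q) := by
      conv_lhs => rw [← hdecomp]
      rw [map_add, map_mul, hq0, zero_mul, add_zero]
    rw [← h1, hP, map_sum]
    apply Finset.sum_congr rfl
    intro i hi
    rw [map_mul, map_pow, aeval_X, aeval_C, he i hi, algebraMap_int_eq, eq_intCast, ← pow_mul,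
      ← pow_mul, mul_comm j (e i)]
  · have h1 : P.eval 1 = ∑ i ∈ I, a i := by
      rw [hP, Polynomial.eval_finsetSum]
      apply Finset.sum_congr rfl
      intro i _
      simp
    have h2 : q.eval 1 = 2 := by
      rw [hq]
      simp
    have h3 := congrArg (Polynomial.eval 1) hdecomp
    rw [Polynomial.eval_add, Polynomial.eval_mul, h1, h2] at h3
    exact ⟨-(Polynomial.eval 1 (P /ₘ q)), by linear_combination h3⟩


/-- the trace of a polynomial expression of degree less than `2^k` in a primitive `2^(k+1)`-th root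
of unity picks out the constant coefficient -/
theorem sum_aeval_pow_eq (k : ℕ) (ζ : ℂ) (hζ : IsPrimitiveRoot ζ (2 ^ (k + 1))) (F : ℤ[X])
    (hF : F.natDegree < 2 ^ k) :
    ∑ j ∈ (Finset.range (2 ^ (k + 1))).filter (fun j => j.Coprime (2 ^ (k + 1))),
      aeval (ζ ^ j) F = (((2 ^ k : ℕ) : ℤ) * F.coeff 0 : ℤ) := by
  have hsum : ∀ r ∈ Finset.range (2 ^ k),
      ∑ j ∈ (Finset.range (2 ^ (k + 1))).filter (fun j => j.Coprime (2 ^ (k + 1))),
        (ζ ^ r) ^ j = if r = 0 then ((2 ^ k : ℕ) : ℂ) else 0 := by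
    intro r hr
    rw [Finset.mem_range] at hr
    have h1 : (ζ ^ r) ^ 2 ^ (k + 1) = 1 := by
      rw [← pow_mul, mul_comm, pow_mul, hζ.pow_eq_one, one_pow]
    rw [sum_coprime_pow_eq 2 k Nat.prime_two (ζ ^ r) h1]
    by_cases hr0 : r = 0
    · subst hr0
      simp only [pow_zero, one_pow, if_true]
      push_cast
      ring
    · have hne1 : ζ ^ r ≠ 1 := by
        apply hζ.pow_ne_one_of_pos_of_lt hr0
        calc r < 2 ^ k := hr
          _ < 2 ^ (k + 1) := Nat.pow_lt_pow_right (by norm_num) (Nat.lt_succ_self k)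
      have hne2 : (ζ ^ r) ^ 2 ≠ 1 := by
        rw [← pow_mul]
        apply hζ.pow_ne_one_of_pos_of_lt (by omega)
        rw [pow_succ]
        omega
      rw [if_neg hne1, if_neg hne2, if_neg hr0, sub_zero]
  have hFsum := Polynomial.as_sum_range' F (2 ^ k) hF
  have h2 : ∀ j : ℕ, aeval (ζ ^ j) F = ∑ r ∈ Finset.range (2 ^ k), (F.coeff r : ℂ) * (ζ ^ r) ^ j := by
    intro j
    conv_lhs => rw [hFsum]
    rw [map_sum]
    apply Finset.sum_congr rfl
    intro r _
    rw [Polynomial.aeval_monomial, algebraMap_int_eq, eq_intCast, ← pow_mul, ← pow_mul,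
      mul_comm j r]
  simp_rw [h2]
  rw [Finset.sum_comm]
  have h3 : ∀ r ∈ Finset.range (2 ^ k),
      ∑ j ∈ (Finset.range (2 ^ (k + 1))).filter (fun j => j.Coprime (2 ^ (k + 1))),
        (F.coeff r : ℂ) * (ζ ^ r) ^ j = if r = 0 then (F.coeff 0 : ℂ) * ((2 ^ k : ℕ) : ℂ) else 0 := by
    intro r hr
    rw [← Finset.mul_sum, hsum r hr]
    split_ifs with h
    · rw [h]
    · rw [mul_zero]
  rw [Finset.sum_congr rfl h3, Finset.sum_ite_eq' (Finset.range (2 ^ k)) 0,
    if_pos (Finset.mem_range.mpr (pow_pos (by norm_num) k))]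
  push_cast
  ring

/-- for a polynomial of degree less than `2^k` with a real value at `ζ`, the value at `1` is the
constant coefficient -/
theorem eval_one_eq_coeff_zero_of_real (k : ℕ) (ζ : ℂ) (hζ : IsPrimitiveRoot ζ (2 ^ (k + 1)))
    (F : ℤ[X]) (hF : F.natDegree < 2 ^ k) (hreal : conj (aeval ζ F) = aeval ζ F) :
    F.eval 1 = F.coeff 0 := by
  have hneg := pow_two_pow_eq_neg_one hζ
  have hpos : 0 < 2 ^ (k + 1) := pow_pos (by norm_num) _
  have hnorm : ‖ζ‖ = 1 := Complex.norm_eq_one_of_pow_eq_one hζ.pow_eq_one hpos.ne'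
  have hζ0 : ζ ≠ 0 := by
    intro h
    rw [h, norm_zero] at hnorm
    exact zero_ne_one hnorm
  have hconj : ∀ r ∈ Finset.Ioo 0 (2 ^ k), conj (ζ ^ r) = -ζ ^ (2 ^ k - r) := by
    intro r hr
    rw [Finset.mem_Ioo] at hr
    have h1 : ζ ^ r * ζ ^ (2 ^ k - r) = -1 := by
      rw [← pow_add, Nat.add_sub_cancel' hr.2.le, hneg]
    have h2 : ζ ^ r * conj (ζ ^ r) = 1 := by
      rw [Complex.mul_conj, Complex.normSq_eq_norm_sq, norm_pow, hnorm, one_pow]
      norm_num
    have h3 : ζ ^ r ≠ 0 := pow_ne_zero _ hζ0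
    apply mul_left_cancel₀ h3
    rw [h2, mul_neg, h1, neg_neg]
  have hFsum := Polynomial.as_sum_range' F (2 ^ k) hF
  -- the reflected polynomial
  set Fs : ℤ[X] := C (F.coeff 0) - ∑ r ∈ Finset.Ioo 0 (2 ^ k), C (F.coeff r) * X ^ (2 ^ k - r) with hFs
  have hrange : Finset.range (2 ^ k) = insert 0 (Finset.Ioo 0 (2 ^ k)) := by
    ext r
    simp only [Finset.mem_range, Finset.mem_insert, Finset.mem_Ioo]
    have := pow_pos (by norm_num : 0 < 2) k
    omega
  have h0notin : (0 : ℕ) ∉ Finset.Ioo 0 (2 ^ k) := by simp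
  have hFval : aeval ζ F = (F.coeff 0 : ℂ) + ∑ r ∈ Finset.Ioo 0 (2 ^ k), (F.coeff r : ℂ) * ζ ^ r := by
    conv_lhs => rw [hFsum]
    rw [map_sum, hrange, Finset.sum_insert h0notin]
    congr 1
    · rw [Polynomial.aeval_monomial, algebraMap_int_eq, eq_intCast, pow_zero, mul_one]
    · apply Finset.sum_congr rfl
      intro r _
      rw [Polynomial.aeval_monomial, algebraMap_int_eq, eq_intCast]
  have hFsval : aeval ζ Fs = conj (aeval ζ F) := by
    rw [hFval, hFs, map_sub, map_sum, aeval_C, algebraMap_int_eq, eq_intCast, map_add, map_sum,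
      map_intCast, sub_eq_add_neg, ← Finset.sum_neg_distrib]
    congr 1
    apply Finset.sum_congr rfl
    intro r hr
    rw [map_mul, map_pow, aeval_X, aeval_C, algebraMap_int_eq, eq_intCast, map_mul, map_intCast,
      hconj r hr]
    ring
  have hzero : aeval ζ (F - Fs) = 0 := by
    rw [map_sub, hFsval, hreal, sub_self]
  -- hence `F = Fs`
  have hdvd : Polynomial.cyclotomic (2 ^ (k + 1)) ℤ ∣ F - Fs := by
    rw [Polynomial.cyclotomic_eq_minpoly hζ hpos]
    exact minpoly.isIntegrallyClosed_dvd (hζ.isIntegral hpos) hzero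
  have hFsdeg : Fs.natDegree < 2 ^ k := by
    have hk : 0 < 2 ^ k := pow_pos (by norm_num) k
    rw [hFs]
    apply lt_of_le_of_lt (Polynomial.natDegree_sub_le _ _)
    rw [Polynomial.natDegree_C, max_eq_right (Nat.zero_le _)]
    apply lt_of_le_of_lt (Polynomial.natDegree_sum_le _ _)
    rw [Finset.fold_max_lt]
    refine ⟨hk, ?_⟩
    intro r hr
    rw [Finset.mem_Ioo] at hr
    apply lt_of_le_of_lt (Polynomial.natDegree_C_mul_X_pow_le _ _)
    omega
  have hdeg : (F - Fs).natDegree < (Polynomial.cyclotomic (2 ^ (k + 1)) ℤ).natDegree := by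
    rw [Polynomial.natDegree_cyclotomic, Nat.totient_prime_pow_succ Nat.prime_two]
    apply lt_of_le_of_lt (Polynomial.natDegree_sub_le _ _)
    rw [max_lt_iff]
    constructor
    · omega
    · omega
  have hFeq : F - Fs = 0 := Polynomial.eq_zero_of_dvd_of_natDegree_lt hdvd hdeg
  -- evaluate at `1`
  have hF1 : F.eval 1 = F.coeff 0 + ∑ r ∈ Finset.Ioo 0 (2 ^ k), F.coeff r := by
    conv_lhs => rw [hFsum]
    rw [Polynomial.eval_finsetSum, hrange, Finset.sum_insert h0notin]
    congr 1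
    · simp
    · apply Finset.sum_congr rfl
      intro r _
      simp
  have hFs1 : Fs.eval 1 = F.coeff 0 - ∑ r ∈ Finset.Ioo 0 (2 ^ k), F.coeff r := by
    rw [hFs, Polynomial.eval_sub, Polynomial.eval_C, Polynomial.eval_finsetSum]
    congr 1
    apply Finset.sum_congr rfl
    intro r _
    simp
  have h4 : F.eval 1 = Fs.eval 1 := by
    rw [sub_eq_zero.mp hFeq]
  rw [hF1, hFs1] at h4
  rw [hF1]
  omega


/-- an integer `T` with `T / 2^h` in the local ideal is divisible by `2^(h+1)` -/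
theorem int_dvd_of_memLocalIdeal_div (hM : IsPModular 2 M) :
    ∀ (h : ℕ) (T : ℤ), MemLocalIdeal M ((T : ℂ) / 2 ^ h) → (2 : ℤ) ^ (h + 1) ∣ T := by
  have hMp : M.IsPrime := isPModular_isPrime hM
  have hMtop : M ≠ ⊤ := hMp.ne_top
  intro h
  induction h with
  | zero =>
    intro T hT
    rw [pow_zero, div_one, memLocalIdeal_intCast_iff hM] at hT
    simpa using hT
  | succ h ih =>
    intro T hT
    have h2 : MemLocalIdeal M (T : ℂ) := by
      have e : (T : ℂ) = (T : ℂ) / 2 ^ (h + 1) * ((2 ^ (h + 1) : ℕ) : ℂ) := by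
        push_cast
        field_simp
      rw [e]
      exact memLocalIdeal_mul_right hT (memLocalRing_natCast hMtop _)
    rw [memLocalIdeal_intCast_iff hM] at h2
    obtain ⟨T', hT'⟩ := h2
    have h3 : MemLocalIdeal M ((T' : ℂ) / 2 ^ h) := by
      have e : (T' : ℂ) / 2 ^ h = (T : ℂ) / 2 ^ (h + 1) := by
        rw [hT', pow_succ]
        push_cast
        field_simp
      rw [e]
      exact hT
    obtain ⟨c, hc⟩ := ih T' h3
    refine ⟨c, ?_⟩
    rw [hT', hc]
    push_cast
    ring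

/-- an integer `T` with `T / 2^h` in the local ring is divisible by `2^h` -/
theorem int_dvd_of_memLocalRing_div (hM : IsPModular 2 M) :
    ∀ (h : ℕ) (T : ℤ), MemLocalRing M ((T : ℂ) / 2 ^ h) → (2 : ℤ) ^ h ∣ T := by
  have hMp : M.IsPrime := isPModular_isPrime hM
  have hMtop : M ≠ ⊤ := hMp.ne_top
  intro h
  cases h with
  | zero =>
    intro T _
    rw [pow_zero]
    exact one_dvd _
  | succ h =>
    intro T hT
    apply int_dvd_of_memLocalIdeal_div hM h T
    have e : (T : ℂ) / 2 ^ h = (T : ℂ) / 2 ^ (h + 1) * ((2 : ℕ) : ℂ) := by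
      rw [pow_succ]
      push_cast
      field_simp
    rw [e]
    have h2 : MemLocalIdeal M ((2 : ℕ) : ℂ) := memLocalIdeal_p hM
    exact memLocalIdeal_mul_left hT h2

/-- the value of an integer polynomial at a `2`-power root of unity is congruent to its value
at `1` -/
theorem memLocalIdeal_aeval_sub_eval_one (hM : IsPModular 2 M) (ζ : ℂ) (k : ℕ)
    (hζ : ζ ^ 2 ^ k = 1) (G : ℤ[X]) :
    MemLocalIdeal M (aeval ζ G - ((G.eval 1 : ℤ) : ℂ)) := by
  have hMp : M.IsPrime := isPModular_isPrime hM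
  have hMtop : M ≠ ⊤ := hMp.ne_top
  have h1 : aeval ζ G - ((G.eval 1 : ℤ) : ℂ) =
      ∑ r ∈ Finset.range (G.natDegree + 1), (G.coeff r : ℂ) * (ζ ^ r - 1) := by
    have hs := Polynomial.as_sum_range G
    have e1 : aeval ζ G = ∑ r ∈ Finset.range (G.natDegree + 1), (G.coeff r : ℂ) * ζ ^ r := by
      conv_lhs => rw [hs]
      rw [map_sum]
      apply Finset.sum_congr rfl
      intro r _
      rw [Polynomial.aeval_monomial, algebraMap_int_eq, eq_intCast]
    have e2 : ((G.eval 1 : ℤ) : ℂ) = ∑ r ∈ Finset.range (G.natDegree + 1), (G.coeff r : ℂ) := by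
      conv_lhs => rw [hs]
      rw [Polynomial.eval_finsetSum]
      push_cast
      apply Finset.sum_congr rfl
      intro r _
      simp
    rw [e1, e2, ← Finset.sum_sub_distrib]
    apply Finset.sum_congr rfl
    intro r _
    ring
  rw [h1]
  apply memLocalIdeal_sum
  intro r _
  apply memLocalIdeal_mul_left (memLocalRing_intCast hMtop _)
  apply memLocalIdeal_sub_one_of_pow_eq_one hM (k := k)
  rw [← pow_mul, mul_comm, pow_mul, hζ, one_pow]

end Bridge

end Cfsg.Agent.Lib.Helper75
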