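import Mathlib
import Cfsg.Agent.Lib.Helper75.TwoAdicBridge

/-!
# Traces of integer combinations of `2`-power roots of unity

Shared library by helper75 (for S4540): `real_trace_structure` (the trace of a real combination is
`φ(2^k) T` with `T` of the parity of the sum of the coefficients and `2^(h+1) ∣ T` if the
combination lies in `2^h` times the local ideal) and `normSq_trace_ge` (the trace of `|Y|²` is at
least `φ(2^k) 4^h` if `Y ≠ 0` lies in `2^h` times the local ring).
-/

set_option autoImplicit false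

namespace Cfsg.Agent.Lib.Helper75

open Polynomial Cfsg Cfsg.Agent.Lib.Helper16 Cfsg.Agent.Lib.Helper82
open scoped ComplexConjugate

section TwoTrace

variable {M : Ideal AlgInt}

theorem odd_of_mem_filter_coprime {k j : ℕ}
    (hj : j ∈ (Finset.range (2 ^ (k + 1))).filter (fun j => j.Coprime (2 ^ (k + 1)))) : Odd j := by
  rw [Finset.mem_filter] at hj
  have := (Nat.coprime_pow_right_iff (Nat.succ_pos k) j 2).mp hj.2
  exact Nat.coprime_two_right.mp this

theorem one_mem_filter_coprime (k : ℕ) :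
    1 ∈ (Finset.range (2 ^ (k + 1))).filter (fun j => j.Coprime (2 ^ (k + 1))) := by
  rw [Finset.mem_filter, Finset.mem_range]
  exact ⟨Nat.one_lt_two_pow (Nat.succ_ne_zero k), Nat.coprime_one_left _⟩

/-- **the trace of a real integer combination of `2`-power roots of unity**: it is `φ(2^k) T` for
an integer `T` of the parity of the sum of the coefficients, and `2^(h+1) ∣ T` if the combination
lies in `2^h` times the local ideal. -/
theorem real_trace_structure (hM : IsPModular 2 M) (k : ℕ) {ι : Type*} (I : Finset ι)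
    (a : ι → ℤ) (μ : ι → ℂ) (hμ : ∀ i ∈ I, μ i ^ 2 ^ k = 1)
    (hreal : ∀ j : ℕ, conj (∑ i ∈ I, (a i : ℂ) * μ i ^ j) = ∑ i ∈ I, (a i : ℂ) * μ i ^ j) :
    ∃ T : ℤ, ∑ j ∈ (Finset.range (2 ^ k)).filter (fun j => j.Coprime (2 ^ k)),
        ∑ i ∈ I, (a i : ℂ) * μ i ^ j = ((((2 ^ k).totient : ℤ) * T : ℤ) : ℂ) ∧
      (2 : ℤ) ∣ T - ∑ i ∈ I, a i ∧
      ∀ h : ℕ, (∀ j ∈ (Finset.range (2 ^ k)).filter (fun j => j.Coprime (2 ^ k)),
        MemLocalIdeal M ((∑ i ∈ I, (a i : ℂ) * μ i ^ j) / 2 ^ h)) → (2 : ℤ) ^ (h + 1) ∣ T := by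
  have hMp : M.IsPrime := isPModular_isPrime hM
  have hMtop : M ≠ ⊤ := hMp.ne_top
  cases k with
  | zero =>
    have hμ1 : ∀ i ∈ I, μ i = 1 := by
      intro i hi
      have := hμ i hi
      rwa [pow_zero, pow_one] at this
    have hJ : (Finset.range (2 ^ 0)).filter (fun j => j.Coprime (2 ^ 0)) = {0} := by
      decide
    refine ⟨∑ i ∈ I, a i, ?_, by simp, ?_⟩
    · rw [hJ, Finset.sum_singleton]
      simp
    · intro h hloc
      have h0 := hloc 0 (by rw [hJ]; exact Finset.mem_singleton_self 0)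
      apply int_dvd_of_memLocalIdeal_div hM h
      have e : ((∑ i ∈ I, a i : ℤ) : ℂ) = ∑ i ∈ I, (a i : ℂ) * μ i ^ 0 := by
        push_cast
        apply Finset.sum_congr rfl
        intro i _
        rw [pow_zero, mul_one]
      rw [e]
      exact h0
  | succ k =>
    have hpos : 2 ^ (k + 1) ≠ 0 := (pow_pos (by norm_num) _).ne'
    have hζ : IsPrimitiveRoot (Complex.exp (2 * Real.pi * Complex.I / ((2 ^ (k + 1) : ℕ) : ℂ)))
        (2 ^ (k + 1)) := Complex.isPrimitiveRoot_exp _ hpos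
    obtain ⟨ζ, hζdef⟩ : ∃ ζ : ℂ, ζ = Complex.exp (2 * Real.pi * Complex.I / ((2 ^ (k + 1) : ℕ) : ℂ)) :=
      ⟨_, rfl⟩
    rw [← hζdef] at hζ
    obtain ⟨F, hFdeg, hFval, hFpar⟩ := exists_poly_repr k ζ hζ I a μ hμ
    have hreal1 : conj (aeval ζ F) = aeval ζ F := by
      have := hFval 1 odd_one
      rw [pow_one] at this
      rw [this]
      exact hreal 1
    have h01 := eval_one_eq_coeff_zero_of_real k ζ hζ F hFdeg hreal1
    refine ⟨F.coeff 0, ?_, ?_, ?_⟩
    · have htot : (2 ^ (k + 1)).totient = 2 ^ k := by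
        rw [Nat.totient_prime_pow_succ Nat.prime_two]
        norm_num
      rw [htot, ← sum_aeval_pow_eq k ζ hζ F hFdeg]
      apply Finset.sum_congr rfl
      intro j hj
      rw [hFval j (odd_of_mem_filter_coprime hj)]
    · rw [← h01]
      exact hFpar
    · intro h hloc
      have h1 := hloc 1 (one_mem_filter_coprime k)
      rw [← hFval 1 odd_one, pow_one] at h1
      have hneg := pow_two_pow_eq_neg_one hζ
      obtain ⟨G, hG⟩ := C_two_pow_dvd_of_memLocalRing hM ζ k hneg h F hFdeg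
        (memLocalRing_of_memLocalIdeal h1)
      have h2 : aeval ζ F / 2 ^ h = aeval ζ G := by
        rw [hG, map_mul, aeval_C, algebraMap_int_eq, eq_intCast]
        push_cast
        field_simp
      rw [h2] at h1
      have h3 := memLocalIdeal_aeval_sub_eval_one hM ζ (k + 1) hζ.pow_eq_one G
      have h4 : MemLocalIdeal M ((G.eval 1 : ℤ) : ℂ) := (memLocalIdeal_congr h3).mp h1
      rw [memLocalIdeal_intCast_iff hM] at h4
      obtain ⟨c, hc⟩ := h4
      refine ⟨c, ?_⟩
      rw [← h01, hG, Polynomial.eval_mul, Polynomial.eval_C, hc]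
      push_cast
      ring


/-- **the trace of the norm of an integer combination of `2`-power roots of unity** lying in `2^h`
times the local ring -/
theorem normSq_trace_ge (hM : IsPModular 2 M) (k : ℕ) {ι : Type*} (I : Finset ι)
    (a : ι → ℤ) (μ : ι → ℂ) (hμ : ∀ i ∈ I, μ i ^ 2 ^ k = 1) (h : ℕ)
    (hloc : ∀ j ∈ (Finset.range (2 ^ k)).filter (fun j => j.Coprime (2 ^ k)),
      MemLocalRing M ((∑ i ∈ I, (a i : ℂ) * μ i ^ j) / 2 ^ h))
    (hne : ∀ j ∈ (Finset.range (2 ^ k)).filter (fun j => j.Coprime (2 ^ k)),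
      ∑ i ∈ I, (a i : ℂ) * μ i ^ j ≠ 0) :
    ((2 ^ k).totient : ℝ) * (4 : ℝ) ^ h ≤
      ∑ j ∈ (Finset.range (2 ^ k)).filter (fun j => j.Coprime (2 ^ k)),
        Complex.normSq (∑ i ∈ I, (a i : ℂ) * μ i ^ j) := by
  have hMp : M.IsPrime := isPModular_isPrime hM
  have hMtop : M ≠ ⊤ := hMp.ne_top
  cases k with
  | zero =>
    have hJ : (Finset.range (2 ^ 0)).filter (fun j => j.Coprime (2 ^ 0)) = {0} := by
      decide
    have h0mem : 0 ∈ (Finset.range (2 ^ 0)).filter (fun j => j.Coprime (2 ^ 0)) := by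
      rw [hJ]; exact Finset.mem_singleton_self 0
    have e : ∑ i ∈ I, (a i : ℂ) * μ i ^ 0 = ((∑ i ∈ I, a i : ℤ) : ℂ) := by
      push_cast
      apply Finset.sum_congr rfl
      intro i _
      rw [pow_zero, mul_one]
    have h1 := hloc 0 h0mem
    have h2 := hne 0 h0mem
    rw [e] at h1 h2
    obtain ⟨c, hc⟩ := int_dvd_of_memLocalRing_div hM h _ h1
    have hc0 : c ≠ 0 := by
      intro h0
      apply h2
      rw [hc, h0, mul_zero, Int.cast_zero]
    rw [hJ, Finset.sum_singleton, e, hc]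
    simp only [pow_zero, Nat.totient_one, Nat.cast_one, one_mul]
    have h3 : Complex.normSq (((2 ^ h * c : ℤ) : ℂ)) = (((2 ^ h * c : ℤ) : ℝ)) ^ 2 := by
      rw [← Complex.ofReal_intCast, Complex.normSq_ofReal]
      ring
    rw [h3]
    have h4 : (1 : ℝ) ≤ ((c : ℤ) : ℝ) ^ 2 := by
      have : (1 : ℤ) ≤ c ^ 2 := by
        have := sq_nonneg c
        have h5 : c ^ 2 ≠ 0 := pow_ne_zero 2 hc0
        omega
      exact_mod_cast this
    push_cast
    have h6 : ((2 : ℝ) ^ h * (c : ℝ)) ^ 2 = (4 : ℝ) ^ h * (c : ℝ) ^ 2 := by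
      rw [mul_pow, ← pow_mul, mul_comm h 2, pow_mul]
      norm_num
    rw [h6]
    have h7 : (0 : ℝ) < (4 : ℝ) ^ h := pow_pos (by norm_num) h
    nlinarith
  | succ k =>
    have hpos : 2 ^ (k + 1) ≠ 0 := (pow_pos (by norm_num) _).ne'
    have hζ : IsPrimitiveRoot (Complex.exp (2 * Real.pi * Complex.I / ((2 ^ (k + 1) : ℕ) : ℂ)))
        (2 ^ (k + 1)) := Complex.isPrimitiveRoot_exp _ hpos
    obtain ⟨ζ, hζdef⟩ : ∃ ζ : ℂ, ζ = Complex.exp (2 * Real.pi * Complex.I / ((2 ^ (k + 1) : ℕ) : ℂ)) :=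
      ⟨_, rfl⟩
    rw [← hζdef] at hζ
    obtain ⟨F, hFdeg, hFval, -⟩ := exists_poly_repr k ζ hζ I a μ hμ
    set J := (Finset.range (2 ^ (k + 1))).filter (fun j => j.Coprime (2 ^ (k + 1))) with hJ
    have h1mem : 1 ∈ J := one_mem_filter_coprime k
    have hneg := pow_two_pow_eq_neg_one hζ
    have h1 := hloc 1 h1mem
    rw [← hFval 1 odd_one, pow_one] at h1
    obtain ⟨G, hG⟩ := C_two_pow_dvd_of_memLocalRing hM ζ k hneg h F hFdeg h1
    have hFsum := Polynomial.as_sum_range' F (2 ^ k) hFdeg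
    have hY : ∀ j : ℕ, aeval (ζ ^ j) F =
        ∑ r ∈ Finset.range (2 ^ k), (F.coeff r : ℂ) * (ζ ^ r) ^ j := by
      intro j
      conv_lhs => rw [hFsum]
      rw [map_sum]
      apply Finset.sum_congr rfl
      intro r _
      rw [Polynomial.aeval_monomial, algebraMap_int_eq, eq_intCast, ← pow_mul, ← pow_mul,
        mul_comm j r]
    have hcoef : ∀ r, F.coeff r = 2 ^ h * G.coeff r := by
      intro r
      rw [hG, Polynomial.coeff_C_mul]
    have hsq : ∀ x : ℕ → ℤ, ∑ r ∈ Finset.range (2 ^ k), ∑ r' ∈ Finset.range (2 ^ k),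
        x r * (F.coeff r * F.coeff r') * x r' =
        (2 ^ h * ∑ r ∈ Finset.range (2 ^ k), x r * G.coeff r) ^ 2 := by
      intro x
      rw [pow_two, Finset.mul_sum, Finset.sum_mul_sum]
      apply Finset.sum_congr rfl
      intro r _
      apply Finset.sum_congr rfl
      intro r' _
      rw [hcoef r, hcoef r']
      ring
    obtain ⟨S, hS, hS'⟩ := trace_bound 2 (k + 1) Nat.prime_two (Finset.range (2 ^ k))
      (fun r r' => F.coeff r * F.coeff r') (fun r r' => mul_comm _ _)
      (by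
        intro x
        rw [hsq x]
        exact sq_nonneg _)
      ((4 : ℤ) ^ h) (pow_nonneg (by norm_num) h)
      (by
        intro x hx
        rw [hsq x] at hx ⊢
        have ht : (∑ r ∈ Finset.range (2 ^ k), x r * G.coeff r) ≠ 0 := by
          intro h0
          apply hx
          rw [h0, mul_zero]
          ring
        have ht2 : (1 : ℤ) ≤ (∑ r ∈ Finset.range (2 ^ k), x r * G.coeff r) ^ 2 := by
          have := sq_nonneg (∑ r ∈ Finset.range (2 ^ k), x r * G.coeff r)
          have h5 := pow_ne_zero 2 ht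
          omega
        rw [mul_pow, ← pow_mul, mul_comm h 2, pow_mul]
        have h7 : (0 : ℤ) < ((2 : ℤ) ^ 2) ^ h := pow_pos (by norm_num) h
        have e4 : ((2 : ℤ) ^ 2) = 4 := by norm_num
        rw [e4] at h7 ⊢
        nlinarith)
      (fun _ => 1) (fun r => ζ ^ r)
      (by
        intro r _
        rw [← pow_mul, mul_comm, pow_mul, hζ.pow_eq_one, one_pow])
    have hterm : ∀ j ∈ J, ∑ r ∈ Finset.range (2 ^ k), ∑ r' ∈ Finset.range (2 ^ k),
        (((1 : ℤ) * (F.coeff r * F.coeff r') * (1 : ℤ) : ℤ) : ℂ) *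
          ((ζ ^ r) ^ j * conj ((ζ ^ r') ^ j)) =
        ((Complex.normSq (∑ i ∈ I, (a i : ℂ) * μ i ^ j) : ℝ) : ℂ) := by
      intro j hj
      rw [← hFval j (odd_of_mem_filter_coprime hj), ← Complex.mul_conj, hY j, map_sum,
        Finset.sum_mul_sum]
      apply Finset.sum_congr rfl
      intro r _
      apply Finset.sum_congr rfl
      intro r' _
      rw [map_mul, map_intCast]
      push_cast
      ring
    rw [Finset.sum_congr rfl hterm] at hS
    have hSreal : (S : ℝ) = ∑ j ∈ J, Complex.normSq (∑ i ∈ I, (a i : ℂ) * μ i ^ j) := by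
      have : ((S : ℝ) : ℂ) = ((∑ j ∈ J, Complex.normSq (∑ i ∈ I, (a i : ℂ) * μ i ^ j) : ℝ) : ℂ) := by
        push_cast
        exact hS.symm
      exact_mod_cast this
    have hSpos : (0 : ℝ) < (S : ℝ) := by
      rw [hSreal]
      apply lt_of_lt_of_le (Complex.normSq_pos.mpr (hne 1 h1mem))
      exact Finset.single_le_sum (f := fun j => Complex.normSq (∑ i ∈ I, (a i : ℂ) * μ i ^ j))
        (fun j _ => Complex.normSq_nonneg _) h1mem
    rcases hS' with h0 | hge
    · rw [h0] at hSpos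
      simp at hSpos
    · rw [← hSreal]
      exact_mod_cast hge

end TwoTrace

end Cfsg.Agent.Lib.Helper75
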