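import Mathlib
import Cfsg.Agent.Lib.Helper75.MajorSubCount
import Cfsg.Agent.Lib.Helper75.TwoAdicTrace

/-!
# The weighted counting argument for `p = 2` and `l(b) ≤ 3`

Shared library by helper75 (for S4540): the abstract form of
`k₀(B) + (2/3) ∑_{i ≥ 1} 2^i k_i(B) ≤ 2^d` for a `2`-block with a major subsection `(z, b)` with
`l(b) ≤ 3`.
-/

set_option autoImplicit false

namespace Cfsg.Agent.Lib.Helper75

open Cfsg Cfsg.Agent.Lib.Helper16 Cfsg.Agent.Lib.Helper82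
open scoped ComplexConjugate

section Weight

variable {Ξ X T : Type*} {M : Ideal AlgInt}

theorem formA_eq_sum_prod (s : Finset Ξ) (Q : Ξ → Ξ → ℤ) (ρ : Ξ → ℂ) (n : X → Ξ → ℤ) (χ ψ : X)
    (j : ℕ) : formA s Q ρ n χ ψ j =
      ∑ i ∈ s ×ˢ s, ((n χ i.1 * Q i.1 i.2 * n ψ i.2 : ℤ) : ℂ) * (ρ i.1 * conj (ρ i.2)) ^ j := by
  rw [formA_eq_sum, Finset.sum_product]
  apply Finset.sum_congr rfl
  intro ξ _
  apply Finset.sum_congr rfl
  intro ξ' _
  rw [mul_pow, map_pow]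

theorem pow_mul_conj_pow_eq_one {ρ ρ' : ℂ} {N : ℕ} (h : ρ ^ N = 1) (h' : ρ' ^ N = 1) :
    (ρ * conj ρ') ^ N = 1 := by
  rw [mul_pow, ← map_pow, h, h', map_one, mul_one]

/-- an integer combination of `p`-power roots of unity is congruent to the sum of the
coefficients -/
theorem memLocalIdeal_sum_pow_sub {p : ℕ} (hM : IsPModular p M) (k : ℕ) {ι : Type*}
    (I : Finset ι) (a : ι → ℤ) (μ : ι → ℂ) (hμ : ∀ i ∈ I, μ i ^ p ^ k = 1) (j : ℕ) :
    MemLocalIdeal M (∑ i ∈ I, (a i : ℂ) * μ i ^ j - ((∑ i ∈ I, a i : ℤ) : ℂ)) := by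
  have hMp : M.IsPrime := isPModular_isPrime hM
  have hMtop : M ≠ ⊤ := hMp.ne_top
  push_cast
  rw [← Finset.sum_sub_distrib]
  apply memLocalIdeal_sum
  intro i hi
  have e : (a i : ℂ) * μ i ^ j - (a i : ℂ) = (a i : ℂ) * (μ i ^ j - 1) := by ring
  rw [e]
  apply memLocalIdeal_mul_left (memLocalRing_intCast hMtop _)
  apply memLocalIdeal_sub_one_of_pow_eq_one hM (k := k)
  rw [← pow_mul, mul_comm, pow_mul, hμ i hi, one_pow]

theorem isIntegral_sum_int_mul_pow {ι : Type*} (I : Finset ι) (a : ι → ℤ) (μ : ι → ℂ) {N : ℕ}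
    (hN : 0 < N) (hμ : ∀ i ∈ I, μ i ^ N = 1) (j : ℕ) :
    IsIntegral ℤ (∑ i ∈ I, (a i : ℂ) * μ i ^ j) := by
  apply IsIntegral.sum
  intro i hi
  apply IsIntegral.mul
  · have := isIntegral_algebraMap (R := ℤ) (A := ℂ) (x := a i)
    simpa using this
  · apply IsIntegral.pow
    apply IsIntegral.of_pow hN
    rw [hμ i hi]
    exact isIntegral_one

/-- the weight `3` for height zero and `2^(h+1)` for height `h ≥ 1` -/
def heightWeight (h : ℕ) : ℕ := if h = 0 then 3 else 2 ^ (h + 1)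

theorem heightWeight_le (h : ℕ) : heightWeight h ≤ 3 * 4 ^ h := by
  unfold heightWeight
  split_ifs with h0
  · subst h0
    norm_num
  · have h1 : 2 ^ (h + 1) = 2 * 2 ^ h := by ring
    have h2 : (2 : ℕ) ^ h ≤ 4 ^ h := Nat.pow_le_pow_left (by norm_num) h
    omega

/-- **the abstract weighted counting theorem** for `p = 2` and trace at most `3·2^d` -/
theorem sum_weight_le_of_major_abstract (hM : IsPModular 2 M) (k d : ℕ) (s : Finset Ξ)
    (pts : Finset T)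
    (g : Ξ → T → ℂ) (w : ℝ) (hw : 0 < w) (Q : Ξ → Ξ → ℤ) (hsym : ∀ ξ ξ', Q ξ ξ' = Q ξ' ξ)
    (hgram : IsGram s pts g w Q)
    (U : Ξ → ℤ)
    (hcongr : ∀ ξ ∈ s, ∀ ξ' ∈ s, ∀ ξ'' ∈ s, ((2 : ℕ) : ℤ) ∣ Q ξ ξ' * U ξ'' - Q ξ ξ'' * U ξ')
    (ξ₀ : Ξ) (hξ₀ : ξ₀ ∈ s) (hU0 : ¬ ((2 : ℕ) : ℤ) ∣ U ξ₀)
    (ρ : Ξ → ℂ) (hρ : ∀ ξ ∈ s, ρ ξ ^ (2 ^ k) = 1)
    (t : Finset X) (ht : X → ℕ) (ht0ne : ∃ ψ ∈ t, ht ψ = 0) (n : X → Ξ → ℤ)
    (L : ℕ) (hL : L ≤ 3 * 2 ^ d)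
    (htrace : ∀ j ∈ (Finset.range (2 ^ k)).filter (fun j => j.Coprime (2 ^ k)),
      ∑ χ ∈ t, formA s Q ρ n χ χ j = (L : ℂ))
    (hne : ∀ χ ∈ t, ∀ ψ ∈ t, ht ψ = 0 →
      ∀ j ∈ (Finset.range (2 ^ k)).filter (fun j => j.Coprime (2 ^ k)),
      formA s Q ρ n χ ψ j ≠ 0)
    (hidem : ∀ ψ ∈ t, ∀ j ∈ (Finset.range (2 ^ k)).filter (fun j => j.Coprime (2 ^ k)),
      ∑ χ ∈ t, formA s Q ρ n χ ψ j * conj (formA s Q ρ n χ ψ j) =
        (2 : ℂ) ^ d * formA s Q ρ n ψ ψ j)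
    (hunit : ∀ ψ ∈ t, ht ψ = 0 → ¬ (2 : ℤ) ∣ ∑ ξ ∈ s, ∑ ξ' ∈ s, n ψ ξ * Q ξ ξ' * n ψ ξ')
    (h5G : ∀ χ ∈ t, ∀ ψ ∈ t, ∀ j ∈ (Finset.range (2 ^ k)).filter (fun j => j.Coprime (2 ^ k)),
      MemLocalRing M (formA s Q ρ n χ ψ j / 2 ^ ht χ))
    (h5G' : ∀ χ ∈ t, ht χ ≠ 0 →
      ∀ j ∈ (Finset.range (2 ^ k)).filter (fun j => j.Coprime (2 ^ k)),
      MemLocalIdeal M (formA s Q ρ n χ χ j / 2 ^ ht χ)) :
    ∑ χ ∈ t, heightWeight (ht χ) ≤ 3 * 2 ^ d := by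
  classical
  have : Fact (Nat.Prime 2) := ⟨Nat.prime_two⟩
  have hMp : M.IsPrime := isPModular_isPrime hM
  have hMtop : M ≠ ⊤ := hMp.ne_top
  set J := (Finset.range (2 ^ k)).filter (fun j => j.Coprime (2 ^ k)) with hJ
  have hJcard : J.card = (2 ^ k).totient := card_filter_coprime_range _
  have hφ : 0 < (2 ^ k).totient := Nat.totient_pos.mpr (pow_pos (by norm_num) k)
  have hJne : J.Nonempty := Finset.card_pos.mp (by rw [hJcard]; exact hφ)
  obtain ⟨ψ₀, hψ₀t, hψ₀⟩ := ht0ne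
  have hdiag : ∀ (χ : X) (j : ℕ), ∃ r : ℝ, 0 ≤ r ∧ formA s Q ρ n χ χ j = (r : ℂ) :=
    fun χ j => sesq_self_nonneg hgram hw.le _
  have hdne : ∀ χ ∈ t, ∀ j ∈ J, formA s Q ρ n χ χ j ≠ 0 := by
    intro χ hχ j hj h0
    exact hne χ hχ ψ₀ hψ₀t hψ₀ j hj (sesq_eq_zero_left hgram hw h0 _)
  have hpsd := int_psd_of_isGram hgram hw.le
  have hμprod : ∀ i ∈ s ×ˢ s, (ρ i.1 * conj (ρ i.2)) ^ 2 ^ k = 1 := by
    intro i hi
    rw [Finset.mem_product] at hi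
    exact pow_mul_conj_pow_eq_one (hρ _ hi.1) (hρ _ hi.2)
  -- the integers `T χ`
  have hT : ∀ χ ∈ t, ∃ Tχ : ℤ, ∑ j ∈ J, formA s Q ρ n χ χ j =
      (((((2 ^ k).totient : ℤ) * Tχ : ℤ)) : ℂ) ∧ 0 < Tχ ∧
      (ht χ = 0 → ¬ (2 : ℤ) ∣ Tχ) ∧ (ht χ ≠ 0 → (2 : ℤ) ^ (ht χ + 1) ∣ Tχ) := by
    intro χ hχ
    obtain ⟨Tχ, h1, h2, h3⟩ := real_trace_structure hM k (s ×ˢ s)
      (fun i => n χ i.1 * Q i.1 i.2 * n χ i.2) (fun i => ρ i.1 * conj (ρ i.2)) hμprod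
      (by
        intro j
        rw [← formA_eq_sum_prod s Q ρ n χ χ j]
        obtain ⟨r, -, hr⟩ := hdiag χ j
        rw [hr, Complex.conj_ofReal])
    simp_rw [← formA_eq_sum_prod s Q ρ n χ χ] at h1 h3
    refine ⟨Tχ, h1, ?_, ?_, ?_⟩
    · have hpos := int_pos_of_sum_pos (fun j => formA s Q ρ n χ χ j) hJne
        (fun j _ => hdiag χ j) (hdne χ hχ) _ h1
      have hφZ : (0 : ℤ) < ((2 ^ k).totient : ℤ) := by exact_mod_cast hφ
      rcases lt_trichotomy Tχ 0 with hneg | hz | hp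
      · nlinarith
      · rw [hz, mul_zero] at hpos; exact absurd hpos (lt_irrefl _)
      · exact hp
    · intro h0 hdvd
      apply hunit χ hχ h0
      have : ∑ i ∈ s ×ˢ s, n χ i.1 * Q i.1 i.2 * n χ i.2 =
          ∑ ξ ∈ s, ∑ ξ' ∈ s, n χ ξ * Q ξ ξ' * n χ ξ' := Finset.sum_product _ _ _
      rw [← this]
      have := dvd_sub hdvd h2
      rwa [sub_sub_cancel] at this
    · intro h0
      exact h3 (ht χ) (h5G' χ hχ h0)
  choose! Tf hTf using hT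
  have hφZ : (0 : ℤ) < ((2 ^ k).totient : ℤ) := by exact_mod_cast hφ
  -- the sum of the `T χ`
  have hsumT : ∑ χ ∈ t, Tf χ = (L : ℤ) := by
    have h1 : ∑ χ ∈ t, ∑ j ∈ J, formA s Q ρ n χ χ j = (((2 ^ k).totient * L : ℕ) : ℂ) := by
      rw [Finset.sum_comm, Finset.sum_congr rfl htrace, Finset.sum_const, hJcard, nsmul_eq_mul]
      push_cast
      ring
    have h2 : ∑ χ ∈ t, ∑ j ∈ J, formA s Q ρ n χ χ j =
        (((((2 ^ k).totient : ℤ) * ∑ χ ∈ t, Tf χ : ℤ)) : ℂ) := by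
      rw [Finset.mul_sum]
      push_cast
      apply Finset.sum_congr rfl
      intro χ hχ
      rw [(hTf χ hχ).1]
      push_cast
      rfl
    rw [h1] at h2
    have h3 : (((2 ^ k).totient : ℤ) * (L : ℤ)) = ((2 ^ k).totient : ℤ) * ∑ χ ∈ t, Tf χ := by
      exact_mod_cast h2
    exact (mul_left_cancel₀ hφZ.ne' h3).symm
  -- it suffices to bound each `T χ`
  have hfin : (∀ χ ∈ t, (heightWeight (ht χ) : ℤ) ≤ Tf χ) →
      ∑ χ ∈ t, heightWeight (ht χ) ≤ 3 * 2 ^ d := by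
    intro h
    have h1 := Finset.sum_le_sum h
    rw [hsumT] at h1
    have h2 : ((∑ χ ∈ t, heightWeight (ht χ) : ℕ) : ℤ) ≤ (L : ℤ) := by
      push_cast
      exact h1
    have h3 : ∑ χ ∈ t, heightWeight (ht χ) ≤ L := by exact_mod_cast h2
    exact h3.trans hL
  have hposht : ∀ χ ∈ t, ht χ ≠ 0 → (heightWeight (ht χ) : ℤ) ≤ Tf χ := by
    intro χ hχ h0
    unfold heightWeight
    rw [if_neg h0]
    push_cast
    exact Int.le_of_dvd (hTf χ hχ).2.1 ((hTf χ hχ).2.2.2 h0)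
  have hzero : ∀ χ ∈ t, ht χ = 0 → 2 ≤ Tf χ → (heightWeight (ht χ) : ℤ) ≤ Tf χ := by
    intro χ hχ h0 h2
    unfold heightWeight
    rw [if_pos h0]
    have hodd := (hTf χ hχ).2.2.1 h0
    push_cast
    omega
  by_cases hsplit : ∃ c : Ξ → ℤ, ∑ ξ ∈ s, ∑ ξ' ∈ s, c ξ * Q ξ ξ' * c ξ' = 1
  · obtain ⟨c, h1⟩ := hsplit
    have hsymp := perpQ_symm s Q c hsym
    have hpsdp := perpQ_int_psd hgram hw.le c hsym h1
    have hdvdp : ∀ ξ ∈ s, ∀ ξ' ∈ s, ((2 : ℕ) : ℤ) ∣ perpQ s Q c ξ ξ' := fun ξ hξ ξ' hξ' =>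
      dvd_perpQ 2 s Q c h1 U (U ξ₀) (Q ξ₀ ξ₀) hU0
        (fun η hη η' hη' => rank_one_congr 2 s Q hsym U hcongr hξ₀ hη hη') hξ hξ'
    have hRnn : ∀ (χ : X) (j : ℕ), ∃ r : ℝ, 0 ≤ r ∧
        formA s (perpQ s Q c) ρ n χ χ j = (r : ℂ) :=
      fun χ j => sesq_perpQ_self_nonneg hgram hw.le c hsym h1 _
    have hYnn : ∀ (χ : X) (j : ℕ), ∃ r : ℝ, 0 ≤ r ∧
        formY s Q c ρ n χ j * conj (formY s Q c ρ n χ j) = (r : ℂ) :=
      fun χ j => ⟨_, Complex.normSq_nonneg _, Complex.mul_conj _⟩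
    have hμp : ∀ c' : Ξ → ℤ, ∑ ξ ∈ s, ∑ ξ' ∈ s, c' ξ * perpQ s Q c ξ ξ' * c' ξ' ≠ 0 →
        (2 : ℤ) ≤ ∑ ξ ∈ s, ∑ ξ' ∈ s, c' ξ * perpQ s Q c ξ ξ' * c' ξ' := by
      intro c' hc'
      have h2 := hpsdp c'
      have h3 := dvd_int_form_perpQ 2 s _ hdvdp c' c'
      exact Int.le_of_dvd (lt_of_le_of_ne h2 (Ne.symm hc')) h3
    by_cases hcase : ∃ ψ ∈ t, ht ψ = 0 ∧ ∀ j ∈ J, formA s (perpQ s Q c) ρ n ψ ψ j = 0
    · -- the exceptional case
      obtain ⟨ψ, hψt, hψ0, hRψ⟩ := hcase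
      have hAY : ∀ χ : X, ∀ j ∈ J, formA s Q ρ n χ ψ j =
          formY s Q c ρ n χ j * conj (formY s Q c ρ n ψ j) := by
        intro χ j hj
        rw [formA_eq_add s Q c ρ n χ ψ j]
        have : formA s (perpQ s Q c) ρ n χ ψ j = 0 :=
          sesq_perpQ_eq_zero_right hgram hw c hsym h1 (hRψ j hj) _
        rw [this, add_zero]
      have hYne : ∀ χ ∈ t, ∀ j ∈ J, formY s Q c ρ n χ j ≠ 0 := by
        intro χ hχ j hj h
        apply hne χ hχ ψ hψt hψ0 j hj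
        rw [hAY χ j hj, h, zero_mul]
      have hYsum : ∀ j ∈ J, ∑ χ ∈ t, formY s Q c ρ n χ j * conj (formY s Q c ρ n χ j) =
          (2 : ℂ) ^ d := by
        intro j hj
        have h2 := hidem ψ hψt j hj
        have hN : formY s Q c ρ n ψ j * conj (formY s Q c ρ n ψ j) ≠ 0 := by
          have := hYne ψ hψt j hj
          exact mul_ne_zero this ((map_ne_zero _).mpr this)
        apply mul_right_cancel₀ hN
        rw [← hAY ψ j hj, ← h2, Finset.sum_mul]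
        apply Finset.sum_congr rfl
        intro χ _
        rw [hAY χ j hj, hAY ψ j hj, map_mul, Complex.conj_conj]
        ring
      -- local integrality of `Y`
      have hYint : ∀ (χ : X) (j : ℕ), IsIntegral ℤ (formY s Q c ρ n χ j) := fun χ j =>
        isIntegral_sum_int_mul_pow s _ ρ (pow_pos (by norm_num : 0 < 2) k) hρ j
      have hYloc : ∀ χ ∈ t, ∀ j ∈ J, MemLocalRing M (formY s Q c ρ n χ j / 2 ^ ht χ) := by
        intro χ hχ j hj
        set wj := conj (formY s Q c ρ n ψ j) with hwj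
        have hwint : IsIntegral ℤ wj := (hYint ψ j).map (Complex.conjAe.toAlgHom.restrictScalars ℤ)
        have hAψ : ¬ MemLocalIdeal M (formA s Q ρ n ψ ψ j) := by
          intro hmem
          have h3 := memLocalIdeal_sum_pow_sub hM k (s ×ˢ s)
            (fun i => n ψ i.1 * Q i.1 i.2 * n ψ i.2) (fun i => ρ i.1 * conj (ρ i.2)) hμprod j
          rw [← formA_eq_sum_prod s Q ρ n ψ ψ j] at h3
          have h4 := (memLocalIdeal_congr h3).mp hmem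
          rw [memLocalIdeal_intCast_iff hM] at h4
          apply hunit ψ hψt hψ0
          have : ∑ i ∈ s ×ˢ s, n ψ i.1 * Q i.1 i.2 * n ψ i.2 =
              ∑ ξ ∈ s, ∑ ξ' ∈ s, n ψ ξ * Q ξ ξ' * n ψ ξ' := Finset.sum_product _ _ _
          rw [← this]
          exact_mod_cast h4
        have hwnot : ¬ MemLocalIdeal M wj := by
          intro hmem
          apply hAψ
          rw [hAY ψ j hj]
          exact memLocalIdeal_mul_left (memLocalRing_of_isIntegral hMtop (hYint ψ j)) hmem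
        have hw0 : wj ≠ 0 := ne_zero_of_not_memLocalIdeal hwnot
        have e : formY s Q c ρ n χ j / 2 ^ ht χ = formA s Q ρ n χ ψ j / 2 ^ ht χ / wj := by
          rw [hAY χ j hj, ← hwj]
          field_simp
        rw [e]
        exact memLocalRing_div (h5G χ hχ ψ hψt j hj) (memLocalRing_of_isIntegral hMtop hwint) hwnot
      have hlow : ∀ χ ∈ t, ((2 ^ k).totient : ℝ) * (4 : ℝ) ^ ht χ ≤
          ∑ j ∈ J, Complex.normSq (formY s Q c ρ n χ j) := by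
        intro χ hχ
        exact normSq_trace_ge hM k s (fun ξ => n χ ξ * perpY s Q c ξ) ρ hρ (ht χ)
          (hYloc χ hχ) (hYne χ hχ)
      have hsumR : ∀ j ∈ J, ∑ χ ∈ t, Complex.normSq (formY s Q c ρ n χ j) = (2 : ℝ) ^ d := by
        intro j hj
        have := hYsum j hj
        have h3 : ((∑ χ ∈ t, Complex.normSq (formY s Q c ρ n χ j) : ℝ) : ℂ) =
            (((2 : ℝ) ^ d : ℝ) : ℂ) := by
          push_cast
          rw [← this]
          apply Finset.sum_congr rfl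
          intro χ _
          rw [Complex.mul_conj]
        exact_mod_cast h3
      have h4 : ((2 ^ k).totient : ℝ) * ∑ χ ∈ t, (4 : ℝ) ^ ht χ ≤
          ((2 ^ k).totient : ℝ) * (2 : ℝ) ^ d := by
        calc ((2 ^ k).totient : ℝ) * ∑ χ ∈ t, (4 : ℝ) ^ ht χ
            = ∑ χ ∈ t, ((2 ^ k).totient : ℝ) * (4 : ℝ) ^ ht χ := by rw [Finset.mul_sum]
          _ ≤ ∑ χ ∈ t, ∑ j ∈ J, Complex.normSq (formY s Q c ρ n χ j) := Finset.sum_le_sum hlow
          _ = ∑ j ∈ J, ∑ χ ∈ t, Complex.normSq (formY s Q c ρ n χ j) := Finset.sum_comm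
          _ = ∑ j ∈ J, (2 : ℝ) ^ d := Finset.sum_congr rfl hsumR
          _ = ((2 ^ k).totient : ℝ) * (2 : ℝ) ^ d := by
              rw [Finset.sum_const, nsmul_eq_mul, hJcard]
      have hφR : (0 : ℝ) < ((2 ^ k).totient : ℝ) := by exact_mod_cast hφ
      have h5 : ∑ χ ∈ t, (4 : ℝ) ^ ht χ ≤ (2 : ℝ) ^ d := le_of_mul_le_mul_left h4 hφR
      have h6 : ∑ χ ∈ t, 4 ^ ht χ ≤ 2 ^ d := by exact_mod_cast h5
      calc ∑ χ ∈ t, heightWeight (ht χ) ≤ ∑ χ ∈ t, 3 * 4 ^ ht χ :=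
            Finset.sum_le_sum (fun χ _ => heightWeight_le (ht χ))
        _ = 3 * ∑ χ ∈ t, 4 ^ ht χ := by rw [Finset.mul_sum]
        _ ≤ 3 * 2 ^ d := Nat.mul_le_mul_left 3 h6
    · push Not at hcase
      apply hfin
      intro χ hχ
      by_cases h0 : ht χ = 0
      · apply hzero χ hχ h0
        obtain ⟨S₂, hS₂, hS₂'⟩ := trace_bound 2 k Nat.prime_two s (perpQ s Q c) hsymp hpsdp 2
          (by norm_num) hμp (n χ) ρ hρ
        have hS₂2 : ∑ j ∈ J, formA s (perpQ s Q c) ρ n χ χ j = (S₂ : ℂ) := by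
          rw [← hS₂]
          apply Finset.sum_congr rfl
          intro j _
          exact formA_eq_sum s (perpQ s Q c) ρ n χ χ j
        have hYS : ∑ j ∈ J, formY s Q c ρ n χ j * conj (formY s Q c ρ n χ j) =
            (((((2 ^ k).totient : ℤ) * Tf χ - S₂ : ℤ)) : ℂ) := by
          rw [Int.cast_sub, ← (hTf χ hχ).1, ← hS₂2, ← Finset.sum_sub_distrib]
          apply Finset.sum_congr rfl
          intro j _
          rw [formA_eq_add s Q c ρ n χ χ j, add_sub_cancel_right]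
        have hnn : 0 ≤ ((2 ^ k).totient : ℤ) * Tf χ - S₂ := int_nonneg_of_sum
          (fun j => formY s Q c ρ n χ j * conj (formY s Q c ρ n χ j)) (fun j _ => hYnn χ j) _ hYS
        rcases hS₂' with hz | hge
        · exfalso
          rw [hz, Int.cast_zero] at hS₂2
          have hall := all_zero_of_sum_zero (fun j => formA s (perpQ s Q c) ρ n χ χ j)
            (fun j _ => hRnn χ j) hS₂2
          obtain ⟨j, hj, hj'⟩ := hcase χ hχ h0
          exact hj' (hall j hj)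
        · have : ((2 ^ k).totient : ℤ) * 2 ≤ ((2 ^ k).totient : ℤ) * Tf χ := by linarith
          exact le_of_mul_le_mul_left this hφZ
      · exact hposht χ hχ h0
  · apply hfin
    intro χ hχ
    by_cases h0 : ht χ = 0
    · apply hzero χ hχ h0
      obtain ⟨S, hS, hS'⟩ := trace_bound 2 k Nat.prime_two s Q hsym hpsd 2 (by norm_num)
        (by
          intro c hc
          have h0 := hpsd c
          have h1 : ∑ ξ ∈ s, ∑ ξ' ∈ s, c ξ * Q ξ ξ' * c ξ' ≠ 1 := fun h => hsplit ⟨c, h⟩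
          omega) (n χ) ρ hρ
      have hS2 : ∑ j ∈ J, formA s Q ρ n χ χ j = (S : ℂ) := by
        rw [← hS]
        apply Finset.sum_congr rfl
        intro j _
        exact formA_eq_sum s Q ρ n χ χ j
      rw [(hTf χ hχ).1] at hS2
      have hST : ((2 ^ k).totient : ℤ) * Tf χ = S := by exact_mod_cast hS2
      have hTpos := (hTf χ hχ).2.1
      rcases hS' with h | h
      · rw [← hST] at h
        rcases mul_eq_zero.mp h with h | h
        · exact absurd h hφZ.ne'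
        · omega
      · rw [← hST] at h
        have : ((2 ^ k).totient : ℤ) * 2 ≤ ((2 ^ k).totient : ℤ) * Tf χ := h
        exact le_of_mul_le_mul_left this hφZ
    · exact hposht χ hχ h0

end Weight

end Cfsg.Agent.Lib.Helper75
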