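import Mathlib
import Cfsg.Agent.Lib.Helper75.MajorSubFiveG
import Cfsg.Agent.Lib.Helper75.MajorSubWeight
import Cfsg.Agent.Lib.Helper75.MajorSubMain

/-!
# `k₀(B) + (2/3) ∑ 2^i k_i(B) ≤ 2^d` for a `2`-block with a major subsection with `l(b) ≤ 3`

Shared library by helper75 (for S4540).
-/

set_option autoImplicit false
set_option linter.unusedSectionVars false
set_option linter.style.haveILetI false

namespace Cfsg.Agent.Lib.Helper75

open Cfsg Finset Cfsg.Agent.Lib.Helper16 Cfsg.Agent.Lib.Helper78 Cfsg.Agent.Lib.Helper79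
  Cfsg.Agent.Lib.Helper82
open scoped ComplexConjugate

universe u

section MainTwo

variable {G : Type u} [Group G] [Fintype G] {M : Ideal AlgInt}

open scoped Classical in
/-- **Sambale**: `k₀(B) + (2/3) ∑_{i ≥ 1} 2^i k_i(B) ≤ 2^d` for a `2`-block `B` of defect `d` with a
major subsection `(y, b)` such that `l(b) ≤ 3`, in the form `∑_χ w(χ) ≤ 3·2^d`. -/
theorem sum_heightWeight_le_of_major_subsection (hM : IsPModular 2 M) (B : Set (IrrCharacter G))
    (y : G) (hy : ∃ k : ℕ, orderOf y = 2 ^ k)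
    (H : Subgroup G) [Fintype H] (hH : ∀ g : G, g ∈ H ↔ Commute y g)
    (b : Set (IrrCharacter H)) (hind : IsInducedBlock M H b B)
    (hbd : blockDefect 2 b = blockDefect 2 B) (hl : blockRank 2 b ≤ 3) :
    ∑ χ ∈ Finset.univ.filter (fun χ : IrrCharacter G => χ ∈ B),
      heightWeight (blockHeight 2 B (χ : G → ℂ)) ≤ 3 * 2 ^ blockDefect 2 B := by
  have hp : Nat.Prime 2 := Nat.prime_two
  have hMp : M.IsPrime := isPModular_isPrime hM
  have hb : IsPBlock M b := hind.1
  have hB : IsPBlock M B := hind.2.1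
  have hbne : b.Nonempty := IsPBlock_nonempty hMp.ne_top hb
  have hBne : B.Nonempty := IsPBlock_nonempty hMp.ne_top hB
  obtain ⟨k, hk⟩ := hy
  -- the central element
  have hyH : y ∈ H := (hH y).mpr (Commute.refl y)
  obtain ⟨z, hz⟩ : ∃ z : H, (z : G) = y := ⟨⟨y, hyH⟩, rfl⟩
  have hzc : z ∈ Subgroup.center H := by
    rw [Subgroup.mem_center_iff]
    intro h
    apply Subtype.ext
    simp only [Subgroup.coe_mul, hz]
    exact ((hH h).mp h.2).eq.symm
  have hzn : z ^ 2 ^ k = 1 := by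
    apply Subtype.ext
    simp only [Subgroup.coe_pow, hz, Subgroup.coe_one]
    rw [← hk]
    exact pow_orderOf_eq_one y
  set sb := Finset.univ.filter (fun ξ : IrrCharacter H => ξ ∈ b) with hsb
  set sB := Finset.univ.filter (fun χ : IrrCharacter G => χ ∈ B) with hsB
  set J := (Finset.range (2 ^ k)).filter (fun j => j.Coprime (2 ^ k)) with hJ
  have hpow : ∀ j ∈ J, (∀ g : G, g ∈ H ↔ Commute (((z ^ j : H) : G)) g) ∧
      (∃ k' : ℕ, orderOf (((z ^ j : H) : G)) = 2 ^ k') ∧ (z ^ j) ^ 2 ^ k = 1 ∧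
      z ^ j ∈ Subgroup.center H := by
    intro j hj
    simp only [hJ, Finset.mem_filter, Finset.mem_range] at hj
    have hcop : (orderOf y).Coprime j := by rw [hk]; exact hj.2.symm
    have hord : orderOf (y ^ j) = 2 ^ k := by rw [hcop.orderOf_pow, hk]
    rw [Subgroup.coe_pow, hz]
    refine ⟨?_, ⟨k, hord⟩, ?_, Subgroup.pow_mem _ hzc j⟩
    · intro g
      rw [hH g]
      constructor
      · intro h
        exact h.pow_left j
      · intro h
        obtain ⟨m, hm⟩ := exists_pow_eq_self_of_coprime hcop.symm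
        rw [← hm]
        exact h.pow_left m
    · rw [← pow_mul, mul_comm, pow_mul, hzn, one_pow]
  have hcoe : ∀ j : ℕ, (z : G) ^ j = ((z ^ j : H) : G) := fun j => (Subgroup.coe_pow H z j).symm
  obtain ⟨ξ₀, hξ₀, hξ₀min⟩ := exists_min_factorization (p := 2) hbne
  have hξ₀0 : blockHeight 2 b (ξ₀ : H → ℂ) = 0 := by
    unfold blockHeight
    omega
  obtain ⟨ψ₀, hψ₀, hψ₀min⟩ := exists_min_factorization (p := 2) hBne
  have hψ₀0 : blockHeight 2 B (ψ₀ : G → ℂ) = 0 := by
    unfold blockHeight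
    omega
  have hw : (0 : ℝ) < ((2 : ℕ) : ℝ) ^ blockDefect 2 b / (Nat.card H : ℝ) := by
    apply div_pos (pow_pos (by norm_num) _)
    exact_mod_cast Nat.card_pos
  rw [← hbd]
  have hA : ∀ (χ ψ : IrrCharacter G) (j : ℕ), formA sb (blockQ 2 b)
        (fun ξ => cScalar ξ z) (fun (χ : IrrCharacter G) ξ => (resMult H χ ξ : ℤ)) χ ψ j =
      ((2 : ℕ) : ℂ) ^ blockDefect 2 b * secM 2 ((z : G) ^ j) H b (χ : G → ℂ) (ψ : G → ℂ) :=
    fun χ ψ j => formA_eq_pow_mul_secM hM H hb χ ψ hzc j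
  have hpd0 : ((2 : ℕ) : ℂ) ^ blockDefect 2 b ≠ 0 := pow_ne_zero _ (by norm_num)
  apply sum_weight_le_of_major_abstract hM k (blockDefect 2 b) sb
    (Finset.univ.filter (fun s : H => ¬ 2 ∣ orderOf s)) (fun (ξ : IrrCharacter H) x => (ξ : H → ℂ) x)
    (((2 : ℕ) : ℝ) ^ blockDefect 2 b / (Nat.card H : ℝ)) hw (blockQ 2 b) (blockQ_symm hM b)
    (isGram_blockQ hM H hb) (blockU 2 b) ?_ ξ₀ (by simpa [hsb] using hξ₀)
    (not_dvd_blockU hp hξ₀ hξ₀0) (fun ξ => cScalar ξ z)
    (fun ξ _ => cScalar_pow_eq_one ξ hzc hzn) sB (fun χ => blockHeight 2 B (χ : G → ℂ))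
    ⟨ψ₀, by simp [hsB, hψ₀], hψ₀0⟩
    (fun (χ : IrrCharacter G) ξ => (resMult H χ ξ : ℤ)) (2 ^ blockDefect 2 b * blockRank 2 b)
    (by rw [mul_comm]; exact Nat.mul_le_mul_right _ hl) ?_ ?_ ?_ ?_ ?_ ?_
  · -- the congruences
    intro ξ _ ξ' hξ' ξ'' hξ''
    simp only [hsb, Finset.mem_filter, Finset.mem_univ, true_and] at hξ' hξ''
    exact blockQ_congr hM hb ξ hξ' hξ''
  · -- the trace
    intro j hj
    obtain ⟨hHj, hordj, -, -⟩ := hpow j hj
    simp_rw [hA]
    rw [← Finset.mul_sum]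
    have h1 := sum_secM_self hM ((z : G) ^ j) (by rw [hcoe]; exact hordj) H
      (by rw [hcoe]; exact hHj) hb
    have h2 : ∑ χ ∈ sB, secM 2 ((z : G) ^ j) H b (χ : G → ℂ) (χ : G → ℂ) =
        ∑ χ : IrrCharacter G, secM 2 ((z : G) ^ j) H b (χ : G → ℂ) (χ : G → ℂ) := by
      rw [hsB, Finset.sum_filter]
      apply Finset.sum_congr rfl
      intro χ _
      split_ifs with hχ
      · rfl
      · rw [secM_eq_zero_of_not_mem_left hM ((z : G) ^ j) (by rw [hcoe]; exact hordj) H
          (by rw [hcoe]; exact hHj) hind χ hχ]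
    rw [h2, h1]
    push_cast
    ring
  · -- nonvanishing
    intro χ hχ ψ hψ hψ0 j hj
    obtain ⟨hHj, hordj, hznj, hzcj⟩ := hpow j hj
    simp only [hsB, Finset.mem_filter, Finset.mem_univ, true_and] at hχ hψ
    rw [hA, hcoe]
    exact mul_ne_zero hpd0
      (secM_ne_zero_of_height_zero hM H hind hbd hχ hψ hψ0 hzcj hHj hznj hordj)
  · -- idempotence
    intro ψ hψ j hj
    obtain ⟨hHj, hordj, -, -⟩ := hpow j hj
    simp_rw [hA]
    have h1 := sum_secM_mul_conj hM ((z : G) ^ j) (by rw [hcoe]; exact hordj) H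
      (by rw [hcoe]; exact hHj) hb (ψ : G → ℂ)
    have h2 : ∑ χ ∈ sB, secM 2 ((z : G) ^ j) H b (χ : G → ℂ) (ψ : G → ℂ) *
          conj (secM 2 ((z : G) ^ j) H b (χ : G → ℂ) (ψ : G → ℂ)) =
        secM 2 ((z : G) ^ j) H b (ψ : G → ℂ) (ψ : G → ℂ) := by
      rw [← h1, hsB, Finset.sum_filter]
      apply Finset.sum_congr rfl
      intro χ _
      split_ifs with hχ
      · rw [secM_conj, ← secM_conj 2 ((z : G) ^ j) H b (ψ : G → ℂ) (χ : G → ℂ), mul_comm]
      · rw [secM_eq_zero_of_not_mem_right hM ((z : G) ^ j) (by rw [hcoe]; exact hordj) H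
          (by rw [hcoe]; exact hHj) hind _ χ hχ, zero_mul]
    rw [← h2, Finset.mul_sum, Finset.mul_sum]
    apply Finset.sum_congr rfl
    intro χ _
    rw [map_mul, map_pow, Complex.conj_natCast]
    push_cast
    ring
  · -- the unit property
    intro ψ hψ hψ0
    simp only [hsB, Finset.mem_filter, Finset.mem_univ, true_and] at hψ
    have := not_dvd_sum_resMult_blockQ hM H hind hbd hψ hψ hψ0 hψ0
    exact_mod_cast this
  · -- (5G)
    intro χ hχ ψ _ j hj
    obtain ⟨hHj, hordj, -, hzcj⟩ := hpow j hj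
    simp only [hsB, Finset.mem_filter, Finset.mem_univ, true_and] at hχ
    rw [hA, hcoe]
    have := memLocalRing_pow_mul_secM_div hM H hind hbd ψ hχ hzcj hHj hordj
    exact_mod_cast this
  · -- (5G) on the diagonal
    intro χ hχ hχ0 j hj
    obtain ⟨hHj, hordj, hznj, hzcj⟩ := hpow j hj
    simp only [hsB, Finset.mem_filter, Finset.mem_univ, true_and] at hχ
    rw [hA, hcoe]
    have := memLocalIdeal_pow_mul_secM_self_div hM H hind hbd hχ hχ0 hzcj hHj hznj hordj
    exact_mod_cast this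

end MainTwo

section Bookkeeping

variable {X : Type*}

theorem three_le_heightWeight (h : ℕ) : 3 ≤ heightWeight h := by
  unfold heightWeight
  split_ifs with h0
  · exact le_rfl
  · have : 2 ^ 2 ≤ 2 ^ (h + 1) := Nat.pow_le_pow_right (by norm_num) (by omega)
    omega

theorem sum_heightWeight_eq [DecidableEq X] (t : Finset X) (ht : X → ℕ) :
    ∑ χ ∈ t, heightWeight (ht χ) =
      3 * (t.filter (fun χ => ht χ = 0)).card +
        2 * ∑ χ ∈ t.filter (fun χ => 1 ≤ ht χ), 2 ^ ht χ := by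
  rw [← Finset.sum_filter_add_sum_filter_not t (fun χ => ht χ = 0)]
  congr 1
  · rw [Finset.sum_congr rfl (g := fun _ => 3), Finset.sum_const, smul_eq_mul, mul_comm]
    intro χ hχ
    rw [Finset.mem_filter] at hχ
    unfold heightWeight
    rw [if_pos hχ.2]
  · have hfil : t.filter (fun χ => ¬ ht χ = 0) = t.filter (fun χ => 1 ≤ ht χ) := by
      apply Finset.filter_congr
      intro χ _
      omega
    rw [hfil, Finset.mul_sum]
    apply Finset.sum_congr rfl
    intro χ hχ
    rw [Finset.mem_filter] at hχ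
    unfold heightWeight
    rw [if_neg (by omega), pow_succ]
    ring

theorem three_mul_card_le_sum_heightWeight (t : Finset X) (ht : X → ℕ) :
    3 * t.card ≤ ∑ χ ∈ t, heightWeight (ht χ) := by
  have := Finset.sum_le_sum (s := t) (f := fun _ => 3) (g := fun χ => heightWeight (ht χ))
    (fun χ _ => three_le_heightWeight (ht χ))
  rw [Finset.sum_const, smul_eq_mul, mul_comm] at this
  exact this

end Bookkeeping

end Cfsg.Agent.Lib.Helper75
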