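import Mathlib
import Cfsg.Prelude.Def_Characters
import Cfsg.Agent.Lib.Helper75.Clifford
import Cfsg.Agent.Lib.Helper79.BrauerN.IndLin
import Cfsg.Agent.Lib.Helper79.BrauerN.LinChar
import Cfsg.Agent.Lib.Helper6.BrauerNNGT

set_option autoImplicit false
open Cfsg
open scoped ComplexConjugate
open Cfsg.Agent.Lib.Helper79.BrauerN

namespace Cfsg.Agent.Lib.Helper75.NormL0

section General
variable {G : Type*} [Group G] (N : Subgroup G)

/-- `E_g = N ∩ g N g⁻¹` as a subgroup of `N` (module [NORM-L0] of helper79 S0996 project). -/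
def Eg (g : G) : Subgroup ↥N where
  carrier := {y | g⁻¹ * (y : G) * g ∈ N}
  mul_mem' := by
    intro a b ha hb
    show g⁻¹ * ((a * b : ↥N) : G) * g ∈ N
    have : g⁻¹ * ((a * b : ↥N) : G) * g = (g⁻¹ * (a : G) * g) * (g⁻¹ * (b : G) * g) := by
      push_cast; group
    rw [this]; exact N.mul_mem ha hb
  one_mem' := by
    show g⁻¹ * ((1 : ↥N) : G) * g ∈ N
    simp
  inv_mem' := by
    intro a ha
    show g⁻¹ * ((a⁻¹ : ↥N) : G) * g ∈ N
    have : g⁻¹ * ((a⁻¹ : ↥N) : G) * g = (g⁻¹ * (a : G) * g)⁻¹ := by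
      push_cast; group
    rw [this]; exact N.inv_mem ha

theorem mem_Eg (g : G) (y : ↥N) : y ∈ Eg N g ↔ g⁻¹ * (y : G) * g ∈ N := Iff.rfl

/-- conjugation by `g⁻¹` as a homomorphism `E_g → N`. -/
def cg (g : G) : ↥(Eg N g) →* ↥N where
  toFun y := ⟨g⁻¹ * ((y : ↥N) : G) * g, y.2⟩
  map_one' := by
    apply Subtype.ext
    simp
  map_mul' := by
    intro a b
    apply Subtype.ext
    push_cast
    group

theorem cg_coe (g : G) (y : ↥(Eg N g)) : ((cg N g y : ↥N) : G) = g⁻¹ * ((y : ↥N) : G) * g := rfl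

open scoped Classical in
/-- the double sum formula for the inner product of two induced functions -/
theorem classInner_indFun_indFun [Fintype G] (θ θ' : ↥N → ℂ) :
    classInner (indFun N θ) (indFun N θ') = (Nat.card N : ℂ)⁻¹ * ((Nat.card N : ℂ)⁻¹ *
      ∑ g : G, ∑ y : ↥(Eg N g), θ (y : ↥N) * conj (θ' (cg N g y))) := by
  rw [Cfsg.Agent.Lib.Helper75.frobenius_reciprocity N θ
    (Cfsg.Agent.Lib.Helper75.isClassFunction_indFun N θ')]
  unfold classInner
  congr 1
  have h1 : ∀ y : ↥N, θ y * conj (indFun N θ' (y : G)) = (Nat.card N : ℂ)⁻¹ *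
      ∑ g : G, (if h : g⁻¹ * (y : G) * g ∈ N then θ y * conj (θ' ⟨g⁻¹ * (y : G) * g, h⟩) else 0) := by
    intro y
    rw [indFun_eq_sum_dite, map_mul, map_inv₀, Complex.conj_natCast, map_sum, Finset.mul_sum,
      Finset.mul_sum, Finset.mul_sum]
    apply Finset.sum_congr rfl
    intro g _
    by_cases h : g⁻¹ * (y : G) * g ∈ N
    · rw [dif_pos h, dif_pos h]; ring
    · rw [dif_neg h, dif_neg h, map_zero]; ring
  rw [Finset.sum_congr rfl (fun y _ => h1 y), ← Finset.mul_sum, Finset.sum_comm]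
  congr 1
  apply Finset.sum_congr rfl
  intro g _
  have h2 : ∑ y : ↥N, (if h : g⁻¹ * (y : G) * g ∈ N then
        θ y * conj (θ' ⟨g⁻¹ * (y : G) * g, h⟩) else 0) =
      ∑ y ∈ Finset.univ.filter (fun y : ↥N => y ∈ Eg N g), (if h : g⁻¹ * (y : G) * g ∈ N then
        θ y * conj (θ' ⟨g⁻¹ * (y : G) * g, h⟩) else 0) := by
    symm
    apply Finset.sum_subset (Finset.subset_univ _)
    intro y _ hy
    rw [Finset.mem_filter] at hy
    have : ¬ g⁻¹ * (y : G) * g ∈ N := fun h => hy ⟨Finset.mem_univ _, h⟩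
    rw [dif_neg this]
  rw [h2, Finset.sum_subtype (p := fun y : ↥N => y ∈ Eg N g)
    (Finset.univ.filter (fun y : ↥N => y ∈ Eg N g)) (fun x => by simp)]
  apply Finset.sum_congr rfl
  intro y _
  have hy : g⁻¹ * ((y : ↥N) : G) * g ∈ N := y.2
  rw [dif_pos hy]
  rfl

end General

theorem conj_hom_val {H : Type*} [Group H] [Finite H] (l : H →* ℂˣ) (y : H) :
    conj ((l y : ℂˣ) : ℂ) = (((l y)⁻¹ : ℂˣ) : ℂ) := by
  have h1 : (l y) ^ Nat.card H = 1 := by rw [← map_pow, pow_card_eq_one', map_one]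
  have : NeZero (Nat.card H) := ⟨Nat.card_pos.ne'⟩
  exact Complex.conj_rootsOfUnity ((mem_rootsOfUnity _ _).mpr h1)

open scoped Classical in
theorem sum_hom_val {E : Type*} [Group E] [Fintype E] (μ : E →* ℂˣ) :
    ∑ y : E, ((μ y : ℂˣ) : ℂ) = if μ = 1 then (Nat.card E : ℂ) else 0 := by
  have h := sum_hom_units ((Units.coeHom ℂ).comp μ)
  have h2 : ((Units.coeHom ℂ).comp μ = 1) ↔ μ = 1 := by
    constructor
    · intro h
      ext y
      have := DFunLike.congr_fun h y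
      simpa using this
    · intro h
      rw [h]
      ext y
      simp
  have h3 : ∑ y : E, ((μ y : ℂˣ) : ℂ) = ∑ y : E, ((Units.coeHom ℂ).comp μ) y := by
    apply Finset.sum_congr rfl
    intro y _
    simp
  rw [h3, h]
  by_cases hμ : μ = 1
  · rw [if_pos hμ, if_pos (h2.mpr hμ), Nat.card_eq_fintype_card]
  · rw [if_neg hμ, if_neg (fun h' => hμ (h2.mp h'))]
    simp

theorem order_two_unique {E : Type*} [Group E] [IsCyclic E] (μ₁ μ₂ : E →* ℂˣ)
    (h1 : μ₁ * μ₁ = 1) (h2 : μ₂ * μ₂ = 1) (h1' : μ₁ ≠ 1) (h2' : μ₂ ≠ 1) : μ₁ = μ₂ := by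
  obtain ⟨e, he⟩ := IsCyclic.exists_generator (α := E)
  have key : ∀ μ : E →* ℂˣ, μ * μ = 1 → μ ≠ 1 → μ e = -1 := by
    intro μ hμ hμ1
    have h3 : μ e * μ e = 1 := by
      have := DFunLike.congr_fun hμ e
      simpa using this
    have h4 : ((μ e : ℂˣ) : ℂ) * ((μ e : ℂˣ) : ℂ) = 1 := by
      rw [← Units.val_mul, h3, Units.val_one]
    rcases mul_self_eq_one_iff.mp h4 with h5 | h5
    · exfalso
      apply hμ1
      ext y
      obtain ⟨k, rfl⟩ := Subgroup.mem_zpowers_iff.mp (he y)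
      have h6 : μ e = 1 := Units.ext h5
      rw [map_zpow, h6, one_zpow]
      rfl
    · exact Units.ext (by rw [h5]; simp)
  ext y
  obtain ⟨k, rfl⟩ := Subgroup.mem_zpowers_iff.mp (he y)
  rw [map_zpow, map_zpow, key μ₁ h1 h1', key μ₂ h2 h2']

section Aux

variable {G : Type*} [Group G] [Fintype G]

open scoped Classical in
/-- the inner sum for two linear characters is the sum of a homomorphism over `E_g` -/
theorem inner_sum_eq (N : Subgroup G) (l l' : ↥N →* ℂˣ) (g : G) :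
    ∑ y : ↥(Eg N g), linFun l (y : ↥N) * conj (linFun l' (cg N g y)) =
      ∑ y : ↥(Eg N g), ((((l.comp (Eg N g).subtype) * (l'.comp (cg N g))⁻¹) y : ℂˣ) : ℂ) := by
  apply Finset.sum_congr rfl
  intro y _
  rw [linFun_apply, linFun_apply, conj_hom_val]
  simp

open scoped Classical in
theorem norm_aux (p q n : ℕ) [Fact p.Prime] (P N : Subgroup G)
    (hNcard : Nat.card N = p * q) (hGcard : Nat.card G = p * q * (1 + n * p))
    (hctrl : ∀ x₀ x : G, x₀ ∈ P → x₀ ≠ 1 → x⁻¹ * x₀ * x ∈ N → x ∈ N)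
    (κ : ↥N →* (ZMod p)ˣ) (hκ : ∀ b : ↥N, κ b = 1 → (b : G) ∈ P)
    (Λ : Subgroup (↥N →* ℂˣ)) (hΛmem : ∀ l : ↥N →* ℂˣ, l ∈ Λ ↔ ∀ k ∈ P.subgroupOf N, l k = 1)
    (hΛcard : Nat.card Λ = q)
    (hΛin : ∀ y : ↥N, y ∈ P.subgroupOf N →
      ∑ᶠ l ∈ (Λ : Set (↥N →* ℂˣ)), ((l y : ℂˣ) : ℂ) = (q : ℂ))
    (hΛout : ∀ y : ↥N, y ∉ P.subgroupOf N →
      ∑ᶠ l ∈ (Λ : Set (↥N →* ℂˣ)), ((l y : ℂˣ) : ℂ) = 0)
    (hπ : ∀ l : ↥N →* ℂˣ, (∀ k ∈ P.subgroupOf N, l k = 1) → l ≠ 1 →
      classInner (indFun N (linFun (1 : ↥N →* ℂˣ))) (indFun N (linFun l)) = 0)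
    (l₀ : ↥N →* ℂˣ) (hl₀P : ∀ k ∈ P.subgroupOf N, l₀ k = 1)
    (hl₀1 : l₀ ≠ 1) (hl₀2 : l₀ * l₀ = 1) :
    classInner (indFun N (linFun l₀)) (indFun N (linFun l₀)) = ((n + 1 : ℕ) : ℂ) := by
  have hp : p.Prime := Fact.out
  have hN0 : (Nat.card N : ℂ) ≠ 0 := by exact_mod_cast Nat.card_pos.ne'
  have hq0 : q ≠ 0 := by
    rintro rfl
    rw [mul_zero] at hNcard
    exact Nat.card_pos.ne' hNcard
  -- (1a)
  have h1a : ∀ l : ↥N →* ℂˣ, (∀ k ∈ P.subgroupOf N, l k = 1) → l ≠ 1 → ∀ g : G,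
      l.comp (cg N g) ≠ 1 := by
    intro l hl hne
    have h := hπ l hl hne
    rw [classInner_indFun_indFun] at h
    have h2 : ∑ g : G, ∑ y : ↥(Eg N g), linFun (1 : ↥N →* ℂˣ) (y : ↥N) *
        conj (linFun l (cg N g y)) = 0 := by
      rcases mul_eq_zero.mp h with h | h
      · exact absurd h (inv_ne_zero hN0)
      · rcases mul_eq_zero.mp h with h | h
        · exact absurd h (inv_ne_zero hN0)
        · exact h
    have h3 : ∀ g : G, ∑ y : ↥(Eg N g), linFun (1 : ↥N →* ℂˣ) (y : ↥N) *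
        conj (linFun l (cg N g y)) =
        (((if l.comp (cg N g) = 1 then Nat.card (Eg N g) else 0 : ℕ)) : ℂ) := by
      intro g
      rw [inner_sum_eq, sum_hom_val]
      have h4 : ((1 : ↥N →* ℂˣ).comp (Eg N g).subtype * (l.comp (cg N g))⁻¹ = 1) ↔
          l.comp (cg N g) = 1 := by
        rw [MonoidHom.one_comp]
        constructor
        · intro h'
          ext y
          have := DFunLike.congr_fun h' y
          simpa using this
        · intro h'
          rw [h']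
          ext y
          simp
      by_cases h5 : l.comp (cg N g) = 1
      · rw [if_pos h5, if_pos (h4.mpr h5)]
      · rw [if_neg h5, if_neg (fun h' => h5 (h4.mp h'))]
        simp
    rw [Finset.sum_congr rfl (fun g _ => h3 g), ← Nat.cast_sum, Nat.cast_eq_zero,
      Finset.sum_eq_zero_iff] at h2
    intro g hg
    have h5 := h2 g (Finset.mem_univ _)
    rw [if_pos hg] at h5
    exact Nat.card_pos.ne' h5
  -- (1b)
  have h1b : ∀ l : ↥N →* ℂˣ, (∀ k ∈ P.subgroupOf N, l k = 1) → l ≠ 1 → ∀ g : G,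
      l.comp (Eg N g).subtype ≠ 1 := by
    intro l hl hne g hcon
    apply h1a l hl hne g⁻¹
    ext y
    have hy' : cg N g⁻¹ y ∈ Eg N g := by
      rw [mem_Eg, cg_coe]
      have : g⁻¹ * (g⁻¹⁻¹ * ((y : ↥N) : G) * g⁻¹) * g = ((y : ↥N) : G) := by group
      rw [this]
      exact (y : ↥N).2
    have := DFunLike.congr_fun hcon ⟨cg N g⁻¹ y, hy'⟩
    simpa using this
  -- `E_g ∩ P = 1` for `g ∉ N`
  have hEP : ∀ g : G, g ∉ N → ∀ y : ↥(Eg N g), ((y : ↥N) : G) ∈ P → y = 1 := by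
    intro g hg y hy
    by_contra hne
    apply hg
    apply hctrl ((y : ↥N) : G) g hy _ y.2
    intro h
    apply hne
    apply Subtype.ext
    apply Subtype.ext
    exact h
  have hΛ1 : (1 : ↥N →* ℂˣ) ∈ Λ := Λ.one_mem
  -- (2)
  have hcardE : ∀ g : G, g ∉ N → Nat.card (Eg N g) = q := by
    intro g hg
    have hfin : (Λ : Set (↥N →* ℂˣ)).Finite := by
      have : Finite Λ := Nat.finite_of_card_ne_zero (by rw [hΛcard]; exact hq0)
      exact Set.toFinite _
    have hA : ∑ y : ↥(Eg N g), ∑ᶠ l ∈ (Λ : Set (↥N →* ℂˣ)), ((l (y : ↥N) : ℂˣ) : ℂ) = (q : ℂ) := by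
      rw [Finset.sum_eq_single (1 : ↥(Eg N g))]
      · exact hΛin _ (Subgroup.one_mem _)
      · intro y _ hy
        apply hΛout
        intro h
        apply hy
        apply hEP g hg y
        rw [Subgroup.mem_subgroupOf] at h
        exact h
      · intro h
        exact absurd (Finset.mem_univ _) h
    have hB : ∑ y : ↥(Eg N g), ∑ᶠ l ∈ (Λ : Set (↥N →* ℂˣ)), ((l (y : ↥N) : ℂˣ) : ℂ) =
        (Nat.card (Eg N g) : ℂ) := by
      have h1 : ∀ y : ↥(Eg N g), ∑ᶠ l ∈ (Λ : Set (↥N →* ℂˣ)), ((l (y : ↥N) : ℂˣ) : ℂ) =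
          ∑ l ∈ hfin.toFinset, ((l (y : ↥N) : ℂˣ) : ℂ) := fun y =>
        finsum_mem_eq_finite_toFinset_sum _ hfin
      rw [Finset.sum_congr rfl (fun y _ => h1 y), Finset.sum_comm]
      have h2 : ∀ l ∈ hfin.toFinset, ∑ y : ↥(Eg N g), ((l (y : ↥N) : ℂˣ) : ℂ) =
          if l = 1 then (Nat.card (Eg N g) : ℂ) else 0 := by
        intro l hl
        have h3 := sum_hom_val (l.comp (Eg N g).subtype)
        have h4 : ∑ y : ↥(Eg N g), ((l (y : ↥N) : ℂˣ) : ℂ) =
            ∑ y : ↥(Eg N g), (((l.comp (Eg N g).subtype) y : ℂˣ) : ℂ) := rfl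
        rw [h4, h3]
        by_cases h5 : l = 1
        · rw [if_pos h5, if_pos (by rw [h5]; rfl)]
        · rw [if_neg h5, if_neg]
          apply h1b l _ h5 g
          rw [Set.Finite.mem_toFinset] at hl
          exact (hΛmem l).mp hl
      rw [Finset.sum_congr rfl h2, Finset.sum_ite_eq' hfin.toFinset (1 : ↥N →* ℂˣ), if_pos]
      rw [Set.Finite.mem_toFinset]
      exact hΛ1
    rw [hA] at hB
    exact_mod_cast hB.symm
  -- (3)
  have hcyc : ∀ g : G, g ∉ N → IsCyclic (Eg N g) := by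
    intro g hg
    apply isCyclic_of_injective (κ.comp (Eg N g).subtype)
    rw [injective_iff_map_eq_one]
    intro y hy
    exact hEP g hg y (hκ _ hy)
  -- (4)
  have hsq : ∀ {E : Type _} [Group E] (f : E →* ↥N), (l₀.comp f) * (l₀.comp f) = 1 := by
    intro E _ f
    ext y
    have h := DFunLike.congr_fun hl₀2 (f y)
    have h' : l₀ (f y) * l₀ (f y) = 1 := by simpa using h
    show (((l₀ (f y) * l₀ (f y) : ℂˣ)) : ℂ) = ((1 : ℂˣ) : ℂ)
    rw [h']
  have heq : ∀ g : G, l₀.comp (cg N g) = l₀.comp (Eg N g).subtype := by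
    intro g
    by_cases hg : g ∈ N
    · ext y
      have h1 : cg N g y = (⟨g, hg⟩ : ↥N)⁻¹ * (y : ↥N) * ⟨g, hg⟩ := by
        apply Subtype.ext
        rw [cg_coe]
        push_cast
        rfl
      show ((l₀ (cg N g y) : ℂˣ) : ℂ) = ((l₀ (y : ↥N) : ℂˣ) : ℂ)
      rw [h1, map_mul, map_mul, map_inv, mul_comm, mul_inv_cancel_left]
    · have := hcyc g hg
      exact order_two_unique _ _ (hsq _) (hsq _) (h1a l₀ hl₀P hl₀1 g) (h1b l₀ hl₀P hl₀1 g)
  -- the inner sums
  have hinner : ∀ g : G, ∑ y : ↥(Eg N g), linFun l₀ (y : ↥N) * conj (linFun l₀ (cg N g y)) =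
      (Nat.card (Eg N g) : ℂ) := by
    intro g
    have h1 : ∀ y : ↥(Eg N g), linFun l₀ (y : ↥N) * conj (linFun l₀ (cg N g y)) = 1 := by
      intro y
      have h2 : l₀ (cg N g y) = l₀ (y : ↥N) := DFunLike.congr_fun (heq g) y
      rw [linFun_apply, linFun_apply, h2, conj_hom_val, ← Units.val_mul, mul_inv_cancel,
        Units.val_one]
    rw [Finset.sum_congr rfl (fun y _ => h1 y), Finset.sum_const, Finset.card_univ,
      Nat.card_eq_fintype_card, nsmul_eq_mul, mul_one]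
  have hcardE' : ∀ g : G, (Nat.card (Eg N g) : ℂ) = if g ∈ N then ((p * q : ℕ) : ℂ) else (q : ℂ) := by
    intro g
    by_cases hg : g ∈ N
    · rw [if_pos hg]
      have : Eg N g = ⊤ := by
        rw [eq_top_iff]
        intro y _
        rw [mem_Eg]
        exact N.mul_mem (N.mul_mem (N.inv_mem hg) y.2) hg
      rw [this, Subgroup.card_top, hNcard]
    · rw [if_neg hg, hcardE g hg]
  rw [classInner_indFun_indFun, Finset.sum_congr rfl (fun g _ => (hinner g).trans (hcardE' g)),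
    Finset.sum_ite, Finset.sum_const, Finset.sum_const, nsmul_eq_mul, nsmul_eq_mul]
  have hc1 : (Finset.univ.filter (fun g : G => g ∈ N)).card = p * q := by
    rw [← hNcard, Nat.card_eq_fintype_card, Fintype.card_subtype]
  have hc2 : (Finset.univ.filter (fun g : G => g ∈ N)).card +
      (Finset.univ.filter (fun g : G => ¬ g ∈ N)).card = p * q * (1 + n * p) := by
    rw [Finset.card_filter_add_card_filter_not, Finset.card_univ,
      ← Nat.card_eq_fintype_card, hGcard]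
  have hc3 : ((Finset.univ.filter (fun g : G => ¬ g ∈ N)).card : ℂ) = (p * q * (n * p) : ℕ) := by
    congr 1
    rw [hc1] at hc2
    have : p * q * (1 + n * p) = p * q + p * q * (n * p) := by ring
    omega
  rw [hc1, hc3, hNcard]
  have hp0 : (p : ℂ) ≠ 0 := by exact_mod_cast hp.ne_zero
  have hq0' : (q : ℂ) ≠ 0 := by exact_mod_cast hq0
  push_cast
  field_simp
  ring

end Aux

/-- **[NORM-L0]** (helper79's statement for S0996). -/
theorem norm_ind_order_two {G : Type*} [Group G] [Fintype G] (p q n : ℕ) [Fact p.Prime]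
    (P : Sylow p G) (hPcard : Nat.card (P : Subgroup G) = p)
    (hcent : ∀ x : G, x ∈ (P : Subgroup G) → x ≠ 1 →
      Subgroup.centralizer ({x} : Set G) = (P : Subgroup G))
    (hNcard : Nat.card (Subgroup.normalizer ((P : Subgroup G) : Set G)) = p * q)
    (hGcard : Nat.card G = p * q * (1 + n * p))
    (hπ : ∀ l : ↥(Subgroup.normalizer ((P : Subgroup G) : Set G)) →* ℂˣ,
      (∀ k ∈ (P : Subgroup G).subgroupOf (Subgroup.normalizer ((P : Subgroup G) : Set G)),
        l k = 1) → l ≠ 1 →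
      classInner (indFun (Subgroup.normalizer ((P : Subgroup G) : Set G))
          (linFun (1 : ↥(Subgroup.normalizer ((P : Subgroup G) : Set G)) →* ℂˣ)))
        (indFun (Subgroup.normalizer ((P : Subgroup G) : Set G)) (linFun l)) = 0)
    (l₀ : ↥(Subgroup.normalizer ((P : Subgroup G) : Set G)) →* ℂˣ)
    (hl₀P : ∀ k ∈ (P : Subgroup G).subgroupOf (Subgroup.normalizer ((P : Subgroup G) : Set G)),
      l₀ k = 1)
    (hl₀1 : l₀ ≠ 1) (hl₀2 : l₀ * l₀ = 1) :
    classInner (indFun (Subgroup.normalizer ((P : Subgroup G) : Set G)) (linFun l₀))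
      (indFun (Subgroup.normalizer ((P : Subgroup G) : Set G)) (linFun l₀)) =
      ((n + 1 : ℕ) : ℂ) := by
  classical
  have hp : p.Prime := Fact.out
  obtain ⟨hcomm, hctrl⟩ :=
    Cfsg.Agent.Lib.Helper6.BrauerNInv.normalizer_sylow_facts p P hPcard hcent
  have hKn : ((P : Subgroup G).subgroupOf
      (Subgroup.normalizer ((P : Subgroup G) : Set G))).Normal :=
    Subgroup.normal_in_normalizer
  obtain ⟨Λ, hΛmem, hΛcard, hΛin, hΛout⟩ := linear_chars_of_abelian_quotient_h79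
    ((P : Subgroup G).subgroupOf (Subgroup.normalizer ((P : Subgroup G) : Set G)))
    (by
      intro a b
      rw [Subgroup.mem_subgroupOf]
      have := hcomm a b a.2 b.2
      simpa using this)
  have hPN : (P : Subgroup G) ≤ Subgroup.normalizer ((P : Subgroup G) : Set G) :=
    Subgroup.le_normalizer
  -- the index of `P` in `N` is `q`
  have hidx : ((P : Subgroup G).subgroupOf
      (Subgroup.normalizer ((P : Subgroup G) : Set G))).index = q := by
    have h1 := Subgroup.card_mul_index ((P : Subgroup G).subgroupOf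
      (Subgroup.normalizer ((P : Subgroup G) : Set G)))
    have h2 : Nat.card ((P : Subgroup G).subgroupOf
        (Subgroup.normalizer ((P : Subgroup G) : Set G))) = p := by
      exact (Nat.card_congr (Subgroup.subgroupOfEquivOfLe hPN).toEquiv).trans hPcard
    rw [h2, hNcard] at h1
    exact Nat.eq_of_mul_eq_mul_left hp.pos h1
  rw [hidx] at hΛcard hΛin
  -- the character `κ`
  obtain ⟨x₀, hx₀P, hx₀1⟩ : ∃ x₀ ∈ (P : Subgroup G), x₀ ≠ 1 := by
    by_contra h
    have h' : ∀ x ∈ (P : Subgroup G), x = 1 := by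
      intro x hx
      by_contra hx1
      exact h ⟨x, hx, hx1⟩
    have h1 : (P : Subgroup G) = ⊥ := (Subgroup.eq_bot_iff_forall _).mpr h'
    rw [h1] at hPcard
    simp at hPcard
    exact hp.one_lt.ne hPcard
  have hPexp : ∀ a ∈ (P : Subgroup G), a ^ p = 1 := by
    intro a ha
    have h1 : (⟨a, ha⟩ : (P : Subgroup G)) ^ Nat.card (P : Subgroup G) = 1 := pow_card_eq_one'
    rw [hPcard] at h1
    have h2 := congrArg Subtype.val h1
    simpa using h2
  have hord : orderOf x₀ = p := orderOf_eq_prime (hPexp x₀ hx₀P) hx₀1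
  have hzp : Subgroup.zpowers x₀ = (P : Subgroup G) := by
    apply Subgroup.eq_of_le_of_card_ge
    · rw [Subgroup.zpowers_le]; exact hx₀P
    · rw [Nat.card_zpowers, hord, hPcard]
  obtain ⟨κ, hκ⟩ := Cfsg.Agent.Lib.Helper6.BrauerNInv.exists_powHom' p
    (Subgroup.normalizer ((P : Subgroup G) : Set G)) x₀ hord (by
      intro b hb
      rw [hzp]
      exact (Subgroup.mem_normalizer_iff.mp hb x₀).mp hx₀P)
  have hκ' : ∀ b : ↥(Subgroup.normalizer ((P : Subgroup G) : Set G)), κ b = 1 →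
      (b : G) ∈ (P : Subgroup G) := by
    intro b hb
    have h1 := hκ b
    rw [hb, Units.val_one, ZMod.val_one_eq_one_mod, Nat.mod_eq_of_lt hp.one_lt, pow_one] at h1
    have h2 : (b : G) ∈ Subgroup.centralizer ({x₀} : Set G) := by
      rw [Subgroup.mem_centralizer_iff]
      intro h hh
      rw [Set.mem_singleton_iff.mp hh]
      have : x₀ * (b : G) = (b : G) * x₀ * (b : G)⁻¹ * (b : G) := by rw [h1]
      rw [this]; group
    rw [hcent x₀ hx₀P hx₀1] at h2
    exact h2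
  exact norm_aux p q n (P : Subgroup G) (Subgroup.normalizer ((P : Subgroup G) : Set G))
    hNcard hGcard hctrl κ hκ' Λ hΛmem hΛcard hΛin hΛout hπ l₀ hl₀P hl₀1 hl₀2

end Cfsg.Agent.Lib.Helper75.NormL0
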