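import Mathlib
import Cfsg.Agent.Lib.Helper16.PF13Defs
import Cfsg.Agent.Lib.Helper4.PFNineA

/-!
# PF sec.13, module PF13-[NUM-B] (helper75 for helper16)

`index_mul_le` : `|U : C_U(P)| (p - 1) ≤ p ^ q - 1` for one side of the pair (`P = S_F`).

* `cent_W₂_le` : `C_U(W₂) ≤ C_G(M_F)` for type-P data (Frobenius-Wielandt fixed point formula
  S1545 applied to the Frobenius group `C_U(W₂) W₁` acting on `M_F`).
* `mem_cent_of_conj_mem` : if `z ∈ U` conjugates some `x₀ ∈ W₂#` into `W₂` then `z ∈ C_U(M_F)`.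
-/

set_option autoImplicit false

namespace Cfsg.Agent.Lib.Helper75.PF13

open Cfsg Cfsg.Agent.Lib.Helper24.PFCyc Cfsg.Agent.Lib.Helper4.PF Cfsg.Agent.Lib.Helper16.PF13
open Cfsg.Agent.Lib.Helper4.PF9 Cfsg.Agent.Lib.Helper23

universe u

variable {G : Type u} [Group G]

/-- the number of non-identity elements of a finite group -/
theorem card_ne_one (α : Type*) [Group α] [Finite α] :
    Nat.card {x : α // x ≠ 1} = Nat.card α - 1 := by
  classical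
  let _ := Fintype.ofFinite α
  rw [Nat.card_eq_fintype_card, Nat.card_eq_fintype_card]
  have h := Fintype.card_subtype_compl (fun x : α => x = 1)
  rw [Fintype.card_subtype_eq] at h
  exact h

section typeP

variable [Finite G] {M W₁ U W₂ : Subgroup G}

/-- (i) `C_U(W₂)` centralizes `M_F`. -/
theorem cent_W₂_le (hP : IsTypePWith M W₁ U W₂) :
    U ⊓ Subgroup.centralizer (W₂ : Set G) ≤ Subgroup.centralizer (fittingHallOf M : Set G) := by
  classical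
  set A : Subgroup G := U ⊓ Subgroup.centralizer (W₂ : Set G) with hA
  by_cases hA1 : A = ⊥
  · rw [hA1]; exact bot_le
  have hAU : A ≤ U := inf_le_left
  have hAW : A ⊔ W₁ ≤ U ⊔ W₁ := sup_le_sup_right hAU W₁
  have hcomm : ∀ a ∈ W₁, ∀ b ∈ W₂, a * b = b * a := hP.selfNormalizing.2.2.2.1
  have hUE : A ⊓ W₁ = ⊥ := by
    rw [eq_bot_iff]
    intro x hx
    have : x ∈ U ⊓ W₁ := ⟨hAU hx.1, hx.2⟩
    rwa [U_inf_W₁ hP] at this
  have hUn : ∀ e ∈ W₁, ∀ a ∈ A, e * a * e⁻¹ ∈ A := by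
    intro e he a ha
    refine Subgroup.mem_inf.2 ⟨?_, ?_⟩
    · have := hP.U_normal he
      rw [Subgroup.mem_normalizer_iff] at this
      exact (this a).1 ha.1
    · rw [Subgroup.mem_centralizer_iff]
      intro b hb
      have h1 : e * b = b * e := hcomm e he b hb
      have h2 : b * a = a * b := Subgroup.mem_centralizer_iff.1 ha.2 b hb
      have h3 : b * e⁻¹ = e⁻¹ * b := by
        calc b * e⁻¹ = e⁻¹ * (e * b) * e⁻¹ := by group
          _ = e⁻¹ * (b * e) * e⁻¹ := by rw [h1]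
          _ = e⁻¹ * b := by group
      calc b * (e * a * e⁻¹) = (b * e) * a * e⁻¹ := by group
        _ = (e * b) * a * e⁻¹ := by rw [h1]
        _ = e * (b * a) * e⁻¹ := by group
        _ = e * (a * b) * e⁻¹ := by rw [h2]
        _ = e * a * (b * e⁻¹) := by group
        _ = e * a * (e⁻¹ * b) := by rw [h3]
        _ = e * a * e⁻¹ * b := by group
  have hfpf : ∀ e ∈ W₁, e ≠ 1 → ∀ a ∈ A, e * a = a * e → a = 1 :=
    fun e he he1 a ha hea => W₁_fpf_U hP he he1 (hAU ha) hea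
  have hHn : ∀ x ∈ A ⊔ W₁, ∀ y ∈ fittingHallOf M, x * y * x⁻¹ ∈ fittingHallOf M :=
    fun x hx y hy => conj_mem_fittingHallOf M (UW₁_le hP (hAW hx)) hy
  have hdisj : fittingHallOf M ⊓ (A ⊔ W₁) = ⊥ := by
    rw [eq_bot_iff]
    intro x hx
    have : x ∈ fittingHallOf M ⊓ (U ⊔ W₁) := ⟨hx.1, hAW hx.2⟩
    rwa [(isComplIn_H_UW₁ hP).2.2.1] at this
  have hcop : (Nat.card ↥(fittingHallOf M)).Coprime (Nat.card ↥(A ⊔ W₁)) :=
    Nat.Coprime.coprime_dvd_right (Subgroup.card_dvd_of_le hAW) (coprime_H_UW₁ hP)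
  have key := Cfsg.Agent.S1545.result A W₁ (fittingHallOf M) hA1 hP.W₁_ne hUE hUn hfpf hHn hdisj
    (H_isSolvable M) hcop
  have e1 : fittingHallOf M ⊓ Subgroup.centralizer (W₁ : Set G) = W₂ := H_inf_centralizer_W₁ hP
  have e2 : fittingHallOf M ⊓ Subgroup.centralizer ((A ⊔ W₁ : Subgroup G) : Set G) = W₂ := by
    apply le_antisymm
    · intro x hx
      rw [← e1]
      exact ⟨hx.1, Subgroup.centralizer_le (SetLike.coe_subset_coe.2 le_sup_right) hx.2⟩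
    · intro w hw
      refine Subgroup.mem_inf.2 ⟨W₂_le_H hP hw, ?_⟩
      rw [Subgroup.mem_centralizer_iff]
      intro y hy
      have hle : A ⊔ W₁ ≤ Subgroup.centralizer ({w} : Set G) := by
        apply sup_le
        · intro a ha
          rw [Subgroup.mem_centralizer_iff]
          intro b hb
          rw [Set.mem_singleton_iff] at hb
          rw [hb]
          exact Subgroup.mem_centralizer_iff.1 ha.2 w hw
        · intro e he
          rw [Subgroup.mem_centralizer_iff]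
          intro b hb
          rw [Set.mem_singleton_iff] at hb
          rw [hb]
          exact (hcomm e he w hw).symm
      exact (Subgroup.mem_centralizer_iff.1 (hle hy) w rfl).symm
  rw [e1, e2] at key
  have hpos : 0 < Nat.card ↥W₂ ^ Nat.card ↥W₁ := pow_pos Nat.card_pos _
  have hcard : Nat.card ↥(fittingHallOf M) =
      Nat.card ↥(fittingHallOf M ⊓ Subgroup.centralizer (A : Set G)) :=
    Nat.eq_of_mul_eq_mul_left hpos key
  have heq : fittingHallOf M ⊓ Subgroup.centralizer (A : Set G) = fittingHallOf M :=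
    Subgroup.eq_of_le_of_card_ge inf_le_left (le_of_eq hcard)
  intro a ha
  rw [Subgroup.mem_centralizer_iff]
  intro y hy
  have hy' : y ∈ fittingHallOf M ⊓ Subgroup.centralizer (A : Set G) := by rw [heq]; exact hy
  exact (Subgroup.mem_centralizer_iff.1 hy'.2 a ha).symm

/-- (ii) if `z ∈ U` conjugates a non-identity element of `W₂` into `W₂`, then `z` centralizes `M_F`. -/
theorem mem_cent_of_conj_mem (hP : IsTypePWith M W₁ U W₂) (hp : (Nat.card W₂).Prime)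
    {z x₀ : G} (hz : z ∈ U) (hx₀ : x₀ ∈ W₂) (hx₀1 : x₀ ≠ 1) (hx₁ : z * x₀ * z⁻¹ ∈ W₂) :
    z ∈ Subgroup.centralizer (fittingHallOf M : Set G) := by
  classical
  obtain ⟨w', hw1⟩ := (Subgroup.ne_bot_iff_exists_ne_one (H := W₁)).1 hP.W₁_ne
  obtain ⟨w, hw⟩ := w'
  have hw1' : w ≠ 1 := fun h0 => hw1 (Subtype.ext h0)
  have hcomm : ∀ a ∈ W₁, ∀ b ∈ W₂, a * b = b * a := hP.selfNormalizing.2.2.2.1
  set C : Subgroup G := U ⊓ Subgroup.centralizer (fittingHallOf M : Set G) with hC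
  have hnU : ∀ a ∈ U, w * a * w⁻¹ ∈ U := fun a ha => by
    have := hP.U_normal hw
    rw [Subgroup.mem_normalizer_iff] at this
    exact (this a).1 ha
  have hnC : ∀ c ∈ C, w * c * w⁻¹ ∈ C := by
    intro c hc
    refine Subgroup.mem_inf.2 ⟨hnU c hc.1, ?_⟩
    rw [Subgroup.mem_centralizer_iff]
    intro y hy
    have hy' : w⁻¹ * y * (w⁻¹)⁻¹ ∈ fittingHallOf M :=
      conj_mem_fittingHallOf M (M.inv_mem (W₁_le hP hw)) hy
    have h1 := Subgroup.mem_centralizer_iff.1 hc.2 _ hy'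
    calc y * (w * c * w⁻¹) = w * ((w⁻¹ * y * (w⁻¹)⁻¹) * c) * w⁻¹ := by group
      _ = w * (c * (w⁻¹ * y * (w⁻¹)⁻¹)) * w⁻¹ := by rw [h1]
      _ = w * c * w⁻¹ * y := by group
  have hinj : ∀ a ∈ U, ∀ b ∈ U, a⁻¹ * (w * a * w⁻¹) = b⁻¹ * (w * b * w⁻¹) → a = b := by
    intro a ha b hb hab
    have h2 : b * a⁻¹ * (w * a * w⁻¹) = w * b * w⁻¹ := by
      calc b * a⁻¹ * (w * a * w⁻¹) = b * (a⁻¹ * (w * a * w⁻¹)) := by group
        _ = b * (b⁻¹ * (w * b * w⁻¹)) := by rw [hab]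
        _ = w * b * w⁻¹ := by group
    have hd : w * (b * a⁻¹) = (b * a⁻¹) * w := by
      calc w * (b * a⁻¹) = (w * b * w⁻¹) * (w * a * w⁻¹)⁻¹ * w := by group
        _ = (b * a⁻¹ * (w * a * w⁻¹)) * (w * a * w⁻¹)⁻¹ * w := by rw [h2]
        _ = b * a⁻¹ * w := by group
    have h3 := W₁_fpf_U hP hw hw1' (U.mul_mem hb (U.inv_mem ha)) hd
    exact (mul_inv_eq_one.1 h3).symm
  -- the map `c ↦ c⁻¹ c^w` on `C`
  let f : ↥C → ↥C := fun c =>
    ⟨(c : G)⁻¹ * (w * (c : G) * w⁻¹), C.mul_mem (C.inv_mem c.2) (hnC c c.2)⟩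
  have hfinj : Function.Injective f := by
    intro c c' hcc
    have h4 : (c : G)⁻¹ * (w * (c : G) * w⁻¹) = (c' : G)⁻¹ * (w * (c' : G) * w⁻¹) :=
      congrArg Subtype.val hcc
    exact Subtype.ext (hinj c c.2.1 c' c'.2.1 h4)
  have hfsurj : Function.Surjective f := Finite.injective_iff_surjective.1 hfinj
  -- `t = z⁻¹ z^w` lies in `C`
  have hwx : ∀ x ∈ W₂, w⁻¹ * x = x * w⁻¹ := by
    intro x hx
    have h1 : w * x = x * w := hcomm w hw x hx
    calc w⁻¹ * x = w⁻¹ * (x * w) * w⁻¹ := by group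
      _ = w⁻¹ * (w * x) * w⁻¹ := by rw [h1]
      _ = x * w⁻¹ := by group
  have htU : z⁻¹ * (w * z * w⁻¹) ∈ U := U.mul_mem (U.inv_mem hz) (hnU z hz)
  have htx : (z⁻¹ * (w * z * w⁻¹)) * x₀ = x₀ * (z⁻¹ * (w * z * w⁻¹)) := by
    have h1 : w * (z * x₀ * z⁻¹) = (z * x₀ * z⁻¹) * w := hcomm w hw _ hx₁
    calc (z⁻¹ * (w * z * w⁻¹)) * x₀ = z⁻¹ * w * z * (w⁻¹ * x₀) := by group
      _ = z⁻¹ * w * z * (x₀ * w⁻¹) := by rw [hwx x₀ hx₀]
      _ = z⁻¹ * (w * (z * x₀ * z⁻¹)) * z * w⁻¹ := by group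
      _ = z⁻¹ * ((z * x₀ * z⁻¹) * w) * z * w⁻¹ := by rw [h1]
      _ = x₀ * (z⁻¹ * (w * z * w⁻¹)) := by group
  have htW : z⁻¹ * (w * z * w⁻¹) ∈ Subgroup.centralizer (W₂ : Set G) := by
    rw [Subgroup.mem_centralizer_iff]
    intro y hy
    have : Fact (Nat.card ↥W₂).Prime := ⟨hp⟩
    have hx₀' : (⟨x₀, hx₀⟩ : ↥W₂) ≠ 1 := fun h0 => hx₀1 (congrArg Subtype.val h0)
    have hmem : (⟨y, hy⟩ : ↥W₂) ∈ Subgroup.zpowers (⟨x₀, hx₀⟩ : ↥W₂) :=
      mem_zpowers_of_prime_card rfl hx₀'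
    obtain ⟨k, hk⟩ := Subgroup.mem_zpowers_iff.1 hmem
    have hk' : x₀ ^ k = y := by
      have := congrArg Subtype.val hk
      simpa using this
    rw [← hk']
    have hc : Commute (z⁻¹ * (w * z * w⁻¹)) x₀ := htx
    exact ((hc.zpow_right k).eq).symm
  have htC : z⁻¹ * (w * z * w⁻¹) ∈ C := ⟨htU, cent_W₂_le hP ⟨htU, htW⟩⟩
  obtain ⟨c, hc⟩ := hfsurj ⟨_, htC⟩
  have h5 : (c : G)⁻¹ * (w * (c : G) * w⁻¹) = z⁻¹ * (w * z * w⁻¹) := congrArg Subtype.val hc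
  have h6 : (c : G) = z := hinj c c.2.1 z hz h5
  rw [← h6]
  exact c.2.2

end typeP

/-- PF13-[NUM-B]: `|U : C_U(P)| (p - 1) ≤ p ^ q - 1`. -/
theorem index_mul_le [Fintype G] {S W₁ U W₂ : Subgroup G} [Fintype S]
    {mu : WChar W₁ W₂ → (↥S → ℂ)} {dl : WChar W₁ W₂ → ℂ} {η : WChar W₁ W₂ → (G → ℂ)}
    (h : PSide S W₁ U W₂ mu dl η) :
    (U ⊓ Subgroup.centralizer ((fittingHallOf S : Subgroup G) : Set G)).relIndex U *
      (Nat.card W₂ - 1) ≤ Nat.card W₂ ^ Nat.card W₁ - 1 := by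
  classical
  have hP := h.hP
  set C : Subgroup G := U ⊓ Subgroup.centralizer ((fittingHallOf S : Subgroup G) : Set G) with hC
  have hmemP : ∀ z ∈ U, ∀ x ∈ W₂, z * x * z⁻¹ ∈ fittingHallOf S := fun z hz x hx =>
    conj_mem_fittingHallOf S (U_le hP hz) (W₂_le_H hP hx)
  have hne : ∀ z x : G, x ≠ 1 → z * x * z⁻¹ ≠ 1 := by
    intro z x hx h1
    apply hx
    have : x = z⁻¹ * (z * x * z⁻¹) * z := by group
    rw [this, h1]
    group
  let Φ : (↥U ⧸ C.subgroupOf U) × {x : ↥W₂ // x ≠ 1} → {v : ↥(fittingHallOf S) // v ≠ 1} :=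
    fun cx =>
      ⟨⟨((Quotient.out cx.1 : ↥U) : G) * ((cx.2.1 : ↥W₂) : G) * ((Quotient.out cx.1 : ↥U) : G)⁻¹,
          hmemP _ (Quotient.out cx.1 : ↥U).2 _ (cx.2.1 : ↥W₂).2⟩,
        fun h0 => hne _ _ (fun h1 => cx.2.2 (Subtype.ext h1)) (congrArg Subtype.val h0)⟩
  have hΦ : Function.Injective Φ := by
    rintro ⟨c, x⟩ ⟨c', x'⟩ hcc
    have hG : ((Quotient.out c : ↥U) : G) * ((x.1 : ↥W₂) : G) * ((Quotient.out c : ↥U) : G)⁻¹ =
        ((Quotient.out c' : ↥U) : G) * ((x'.1 : ↥W₂) : G) * ((Quotient.out c' : ↥U) : G)⁻¹ :=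
      congrArg Subtype.val (congrArg Subtype.val hcc)
    set a : G := ((Quotient.out c : ↥U) : G) with ha
    set a' : G := ((Quotient.out c' : ↥U) : G) with ha'
    have haU : a ∈ U := (Quotient.out c : ↥U).2
    have haU' : a' ∈ U := (Quotient.out c' : ↥U).2
    have hzU : a'⁻¹ * a ∈ U := U.mul_mem (U.inv_mem haU') haU
    have hx1 : ((x.1 : ↥W₂) : G) ≠ 1 := fun h1 => x.2 (Subtype.ext h1)
    have hconj : (a'⁻¹ * a) * ((x.1 : ↥W₂) : G) * (a'⁻¹ * a)⁻¹ = ((x'.1 : ↥W₂) : G) := by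
      calc (a'⁻¹ * a) * ((x.1 : ↥W₂) : G) * (a'⁻¹ * a)⁻¹
          = a'⁻¹ * (a * ((x.1 : ↥W₂) : G) * a⁻¹) * a' := by group
        _ = a'⁻¹ * (a' * ((x'.1 : ↥W₂) : G) * a'⁻¹) * a' := by rw [hG]
        _ = ((x'.1 : ↥W₂) : G) := by group
    have hzc : a'⁻¹ * a ∈ Subgroup.centralizer ((fittingHallOf S : Subgroup G) : Set G) :=
      mem_cent_of_conj_mem hP h.hp hzU (x.1 : ↥W₂).2 hx1 (by rw [hconj]; exact (x'.1 : ↥W₂).2)
    have hcc' : c' = c := by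
      have h1 : ((Quotient.out c' : ↥U) : ↥U ⧸ C.subgroupOf U) = (Quotient.out c : ↥U) := by
        rw [QuotientGroup.eq, Subgroup.mem_subgroupOf]
        exact ⟨hzU, hzc⟩
      rwa [QuotientGroup.out_eq', QuotientGroup.out_eq'] at h1
    have hxx : ((x'.1 : ↥W₂) : G) = ((x.1 : ↥W₂) : G) := by
      have hcm := Subgroup.mem_centralizer_iff.1 hzc _ (W₂_le_H hP (x.1 : ↥W₂).2)
      rw [← hconj]
      calc (a'⁻¹ * a) * ((x.1 : ↥W₂) : G) * (a'⁻¹ * a)⁻¹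
          = (((x.1 : ↥W₂) : G) * (a'⁻¹ * a)) * (a'⁻¹ * a)⁻¹ := by rw [hcm]
        _ = ((x.1 : ↥W₂) : G) := by group
    have hxx' : x' = x := Subtype.ext (Subtype.ext hxx)
    rw [hcc', hxx']
  have hle := Nat.card_le_card_of_injective Φ hΦ
  rw [Nat.card_prod, card_ne_one, card_ne_one, h.hPcard] at hle
  exact hle

end Cfsg.Agent.Lib.Helper75.PF13
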