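import Mathlib
import Cfsg.Agent.Lib.Helper75.Clifford
import Cfsg.Agent.Lib.Helper75.Clifford2
import Cfsg.Agent.Lib.Helper75.Clifford3
import Cfsg.Agent.Lib.Helper75.IndNormal
import Cfsg.Agent.Lib.Helper75.IndTrans
import Cfsg.Agent.Lib.Helper75.Monomial
import Cfsg.Agent.Lib.Helper75.GaloisPow
import Cfsg.Agent.Lib.Helper77.Deflation
import Cfsg.Agent.Lib.Helper77.CenterIrr
import Cfsg.Agent.Lib.Helper77.Linear
import Cfsg.Agent.Lib.Helper81.IrrTwist

set_option autoImplicit false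

namespace Cfsg.Agent.Lib.Helper75

open Cfsg
open Cfsg.Agent.Lib.Helper78 Cfsg.Agent.Lib.Helper77

universe u

section Orbit

variable {G : Type u} [Group G] [Fintype G]

/-- the Galois conjugate of an irreducible character -/
noncomputable def galIrr (σ : ℂ ≃+* ℂ) (χ : IrrCharacter G) : IrrCharacter G :=
  ⟨fun g => σ ((χ : G → ℂ) g), Cfsg.Agent.Lib.Helper81.isIrrCharacter_galois χ.2 σ⟩

omit [Fintype G] in
theorem galIrr_apply (σ : ℂ ≃+* ℂ) (χ : IrrCharacter G) (g : G) :
    (galIrr σ χ : G → ℂ) g = σ ((χ : G → ℂ) g) := rfl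

omit [Fintype G] in
theorem galIrr_galIrr (σ τ : ℂ ≃+* ℂ) (χ : IrrCharacter G) :
    galIrr σ (galIrr τ χ) = galIrr (τ.trans σ) χ := by
  apply Subtype.ext
  funext g
  rfl

omit [Fintype G] in
theorem galIrr_symm_galIrr (σ : ℂ ≃+* ℂ) (χ : IrrCharacter G) :
    galIrr σ.symm (galIrr σ χ) = χ := by
  apply Subtype.ext
  funext g
  simp [galIrr_apply]

omit [Fintype G] in
theorem galIrr_injective (σ : ℂ ≃+* ℂ) : Function.Injective (galIrr (G := G) σ) := by
  intro a b h
  have := congrArg (galIrr σ.symm) h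
  rwa [galIrr_symm_galIrr, galIrr_symm_galIrr] at this

/-- the orbit of an irreducible character under the automorphisms of `ℂ` -/
noncomputable def galOrbit (χ : IrrCharacter G) : Finset (IrrCharacter G) := by
  classical
  exact Finset.univ.filter (fun θ : IrrCharacter G => ∃ σ : ℂ ≃+* ℂ, θ = galIrr σ χ)

theorem mem_galOrbit {χ θ : IrrCharacter G} :
    θ ∈ galOrbit χ ↔ ∃ σ : ℂ ≃+* ℂ, θ = galIrr σ χ := by
  classical
  unfold galOrbit
  simp

theorem galIrr_mem_galOrbit (σ : ℂ ≃+* ℂ) (χ : IrrCharacter G) : galIrr σ χ ∈ galOrbit χ :=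
  mem_galOrbit.mpr ⟨σ, rfl⟩

/-- the size of the Galois orbit is at most the degree of the field of values -/
theorem card_galOrbit_le_finrank (χ : IrrCharacter G)
    (hfin : 0 < Module.finrank ℚ (IntermediateField.adjoin ℚ (Set.range (χ : G → ℂ)))) :
    (galOrbit χ).card ≤
      Module.finrank ℚ (IntermediateField.adjoin ℚ (Set.range (χ : G → ℂ))) := by
  classical
  set E := IntermediateField.adjoin ℚ (Set.range (χ : G → ℂ)) with hE
  have : Module.Finite ℚ E := Module.finite_of_finrank_pos hfin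
  have hval : ∀ g : G, (χ : G → ℂ) g ∈ E := fun g =>
    IntermediateField.subset_adjoin ℚ _ ⟨g, rfl⟩
  -- a map from the orbit to embeddings
  let Φ : (galOrbit χ) → (E →ₐ[ℚ] ℂ) := fun θ =>
    ((Classical.choose (mem_galOrbit.mp θ.2) : ℂ ≃+* ℂ) : ℂ →+* ℂ).toRatAlgHom.comp E.val
  have hΦ : ∀ (θ : galOrbit χ) (g : G), Φ θ ⟨(χ : G → ℂ) g, hval g⟩ = ((θ : IrrCharacter G) : G → ℂ) g := by
    intro θ g
    have h := Classical.choose_spec (mem_galOrbit.mp θ.2)
    conv_rhs => rw [h]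
    rfl
  have hinj : Function.Injective Φ := by
    intro θ θ' h
    apply Subtype.ext
    apply Subtype.ext
    funext g
    rw [← hΦ θ g, ← hΦ θ' g, h]
  have h1 := Nat.card_le_card_of_injective Φ hinj
  have h2 := card_algHom_le_finrank ℚ E ℂ
  rw [Nat.card_eq_fintype_card, Fintype.card_coe] at h1
  exact h1.trans h2

end Orbit

end Cfsg.Agent.Lib.Helper75
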