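import Cfsg.Agent.Lib.Helper75.PGroupField1

set_option autoImplicit false

namespace Cfsg.Agent.Lib.Helper75

open Cfsg
open Cfsg.Agent.Lib.Helper78 Cfsg.Agent.Lib.Helper77

universe u

section Base

variable {P : Type u} [Group P] [Fintype P]

/-- base case: a faithful linear character of a group of order `p ^ a` has at least
`φ(p ^ a)` Galois conjugates -/
theorem card_galOrbit_ge_of_linear (p : ℕ) [hp : Fact p.Prime] (a : ℕ) (ha : 0 < a)
    (hcard : Nat.card P = p ^ a) (χ : IrrCharacter P)
    (hfaith : ∀ g : P, (χ : P → ℂ) g = (χ : P → ℂ) 1 → g = 1) (h1 : (χ : P → ℂ) 1 = 1) :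
    (p - 1) * p ^ (a - 1) ≤ (galOrbit χ).card := by
  classical
  obtain ⟨φ, hφ⟩ := exists_monoidHom_of_degree_one (IsIrrCharacter.isCharacter χ.2) h1
  have hinj : Function.Injective φ := by
    rw [injective_iff_map_eq_one]
    intro g hg
    apply hfaith
    rw [hφ g, hg, h1]
    rfl
  have hcyc : IsCyclic P := by
    apply isCyclic_of_subgroup_isDomain ((Units.coeHom ℂ).comp φ)
    exact Units.val_injective.comp hinj
  obtain ⟨g₀, hg₀⟩ := hcyc.exists_generator
  have hord : orderOf g₀ = p ^ a := by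
    rw [orderOf_eq_card_of_forall_mem_zpowers hg₀, hcard]
  have hordζ : orderOf (φ g₀) = p ^ a := by
    rw [orderOf_injective φ hinj g₀, hord]
  set K := (Finset.range (p ^ a)).filter (fun k => (p ^ a).Coprime k) with hK
  have hKcard : K.card = (p - 1) * p ^ (a - 1) := by
    rw [hK, ← Nat.totient_eq_card_coprime, Nat.totient_prime_pow hp.out ha, mul_comm]
  rw [← hKcard]
  -- the map
  let f : ℕ → IrrCharacter P := fun k =>
    if h : k.Coprime (Nat.card P) then
      galIrr (Classical.choose (exists_ringEquiv_character_pow (G := P) k h)) χ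
    else χ
  have hf : ∀ k, k.Coprime (Nat.card P) → ((f k : IrrCharacter P) : P → ℂ) g₀ =
      (((φ g₀) ^ k : ℂˣ) : ℂ) := by
    intro k hk
    have hspec := (Classical.choose_spec (exists_ringEquiv_character_pow (G := P) k hk)).2
    simp only [f, dif_pos hk]
    rw [galIrr_apply, hspec _ (IsIrrCharacter.isCharacter χ.2), hφ, map_pow]
  apply Finset.card_le_card_of_injOn f
  · intro k hk
    have hk' := (Finset.mem_filter.mp hk).2
    have hk2 : k.Coprime (Nat.card P) := by rw [hcard]; exact hk'.symm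
    simp only [f, dif_pos hk2]
    exact galIrr_mem_galOrbit _ χ
  · intro k hk k' hk' hkk
    have hk1 := Finset.mem_filter.mp hk
    have hk1' := Finset.mem_filter.mp hk'
    have hk2 : k.Coprime (Nat.card P) := by rw [hcard]; exact hk1.2.symm
    have hk2' : k'.Coprime (Nat.card P) := by rw [hcard]; exact hk1'.2.symm
    have h3 : (((φ g₀) ^ k : ℂˣ) : ℂ) = (((φ g₀) ^ k' : ℂˣ) : ℂ) := by
      rw [← hf k hk2, ← hf k' hk2']
      show ((f k : IrrCharacter P) : P → ℂ) g₀ = ((f k' : IrrCharacter P) : P → ℂ) g₀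
      rw [hkk]
    have h4 : (φ g₀) ^ k = (φ g₀) ^ k' := Units.ext h3
    have h5 := pow_eq_pow_iff_modEq.mp h4
    rw [hordζ] at h5
    exact Nat.ModEq.eq_of_lt_of_lt h5 (Finset.mem_range.mp hk1.1) (Finset.mem_range.mp hk1'.1)

end Base

end Cfsg.Agent.Lib.Helper75
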