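import Cfsg.Agent.Lib.Helper75.PGroupField3

set_option autoImplicit false

namespace Cfsg.Agent.Lib.Helper75

open Cfsg
open Cfsg.Agent.Lib.Helper78 Cfsg.Agent.Lib.Helper77

universe u

section Max

variable {P : Type u} [Group P] [Fintype P]

/-- a nonlinear irreducible character of a `p`-group is induced from an irreducible character of a
normal subgroup of index `p` -/
theorem exists_normal_index_p_induced (p : ℕ) [hp : Fact p.Prime] (hP : IsPGroup p P)
    (χ : IrrCharacter P) (hnl : (χ : P → ℂ) 1 ≠ 1) :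
    ∃ (M : Subgroup P) (_ : M.Normal) (ψ : IrrCharacter M),
      M.index = p ∧ indFun M (ψ : M → ℂ) = (χ : P → ℂ) := by
  classical
  have : Group.IsNilpotent P := hP.isNilpotent
  have hZ : irrCenter χ ≠ ⊤ := fun h => hnl (apply_one_eq_one_of_irrCenter_eq_top χ h)
  obtain ⟨A, hAn, hZA, hAZ, hcomm⟩ := exists_normal_abelian_mod (irrKer χ) (irrCenter χ)
    (mem_irrCenter_iff_commutator χ) hZ
  obtain ⟨θ, hθ⟩ := exists_constituent_res A χ.2
  have hT := inertia_ne_top χ A hAZ hcomm θ hθ
  set T := inertia A (θ : A → ℂ) with hTdef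
  have hAT : A ≤ T :=
    le_inertia A (IsCharacter.isClassFunction (IsIrrCharacter.isCharacter θ.2))
  obtain ⟨ψ₀, hψ₀, hind, -⟩ := exists_indFun_eq_of_over A T hAT θ.2 (fun g => Iff.rfl) χ.2 hθ
  -- a maximal subgroup above `T`
  obtain ⟨M, hMco, hTM⟩ := (eq_top_or_exists_le_coatom T).resolve_left hT
  have hMn : M.Normal :=
    Subgroup.NormalizerCondition.normal_of_coatom M Group.normalizerCondition_of_isNilpotent hMco
  have hidx : M.index = p := by
    have h1 := Cfsg.Agent.Lib.Helper34.index_prime_of_normal_coatom M hMco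
    obtain ⟨a, ha⟩ := IsPGroup.iff_card.mp hP
    have h2 : M.index ∣ p ^ a := by
      rw [← ha]
      exact Subgroup.index_dvd_card M
    exact (Nat.prime_dvd_prime_iff_eq h1 hp.out).mp (h1.dvd_of_dvd_pow h2)
  -- transport `ψ₀` to `T.subgroupOf M`
  set H : Subgroup M := T.subgroupOf M with hH
  let e : H ≃* T := Subgroup.subgroupOfEquivOfLe hTM
  let f : H → ℂ := fun h => ψ₀ (e h)
  have hfchar : IsCharacter H f :=
    Cfsg.Agent.Lib.Helper80.isCharacter_comp e.toMonoidHom (IsIrrCharacter.isCharacter hψ₀)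
  have hψ₁char : IsCharacter M (indFun H f) := Cfsg.Agent.S0148.result H f hfchar
  have htrans : indFun M (indFun H f) = (χ : P → ℂ) := by
    rw [indFun_indFun M H f, ← hind]
    apply indFun_congr (Subgroup.map_subgroupOf_eq_of_le hTM)
    intro x h₁ h₂
    unfold mapFun
    set y := (H.equivMapOfInjective M.subtype M.subtype_injective).symm ⟨x, h₁⟩ with hy
    have h3 : (H.equivMapOfInjective M.subtype M.subtype_injective) y = ⟨x, h₁⟩ := by
      rw [hy, MulEquiv.apply_symm_apply]
    have h4 : ((y : M) : P) = x := by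
      have := congrArg Subtype.val h3
      rw [Subgroup.coe_equivMapOfInjective_apply] at this
      exact this
    show ψ₀ (e y) = ψ₀ ⟨x, h₂⟩
    congr 1
    apply Subtype.ext
    exact h4
  have hψ₁irr : IsIrrCharacter M (indFun H f) := by
    apply isIrrCharacter_of_indFun_irr M hψ₁char
    rw [htrans]
    exact χ.2
  exact ⟨M, hMn, ⟨indFun H f, hψ₁irr⟩, hidx, htrans⟩

end Max

end Cfsg.Agent.Lib.Helper75
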