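import Cfsg.Agent.Lib.Helper75.PGroupField4

set_option autoImplicit false

namespace Cfsg.Agent.Lib.Helper75

open Cfsg
open Cfsg.Agent.Lib.Helper78 Cfsg.Agent.Lib.Helper77

universe u

section Cliff

variable {P : Type u} [Group P] [Fintype P]

omit [Fintype P] in
theorem conjFun_apply_one (M : Subgroup P) [hM : M.Normal] (g : P) (θ : M → ℂ) :
    conjFun M g θ 1 = θ 1 := by
  rw [conjFun_apply]
  congr 1
  apply Subtype.ext
  simp

theorem mem_conjOrbit_self (M : Subgroup P) [hM : M.Normal] [Fintype M] (ψ : IrrCharacter M) :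
    ψ ∈ conjOrbit M (ψ : M → ℂ) :=
  (mem_conjOrbit M).mpr ⟨1, conjFun_one M _⟩

/-- Clifford data for a character induced from a normal subgroup of prime index -/
theorem clifford_index_p (p : ℕ) [hp : Fact p.Prime] (M : Subgroup P) [hM : M.Normal] [Fintype M]
    (hidx : M.index = p) (χ : IrrCharacter P) (ψ : IrrCharacter M)
    (hind : indFun M (ψ : M → ℂ) = (χ : P → ℂ)) :
    (conjOrbit M (ψ : M → ℂ)).card = p ∧
      (fun m : M => (χ : P → ℂ) m) = ∑ φ ∈ conjOrbit M (ψ : M → ℂ), (φ : M → ℂ) := by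
  classical
  have h := indFun_res_eq_smul_sum_conjOrbit M ψ.2
  rw [hind] at h
  set c : ℂ := (Nat.card (inertia M (ψ : M → ℂ)) : ℂ) / (Nat.card M : ℂ) with hc
  have hχcl : IsClassFunction P (χ : P → ℂ) :=
    IsCharacter.isClassFunction (IsIrrCharacter.isCharacter χ.2)
  have h1 : classInner (fun m : M => (χ : P → ℂ) m) (ψ : M → ℂ) = 1 := by
    rw [← frobenius_reciprocity' M (ψ : M → ℂ) hχcl, hind, classInner_irr_self χ.2]
  have h2 : classInner (∑ φ ∈ conjOrbit M (ψ : M → ℂ), (φ : M → ℂ)) (ψ : M → ℂ) = 1 := by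
    rw [classInner_sum_left, Finset.sum_eq_single ψ]
    · exact classInner_irr_self ψ.2
    · intro φ _ hφ
      exact classInner_irr_ne φ.2 ψ.2 (fun h => hφ (Subtype.ext h))
    · intro hψ
      exact absurd (mem_conjOrbit_self M ψ) hψ
  have hc1 : c = 1 := by
    have h3 := h1
    rw [h, classInner_smul_left, h2, mul_one] at h3
    exact h3
  rw [hc1, one_smul] at h
  refine ⟨?_, h⟩
  have h4 := congrFun h 1
  rw [Finset.sum_apply] at h4
  have h5 : ∀ φ ∈ conjOrbit M (ψ : M → ℂ), (φ : M → ℂ) 1 = (ψ : M → ℂ) 1 := by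
    intro φ hφ
    obtain ⟨g, hg⟩ := (mem_conjOrbit M).mp hφ
    rw [← hg, conjFun_apply_one]
  rw [Finset.sum_congr rfl h5, Finset.sum_const, nsmul_eq_mul] at h4
  have h6 : (χ : P → ℂ) ((1 : M) : P) = (p : ℂ) * (ψ : M → ℂ) 1 := by
    rw [Subgroup.coe_one, ← hind, indFun_one, hidx]
  rw [h6] at h4
  have h7 : (ψ : M → ℂ) 1 ≠ 0 := IsIrrCharacter.apply_one_ne_zero ψ.2
  have h8 := mul_right_cancel₀ h7 h4
  exact_mod_cast h8.symm

end Cliff

end Cfsg.Agent.Lib.Helper75
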