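import Cfsg.Agent.Lib.Helper75.PGroupField5

set_option autoImplicit false

namespace Cfsg.Agent.Lib.Helper75

open Cfsg
open Cfsg.Agent.Lib.Helper78 Cfsg.Agent.Lib.Helper77

universe u

section Gal

variable {P : Type u} [Group P] [Fintype P]

omit [Fintype P] in
theorem extendByZero_galois (H : Subgroup P) (σ : ℂ ≃+* ℂ) (θ : H → ℂ) (x : P) :
    extendByZero H (fun h => σ (θ h)) x = σ (extendByZero H θ x) := by
  by_cases hx : x ∈ H
  · rw [extendByZero_of_mem H _ hx, extendByZero_of_mem H _ hx]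
  · rw [extendByZero_of_not_mem H _ hx, extendByZero_of_not_mem H _ hx, map_zero]

/-- induction commutes with Galois conjugation -/
theorem indFun_galois (H : Subgroup P) (σ : ℂ ≃+* ℂ) (θ : H → ℂ) :
    indFun H (fun h => σ (θ h)) = fun g => σ (indFun H θ g) := by
  funext g
  unfold indFun
  rw [map_mul, map_inv₀, map_natCast, map_sum]
  congr 1
  apply Finset.sum_congr rfl
  intro x _
  rw [extendByZero_galois]

theorem irrKer_galIrr {G : Type u} [Group G] [Finite G] (σ : ℂ ≃+* ℂ) (χ : IrrCharacter G) :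
    irrKer (galIrr σ χ) = irrKer χ := by
  ext g
  rw [mem_irrKer, mem_irrKer, galIrr_apply, galIrr_apply]
  exact σ.injective.eq_iff

/-- if one nontrivial conjugate of `ψ` is a Galois conjugate then all conjugates are -/
theorem conj_eq_galois_of_one (p : ℕ) [hp : Fact p.Prime] (M : Subgroup P) [hM : M.Normal]
    [Fintype M] (hidx : M.index = p) (ψ : IrrCharacter M) (σ : ℂ ≃+* ℂ) (y : P) (hy : y ∉ M)
    (hσ : conjFun M y (ψ : M → ℂ) = (galIrr σ ψ : M → ℂ)) :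
    ∀ φ ∈ conjOrbit M (ψ : M → ℂ), ∃ τ : ℂ ≃+* ℂ, φ = galIrr τ ψ := by
  classical
  -- powers of `y`
  have hpow : ∀ n : ℕ, ∃ τ : ℂ ≃+* ℂ, conjFun M (y ^ n) (ψ : M → ℂ) = (galIrr τ ψ : M → ℂ) := by
    intro n
    induction n with
    | zero =>
      refine ⟨RingEquiv.refl ℂ, ?_⟩
      rw [pow_zero, conjFun_one]
      rfl
    | succ n ih =>
      obtain ⟨τ, hτ⟩ := ih
      refine ⟨σ.trans τ, ?_⟩
      rw [pow_succ, conjFun_mul, hτ]
      funext m
      have h1 := congrFun hσ ⟨y * m * y⁻¹, hM.conj_mem m m.2 y⟩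
      show τ ((ψ : M → ℂ) ⟨y * m * y⁻¹, _⟩) = τ (σ ((ψ : M → ℂ) m))
      congr 1
      have h2 := congrFun hσ m
      rw [conjFun_apply] at h2
      exact h2
  intro φ hφ
  obtain ⟨g, hg⟩ := (mem_conjOrbit M).mp hφ
  -- `g = y ^ n * m`
  have hcard : Nat.card (P ⧸ M) = p := by rw [← Subgroup.index_eq_card, hidx]
  have hy1 : (QuotientGroup.mk y : P ⧸ M) ≠ 1 := by
    intro h
    exact hy ((QuotientGroup.eq_one_iff y).mp h)
  have hmem : (QuotientGroup.mk g : P ⧸ M) ∈ Subgroup.zpowers (QuotientGroup.mk y : P ⧸ M) :=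
    mem_zpowers_of_prime_card hcard hy1
  rw [← mem_powers_iff_mem_zpowers] at hmem
  obtain ⟨n, hn⟩ := hmem
  have hn' : (QuotientGroup.mk (y ^ n) : P ⧸ M) = QuotientGroup.mk g := hn
  have hm : (y ^ n)⁻¹ * g ∈ M := QuotientGroup.eq.mp hn'
  obtain ⟨τ, hτ⟩ := hpow n
  refine ⟨τ, ?_⟩
  apply Subtype.ext
  rw [← hg]
  have hg2 : g = y ^ n * ((y ^ n)⁻¹ * g) := by group
  rw [hg2, conjFun_mul, hτ]
  exact conjFun_of_mem M (IsCharacter.isClassFunction (IsIrrCharacter.isCharacter (galIrr τ ψ).2))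
    ⟨(y ^ n)⁻¹ * g, hm⟩

end Gal

end Cfsg.Agent.Lib.Helper75
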