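import Cfsg.Agent.Lib.Helper75.PGroupField6

set_option autoImplicit false

namespace Cfsg.Agent.Lib.Helper75

open Cfsg
open Cfsg.Agent.Lib.Helper78 Cfsg.Agent.Lib.Helper77

universe u

section Count

variable {P : Type u} [Group P] [Fintype P]

/-- an irreducible character of `M` inducing `χ` is conjugate to `ψ` -/
theorem mem_conjOrbit_of_indFun_eq (M : Subgroup P) [hM : M.Normal] [Fintype M]
    (χ : IrrCharacter P) (ψ θ : IrrCharacter M)
    (hind : indFun M (ψ : M → ℂ) = (χ : P → ℂ)) (hθ : indFun M (θ : M → ℂ) = (χ : P → ℂ)) :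
    θ ∈ conjOrbit M (ψ : M → ℂ) := by
  have hχcl : IsClassFunction P (χ : P → ℂ) :=
    IsCharacter.isClassFunction (IsIrrCharacter.isCharacter χ.2)
  have h1 : classInner (fun m : M => (χ : P → ℂ) m) (ψ : M → ℂ) = 1 := by
    rw [← frobenius_reciprocity' M (ψ : M → ℂ) hχcl, hind, classInner_irr_self χ.2]
  have h2 : classInner (fun m : M => (χ : P → ℂ) m) (θ : M → ℂ) = 1 := by
    rw [← frobenius_reciprocity' M (θ : M → ℂ) hχcl, hθ, classInner_irr_self χ.2]
  obtain ⟨g, hg⟩ := clifford_conj M χ.2 ψ.2 θ.2 (by rw [h1]; exact one_ne_zero)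
    (by rw [h2]; exact one_ne_zero)
  exact (mem_conjOrbit M).mpr ⟨g, hg⟩

/-- orbit counting: the Galois orbit of `ψ` is at most the number of Galois conjugates of `ψ`
inducing `χ` times the Galois orbit of `χ` -/
theorem card_galOrbit_le_mul (M : Subgroup P) [Fintype M]
    (χ : IrrCharacter P) (ψ : IrrCharacter M)
    (hind : indFun M (ψ : M → ℂ) = (χ : P → ℂ)) (S : Finset (IrrCharacter M))
    (hS : ∀ θ ∈ galOrbit ψ, indFun M (θ : M → ℂ) = (χ : P → ℂ) → θ ∈ S) :
    (galOrbit ψ).card ≤ S.card * (galOrbit χ).card := by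
  classical
  -- the map `θ ↦ ind θ`
  let F : IrrCharacter M → IrrCharacter P := fun θ =>
    if h : IsIrrCharacter P (indFun M (θ : M → ℂ)) then ⟨indFun M (θ : M → ℂ), h⟩ else χ
  have hF : ∀ σ : ℂ ≃+* ℂ, F (galIrr σ ψ) = galIrr σ χ := by
    intro σ
    have h1 : indFun M ((galIrr σ ψ : IrrCharacter M) : M → ℂ) = (galIrr σ χ : P → ℂ) := by
      have := indFun_galois M σ (ψ : M → ℂ)
      rw [hind] at this
      exact this
    have h2 : IsIrrCharacter P (indFun M ((galIrr σ ψ : IrrCharacter M) : M → ℂ)) := by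
      rw [h1]; exact (galIrr σ χ).2
    show (if h : IsIrrCharacter P (indFun M ((galIrr σ ψ : IrrCharacter M) : M → ℂ)) then
      (⟨indFun M ((galIrr σ ψ : IrrCharacter M) : M → ℂ), h⟩ : IrrCharacter P) else χ) = _
    rw [dif_pos h2]
    exact Subtype.ext h1
  have himg : (galOrbit ψ).image F ⊆ galOrbit χ := by
    intro a ha
    obtain ⟨θ, hθ, rfl⟩ := Finset.mem_image.mp ha
    obtain ⟨σ, rfl⟩ := mem_galOrbit.mp hθ
    rw [hF]
    exact galIrr_mem_galOrbit σ χ
  have hfib : ∀ a ∈ (galOrbit ψ).image F, ((galOrbit ψ).filter (fun x => F x = a)).card ≤ S.card := by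
    intro a ha
    obtain ⟨θ₀, hθ₀, rfl⟩ := Finset.mem_image.mp ha
    obtain ⟨σ₀, rfl⟩ := mem_galOrbit.mp hθ₀
    apply Finset.card_le_card_of_injOn (galIrr σ₀.symm)
    · intro θ hθ
      rw [Finset.coe_filter] at hθ
      obtain ⟨hθ1, hθ2⟩ := hθ
      obtain ⟨σ, rfl⟩ := mem_galOrbit.mp hθ1
      rw [hF, hF] at hθ2
      rw [Finset.mem_coe]
      apply hS
      · rw [galIrr_galIrr]
        exact galIrr_mem_galOrbit _ ψ
      · have h3 := indFun_galois M σ₀.symm ((galIrr σ ψ : IrrCharacter M) : M → ℂ)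
        have h4 : indFun M ((galIrr σ ψ : IrrCharacter M) : M → ℂ) = (galIrr σ χ : P → ℂ) := by
          have := indFun_galois M σ (ψ : M → ℂ)
          rw [hind] at this
          exact this
        rw [h4, hθ2] at h3
        have h5 : (fun g => σ₀.symm ((galIrr σ₀ χ : P → ℂ) g)) = (χ : P → ℂ) := by
          have := congrArg (fun x : IrrCharacter P => (x : P → ℂ)) (galIrr_symm_galIrr σ₀ χ)
          exact this
        rw [h5] at h3
        exact h3
    · intro x _ y _ hxy
      exact galIrr_injective σ₀.symm hxy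
  have h := Finset.card_le_mul_card_image (f := F) (galOrbit ψ) S.card hfib
  exact h.trans (Nat.mul_le_mul_left _ (Finset.card_le_card himg))

end Count

end Cfsg.Agent.Lib.Helper75
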