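import Cfsg.Agent.Lib.Helper75.PGroupField7

set_option autoImplicit false

namespace Cfsg.Agent.Lib.Helper75

open Cfsg
open Cfsg.Agent.Lib.Helper78 Cfsg.Agent.Lib.Helper77

universe u

section Ker

variable {P : Type u} [Group P] [Fintype P]

/-- conjugate irreducible characters have kernels of the same index -/
theorem index_irrKer_of_mem_conjOrbit (M : Subgroup P) [hM : M.Normal] [Fintype M]
    (ψ φ : IrrCharacter M) (hφ : φ ∈ conjOrbit M (ψ : M → ℂ)) :
    (irrKer φ).index = (irrKer ψ).index := by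
  obtain ⟨g, hg⟩ := (mem_conjOrbit M).mp hφ
  have h1 : irrKer φ = (irrKer ψ).comap (MulAut.conjNormal g : M ≃* M).toMonoidHom := by
    ext m
    rw [Subgroup.mem_comap, mem_irrKer, mem_irrKer, ← hg, conjFun_apply, conjFun_apply_one]
    have : (⟨g * (m : P) * g⁻¹, hM.conj_mem m m.2 g⟩ : M) =
        (MulAut.conjNormal g : M ≃* M).toMonoidHom m := by
      apply Subtype.ext
      simp [MulAut.conjNormal_apply]
    rw [this]
  rw [h1]
  exact Subgroup.index_comap_of_surjective _ (MulAut.conjNormal g : M ≃* M).surjective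

/-- the kernels of the constituents of the restriction of a faithful character meet trivially -/
theorem eq_one_of_forall_mem_irrKer (M : Subgroup P) [Fintype M]
    (χ : IrrCharacter P) (hfaith : ∀ g : P, (χ : P → ℂ) g = (χ : P → ℂ) 1 → g = 1)
    (Y : Finset (IrrCharacter M))
    (hres : (fun m : M => (χ : P → ℂ) m) = ∑ φ ∈ Y, (φ : M → ℂ)) (m : M)
    (hm : ∀ φ ∈ Y, m ∈ irrKer φ) : m = 1 := by
  have h1 := congrFun hres m
  have h2 := congrFun hres 1
  rw [Finset.sum_apply] at h1 h2
  have h3 : ∑ φ ∈ Y, (φ : M → ℂ) m = ∑ φ ∈ Y, (φ : M → ℂ) 1 :=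
    Finset.sum_congr rfl (fun φ hφ => (mem_irrKer φ m).mp (hm φ hφ))
  have h4 : (χ : P → ℂ) (m : P) = (χ : P → ℂ) 1 := by
    have h5 : (χ : P → ℂ) (m : P) = (χ : P → ℂ) ((1 : M) : P) := by
      rw [h1, h2, h3]
    rw [h5, Subgroup.coe_one]
  exact Subtype.ext (hfaith _ h4)

/-- the order of `M` is bounded by a power of the index of the kernel -/
theorem card_le_index_irrKer_pow (M : Subgroup P) [hM : M.Normal] [Fintype M]
    (ψ : IrrCharacter M)
    (htriv : ∀ m : M, (∀ φ ∈ conjOrbit M (ψ : M → ℂ), m ∈ irrKer φ) → m = 1) :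
    Nat.card M ≤ (irrKer ψ).index ^ (conjOrbit M (ψ : M → ℂ)).card := by
  classical
  have h1 : (⨅ φ : (conjOrbit M (ψ : M → ℂ) : Finset (IrrCharacter M)), irrKer (φ : IrrCharacter M)) =
      (⊥ : Subgroup M) := by
    rw [eq_bot_iff]
    intro m hm
    rw [Subgroup.mem_iInf] at hm
    rw [Subgroup.mem_bot]
    exact htriv m (fun φ hφ => hm ⟨φ, hφ⟩)
  have h2 := Subgroup.index_iInf_le
    (fun φ : (conjOrbit M (ψ : M → ℂ) : Finset (IrrCharacter M)) => irrKer (φ : IrrCharacter M))
  rw [h1, Subgroup.index_bot] at h2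
  refine h2.trans (le_of_eq ?_)
  rw [Finset.prod_congr rfl (fun φ _ => index_irrKer_of_mem_conjOrbit M ψ φ.1 φ.2),
    Finset.prod_const, Finset.card_univ, Fintype.card_coe]

end Ker

section Defl

variable {G : Type u} [Group G] [Fintype G]

/-- the Galois orbit of a deflated character is no larger -/
theorem card_galOrbit_deflate_le (N : Subgroup G) [N.Normal] [Fintype (G ⧸ N)]
    (ψ : IrrCharacter G) (h : ∀ n ∈ N, (ψ : G → ℂ) n = (ψ : G → ℂ) 1) :
    (galOrbit (deflate N ψ h)).card ≤ (galOrbit ψ).card := by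
  classical
  apply Finset.card_le_card_of_injOn (inflate N)
  · intro θ hθ
    rw [Finset.mem_coe] at hθ ⊢
    obtain ⟨σ, rfl⟩ := mem_galOrbit.mp hθ
    have : inflate N (galIrr σ (deflate N ψ h)) = galIrr σ ψ := by
      apply Subtype.ext
      funext g
      rw [inflate_apply, galIrr_apply, galIrr_apply, deflate_mk]
    rw [this]
    exact galIrr_mem_galOrbit σ ψ
  · intro x _ y _ hxy
    exact inflate_injective N hxy

end Defl

end Cfsg.Agent.Lib.Helper75
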