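import Cfsg.Agent.Lib.Helper75.PGroupField8

set_option autoImplicit false
set_option linter.style.haveILetI false

namespace Cfsg.Agent.Lib.Helper75

open Cfsg
open Cfsg.Agent.Lib.Helper78 Cfsg.Agent.Lib.Helper77

universe u

theorem pgf_arithA (q b t d₁ : ℕ) (hq : 1 ≤ q) (hd : 1 ≤ d₁)
    (h : q * b + 1 ≤ d₁ + q * (t + 1 + 1) * d₁) :
    q * (b + 1) + 1 ≤ (q + 1) * d₁ + q * (t + 1) * ((q + 1) * d₁) := by
  have hkey : q ≤ q * q * (t + 1) * d₁ := by
    calc q = q * 1 * 1 * 1 := by ring
      _ ≤ q * q * (t + 1) * d₁ := by gcongr; omega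
  nlinarith [hkey, h]

theorem pgf_arithB (q b t d₁ a₁ : ℕ) (hb : b ≤ a₁ * (q + 1))
    (h : q * a₁ + 1 ≤ d₁ + q * (t + 1) * d₁) :
    q * (b + 1) + 1 ≤ (q + 1) * d₁ + q * (t + 1) * ((q + 1) * d₁) := by
  have h1 := Nat.mul_le_mul_left q hb
  have h2 := Nat.mul_le_mul_left (q + 1) h
  nlinarith [h1, h2]

/-- the main bound, by induction on the order -/
theorem faithful_pgroup_bound (p : ℕ) [hp : Fact p.Prime] :
    ∀ (a : ℕ) (P : Type u) [Group P] [Fintype P] (t d : ℕ) (χ : IrrCharacter P),
      0 < a → Nat.card P = p ^ a → (∀ g : P, (χ : P → ℂ) g = (χ : P → ℂ) 1 → g = 1) →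
      (χ : P → ℂ) 1 = (d : ℂ) → (galOrbit χ).card ≤ (p - 1) * p ^ t →
      (p - 1) * a + 1 ≤ d + (p - 1) * (t + 1) * d := by
  intro a
  induction a using Nat.strong_induction_on with
  | _ a ih =>
    intro P _ _ t d χ ha hcard hfaith hd horb
    classical
    have hp2 := hp.out.two_le
    have hp1 : 1 ≤ p - 1 := by omega
    by_cases h1 : (χ : P → ℂ) 1 = 1
    · have hd1 : d = 1 := by
        rw [h1] at hd
        exact_mod_cast hd.symm
      have h2 := card_galOrbit_ge_of_linear p a ha hcard χ hfaith h1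
      have h3 : (p - 1) * p ^ (a - 1) ≤ (p - 1) * p ^ t := h2.trans horb
      have h4 : p ^ (a - 1) ≤ p ^ t := Nat.le_of_mul_le_mul_left h3 (by omega)
      have h5 : a - 1 ≤ t := (Nat.pow_le_pow_iff_right hp.out.one_lt).mp h4
      subst hd1
      have h6 : (p - 1) * a ≤ (p - 1) * (t + 1) := Nat.mul_le_mul_left _ (by omega)
      rw [mul_one, add_comm]
      exact Nat.add_le_add_left h6 1
    · have hP : IsPGroup p P := IsPGroup.of_card hcard
      obtain ⟨M, hMn, ψ, hidx, hind⟩ := exists_normal_index_p_induced p hP χ h1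
      haveI := hMn
      letI : Fintype M := Fintype.ofFinite M
      obtain ⟨hYcard, hres⟩ := clifford_index_p p M hidx χ ψ hind
      set d₁ := irrDim ψ with hd₁
      have hψ1 : (ψ : M → ℂ) 1 = (d₁ : ℂ) := irr_apply_one ψ
      have hd₁pos : 1 ≤ d₁ := Nat.one_le_iff_ne_zero.mpr (irrDim_ne_zero ψ)
      have hdd : d = p * d₁ := by
        have h := indFun_one M (ψ : M → ℂ)
        rw [hind, hidx, hd, hψ1] at h
        exact_mod_cast h
      have hcardM : Nat.card M * p = p ^ a := by
        have h := Subgroup.card_mul_index M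
        rw [hidx, hcard] at h
        exact h
      obtain ⟨b, rfl⟩ : ∃ b, a = b + 1 := ⟨a - 1, by omega⟩
      have hcardM' : Nat.card M = p ^ b := by
        rw [pow_succ] at hcardM
        exact Nat.eq_of_mul_eq_mul_right hp.out.pos hcardM
      obtain ⟨q, hq⟩ : ∃ q, p = q + 1 := ⟨p - 1, by omega⟩
      have hq1 : p - 1 = q := by omega
      rw [hq1] at horb hp1 ⊢
      rw [hdd, hq]
      rcases Nat.eq_zero_or_pos b with hb | hb
      · subst hb
        have : q + 1 ≤ (q + 1) * d₁ := Nat.le_mul_of_pos_right _ hd₁pos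
        calc q * (0 + 1) + 1 = q + 1 := by ring
          _ ≤ (q + 1) * d₁ := this
          _ ≤ _ := Nat.le_add_right _ _
      by_cases hK : ∀ φ ∈ conjOrbit M (ψ : M → ℂ), irrKer φ = irrKer ψ
      · -- `ψ` is faithful
        have hψfaith : ∀ m : M, (ψ : M → ℂ) m = (ψ : M → ℂ) 1 → m = 1 := by
          intro m hm
          apply eq_one_of_forall_mem_irrKer M χ hfaith _ hres m
          intro φ hφ
          rw [hK φ hφ]
          exact (mem_irrKer ψ m).mpr hm
        have horbψ : (galOrbit ψ).card ≤ (p - 1) * p ^ (t + 1) := by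
          have h := card_galOrbit_le_mul M χ ψ hind (conjOrbit M (ψ : M → ℂ))
            (fun θ _ hθ => mem_conjOrbit_of_indFun_eq M χ ψ θ hind hθ)
          rw [hYcard] at h
          calc _ ≤ p * (galOrbit χ).card := h
            _ ≤ p * (q * p ^ t) := Nat.mul_le_mul_left _ horb
            _ = (p - 1) * p ^ (t + 1) := by rw [hq1]; ring
        have hIH := ih b (by omega) M (t + 1) d₁ ψ hb hcardM' hψfaith hψ1 horbψ
        rw [hq1] at hIH
        exact pgf_arithA q b t d₁ hp1 hd₁pos hIH
      · push Not at hK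
        obtain ⟨φ₀, hφ₀, hne⟩ := hK
        have hS : ∀ θ ∈ galOrbit ψ, indFun M (θ : M → ℂ) = (χ : P → ℂ) →
            θ ∈ ({ψ} : Finset (IrrCharacter M)) := by
          intro θ hθ hθind
          rw [Finset.mem_singleton]
          obtain ⟨σ, rfl⟩ := mem_galOrbit.mp hθ
          obtain ⟨g, hg⟩ := (mem_conjOrbit M).mp (mem_conjOrbit_of_indFun_eq M χ ψ _ hind hθind)
          by_cases hgM : g ∈ M
          · have h := conjFun_of_mem M
              (IsCharacter.isClassFunction (IsIrrCharacter.isCharacter ψ.2)) ⟨g, hgM⟩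
            apply Subtype.ext
            rw [← hg]
            exact h
          · exfalso
            obtain ⟨τ, hτ⟩ := conj_eq_galois_of_one p M hidx ψ σ g hgM hg φ₀ hφ₀
            apply hne
            rw [hτ, irrKer_galIrr]
        have horbψ : (galOrbit ψ).card ≤ q * p ^ t := by
          have h := card_galOrbit_le_mul M χ ψ hind {ψ} hS
          rw [Finset.card_singleton, one_mul] at h
          exact h.trans horb
        have hNker : ∀ n ∈ irrKer ψ, (ψ : M → ℂ) n = (ψ : M → ℂ) 1 :=
          fun n hn => (mem_irrKer ψ n).mp hn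
        letI : Fintype (M ⧸ irrKer ψ) := Fintype.ofFinite _
        have hψ'faith : ∀ x : M ⧸ irrKer ψ,
            (deflate (irrKer ψ) ψ hNker : M ⧸ irrKer ψ → ℂ) x =
              (deflate (irrKer ψ) ψ hNker : M ⧸ irrKer ψ → ℂ) 1 → x = 1 := by
          intro x hx
          obtain ⟨m, rfl⟩ := QuotientGroup.mk_surjective x
          rw [← QuotientGroup.mk_one, deflate_mk, deflate_mk] at hx
          exact (QuotientGroup.eq_one_iff m).mpr ((mem_irrKer ψ m).mpr hx)
        have hψ'1 : (deflate (irrKer ψ) ψ hNker : M ⧸ irrKer ψ → ℂ) 1 = (d₁ : ℂ) := by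
          rw [← QuotientGroup.mk_one, deflate_mk]
          exact hψ1
        have horbψ' : (galOrbit (deflate (irrKer ψ) ψ hNker)).card ≤ (p - 1) * p ^ t := by
          rw [hq1]
          exact (card_galOrbit_deflate_le (irrKer ψ) ψ hNker).trans horbψ
        have hdvd : Nat.card (M ⧸ irrKer ψ) ∣ p ^ b := by
          rw [← hcardM']
          exact Subgroup.card_quotient_dvd_card (irrKer ψ)
        obtain ⟨a₁, ha₁b, hcardQ⟩ := (Nat.dvd_prime_pow hp.out).mp hdvd
        have ha₁pos : 0 < a₁ := by
          rcases Nat.eq_zero_or_pos a₁ with h0 | h0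
          · exfalso
            rw [h0, pow_zero] at hcardQ
            have hNtop : (irrKer ψ).index = 1 := by
              rw [Subgroup.index_eq_card]
              exact hcardQ
            have h1' := index_irrKer_of_mem_conjOrbit M ψ φ₀ hφ₀
            rw [hNtop] at h1'
            apply hne
            rw [Subgroup.index_eq_one.mp h1', Subgroup.index_eq_one.mp hNtop]
          · exact h0
        have hle : Nat.card M ≤ (irrKer ψ).index ^ p := by
          have h := card_le_index_irrKer_pow M ψ
            (fun m hm => eq_one_of_forall_mem_irrKer M χ hfaith _ hres m hm)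
          rwa [hYcard] at h
        have hb_le : b ≤ a₁ * p := by
          rw [hcardM', Subgroup.index_eq_card, hcardQ, ← pow_mul] at hle
          exact (Nat.pow_le_pow_iff_right hp.out.one_lt).mp hle
        have hIH := ih a₁ (by omega) (M ⧸ irrKer ψ) t d₁ (deflate (irrKer ψ) ψ hNker)
          ha₁pos hcardQ hψ'faith hψ'1 horbψ'
        rw [hq1] at hIH
        rw [hq] at hb_le
        exact pgf_arithB q b t d₁ a₁ hb_le hIH

end Cfsg.Agent.Lib.Helper75
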