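import Mathlib
import Cfsg.Agent.Lib.Helper15.Gallagher
import Cfsg.Agent.Lib.Helper81.CoprimeExt
import Cfsg.Agent.Lib.Helper71.GCChar
import Cfsg.Agent.Lib.Helper75.Ramified
import Cfsg.Agent.S0887
import Cfsg.Agent.Lib.Helper75.Clifford2
import Cfsg.Agent.Lib.Helper75.Clifford3

/-!
# Degrees of characters over an invariant character of a normal Hall subgroup with abelian quotient

Shared library by helper75 (for S4439).
-/

set_option autoImplicit false
set_option linter.unusedSectionVars false

namespace Cfsg.Agent.Lib.Helper75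

open Cfsg Cfsg.Agent.Lib.Helper78 Cfsg.Agent.Lib.Helper77
open scoped ComplexConjugate commutatorElement

universe u

section DegreeOver

variable {G : Type u} [Group G] [Fintype G] (N : Subgroup G) [hN : N.Normal] [Fintype N]

/-- If `G / N` is abelian, `(|N|, |G : N|) = 1` and `θ ∈ Irr(N)` is `G`-invariant, then every
`η ∈ Irr(G | θ)` is an extension of `θ` times a linear character; in particular `η(1) = θ(1)`. -/
theorem apply_one_eq_of_over_invariant_coprime_abelian
    (hab : ∀ a b : G, ⁅a, b⁆ ∈ N) (hcop : (Nat.card N).Coprime N.index)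
    {θ : N → ℂ} (hθ : IsIrrCharacter N θ)
    (hinv : ∀ (g : G) (n : N), θ ⟨g * n * g⁻¹, hN.conj_mem (n : G) n.2 g⟩ = θ n)
    {η : G → ℂ} (hη : IsIrrCharacter G η) (hover : classInner (fun n : N => η n) θ ≠ 0) :
    η 1 = θ 1 := by
  classical
  -- `G / N` is solvable
  have hcomm : ∀ a b : G ⧸ N, a * b = b * a := by
    intro a b
    induction a using QuotientGroup.induction_on with
    | H a =>
      induction b using QuotientGroup.induction_on with
      | H b =>
        rw [← QuotientGroup.mk_mul, ← QuotientGroup.mk_mul, QuotientGroup.eq]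
        have h := hab b⁻¹ a⁻¹
        have e : (a * b)⁻¹ * (b * a) = ⁅b⁻¹, a⁻¹⁆ := by
          rw [commutatorElement_def]
          group
        rw [e]
        exact h
  have hsolv : Group.IsSolvable (G ⧸ N) := Group.isSolvable_of_comm hcomm
  obtain ⟨θh, hθh, hext⟩ :=
    Cfsg.Agent.Lib.Helper81.exists_irr_extension_of_coprime N hsolv hcop θ hθ hinv
  have h1irr : IsIrrCharacter N (fun _ : N => (1 : ℂ)) := isIrrCharacter_one
  have hprodeq : (fun _ : N => (1 : ℂ)) * θ = θ := by
    funext n
    simp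
  have hG := Cfsg.Agent.Lib.Helper15.gallagher_core N (fun _ : N => (1 : ℂ)) θ h1irr
    (fun _ _ => rfl) hinv (by rw [hprodeq]; exact hθ) θh hθh hext
  obtain ⟨-, -, h3⟩ := hG
  have hηcl : IsClassFunction G η := IsCharacter.isClassFunction (IsIrrCharacter.isCharacter hη)
  have hne : classInner (indFun N ((fun _ : N => (1 : ℂ)) * θ)) η ≠ 0 := by
    rw [hprodeq, frobenius_reciprocity N θ hηcl, ← classInner_conj_symm]
    exact (map_ne_zero _).mpr hover
  obtain ⟨β, hβ, hβη⟩ := h3 ⟨η, hη⟩ hne
  -- `N ≤ ker β`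
  have hβcl : IsClassFunction G (β : G → ℂ) :=
    IsCharacter.isClassFunction (IsIrrCharacter.isCharacter β.2)
  have hβover : classInner (fun n : N => (β : G → ℂ) n) (fun _ : N => (1 : ℂ)) ≠ 0 := by
    rw [frobenius_reciprocity N _ hβcl, ← classInner_conj_symm] at hβ
    exact (map_ne_zero _).mp hβ
  obtain ⟨e, -, -, he⟩ := res_eq_smul_of_invariant N β.2 h1irr hβover (fun g => rfl)
  have hker : N ≤ irrKer β := by
    intro n hn
    rw [mem_irrKer]
    have h1 := congrFun he ⟨n, hn⟩
    have h2 := congrFun he 1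
    simp only [Pi.smul_apply, smul_eq_mul, mul_one] at h1 h2
    change (β : G → ℂ) n = _ at h1
    change (β : G → ℂ) 1 = _ at h2
    rw [h1, h2]
  have hcommle : commutator G ≤ irrKer β := by
    rw [commutator_def, Subgroup.commutator_le]
    intro a _ b _
    exact hker (hab a b)
  have hdeg := Cfsg.Agent.Lib.Helper71.gc_charDegree_eq_one_of_commutator_le β hcommle
  have hβ1 : (β : G → ℂ) 1 = 1 := by
    rw [IsCharacter.apply_one_eq_charDegree (IsIrrCharacter.isCharacter β.2), hdeg]
    simp
  have h4 := congrFun hβη 1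
  rw [Pi.mul_apply, hβ1, one_mul] at h4
  change θh 1 = η 1 at h4
  rw [← h4]
  have := hext 1
  simpa using this

end DegreeOver

section DegreeSection

variable {G : Type u} [Group G] [Fintype G]

/-- Let `N ≤ A` be normal subgroups of `G` with `A / N` abelian of order prime to `|N|`, and let
`θ ∈ Irr(N)` be `G`-invariant.  Then `χ(1)` divides `|G : A| θ(1)` for every `χ ∈ Irr(G | θ)`. -/
theorem charDegree_dvd_index_mul_of_abelian_coprime_section (N A : Subgroup G) [hN : N.Normal]
    [hA : A.Normal] [Fintype N] [Fintype A] (hNA : N ≤ A)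
    (hab : ∀ a ∈ A, ∀ b ∈ A, ⁅a, b⁆ ∈ N) (hcop : (Nat.card N).Coprime (N.relIndex A))
    {θ : N → ℂ} (hθ : IsIrrCharacter N θ)
    (hinv : ∀ (g : G) (n : N), θ ⟨g * n * g⁻¹, hN.conj_mem (n : G) n.2 g⟩ = θ n)
    {χ : G → ℂ} (hχ : IsIrrCharacter G χ) (hover : classInner (fun n : N => χ n) θ ≠ 0) :
    charDegree χ ∣ A.index * charDegree θ := by
  classical
  let _ : Fintype (N.subgroupOf A) := Fintype.ofFinite _
  -- a constituent `η` of `χ_A` over `θ`
  have hχA : IsCharacter A (fun a : A => χ a) :=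
    isCharacter_res A (IsIrrCharacter.isCharacter hχ)
  have hsum := IsCharacter.eq_sum_irr hχA
  have hres : (fun n : N => χ n) =
      ∑ η : IrrCharacter A, classInner (fun a : A => χ a) (η : A → ℂ) •
        resNT N A hNA (η : A → ℂ) := by
    funext n
    have h1 := congrFun hsum ⟨(n : G), hNA n.2⟩
    rw [Finset.sum_apply] at h1 ⊢
    exact h1
  have hex : ∃ η : IrrCharacter A, classInner (fun a : A => χ a) (η : A → ℂ) ≠ 0 ∧
      classInner (resNT N A hNA (η : A → ℂ)) θ ≠ 0 := by
    by_contra hcon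
    push Not at hcon
    apply hover
    rw [hres, classInner_sum_left]
    apply Finset.sum_eq_zero
    intro η _
    rw [classInner_smul_left]
    by_cases h : classInner (fun a : A => χ a) (η : A → ℂ) = 0
    · rw [h, zero_mul]
    · rw [hcon η h, mul_zero]
  obtain ⟨η, hη1, hη2⟩ := hex
  -- `η(1) = θ(1)`
  have hθ' : IsIrrCharacter (N.subgroupOf A) (liftNT N A θ) := isIrrCharacter_liftNT N A hNA hθ
  have hover' : classInner (fun m : N.subgroupOf A => (η : A → ℂ) m) (liftNT N A θ) ≠ 0 := by
    rw [res_eq_comp N A hNA (η : A → ℂ), liftNT_eq_comp N A hNA, classInner_comp_equiv]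
    exact hη2
  have hinv' : ∀ (a : A) (m : N.subgroupOf A),
      liftNT N A θ ⟨a * m * a⁻¹, (inferInstance : (N.subgroupOf A).Normal).conj_mem (m : A) m.2 a⟩ =
        liftNT N A θ m := by
    intro a m
    exact hinv (a : G) ⟨((m : A) : G), Subgroup.mem_subgroupOf.mp m.2⟩
  have hab' : ∀ a b : A, ⁅a, b⁆ ∈ N.subgroupOf A := by
    intro a b
    rw [Subgroup.mem_subgroupOf]
    have := hab a a.2 b b.2
    simpa [commutatorElement_def] using this
  have hcop' : (Nat.card (N.subgroupOf A)).Coprime (N.subgroupOf A).index := by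
    rw [Nat.card_congr (Subgroup.subgroupOfEquivOfLe hNA).toEquiv]
    exact hcop
  have hdeg := apply_one_eq_of_over_invariant_coprime_abelian (N.subgroupOf A) hab' hcop' hθ'
    hinv' η.2 hover'
  have hdeg' : (η : A → ℂ) 1 = θ 1 := by
    rw [hdeg]
    unfold liftNT
    congr 1
  -- Corollary 11.29
  have hc : χ 1 = (charDegree χ : ℂ) :=
    IsCharacter.apply_one_eq_charDegree (IsIrrCharacter.isCharacter hχ)
  have hd : (η : A → ℂ) 1 = (charDegree θ : ℂ) := by
    rw [hdeg', IsCharacter.apply_one_eq_charDegree (IsIrrCharacter.isCharacter hθ)]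
  obtain ⟨h1, h2⟩ := Cfsg.Agent.S0887.result A χ hχ (η : A → ℂ) η.2 hη1 _ _ hc hd
  obtain ⟨k, hk⟩ := h1
  have hdpos : 0 < charDegree θ := IsIrrCharacter.charDegree_pos hθ
  rw [hk, Nat.mul_div_cancel_left _ hdpos] at h2
  rw [hk, mul_comm A.index]
  exact Nat.mul_dvd_mul_left _ h2

end DegreeSection

end Cfsg.Agent.Lib.Helper75
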