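import Mathlib
import Cfsg.Prelude.Def_CaseTheorems
import Cfsg.Agent.Lib.Helper76.PCore

/-!
# The section `A / O_{p'}(G)` with `A / O_{p'}(G) = Z(O_p(G / O_{p'}(G)))` of a `p`-solvable group

Shared library by helper75 (for S4439).
-/

set_option autoImplicit false
set_option linter.unusedSectionVars false

namespace Cfsg.Agent.Lib.Helper75

open Cfsg Cfsg.Agent.Lib.Helper76
open scoped commutatorElement

universe u

section PSolvSection

variable {G : Type u} [Group G] [Finite G]

/-- In a finite `p`-solvable group `G` with Sylow `p`-subgroup `P` there is a normal subgroup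
`A ≥ N = O_{p'}(G)` with `A / N` an abelian `p`-group such that the `p`-part of `|G : A|` is at
most `|P : Z(P)|`. -/
theorem exists_abelian_section_index_le (p : ℕ) [Fact p.Prime] (hsolv : IsPSolvable p G)
    (P : Sylow p G) :
    ∃ A : Subgroup G, A.Normal ∧ pPrimeCore p G ≤ A ∧
      (∀ a ∈ A, ∀ b ∈ A, ⁅a, b⁆ ∈ pPrimeCore p G) ∧
      (Nat.card (pPrimeCore p G)).Coprime ((pPrimeCore p G).relIndex A) ∧
      (A.index).factorization p ≤
        ((Subgroup.center (P : Subgroup G)).index).factorization p := by
  classical
  have hp : p.Prime := Fact.out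
  set N := pPrimeCore p G with hNdef
  have hNn : N.Normal := inferInstance
  set π := QuotientGroup.mk' N with hπ
  have hsurj : Function.Surjective π := QuotientGroup.mk'_surjective N
  have hker : π.ker = N := QuotientGroup.ker_mk' N
  have hNcop : (Nat.card N).Coprime p := pPrimeCore_coprime p
  have hsolvW : IsPSolvable p (G ⧸ N) := IsPSolvable_of_surjective p π hsurj hsolv
  have hcore := quotient_pPrimeCore_core_trivial (G := G) p
  set R := pCore p (G ⧸ N) with hRdef
  have hRn : R.Normal := inferInstance
  have hHH : Subgroup.centralizer (R : Set (G ⧸ N)) ≤ R := centralizer_pCore_le p hsolvW hcore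
  have hRp : IsPGroup p R := pCore_isPGroup p
  set Zb := R ⊓ Subgroup.centralizer (R : Set (G ⧸ N)) with hZb
  have hZbn : Zb.Normal := inferInstance
  have hZbp : IsPGroup p Zb := hRp.to_le inf_le_left
  have hmemN : ∀ g : G, g ∈ N ↔ π g = 1 := by
    intro g
    rw [← MonoidHom.mem_ker, hker]
  have hNA : N ≤ Zb.comap π := by
    intro n hn
    rw [Subgroup.mem_comap, (hmemN n).mp hn]
    exact Zb.one_mem
  refine ⟨Zb.comap π, hZbn.comap π, hNA, ?_, ?_, ?_⟩
  · intro a ha b hb
    rw [Subgroup.mem_comap] at ha hb
    rw [hmemN, map_commutatorElement, commutatorElement_eq_one_iff_commute]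
    have h1 : π b ∈ Subgroup.centralizer (R : Set (G ⧸ N)) := hb.2
    rw [Subgroup.mem_centralizer_iff] at h1
    exact (h1 (π a) ha.1)
  · -- coprimality
    have h3 : N.relIndex (Zb.comap π) = Nat.card Zb := by
      have h4 : Zb = (Zb.comap π).map π := by
        rw [Subgroup.map_comap_eq_self_of_surjective hsurj]
      have h6 : N = (⊥ : Subgroup (G ⧸ N)).comap π := by
        rw [MonoidHom.comap_bot, hker]
      have h5 : N.relIndex (Zb.comap π) = (⊥ : Subgroup (G ⧸ N)).relIndex Zb := by
        refine (congrArg (fun S : Subgroup G => S.relIndex (Zb.comap π)) h6).trans ?_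
        show ((⊥ : Subgroup (G ⧸ N)).comap π).relIndex (Zb.comap π) = _
        rw [Subgroup.relIndex_comap, Subgroup.map_comap_eq_self_of_surjective hsurj]
      rw [h5, Subgroup.relIndex_bot_left]
    rw [h3]
    obtain ⟨k, hk⟩ := IsPGroup.iff_card.mp hZbp
    rw [hk]
    exact Nat.Coprime.pow_right k hNcop
  · -- the index
    rw [Subgroup.index_comap_of_surjective Zb hsurj]
    -- cardinalities
    have hW : Nat.card (G ⧸ N) = Zb.index * Nat.card Zb := by
      rw [mul_comm]
      exact (Subgroup.card_mul_index Zb).symm
    have hWG : Nat.card G = Nat.card N * Nat.card (G ⧸ N) := by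
      rw [← Subgroup.index_eq_card, mul_comm]
      exact (Subgroup.index_mul_card N).symm
    have hPc : Nat.card P = p ^ (Nat.card G).factorization p := P.card_eq_multiplicity
    have hPZ : Nat.card (P : Subgroup G) = (Subgroup.center (P : Subgroup G)).index *
        Nat.card (Subgroup.center (P : Subgroup G)) := by
      rw [mul_comm]
      exact (Subgroup.card_mul_index _).symm
    have hidx0 : Zb.index ≠ 0 := Subgroup.index_ne_zero_of_finite
    have hZb0 : Nat.card Zb ≠ 0 := Nat.card_pos.ne'
    have hN0 : Nat.card N ≠ 0 := Nat.card_pos.ne'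
    have hW0 : Nat.card (G ⧸ N) ≠ 0 := Nat.card_pos.ne'
    have hcidx0 : (Subgroup.center (P : Subgroup G)).index ≠ 0 := Subgroup.index_ne_zero_of_finite
    have hcc0 : Nat.card (Subgroup.center (P : Subgroup G)) ≠ 0 := Nat.card_pos.ne'
    have hfN : (Nat.card N).factorization p = 0 := by
      apply Nat.factorization_eq_zero_of_not_dvd
      exact (Nat.Prime.coprime_iff_not_dvd hp).mp hNcop.symm
    have e1 : (Nat.card G).factorization p =
        (Zb.index).factorization p + (Nat.card Zb).factorization p := by
      rw [hWG, Nat.factorization_mul hN0 hW0, hW, Nat.factorization_mul hidx0 hZb0]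
      simp only [Finsupp.coe_add, Pi.add_apply]
      omega
    have e2 : (Nat.card G).factorization p =
        ((Subgroup.center (P : Subgroup G)).index).factorization p +
          (Nat.card (Subgroup.center (P : Subgroup G))).factorization p := by
      have h1 : (Nat.card (P : Subgroup G)).factorization p = (Nat.card G).factorization p := by
        have : Nat.card (P : Subgroup G) = p ^ (Nat.card G).factorization p := hPc
        rw [this, Nat.Prime.factorization_pow hp]
        simp
      rw [← h1, hPZ, Nat.factorization_mul hcidx0 hcc0]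
      rfl
    -- an injective homomorphism `Z(P) → Zb`
    have hRP : R ≤ (P : Subgroup G).map π := by
      have := pCore_le_sylow p (P.mapSurjective hsurj)
      rwa [Sylow.coe_mapSurjective] at this
    have hmem : ∀ z : Subgroup.center (P : Subgroup G), π ((z : (P : Subgroup G)) : G) ∈ Zb := by
      intro z
      have hcent : π ((z : (P : Subgroup G)) : G) ∈ Subgroup.centralizer (R : Set (G ⧸ N)) := by
        rw [Subgroup.mem_centralizer_iff]
        intro r hr
        obtain ⟨x, hx, rfl⟩ := hRP hr
        have hz := z.2
        rw [Subgroup.mem_center_iff] at hz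
        have h1 := hz ⟨x, hx⟩
        have h2 : x * ((z : (P : Subgroup G)) : G) = ((z : (P : Subgroup G)) : G) * x := by
          have := congrArg (fun y : (P : Subgroup G) => (y : G)) h1
          simpa using this
        rw [← map_mul, ← map_mul, h2]
      exact ⟨hHH hcent, hcent⟩
    let f : Subgroup.center (P : Subgroup G) →* Zb :=
      { toFun := fun z => ⟨π ((z : (P : Subgroup G)) : G), hmem z⟩
        map_one' := by
          apply Subtype.ext
          simp
        map_mul' := by
          intro a b
          apply Subtype.ext
          simp }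
    have hfinj : Function.Injective f := by
      rw [injective_iff_map_eq_one]
      intro z hz
      have h1 : π ((z : (P : Subgroup G)) : G) = 1 := by
        have := congrArg (fun y : Zb => (y : G ⧸ N)) hz
        simpa [f] using this
      have h2 : ((z : (P : Subgroup G)) : G) ∈ N := (hmemN _).mpr h1
      -- a `p`-element of a `p'`-group is trivial
      have h3 : orderOf ((z : (P : Subgroup G)) : G) ∣ Nat.card N := by
        have := Subgroup.orderOf_dvd_natCard N h2
        exact this
      obtain ⟨k, hk⟩ := (IsPGroup.iff_orderOf.mp P.2) (z : (P : Subgroup G))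
      have h4 : orderOf ((z : (P : Subgroup G)) : G) = p ^ k := by
        rw [← hk, Subgroup.orderOf_coe]
      rw [h4] at h3
      have h5 : p ^ k = 1 := by
        have hc : (p ^ k).Coprime (Nat.card N) := (Nat.Coprime.pow_right k hNcop).symm
        exact hc.eq_one_of_dvd h3
      have h6 : ((z : (P : Subgroup G)) : G) = 1 := by
        rw [← orderOf_eq_one_iff, h4, h5]
      apply Subtype.ext
      apply Subtype.ext
      simpa using h6
    have hdvd : Nat.card (Subgroup.center (P : Subgroup G)) ∣ Nat.card Zb :=
      Subgroup.card_dvd_of_injective f hfinj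
    have hle : (Nat.card (Subgroup.center (P : Subgroup G))).factorization p ≤
        (Nat.card Zb).factorization p :=
      (Nat.factorization_le_iff_dvd hcc0 hZb0).mpr hdvd p
    omega

end PSolvSection

end Cfsg.Agent.Lib.Helper75
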