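import Mathlib
import Cfsg.Agent.Lib.Helper75.PSolvHeight1
import Cfsg.Agent.Lib.Helper75.PSolvHeight2
import Cfsg.Agent.Lib.Helper75.Monomial
import Cfsg.Agent.Lib.Helper16.DefectConj
import Cfsg.Agent.Lib.Helper80.ItoMichler
import Cfsg.Agent.S0914
import Cfsg.Agent.S4435
import Cfsg.Agent.S4436
import Cfsg.Agent.S4492

/-!
# Fong: heights in blocks of `p`-solvable groups are bounded by `|P : Z(P)|`

Shared library by helper75 (for S4439).
-/

set_option autoImplicit false
set_option linter.unusedSectionVars false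
set_option linter.style.haveILetI false

namespace Cfsg.Agent.Lib.Helper75

open Cfsg Cfsg.Agent.Lib.Helper16 Cfsg.Agent.Lib.Helper78 Cfsg.Agent.Lib.Helper76
open scoped ComplexConjugate commutatorElement

universe u

theorem center_index_eq_of_mulEquiv {H K : Type*} [Group H] [Group K] [Finite H] (e : H ≃* K) :
    (Subgroup.center H).index = (Subgroup.center K).index := by
  have : Finite K := Finite.of_equiv H e.toEquiv
  have h1 := Subgroup.card_mul_index (Subgroup.center H)
  have h2 := Subgroup.card_mul_index (Subgroup.center K)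
  have h3 : Nat.card H = Nat.card K := Nat.card_congr e.toEquiv
  have h4 : Nat.card (Subgroup.center H) = Nat.card (Subgroup.center K) :=
    Nat.card_congr (Subgroup.centerCongr e).toEquiv
  rw [h3, h4] at h1
  have hpos : 0 < Nat.card (Subgroup.center K) := Nat.card_pos
  exact Nat.eq_of_mul_eq_mul_left hpos (h1.trans h2.symm)

/-- **Fong**: in a block `B` of a finite `p`-solvable group with defect group `P`, every height is
at most the exponent of `p` in `|P : Z(P)|` (strong induction on the order). -/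
theorem height_le_of_isPSolvable_aux (p : ℕ) [Fact p.Prime] (M : Ideal AlgInt)
    (hM : IsPModular p M) :
    ∀ n : ℕ, ∀ (G : Type u) [Group G] [Fintype G], Nat.card G = n → IsPSolvable p G →
      ∀ B : Set (IrrCharacter G), IsPBlock M B → ∀ P : Subgroup G, IsDefectGroup p M B P →
        ∀ χ : IrrCharacter G, χ ∈ B →
          blockHeight p B (χ : G → ℂ) ≤ ((Subgroup.center P).index).factorization p := by
  intro n
  induction n using Nat.strong_induction_on with
  | _ n ih =>
  intro G _ _ hcard hsolv B hB P hP χ hχ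
  classical
  have hp : p.Prime := Fact.out
  haveI hMp : M.IsPrime := isPModular_isPrime hM
  have hMtop : M ≠ ⊤ := hMp.ne_top
  set N := pPrimeCore p G with hNdef
  have hNn : N.Normal := inferInstance
  let _ : Fintype N := Fintype.ofFinite N
  have hNcop : (Nat.card N).Coprime p := pPrimeCore_coprime p
  have hNp : ¬ p ∣ Nat.card N := (Nat.Prime.coprime_iff_not_dvd hp).mp hNcop.symm
  obtain ⟨θ, hover⟩ := exists_constituent_res N χ.2
  -- the block of `θ`
  have hθdvd : charDegree (θ : N → ℂ) ∣ Nat.card N :=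
    Cfsg.Agent.Lib.Helper79.irr_charDegree_dvd_card θ
  have hbs : blockOf M (θ : N → ℂ) = {θ} := by
    apply Cfsg.Agent.S0914.block_singleton_of_defect_zero p M hM θ
    intro h
    exact hNp (dvd_trans h (Nat.div_dvd_of_dvd hθdvd))
  set b : Set (IrrCharacter N) := blockOf M (θ : N → ℂ) with hbdef
  have hb : IsPBlock M b := isPBlock_blockOf θ
  have hθb : θ ∈ b := self_mem_blockOf hMtop θ
  -- the stabilizer
  set T := inertia N (θ : N → ℂ) with hTdef
  let _ : Fintype T := Fintype.ofFinite T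
  have hNT : N ≤ T := le_inertia N
    (IsCharacter.isClassFunction (IsIrrCharacter.isCharacter θ.2))
  have hT : ∀ g : G, g ∈ T ↔ ∀ θ₁ ∈ b, ∀ θ' : IrrCharacter N,
      (∀ n : N, (θ' : N → ℂ) n = (θ₁ : N → ℂ) ⟨g * n * g⁻¹, hNn.conj_mem n n.2 g⟩) → θ' ∈ b := by
    intro g
    constructor
    · intro hg θ₁ hθ₁ θ' hθ'
      rw [hbs, Set.mem_singleton_iff] at hθ₁
      rw [hbs, Set.mem_singleton_iff]
      subst hθ₁
      apply Subtype.ext
      have hg' : conjFun N g (θ₁ : N → ℂ) = (θ₁ : N → ℂ) := hg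
      rw [← hg']
      funext n
      rw [hθ' n, conjFun_apply]
    · intro h
      have h1 := h θ hθb ⟨conjFun N g (θ : N → ℂ), isIrrCharacter_conjFun N θ.2 g⟩
        (fun n => rfl)
      rw [hbs, Set.mem_singleton_iff] at h1
      exact congrArg Subtype.val h1
  by_cases hTtop : T = ⊤
  · -- the invariant case
    have hinv : ∀ (g : G) (m : N), (θ : N → ℂ) ⟨g * m * g⁻¹, hNn.conj_mem m m.2 g⟩ =
        (θ : N → ℂ) m := by
      intro g m
      have hg : g ∈ T := by rw [hTtop]; exact Subgroup.mem_top g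
      have hg' : conjFun N g (θ : N → ℂ) = (θ : N → ℂ) := hg
      have := congrFun hg' m
      rw [conjFun_apply] at this
      exact this
    obtain ⟨B₁, hB₁, hmem₁, -, hsyl⟩ := Cfsg.Agent.S4492.result p M hM hsolv N rfl θ hinv
    have hχB₁ : χ ∈ B₁ := (hmem₁ χ).mpr hover
    have hBB₁ : B = B₁ := by
      rw [IsPBlock_eq_blockOf hB hχ, IsPBlock_eq_blockOf hB₁ hχB₁]
    obtain ⟨P', hP'⟩ := hsyl P (hBB₁ ▸ hP)
    obtain ⟨A, hAn, hNA, hab, hcop, hidx⟩ := exists_abelian_section_index_le p hsolv P'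
    let _ : Fintype A := Fintype.ofFinite A
    have hdvd := charDegree_dvd_index_mul_of_abelian_coprime_section N A hNA hab hcop θ.2 hinv
      χ.2 hover
    have hAidx0 : A.index ≠ 0 := Subgroup.index_ne_zero_of_finite
    have hθ0 : charDegree (θ : N → ℂ) ≠ 0 := (IsIrrCharacter.charDegree_pos θ.2).ne'
    have hχ0 : charDegree (χ : G → ℂ) ≠ 0 := (IsIrrCharacter.charDegree_pos χ.2).ne'
    have hfθ : (charDegree (θ : N → ℂ)).factorization p = 0 := by
      apply Nat.factorization_eq_zero_of_not_dvd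
      intro h
      exact hNp (dvd_trans h hθdvd)
    have h1 : (charDegree (χ : G → ℂ)).factorization p ≤
        (A.index * charDegree (θ : N → ℂ)).factorization p :=
      (Nat.factorization_le_iff_dvd hχ0 (mul_ne_zero hAidx0 hθ0)).mpr hdvd p
    rw [Nat.factorization_mul hAidx0 hθ0] at h1
    simp only [Finsupp.coe_add, Pi.add_apply] at h1
    have h2 : blockHeight p B (χ : G → ℂ) ≤ (charDegree (χ : G → ℂ)).factorization p := by
      unfold blockHeight
      exact Nat.sub_le _ _
    rw [hP']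
    omega
  · -- the Fong–Reynolds reduction
    have hlt : Nat.card T < n := by
      rw [← hcard]
      by_contra hcon
      push Not at hcon
      exact hTtop (Subgroup.eq_top_of_le_card T hcon)
    obtain ⟨h1, -, h3⟩ := Cfsg.Agent.S4435.result p M hM N b hb T hT hNT
    obtain ⟨B', hB', hcov', hind⟩ := h3 B hB ⟨χ, hχ, θ, hθb, hover⟩
    obtain ⟨B₂, hind₂, -, -, hmem₂⟩ := h1 B' hB' hcov'
    obtain ⟨hdef, hht⟩ := Cfsg.Agent.S4436.result p M hM N b hb T hT hNT B' hB' hcov' B hind
    obtain ⟨ψ₀, hψ₀⟩ := IsPBlock_nonempty hMtop hB'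
    obtain ⟨χ', hχ'B, hχ'eq, -⟩ := hht ψ₀ hψ₀
    have hχ'B₂ : χ' ∈ B₂ := (hmem₂ χ').mpr ⟨ψ₀, hψ₀, hχ'eq⟩
    have hBB₂ : B = B₂ := by
      rw [IsPBlock_eq_blockOf hB hχ'B, IsPBlock_eq_blockOf hind₂.2.1 hχ'B₂]
    obtain ⟨ψ, hψ, hχeq⟩ := (hmem₂ χ).mp (hBB₂ ▸ hχ)
    obtain ⟨χ'', hχ''B, hχ''eq, hhteq⟩ := hht ψ hψ
    have hχχ'' : χ'' = χ := Subtype.ext (hχ''eq.trans hχeq.symm)
    rw [hχχ''] at hhteq
    obtain ⟨D', hD'⟩ := exists_isDefectGroup (M := M) p hB'
    have hsolvT : IsPSolvable p T := Cfsg.Agent.Lib.Helper80.isPSolvable_subgroup' p hsolv T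
    have hIH := ih (Nat.card T) hlt T rfl hsolvT B' hB' D' hD' ψ hψ
    have hDP := hdef D' hD'
    obtain ⟨z, hz⟩ := exists_conj_eq_of_isDefectGroup hM hB hDP hP
    -- `D' ≃* P`
    have e1 : D' ≃* D'.map T.subtype :=
      Subgroup.equivMapOfInjective D' T.subtype T.subtype_injective
    have e2 : D'.map T.subtype ≃* (D'.map T.subtype).map (MulAut.conj z).toMonoidHom :=
      Subgroup.equivMapOfInjective _ _ (MulAut.conj z).injective
    have e3 : (D'.map T.subtype).map (MulAut.conj z).toMonoidHom ≃* P :=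
      MulEquiv.subgroupCongr hz
    have hci := center_index_eq_of_mulEquiv ((e1.trans e2).trans e3)
    rw [hhteq, ← hci]
    exact hIH

end Cfsg.Agent.Lib.Helper75
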