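import Mathlib
import Cfsg.Agent.Lib.Helper16.BlockKer
import Cfsg.Agent.Lib.Helper16.NormalSub
import Cfsg.Agent.Lib.Helper78.CharOrtho
import Cfsg.Agent.Lib.Helper77.FongPrincipal
import Cfsg.Agent.Lib.Helper82.BlockInflation
import Cfsg.Agent.Lib.Helper75.PQRDegree
import Cfsg.Agent.Lib.Helper75.OddIndexParity
import Cfsg.Agent.Lib.Helper81.CycloRational
import Cfsg.Agent.Lib.Helper76.Galois

/-!
# The principal block modulo a normal `p'`-subgroup; rationality of block sums (helper75, S4735)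

* `sameBlock_of_comp_mk`: inflation from the quotient by a normal `p'`-subgroup reflects `SameBlock`.
* `inflate_mem_principalBlock_iff`, `principalBlock_eq_image_inflate`,
  `finsum_principalBlock_eq_finsum_quotient`: `B₀(G) = B₀(G ⧸ N)` for a normal `p'`-subgroup `N`.
* `exists_int_sum_mul_conj_of_pow_stable`: `∑_{χ ∈ B} |χ(x)|²` is an integer for a set `B` stable
  under the power-map twists.
-/

set_option autoImplicit false
set_option linter.style.haveILetI false
set_option linter.unusedSectionVars false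

namespace Cfsg.Agent.Lib.Helper75

open Cfsg
open scoped ComplexConjugate

section RevInflate

variable {G : Type*} [Group G] [Fintype G] (N : Subgroup G) [hN : N.Normal]

open Cfsg.Agent.Lib.Helper16 in
/-- Inflation from the quotient by a normal `p'`-subgroup reflects `SameBlock`. -/
theorem sameBlock_of_comp_mk {p : ℕ} {M : Ideal AlgInt} (hM : IsPModular p M)
    (hp : ¬ p ∣ Nat.card N) {ψ₁ ψ₂ : G ⧸ N → ℂ}
    (hc₁ : ∀ a b : G ⧸ N, ψ₁ (b * a * b⁻¹) = ψ₁ a) (hc₂ : ∀ a b : G ⧸ N, ψ₂ (b * a * b⁻¹) = ψ₂ a)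
    (h : SameBlock M (ψ₁ ∘ (QuotientGroup.mk : G → G ⧸ N)) (ψ₂ ∘ (QuotientGroup.mk : G → G ⧸ N))) :
    SameBlock M ψ₁ ψ₂ := by
  classical
  haveI hMp : M.IsPrime := isPModular_isPrime hM
  haveI : Fintype (G ⧸ N) := Fintype.ofFinite _
  intro q
  -- the class function on the quotient
  set F' : G ⧸ N → ℂ := fun q' => if IsConj q q' then ψ₁ q' / ψ₁ 1 - ψ₂ q' / ψ₂ 1 else 0 with hF'
  have hF'conj : ∀ a b : G ⧸ N, F' (b * a * b⁻¹) = F' a := by
    intro a b
    simp only [hF']
    have hiff : IsConj q (b * a * b⁻¹) ↔ IsConj q a := by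
      constructor
      · intro h1
        exact h1.trans (isConj_iff.mpr ⟨b⁻¹, by group⟩)
      · intro h1
        exact h1.trans (isConj_iff.mpr ⟨b, rfl⟩)
    by_cases hq : IsConj q a
    · rw [if_pos hq, if_pos (hiff.mpr hq), hc₁, hc₂]
    · rw [if_neg hq, if_neg (fun h1 => hq (hiff.mp h1))]
  set F : G → ℂ := fun g => F' (g : G ⧸ N) with hF
  have hFconj : ∀ g h : G, F (h * g * h⁻¹) = F g := by
    intro g h
    simp only [hF]
    rw [QuotientGroup.mk_mul, QuotientGroup.mk_mul, QuotientGroup.mk_inv]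
    exact hF'conj _ _
  -- the sum over `G` via classes lies in the local ideal
  have hsum1 : MemLocalIdeal M (∑ g : G, F g) := by
    rw [sum_eq_sum_classes F hFconj]
    apply memLocalIdeal_sum
    intro c _
    simp only [hF, hF']
    split_ifs with hq
    · have := h (classRep c)
      unfold centralChar at this
      simp only [Function.comp_apply, QuotientGroup.mk_one] at this
      have e : ((Subgroup.centralizer ({classRep c} : Set G)).index : ℂ) *
          (ψ₁ ((classRep c : G) : G ⧸ N) / ψ₁ 1 - ψ₂ ((classRep c : G) : G ⧸ N) / ψ₂ 1) =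
          ((Subgroup.centralizer ({classRep c} : Set G)).index : ℂ) * ψ₁ ((classRep c : G) : G ⧸ N) / ψ₁ 1 -
          ((Subgroup.centralizer ({classRep c} : Set G)).index : ℂ) * ψ₂ ((classRep c : G) : G ⧸ N) / ψ₂ 1 := by
        ring
      rw [e]
      exact this
    · rw [mul_zero]
      exact memLocalIdeal_zero hMp.ne_top
  -- the sum over `G` computed on the quotient
  have hsum2 : ∑ g : G, F g = (Nat.card N : ℂ) * (centralChar ψ₁ q - centralChar ψ₂ q) := by
    simp only [hF]
    rw [sum_comp_quotient_mk N F']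
    congr 1
    simp only [hF']
    rw [← Finset.sum_filter]
    have hconst : ∀ q' ∈ Finset.univ.filter (fun q' : G ⧸ N => IsConj q q'),
        ψ₁ q' / ψ₁ 1 - ψ₂ q' / ψ₂ 1 = ψ₁ q / ψ₁ 1 - ψ₂ q / ψ₂ 1 := by
      intro q' hq'
      rw [Finset.mem_filter] at hq'
      obtain ⟨b, hb⟩ := isConj_iff.mp hq'.2
      rw [← hb, hc₁, hc₂]
    have hcard : (Finset.univ.filter (fun q' : G ⧸ N => IsConj q q')).card =
        (Subgroup.centralizer ({q} : Set (G ⧸ N))).index := by
      convert Cfsg.Agent.Lib.Helper78.card_isConj_eq_index q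
    rw [Finset.sum_congr rfl hconst, Finset.sum_const, hcard, nsmul_eq_mul]
    unfold centralChar
    ring
  rw [hsum2] at hsum1
  have hinv : MemLocalRing M ((Nat.card N : ℂ)⁻¹) := memLocalRing_inv_natCast hM hp
  have := memLocalIdeal_mul_left hinv hsum1
  have hN0 : (Nat.card N : ℂ) ≠ 0 := by exact_mod_cast Nat.card_pos.ne'
  rwa [← mul_assoc, inv_mul_cancel₀ hN0, one_mul] at this

end RevInflate

section Bij

variable {G : Type*} [Group G] [Fintype G] (N : Subgroup G) [hN : N.Normal]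

open Cfsg.Agent.Lib.Helper16 Cfsg.Agent.Lib.Helper77 in
/-- For a normal `p'`-subgroup `N`, inflation matches the principal blocks of `G ⧸ N` and `G`. -/
theorem inflate_mem_principalBlock_iff {p : ℕ} {M : Ideal AlgInt} (hM : IsPModular p M)
    (hp : ¬ p ∣ Nat.card N) (ψ : IrrCharacter (G ⧸ N)) :
    inflate N ψ ∈ principalBlock M G ↔ ψ ∈ principalBlock M (G ⧸ N) := by
  haveI hMp : M.IsPrime := isPModular_isPrime hM
  constructor
  · intro h
    have h' : SameBlock M ((fun _ : G ⧸ N => (1 : ℂ)) ∘ (QuotientGroup.mk : G → G ⧸ N))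
        ((ψ : G ⧸ N → ℂ) ∘ (QuotientGroup.mk : G → G ⧸ N)) := h
    exact sameBlock_of_comp_mk N hM hp (fun _ _ => rfl)
      (fun a b => Cfsg.Agent.Lib.Helper78.isClassFunction_irr ψ a b) h'
  · intro h
    have h' : SameBlock M (fun _ : G ⧸ N => (1 : ℂ)) (ψ : G ⧸ N → ℂ) := h
    exact Cfsg.Agent.Lib.Helper82.sameBlock_comp_mk N hMp.ne_top h'

open Cfsg.Agent.Lib.Helper16 Cfsg.Agent.Lib.Helper77 in
/-- For a normal `p'`-subgroup `N`, the principal block of `G` is the inflation of the principal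
block of `G ⧸ N`. -/
theorem principalBlock_eq_image_inflate {p : ℕ} {M : Ideal AlgInt} (hM : IsPModular p M)
    (hp : ¬ p ∣ Nat.card N) :
    principalBlock M G = inflate N '' principalBlock M (G ⧸ N) := by
  haveI : Fintype N := Fintype.ofFinite _
  ext χ
  constructor
  · intro hχ
    have hker : ∀ n ∈ N, (χ : G → ℂ) n = (χ : G → ℂ) 1 := by
      intro n hn
      have h1 : SameBlock M (oneIrr G : G → ℂ) (χ : G → ℂ) := hχ
      exact eq_apply_one_of_sameBlock_of_not_dvd N hM hp h1 (fun _ _ => rfl) n hn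
    refine ⟨deflate N χ hker, ?_, inflate_deflate N χ hker⟩
    rw [← inflate_mem_principalBlock_iff N hM hp, inflate_deflate]
    exact hχ
  · rintro ⟨ψ, hψ, rfl⟩
    exact (inflate_mem_principalBlock_iff N hM hp ψ).mpr hψ

open Cfsg.Agent.Lib.Helper77 in
/-- Transfer of a finite sum over the principal block to the quotient by a normal `p'`-subgroup. -/
theorem finsum_principalBlock_eq_finsum_quotient {A : Type*} [AddCommMonoid A] {p : ℕ}
    {M : Ideal AlgInt} (hM : IsPModular p M) (hp : ¬ p ∣ Nat.card N)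
    (f : IrrCharacter G → A) :
    ∑ᶠ χ ∈ principalBlock M G, f χ = ∑ᶠ ψ ∈ principalBlock M (G ⧸ N), f (inflate N ψ) := by
  rw [principalBlock_eq_image_inflate N hM hp]
  exact finsum_mem_image ((inflate_injective N).injOn)

end Bij

section Integrality

variable {G : Type*} [Group G] [Finite G]

theorem powIrr_injective (u : ℕ) (hu : u.Coprime (Nat.card G)) :
    Function.Injective (powIrr (G := G) u hu) := by
  intro χ₁ χ₂ h
  apply Subtype.ext
  funext g
  obtain ⟨y, rfl⟩ := (powCoprime hu.symm).surjective g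
  have := congrArg (fun χ : IrrCharacter G => (χ : G → ℂ) y) h
  exact this

/-- Character values at powers of a fixed element as power sums of roots of unity. -/
theorem exists_roots_of_irr (χ : IrrCharacter G) (x : G) :
    ∃ (m : ℕ) (μ : Fin m → ℂ), (∀ i, μ i ^ Nat.card G = 1) ∧
      ∀ k : ℕ, (χ : G → ℂ) (x ^ k) = ∑ i, μ i ^ k := by
  obtain ⟨n, ρ, -, hρ⟩ := χ.2
  obtain ⟨μ, hμ, hk⟩ := Cfsg.Agent.Lib.Helper76.exists_character_pow_eq_sum ρ x (Nat.card G)
    Nat.card_pos pow_card_eq_one'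
  exact ⟨_, μ, hμ, fun k => by rw [← hρ]; exact hk k⟩

open scoped Classical in
/-- For a set `B` of irreducible characters stable under all power-map twists, the sum of
`|χ(x)|²` over `B` is a rational integer. -/
theorem exists_int_sum_mul_conj_of_pow_stable (B : Set (IrrCharacter G))
    (hstab : ∀ (u : ℕ) (hu : u.Coprime (Nat.card G)) (χ : IrrCharacter G),
      powIrr u hu χ ∈ B ↔ χ ∈ B) (x : G) :
    ∃ z : ℤ, ∑ χ : {χ : IrrCharacter G // χ ∈ B},
      (χ.1 : G → ℂ) x * conj ((χ.1 : G → ℂ) x) = z := by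
  set n := Nat.card G with hn
  have hn0 : 0 < n := Nat.card_pos
  choose m μ hμ hk using fun χ : IrrCharacter G => exists_roots_of_irr χ x
  let ι := Σ χ : {χ : IrrCharacter G // χ ∈ B}, Fin (m χ.1) × Fin (m χ.1)
  let ζ : ι → ℂ := fun t => μ t.1.1 t.2.1 * conj (μ t.1.1 t.2.2)
  have hζ : ∀ t, ζ t ^ n = 1 := by
    intro t
    simp only [ζ]
    rw [mul_pow, ← map_pow, hμ, hμ, map_one, mul_one]
  have hsumk : ∀ k : ℕ, ∑ t : ι, ((1 : ℤ) : ℂ) * ζ t ^ k =
      ∑ χ : {χ : IrrCharacter G // χ ∈ B},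
        (χ.1 : G → ℂ) (x ^ k) * conj ((χ.1 : G → ℂ) (x ^ k)) := by
    intro k
    rw [Fintype.sum_sigma]
    refine Finset.sum_congr rfl fun χ _ => ?_
    rw [Fintype.sum_prod_type, hk χ.1 k, map_sum, Finset.sum_mul_sum]
    refine Finset.sum_congr rfl fun i _ => ?_
    refine Finset.sum_congr rfl fun j _ => ?_
    simp only [ζ]
    rw [Int.cast_one, one_mul, mul_pow, map_pow]
  have hinv : ∀ j : ℕ, j.Coprime n → ∑ t : ι, ((1 : ℤ) : ℂ) * ζ t ^ j =
      ∑ t : ι, ((1 : ℤ) : ℂ) * ζ t := by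
    intro j hj
    have h1 := hsumk j
    have h2 := hsumk 1
    simp only [pow_one] at h2
    rw [h1, h2]
    -- reindex by `powIrr j`
    let e₀ : {χ : IrrCharacter G // χ ∈ B} → {χ : IrrCharacter G // χ ∈ B} :=
      fun χ => ⟨powIrr j hj χ.1, (hstab j hj χ.1).mpr χ.2⟩
    have he₀ : Function.Injective e₀ := by
      intro a b hab
      apply Subtype.ext
      apply powIrr_injective j hj
      exact congrArg Subtype.val hab
    have hbij : Function.Bijective e₀ := he₀.bijective_of_finite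
    rw [← (Equiv.ofBijective e₀ hbij).sum_comp
      (fun χ : {χ : IrrCharacter G // χ ∈ B} => (χ.1 : G → ℂ) x * conj ((χ.1 : G → ℂ) x))]
    refine Finset.sum_congr rfl fun χ _ => ?_
    rfl
  obtain ⟨z, hz⟩ := Cfsg.Agent.Lib.Helper81.exists_int_of_sum_pow_invariant n hn0
    (fun _ : ι => (1 : ℤ)) ζ hζ hinv
  refine ⟨z, ?_⟩
  rw [← hz]
  have h2 := hsumk 1
  simp only [pow_one] at h2
  rw [h2]

end Integrality

end Cfsg.Agent.Lib.Helper75
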