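import Mathlib
import Cfsg.Agent.Lib.Helper16.Induced
import Cfsg.Agent.Lib.Helper16.DefectClass
import Cfsg.Agent.Lib.Helper78.CharOrtho
import Cfsg.Agent.Lib.Helper78.StableCover
import Cfsg.Agent.Lib.Helper75.Clifford
import Cfsg.Agent.Lib.Helper75.PQRDegree
import Cfsg.Agent.Lib.Helper76.ModP

/-!
# The principal block of `G` covers the principal block of a normal subgroup (helper75)

`exists_principal_over`: for `N ⊴ G` and `θ` in the principal `p`-block of `N` there is `χ` in the
principal `p`-block of `G` lying over `θ`.  Proof by a test element of the order `Z(R G)`: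
`w = e z`, `e` the principal block idempotent, `z` central with coefficients
`e(v⁻¹) ē(v⁻¹)^(p-2)`, `ē` the coset sums of `e`; `ω_θ(res_N w) ≡ ω_1(res_N w) = ∑_q ē(q)^p ≡ 1`.
-/

set_option autoImplicit false
set_option linter.unusedSectionVars false
set_option linter.style.haveILetI false

namespace Cfsg.Agent.Lib.Helper75

open Cfsg MonoidAlgebra
open scoped ComplexConjugate

section StepA

variable {G : Type*} [Group G] [Fintype G]

/-- If a central element `w` is killed by the central characters of all irreducible characters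
of `G` lying over `θ ∈ Irr(H)`, then `∑_{h ∈ H} w(h) θ(h) = 0`. -/
theorem sum_coeff_mul_eq_zero_of_omega (H : Subgroup G) [Fintype H] {w : MonoidAlgebra ℂ G}
    (hw : w ∈ Subalgebra.center ℂ (MonoidAlgebra ℂ G)) (θ : IrrCharacter H)
    (h : ∀ χ : IrrCharacter G, classInner (fun n : H => (χ : G → ℂ) n) (θ : H → ℂ) ≠ 0 →
      Cfsg.Agent.Lib.Helper16.omega (χ : G → ℂ) w = 0) :
    ∑ n : H, w.coeff (n : G) * (θ : H → ℂ) n = 0 := by
  classical
  set ψ : G → ℂ := fun g => conj (w.coeff g) with hψdef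
  have hψ : IsClassFunction G ψ := by
    intro g x
    simp only [hψdef]
    rw [Cfsg.Agent.Lib.Helper16.coeff_conj_of_mem_center hw]
  have fr := frobenius_reciprocity H (θ : H → ℂ) hψ
  unfold classInner at fr
  simp only [hψdef, Complex.conj_conj] at fr
  have hexp := Cfsg.Agent.Lib.Helper78.classFunction_eq_sum_irr
    (isClassFunction_indFun H (θ : H → ℂ))
  have hzero : ∑ g : G, indFun H (θ : H → ℂ) g * w.coeff g = 0 := by
    have : ∀ g : G, indFun H (θ : H → ℂ) g * w.coeff g =
        ∑ χ : IrrCharacter G, classInner (indFun H (θ : H → ℂ)) (χ : G → ℂ) *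
          (w.coeff g * (χ : G → ℂ) g) := by
      intro g
      conv_lhs => rw [hexp]
      rw [Finset.sum_apply, Finset.sum_mul]
      refine Finset.sum_congr rfl fun χ _ => ?_
      rw [Pi.smul_apply, smul_eq_mul]
      ring
    rw [Finset.sum_congr rfl (fun g _ => this g), Finset.sum_comm]
    apply Finset.sum_eq_zero
    intro χ _
    rw [← Finset.mul_sum, Cfsg.Agent.Lib.Helper78.sum_coeff_mul_irr]
    by_cases hc : classInner (fun n : H => (χ : G → ℂ) n) (θ : H → ℂ) = 0
    · rw [frobenius_reciprocity H (θ : H → ℂ) (Cfsg.Agent.Lib.Helper78.isClassFunction_irr χ),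
        ← Cfsg.Agent.Lib.Helper78.classInner_conj_symm, hc, map_zero, zero_mul]
    · rw [h χ hc, zero_mul, mul_zero]
  rw [hzero, mul_zero] at fr
  have hH : (Nat.card H : ℂ)⁻¹ ≠ 0 := by
    apply inv_ne_zero
    exact_mod_cast Nat.card_pos.ne'
  have := (mul_eq_zero.mp fr.symm).resolve_left hH
  rw [← this]
  refine Finset.sum_congr rfl fun n _ => ?_
  ring

end StepA


section CosetSum

variable {G : Type*} [Group G] [Fintype G] (N : Subgroup G) [hN : N.Normal]

open scoped Classical in
/-- The sum of `a` over the coset `q` of the normal subgroup `N`. -/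
noncomputable def cosetSum (a : G → ℂ) (q : G ⧸ N) : ℂ :=
  ∑ y ∈ Finset.univ.filter (fun y : G => (y : G ⧸ N) = q), a y

open scoped Classical in
theorem sum_cosetSum_mul [Fintype (G ⧸ N)] (a : G → ℂ) (φ : G ⧸ N → ℂ) :
    ∑ q : G ⧸ N, cosetSum N a q * φ q = ∑ y : G, a y * φ (y : G ⧸ N) := by
  rw [← Finset.sum_fiberwise Finset.univ (fun y : G => (y : G ⧸ N)) (fun y => a y * φ (y : G ⧸ N))]
  refine Finset.sum_congr rfl fun q _ => ?_
  unfold cosetSum
  rw [Finset.sum_mul]
  refine Finset.sum_congr rfl fun y hy => ?_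
  rw [(Finset.mem_filter.mp hy).2]

theorem sum_cosetSum [Fintype (G ⧸ N)] (a : G → ℂ) :
    ∑ q : G ⧸ N, cosetSum N a q = ∑ y : G, a y := by
  have := sum_cosetSum_mul N a (fun _ => 1)
  simpa using this

/-- The coset sum as a sum over `N`. -/
theorem sum_mul_eq_cosetSum [Fintype N] (a : G → ℂ) (y : G) :
    ∑ n : N, a ((n : G) * y) = cosetSum N a (y : G ⧸ N) := by
  classical
  unfold cosetSum
  refine Finset.sum_bij (fun n _ => (n : G) * y) ?_ ?_ ?_ ?_
  · intro n _
    rw [Finset.mem_filter]
    refine ⟨Finset.mem_univ _, ?_⟩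
    rw [QuotientGroup.mk_mul, (QuotientGroup.eq_one_iff (n : G)).mpr n.2, one_mul]
  · intro n₁ _ n₂ _ h
    exact Subtype.ext (mul_right_cancel h)
  · intro y' hy'
    rw [Finset.mem_filter] at hy'
    have hmem : y' * y⁻¹ ∈ N := by
      rw [← QuotientGroup.eq_one_iff, QuotientGroup.mk_mul, QuotientGroup.mk_inv, hy'.2,
        mul_inv_cancel]
    exact ⟨⟨y' * y⁻¹, hmem⟩, Finset.mem_univ _, by simp⟩
  · intro n _
    rfl

/-- Coset sums of a class function form a class function of the quotient. -/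
theorem cosetSum_conj {a : G → ℂ} (ha : ∀ g h : G, a (h * g * h⁻¹) = a g) (h : G)
    (q : G ⧸ N) :
    cosetSum N a ((h : G ⧸ N) * q * (h : G ⧸ N)⁻¹) = cosetSum N a q := by
  classical
  unfold cosetSum
  symm
  refine Finset.sum_bij (fun y _ => h * y * h⁻¹) ?_ ?_ ?_ ?_
  · intro y hy
    rw [Finset.mem_filter] at hy ⊢
    refine ⟨Finset.mem_univ _, ?_⟩
    rw [QuotientGroup.mk_mul, QuotientGroup.mk_mul, QuotientGroup.mk_inv, hy.2]
  · intro y₁ _ y₂ _ hh
    exact mul_left_cancel (mul_right_cancel hh)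
  · intro y' hy'
    rw [Finset.mem_filter] at hy'
    refine ⟨h⁻¹ * y' * h, ?_, by group⟩
    rw [Finset.mem_filter]
    refine ⟨Finset.mem_univ _, ?_⟩
    rw [QuotientGroup.mk_mul, QuotientGroup.mk_mul, QuotientGroup.mk_inv, hy'.2]
    group
  · intro y _
    exact (ha y h).symm

end CosetSum


section StepC

variable {G : Type*} [Group G] [Fintype G]

theorem coeff_mul_eq_sum_right (z w : MonoidAlgebra ℂ G) (g : G) :
    (z * w).coeff g = ∑ v : G, z.coeff (g * v⁻¹) * w.coeff v := by
  classical
  rw [Cfsg.Agent.Lib.Helper16.coeff_mul_eq_sum]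
  symm
  refine Finset.sum_bij (fun v _ => (g * v⁻¹, v)) ?_ ?_ ?_ ?_
  · intro v _
    rw [Finset.mem_filter]
    exact ⟨Finset.mem_univ _, by simp⟩
  · intro v₁ _ v₂ _ h
    exact (Prod.ext_iff.mp h).2
  · intro p hp
    rw [Finset.mem_filter] at hp
    refine ⟨p.2, Finset.mem_univ _, ?_⟩
    ext
    · simp [← hp.2]
    · rfl
  · intro v _
    rfl

end StepC


section Main

variable {G : Type*} [Group G] [Fintype G]

open Cfsg.Agent.Lib.Helper16 in
/-- **Principal blocks cover principal blocks, character form**: every member of the principal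
block of a normal subgroup lies under a member of the principal block of the group. -/
theorem exists_principal_over {p : ℕ} {M : Ideal AlgInt} (hM : IsPModular p M)
    (N : Subgroup G) [hN : N.Normal] [Fintype N] (θ : IrrCharacter N)
    (hθ : θ ∈ principalBlock M N) :
    ∃ χ ∈ principalBlock M G, classInner (fun n : N => (χ : G → ℂ) n) (θ : N → ℂ) ≠ 0 := by
  classical
  haveI hMp : M.IsPrime := isPModular_isPrime hM
  have hp : p.Prime := hM.1
  by_contra hcon
  push Not at hcon
  -- the principal block idempotent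
  set E := blockIdem M (oneIrr G) with hEdef
  have hE : E ∈ centerOrder G M := blockIdem_mem _
  have hE1 : ∀ ψ : IrrCharacter G, ψ ∈ principalBlock M G → omegaHom ψ E = 1 :=
    fun ψ hψ => omegaHom_blockIdem_of_mem (oneIrr G) hψ
  have hE0 : ∀ ψ : IrrCharacter G, ψ ∉ principalBlock M G → omegaHom ψ E = 0 :=
    fun ψ hψ => omegaHom_blockIdem_of_not_mem (oneIrr G) hψ
  set a : G → ℂ := fun g => (E : MonoidAlgebra ℂ G).coeff g with hadef
  have ha_conj : ∀ g h : G, a (h * g * h⁻¹) = a g := fun g h => coeff_conj_of_mem_center E.2 g h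
  have haR : ∀ g, MemLocalRing M (a g) := fun g => hE g
  have hsum_a : ∑ g : G, a g = 1 := by
    have h1 := hE1 (oneIrr G) (self_mem_blockOf hMp.ne_top (oneIrr G))
    rw [omegaHom_apply] at h1
    unfold omega at h1
    simpa [oneIrr_apply] using h1
  -- coset sums
  haveI : Fintype (G ⧸ N) := Fintype.ofFinite _
  set ab : G ⧸ N → ℂ := cosetSum N a with habdef
  have habR : ∀ q, MemLocalRing M (ab q) := by
    intro q
    exact memLocalRing_sum _ _ (fun y _ => haR y)
  have hab_sum : ∑ q : G ⧸ N, ab q = 1 := by rw [habdef, sum_cosetSum, hsum_a]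
  -- Frobenius congruence
  obtain ⟨r, hrR, hr⟩ : ∃ r : ℂ, MemLocalRing M r ∧ ∑ q : G ⧸ N, ab q ^ p = 1 - (p : ℂ) * r := by
    let f : G ⧸ N → localSubring M := fun q => ⟨ab q, habR q⟩
    obtain ⟨r, hr⟩ := Cfsg.Agent.Lib.Helper76.exists_sum_pow_prime_pow p hp 1 Finset.univ f
    refine ⟨(r : ℂ), r.2, ?_⟩
    have hr' := congrArg (fun x : localSubring M => (x : ℂ)) hr
    simp only [pow_one] at hr'
    push_cast at hr'
    have hf : ∀ q, ((f q : localSubring M) : ℂ) = ab q := fun q => rfl
    simp only [hf] at hr'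
    rw [hab_sum, one_pow] at hr'
    linear_combination -hr'
  -- the test element
  have hp2 : 2 ≤ p := hp.two_le
  set c : G → ℂ := fun v => a v⁻¹ * ab ((v⁻¹ : G) : G ⧸ N) ^ (p - 2) with hcdef
  set z : MonoidAlgebra ℂ G := MonoidAlgebra.ofCoeff (Finsupp.equivFunOnFinite.symm c) with hzdef
  have hzc : ∀ v, z.coeff v = c v := fun v => rfl
  have hc_conj : ∀ g h : G, c (h * g * h⁻¹) = c g := by
    intro g h
    simp only [hcdef]
    have e1 : (h * g * h⁻¹)⁻¹ = h * g⁻¹ * h⁻¹ := by group
    rw [e1, ha_conj]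
    congr 2
    rw [QuotientGroup.mk_mul, QuotientGroup.mk_mul, QuotientGroup.mk_inv (N := N) h]
    exact cosetSum_conj N ha_conj h _
  have hzcenter : z ∈ Subalgebra.center ℂ (MonoidAlgebra ℂ G) :=
    mem_center_of_coeff_conj (fun g h => by rw [hzc, hzc, hc_conj])
  set Z : Subalgebra.center ℂ (MonoidAlgebra ℂ G) := ⟨z, hzcenter⟩ with hZdef
  have hZ : Z ∈ centerOrder G M := by
    intro v
    show MemLocalRing M (z.coeff v)
    rw [hzc]
    exact memLocalRing_mul (haR _) (memLocalRing_pow (habR _) _)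
  set W : Subalgebra.center ℂ (MonoidAlgebra ℂ G) := E * Z with hWdef
  have hW : W ∈ centerOrder G M := (centerOrder G M).mul_mem hE hZ
  set Y := resAlgC N W with hYdef
  have hY : Y ∈ centerOrder N M := resAlgC_mem_centerOrder N hW
  -- `ω_θ(Y) = 0`
  have h1 : omegaHom θ Y = 0 := by
    rw [omegaHom_apply]
    unfold omega
    have hz0 : ∑ n : N, (resAlg N (W : MonoidAlgebra ℂ G)).coeff n * (θ : N → ℂ) n = 0 := by
      simp_rw [coeff_resAlg]
      apply sum_coeff_mul_eq_zero_of_omega N W.2 θ
      intro χ hχ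
      have hχB : χ ∉ principalBlock M G := fun hmem => hχ (hcon χ hmem)
      have : omegaHom χ W = 0 := by rw [hWdef, map_mul, hE0 χ hχB, zero_mul]
      rwa [omegaHom_apply] at this
    exact (div_eq_zero_iff.mpr (Or.inl hz0))
  -- congruence between `θ` and the principal character of `N`
  have h2 := sameBlock_omegaHom_congr (χ := oneIrr N) (ψ := θ) hθ hY
  -- the value at the principal character
  have h3 : omegaHom (oneIrr N) Y = ∑ q : G ⧸ N, ab q ^ p := by
    rw [omegaHom_apply]
    unfold omega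
    simp only [oneIrr_apply, mul_one, div_one]
    have hWc : (Y : MonoidAlgebra ℂ N) = resAlg N ((E : MonoidAlgebra ℂ G) * z) := rfl
    rw [hWc]
    simp_rw [coeff_resAlg, coeff_mul_eq_sum_right]
    rw [Finset.sum_comm]
    have hinner : ∀ v : G, ∑ n : N, (E : MonoidAlgebra ℂ G).coeff ((n : G) * v⁻¹) * z.coeff v =
        ab ((v⁻¹ : G) : G ⧸ N) ^ (p - 1) * a v⁻¹ := by
      intro v
      rw [← Finset.sum_mul]
      have := sum_mul_eq_cosetSum N a v⁻¹
      simp only [hadef] at this
      rw [this, hzc]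
      simp only [hcdef]
      have hpp : p - 1 = (p - 2) + 1 := by omega
      rw [hpp, pow_succ]
      ring
    rw [Finset.sum_congr rfl (fun v _ => hinner v)]
    rw [← Equiv.sum_comp (Equiv.inv G)]
    simp only [Equiv.inv_apply, inv_inv]
    have := sum_cosetSum_mul N a (fun q => ab q ^ (p - 1))
    rw [← habdef] at this
    have hpp : ∀ q : G ⧸ N, ab q * ab q ^ (p - 1) = ab q ^ p := by
      intro q
      rw [← pow_succ']
      congr 1
      omega
    simp only [hpp] at this
    rw [this]
    refine Finset.sum_congr rfl fun y _ => ?_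
    ring
  rw [h1, h3, hr, sub_zero] at h2
  have hpI : MemLocalIdeal M ((p : ℂ) * r) :=
    memLocalIdeal_mul_right (memLocalIdeal_p hM) hrR
  have := memLocalIdeal_add h2 hpI
  rw [sub_add_cancel] at this
  exact one_not_memLocalIdeal this

end Main

end Cfsg.Agent.Lib.Helper75
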