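import Mathlib
import Cfsg.Prelude.Def_Characters
import Cfsg.Agent.Lib.Helper75.GoingDown
import Cfsg.Agent.Lib.Helper75.IndTrans
import Cfsg.Agent.S0857

/-!
# Relative M-groups (Isaacs 6.22) (helper75)

* `commutator_sup_lt`: `K'N < K` when `G/N` is solvable and `N < K`.
* `relative_mgroup`: if `G/N` is solvable and no chief factor of a subgroup above `N` has square
  order, every irreducible character of `G` is induced from a character of a subgroup containing
  `N` with irreducible restriction to `N` (strong induction on the group order, via going down).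
-/

set_option autoImplicit false
open Cfsg
open scoped ComplexConjugate

namespace Cfsg.Agent.Lib.Helper75

open Cfsg.Agent.Lib.Helper78

universe u

section GroupTheory

variable {G : Type u} [Group G]

/-- if `G/N` is solvable and `N < K`, then `K'N < K` -/
theorem commutator_sup_lt (N K : Subgroup G) [N.Normal] (hsolv : Group.IsSolvable (G ⧸ N))
    (hNK : N < K) : ⁅K, K⁆ ⊔ N < K := by
  have hle : ⁅K, K⁆ ⊔ N ≤ K := by
    apply sup_le _ hNK.le
    rw [Subgroup.commutator_le]
    intro a ha b hb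
    exact K.mul_mem (K.mul_mem (K.mul_mem ha hb) (K.inv_mem ha)) (K.inv_mem hb)
  refine lt_of_le_of_ne hle ?_
  intro heq
  have hne : K.map (QuotientGroup.mk' N) ≠ ⊥ := by
    intro h
    rw [Subgroup.map_eq_bot_iff, QuotientGroup.ker_mk'] at h
    exact absurd h (not_le_of_gt hNK)
  have := hsolv
  have h1 := Group.IsSolvable.commutator_lt_of_ne_bot hne
  have h2 : K.map (QuotientGroup.mk' N) = ⁅K.map (QuotientGroup.mk' N), K.map (QuotientGroup.mk' N)⁆ := by
    conv_lhs => rw [← heq]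
    rw [Subgroup.map_sup, Subgroup.map_commutator]
    have h3 : N.map (QuotientGroup.mk' N) = ⊥ := by
      rw [Subgroup.map_eq_bot_iff, QuotientGroup.ker_mk']
    rw [h3, sup_bot_eq]
  rw [← h2] at h1
  exact lt_irrefl _ h1

end GroupTheory

section RelM

/-- **Isaacs 6.22**: if `G/N` is solvable and no chief factor of a subgroup of `G` above `N` has
square order, then `G` is a relative M-group with respect to `N`. -/
theorem relative_mgroup : ∀ (n : ℕ) (G : Type u) [Group G] [Fintype G], Nat.card G = n →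
    ∀ (N : Subgroup G) [N.Normal] (_ : Group.IsSolvable (G ⧸ N))
    (_ : ∀ (H K L : Subgroup G), N ≤ L → L < K → K ≤ H →
      (∀ h ∈ H, ∀ k ∈ K, h * k * h⁻¹ ∈ K) → (∀ h ∈ H, ∀ l ∈ L, h * l * h⁻¹ ∈ L) →
      (∀ M : Subgroup G, L ≤ M → M ≤ K → (∀ h ∈ H, ∀ m ∈ M, h * m * h⁻¹ ∈ M) →
        M = L ∨ M = K) → ¬ IsSquare (L.relIndex K))
    (χ : G → ℂ) (_ : IsIrrCharacter G χ),
    ∃ (H : Subgroup G) (hNH : N ≤ H) (ψ : H → ℂ), IsIrrCharacter H ψ ∧ indFun H ψ = χ ∧
      IsIrrCharacter N (fun n : N => ψ ⟨(n : G), hNH n.2⟩) := by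
  intro n
  induction n using Nat.strong_induction_on with
  | _ n ih =>
  intro G _ _ hcard N _ hsolv hchief χ hχ
  classical
  have hχcl := IsCharacter.isClassFunction (IsIrrCharacter.isCharacter hχ)
  by_cases hirrN : IsIrrCharacter N (fun n : N => χ n)
  · refine ⟨⊤, le_top, fun h => χ h, ?_, indFun_top hχcl, hirrN⟩
    exact Cfsg.Agent.Lib.Helper81.isIrrCharacter_comp_mulEquiv hχ Subgroup.topEquiv
  -- a minimal normal subgroup `K ≥ N` with `χ_K` irreducible
  obtain ⟨K, ⟨hKn, hNK, hKirr⟩, hKmin⟩ := Set.Finite.exists_minimal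
    (Set.toFinite {K : Subgroup G | K.Normal ∧ N ≤ K ∧ IsIrrCharacter K (fun k : K => χ k)})
    ⟨⊤, Subgroup.normal_of_characteristic ⊤, le_top,
      Cfsg.Agent.Lib.Helper81.isIrrCharacter_comp_mulEquiv hχ Subgroup.topEquiv⟩
  have hNK' : N < K := by
    rcases eq_or_lt_of_le hNK with h | h
    · subst h
      exact absurd hKirr hirrN
    · exact h
  have hD := commutator_sup_lt N K hsolv hNK'
  have hDn : (⁅K, K⁆ ⊔ N).Normal := inferInstance
  -- a maximal normal subgroup `L` with `K'N ≤ L < K`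
  obtain ⟨L, ⟨hLn, hDL, hLK⟩, hLmax⟩ := Set.Finite.exists_maximal
    (Set.toFinite {L : Subgroup G | L.Normal ∧ ⁅K, K⁆ ⊔ N ≤ L ∧ L < K})
    ⟨⁅K, K⁆ ⊔ N, hDn, le_rfl, hD⟩
  have hNL : N ≤ L := le_sup_right.trans hDL
  have hab : ⁅K, K⁆ ≤ L := le_sup_left.trans hDL
  have hchiefKL : ∀ M : Subgroup G, M.Normal → L ≤ M → M ≤ K → M = L ∨ M = K := by
    intro M hMn hLM hMK
    rcases eq_or_lt_of_le hMK with h | h
    · right; exact h
    · left
      exact le_antisymm (hLmax ⟨hMn, hDL.trans hLM, h⟩ hLM) hLM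
  have hnsq : ¬ IsSquare (L.relIndex K) :=
    hchief ⊤ K L hNL hLK le_top (fun h _ k hk => hKn.conj_mem k hk h)
      (fun h _ l hl => hLn.conj_mem l hl h)
      (fun M hLM hMK hM => hchiefKL M ⟨fun m hm g => hM g (Subgroup.mem_top g) m hm⟩ hLM hMK)
  have hinvK : ∀ (g : G) (k : K), (fun k : K => χ k) ⟨g * k * g⁻¹, hKn.conj_mem (k : G) k.2 g⟩ =
      (fun k : K => χ k) k := by
    intro g k
    exact hχcl (k : G) g
  rcases Cfsg.Agent.S0857.result K L hLK hchiefKL hab (fun k : K => χ k) hKirr hinvK with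
    h | ⟨φ, e, -, -, he⟩ | ⟨F, hF, hFc, hFs⟩
  · -- contradiction with the minimality of `K`
    exfalso
    have h1 : K ≤ L := hKmin ⟨hLn, hNL, h⟩ hLK.le
    exact absurd h1 (not_le_of_gt hLK)
  · exfalso
    exact hnsq ⟨e, by rw [← he, sq]⟩
  -- the third case
  let _ : Fintype L := Fintype.ofFinite L
  have hFs' : (fun x : L => χ x) = ∑ φ ∈ F, φ := hFs
  have hcard2 : 1 < F.card := by
    rw [hFc]
    have h0 : L.relIndex K ≠ 0 :=
      (Subgroup.index_ne_zero_of_finite : (L.subgroupOf K).index ≠ 0)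
    have h1 : L.relIndex K ≠ 1 := by
      rw [Ne, Subgroup.relIndex_eq_one]
      exact not_le_of_gt hLK
    omega
  obtain ⟨φ₁, hφ₁F, φ₂, hφ₂F, hne⟩ := Finset.one_lt_card.mp hcard2
  have hφ₁ := hF φ₁ hφ₁F
  have hφ₂ := hF φ₂ hφ₂F
  have hconF : ∀ φ ∈ F, classInner (fun x : L => χ x) φ = 1 := by
    intro φ hφF
    rw [hFs', classInner_sum_left, Finset.sum_eq_single φ]
    · exact classInner_irr_self (hF φ hφF)
    · intro φ' hφ'F hne'
      exact classInner_irr_ne (hF φ' hφ'F) (hF φ hφF) hne'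
    · intro h
      exact absurd hφF h
  have hcon₁ : classInner (fun x : L => χ x) φ₁ ≠ 0 := by
    rw [hconF φ₁ hφ₁F]; exact one_ne_zero
  have hφ₁cl := IsCharacter.isClassFunction (IsIrrCharacter.isCharacter hφ₁)
  -- the inertia group is proper
  have hItop : inertia L φ₁ ≠ ⊤ := by
    intro htop
    have hinvφ : ∀ g : G, conjFun L g φ₁ = φ₁ := by
      intro g
      have : g ∈ inertia L φ₁ := by rw [htop]; exact Subgroup.mem_top g
      exact this
    obtain ⟨e, -, -, hres⟩ := res_eq_smul_of_invariant L hχ hφ₁ hcon₁ hinvφ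
    have h1 := hconF φ₂ hφ₂F
    rw [hres, classInner_smul_left, classInner_irr_ne hφ₁ hφ₂ hne, mul_zero] at h1
    exact zero_ne_one h1
  have hLI : L ≤ inertia L φ₁ := le_inertia L hφ₁cl
  let _ : Fintype (inertia L φ₁) := Fintype.ofFinite _
  obtain ⟨η, hη, hηind, -⟩ :=
    exists_indFun_eq_of_over L (inertia L φ₁) hLI hφ₁ (fun g => Iff.rfl) hχ hcon₁
  -- induction hypothesis for the inertia group
  have hcardI : Nat.card (inertia L φ₁) < n := by
    have h1 := (inertia L φ₁).card_mul_index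
    have h2 : (inertia L φ₁).index ≠ 1 := by
      rw [Ne, Subgroup.index_eq_one]; exact hItop
    have h3 : (inertia L φ₁).index ≠ 0 := Subgroup.index_ne_zero_of_finite
    rw [hcard] at h1
    have h4 : 2 ≤ (inertia L φ₁).index := by omega
    have h5 : 0 < Nat.card (inertia L φ₁) := Nat.card_pos
    nlinarith
  have hNI : N ≤ inertia L φ₁ := hNL.trans hLI
  have hsolvI : Group.IsSolvable (inertia L φ₁ ⧸ N.subgroupOf (inertia L φ₁)) := by
    let f : inertia L φ₁ ⧸ N.subgroupOf (inertia L φ₁) →* G ⧸ N :=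
      QuotientGroup.map (N.subgroupOf (inertia L φ₁)) N (inertia L φ₁).subtype (fun x hx => hx)
    have hf : Function.Injective f := by
      rw [injective_iff_map_eq_one]
      intro q
      induction q using QuotientGroup.induction_on with
      | H x =>
        intro hx
        have hx' : (((x : G) : G ⧸ N)) = 1 := hx
        rw [QuotientGroup.eq_one_iff] at hx'
        rw [QuotientGroup.eq_one_iff]
        exact hx'
    have := hsolv
    exact Group.isSolvable_of_isSolvable_injective hf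
  have hinjι : Function.Injective (inertia L φ₁).subtype := Subgroup.subtype_injective _
  have hchiefI : ∀ (H' K' L' : Subgroup (inertia L φ₁)), N.subgroupOf (inertia L φ₁) ≤ L' →
      L' < K' → K' ≤ H' → (∀ h ∈ H', ∀ k ∈ K', h * k * h⁻¹ ∈ K') →
      (∀ h ∈ H', ∀ l ∈ L', h * l * h⁻¹ ∈ L') →
      (∀ M : Subgroup (inertia L φ₁), L' ≤ M → M ≤ K' → (∀ h ∈ H', ∀ m ∈ M, h * m * h⁻¹ ∈ M) →
        M = L' ∨ M = K') → ¬ IsSquare (L'.relIndex K') := by
    intro H' K' L' hNL' hLK' hKH' hK' hL' hM'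
    rw [← Subgroup.relIndex_map_map_of_injective L' K' hinjι]
    apply hchief (H'.map (inertia L φ₁).subtype) (K'.map (inertia L φ₁).subtype)
      (L'.map (inertia L φ₁).subtype)
    · intro x hx
      exact ⟨⟨x, hNI hx⟩, hNL' (Subgroup.mem_subgroupOf.mpr hx), rfl⟩
    · exact Subgroup.map_subtype_lt_map_subtype.mpr hLK'
    · exact Subgroup.map_mono hKH'
    · rintro _ ⟨h, hh, rfl⟩ _ ⟨k, hk, rfl⟩
      exact ⟨h * k * h⁻¹, hK' h hh k hk, by simp⟩
    · rintro _ ⟨h, hh, rfl⟩ _ ⟨l, hl, rfl⟩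
      exact ⟨h * l * h⁻¹, hL' h hh l hl, by simp⟩
    · intro M hLM hMK hMH
      have hMI : M ≤ inertia L φ₁ := hMK.trans (Subgroup.map_subtype_le K')
      have h1 : L' ≤ M.subgroupOf (inertia L φ₁) := by
        intro l hl
        rw [Subgroup.mem_subgroupOf]
        exact hLM ⟨l, hl, rfl⟩
      have h2 : M.subgroupOf (inertia L φ₁) ≤ K' := by
        intro m hm
        rw [Subgroup.mem_subgroupOf] at hm
        obtain ⟨k, hk, hkm⟩ := hMK hm
        have : k = m := hinjι hkm
        rw [← this]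
        exact hk
      have h3 : ∀ h ∈ H', ∀ m ∈ M.subgroupOf (inertia L φ₁),
          h * m * h⁻¹ ∈ M.subgroupOf (inertia L φ₁) := by
        intro h hh m hm
        rw [Subgroup.mem_subgroupOf] at hm ⊢
        have := hMH (h : G) ⟨h, hh, rfl⟩ (m : G) hm
        simpa using this
      rcases hM' _ h1 h2 h3 with h4 | h4
      · left
        rw [← h4, Subgroup.map_subgroupOf_eq_of_le hMI]
      · right
        rw [← h4, Subgroup.map_subgroupOf_eq_of_le hMI]
  obtain ⟨H', hNH', ψ', hψ', hind', hirr'⟩ :=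
    ih (Nat.card (inertia L φ₁)) hcardI (inertia L φ₁) rfl (N.subgroupOf (inertia L φ₁))
      hsolvI hchiefI η hη
  -- transport back to `G`
  have hNH : N ≤ H'.map (inertia L φ₁).subtype := by
    intro x hx
    exact ⟨⟨x, hNI hx⟩, hNH' (Subgroup.mem_subgroupOf.mpr hx), rfl⟩
  refine ⟨H'.map (inertia L φ₁).subtype, hNH, mapFun (inertia L φ₁) H' ψ', ?_, ?_, ?_⟩
  · exact Cfsg.Agent.Lib.Helper81.isIrrCharacter_comp_mulEquiv hψ'
      (H'.equivMapOfInjective (inertia L φ₁).subtype hinjι).symm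
  · rw [← indFun_indFun, hind', hηind]
  · have heq : (fun n : N => mapFun (inertia L φ₁) H' ψ' ⟨(n : G), hNH n.2⟩) =
        (fun m : N.subgroupOf (inertia L φ₁) => ψ' ⟨m, hNH' m.2⟩) ∘
          (Subgroup.subgroupOfEquivOfLe hNI).symm := by
      funext x
      unfold mapFun
      simp only [Function.comp_apply]
      congr 1
      rw [MulEquiv.symm_apply_eq]
      apply Subtype.ext
      rfl
    rw [heq]
    exact Cfsg.Agent.Lib.Helper81.isIrrCharacter_comp_mulEquiv hirr'
      (Subgroup.subgroupOfEquivOfLe hNI).symm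

end RelM

end Cfsg.Agent.Lib.Helper75
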