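import Mathlib

/-!
# Groups with a self-centralizing element of prime order

Throughout: `G` finite group, `x : G` with `orderOf x = p` prime and
`Subgroup.centralizer {x} = Subgroup.zpowers x`.
-/

set_option autoImplicit false

namespace Cfsg.Agent.Lib.Helper75

open Subgroup

section Basic

variable {G : Type*} [Group G]

/-- an element commuting with `x` lies in `⟨x⟩` -/
theorem sc_mem_zpowers_of_commute {x : G}
    (hC : Subgroup.centralizer ({x} : Set G) = Subgroup.zpowers x) {y : G}
    (h : x * y = y * x) : y ∈ Subgroup.zpowers x := by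
  rw [← hC, Subgroup.mem_centralizer_iff]
  intro z hz
  rw [Set.mem_singleton_iff] at hz
  subst hz
  exact h

/-- injectivity of `u ↦ u x u⁻¹` on a subgroup meeting `⟨x⟩` trivially -/
theorem sc_conj_inj {x : G}
    (hC : Subgroup.centralizer ({x} : Set G) = Subgroup.zpowers x) (S : Subgroup G)
    (hS : S ⊓ Subgroup.zpowers x = ⊥) {u v : G} (hu : u ∈ S) (hv : v ∈ S)
    (h : u * x * u⁻¹ = v * x * v⁻¹) : u = v := by
  have h1 : x * (u⁻¹ * v) = (u⁻¹ * v) * x := by
    have : u⁻¹ * (u * x * u⁻¹) * v = u⁻¹ * (v * x * v⁻¹) * v := by rw [h]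
    simp only [mul_assoc, inv_mul_cancel_left, inv_mul_cancel, mul_one] at this
    rw [mul_assoc]; exact this
  have h2 : u⁻¹ * v ∈ S ⊓ Subgroup.zpowers x :=
    ⟨S.mul_mem (S.inv_mem hu) hv, sc_mem_zpowers_of_commute hC h1⟩
  rw [hS, Subgroup.mem_bot] at h2
  exact (inv_mul_eq_one.mp h2)

/-- surjectivity of `u ↦ [u, x]` on a finite normal subgroup meeting `⟨x⟩` trivially -/
theorem sc_comm_surj [Finite G] {x : G}
    (hC : Subgroup.centralizer ({x} : Set G) = Subgroup.zpowers x) (S : Subgroup G) [S.Normal]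
    (hS : S ⊓ Subgroup.zpowers x = ⊥) {s : G} (hs : s ∈ S) :
    ∃ u ∈ S, u * x * u⁻¹ * x⁻¹ = s := by
  let f : S → S := fun u => ⟨u * x * u⁻¹ * x⁻¹, by
    have h1 : x * (u : G)⁻¹ * x⁻¹ ∈ S := Subgroup.Normal.conj_mem inferInstance _ (S.inv_mem u.2) x
    have h2 := S.mul_mem u.2 h1
    simpa [mul_assoc] using h2⟩
  have hf : Function.Injective f := by
    intro u v huv
    have h1 : (u : G) * x * (u : G)⁻¹ * x⁻¹ = (v : G) * x * (v : G)⁻¹ * x⁻¹ :=
      congrArg Subtype.val huv
    have h2 : (u : G) * x * (u : G)⁻¹ = (v : G) * x * (v : G)⁻¹ := mul_right_cancel h1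
    exact Subtype.ext (sc_conj_inj hC S hS u.2 v.2 h2)
  have hsurj : Function.Surjective f := Finite.surjective_of_injective hf
  obtain ⟨u, hu⟩ := hsurj ⟨s, hs⟩
  exact ⟨u, u.2, congrArg Subtype.val hu⟩

/-- a finite normal subgroup meeting `⟨x⟩` trivially lies in the commutator subgroup -/
theorem sc_le_commutator [Finite G] {x : G}
    (hC : Subgroup.centralizer ({x} : Set G) = Subgroup.zpowers x) (S : Subgroup G) [S.Normal]
    (hS : S ⊓ Subgroup.zpowers x = ⊥) : S ≤ commutator G := by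
  intro s hs
  obtain ⟨u, _, hu⟩ := sc_comm_surj hC S hS hs
  rw [← hu, commutator_def]
  exact Subgroup.commutator_mem_commutator (Subgroup.mem_top u) (Subgroup.mem_top x)

/-- a subgroup of order prime to `p` meets `⟨x⟩` trivially -/
theorem sc_inf_zpowers_eq_bot [Finite G] {p : ℕ} (hp : p.Prime) {x : G} (hx : orderOf x = p)
    (S : Subgroup G) (hS : ¬ p ∣ Nat.card S) : S ⊓ Subgroup.zpowers x = ⊥ := by
  have h1 : Nat.card (S ⊓ Subgroup.zpowers x : Subgroup G) ∣ Nat.card S :=
    Subgroup.card_dvd_of_le inf_le_left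
  have h2 : Nat.card (S ⊓ Subgroup.zpowers x : Subgroup G) ∣ p := by
    have := Subgroup.card_dvd_of_le (inf_le_right : S ⊓ Subgroup.zpowers x ≤ Subgroup.zpowers x)
    rwa [Nat.card_zpowers, hx] at this
  rcases (Nat.dvd_prime hp).mp h2 with h | h
  · exact Subgroup.card_eq_one.mp h
  · exact absurd (h ▸ h1) hS

end Basic

section SylowPart

variable {G : Type*} [Group G] [Finite G]

/-- In a group of prime order `p = orderOf x`, a nontrivial element of `⟨x⟩` generates `⟨x⟩`. -/
theorem sc_mem_zpowers_of_mem_of_ne_one {p : ℕ} (hp : p.Prime) {x : G} (hx : orderOf x = p)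
    {z : G} (hz : z ∈ Subgroup.zpowers x) (hz1 : z ≠ 1) : x ∈ Subgroup.zpowers z := by
  have hle : Subgroup.zpowers z ≤ Subgroup.zpowers x := Subgroup.zpowers_le.mpr hz
  have hcard : Nat.card (Subgroup.zpowers z) ∣ p := by
    have := Subgroup.card_dvd_of_le hle
    rwa [Nat.card_zpowers x, hx] at this
  have hne : Nat.card (Subgroup.zpowers z) ≠ 1 := by
    rw [Nat.card_zpowers]
    intro h
    exact hz1 (orderOf_eq_one_iff.mp h)
  have hcard' : Nat.card (Subgroup.zpowers z) = p :=
    ((Nat.dvd_prime hp).mp hcard).resolve_left hne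
  have heq : Subgroup.zpowers z = Subgroup.zpowers x := by
    apply Subgroup.eq_of_le_of_card_ge hle
    rw [hcard', Nat.card_zpowers, hx]
  rw [heq]
  exact Subgroup.mem_zpowers x

/-- `⟨x⟩` is a Sylow `p`-subgroup. -/
theorem sc_sylow {p : ℕ} [hp : Fact p.Prime] {x : G} (hx : orderOf x = p)
    (hC : Subgroup.centralizer ({x} : Set G) = Subgroup.zpowers x) :
    ∃ P : Sylow p G, (P : Subgroup G) = Subgroup.zpowers x := by
  have hpg : IsPGroup p (Subgroup.zpowers x) := by
    apply IsPGroup.of_card (n := 1)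
    rw [Nat.card_zpowers, hx, pow_one]
  obtain ⟨P, hP⟩ := hpg.exists_le_sylow
  refine ⟨P, le_antisymm ?_ hP⟩
  have hxP : x ∈ (P : Subgroup G) := hP (Subgroup.mem_zpowers x)
  have hx1 : x ≠ 1 := by
    intro h
    rw [h, orderOf_one] at hx
    exact hp.out.one_lt.ne hx
  have : Nontrivial P := ⟨⟨⟨x, hxP⟩, 1, fun h => hx1 (congrArg Subtype.val h)⟩⟩
  have := (P.2 : IsPGroup p P).center_nontrivial
  obtain ⟨z, hz⟩ := exists_ne (1 : Subgroup.center P)
  have hzx : (z : P) * ⟨x, hxP⟩ = ⟨x, hxP⟩ * z := (Subgroup.mem_center_iff.mp z.2 ⟨x, hxP⟩).symm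
  have hzx' : x * ((z : P) : G) = ((z : P) : G) * x := (congrArg Subtype.val hzx).symm
  have hzmem : ((z : P) : G) ∈ Subgroup.zpowers x := sc_mem_zpowers_of_commute hC hzx'
  have hz1 : ((z : P) : G) ≠ 1 := by
    intro h
    apply hz
    apply Subtype.ext
    apply Subtype.ext
    exact h
  have hxz : x ∈ Subgroup.zpowers ((z : P) : G) :=
    sc_mem_zpowers_of_mem_of_ne_one hp.out hx hzmem hz1
  intro g hg
  apply sc_mem_zpowers_of_commute hC
  have hgz : (⟨g, hg⟩ : P) * (z : P) = (z : P) * ⟨g, hg⟩ := Subgroup.mem_center_iff.mp z.2 ⟨g, hg⟩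
  have hgz' : g * ((z : P) : G) = ((z : P) : G) * g := congrArg Subtype.val hgz
  obtain ⟨k, hk⟩ := Subgroup.mem_zpowers_iff.mp hxz
  rw [← hk]
  exact ((Commute.zpow_left (show Commute ((z : P) : G) g from hgz'.symm) k)).eq

/-- The `p`-part of the group order is exactly `p`. -/
theorem sc_factorization {p : ℕ} [hp : Fact p.Prime] {x : G} (hx : orderOf x = p)
    (hC : Subgroup.centralizer ({x} : Set G) = Subgroup.zpowers x) :
    (Nat.card G).factorization p = 1 := by
  obtain ⟨P, hP⟩ := sc_sylow hx hC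
  have h1 := P.card_eq_multiplicity
  have h2 : Nat.card (P : Subgroup G) = p := by rw [hP, Nat.card_zpowers, hx]
  have h3 : p ^ (Nat.card G).factorization p = p ^ 1 := by rw [pow_one, ← h1]; exact h2
  exact Nat.pow_right_injective hp.out.two_le h3

theorem sc_sq_not_dvd {p : ℕ} [hp : Fact p.Prime] {x : G} (hx : orderOf x = p)
    (hC : Subgroup.centralizer ({x} : Set G) = Subgroup.zpowers x) :
    ¬ p ^ 2 ∣ Nat.card G := by
  intro h
  have := (hp.out.pow_dvd_iff_le_factorization Nat.card_pos.ne').mp h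
  rw [sc_factorization hx hC] at this
  omega

/-- every Sylow `p`-subgroup has order `p` -/
theorem sc_card_sylow {p : ℕ} [hp : Fact p.Prime] {x : G} (hx : orderOf x = p)
    (hC : Subgroup.centralizer ({x} : Set G) = Subgroup.zpowers x) (Q : Sylow p G) :
    Nat.card Q = p := by
  rw [Q.card_eq_multiplicity, sc_factorization hx hC, pow_one]

/-- a normal subgroup of order divisible by `p` contains `x` -/
theorem sc_mem_of_dvd_card {p : ℕ} [hp : Fact p.Prime] {x : G} (hx : orderOf x = p)
    (hC : Subgroup.centralizer ({x} : Set G) = Subgroup.zpowers x) (S : Subgroup G) [hSn : S.Normal]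
    (hS : p ∣ Nat.card S) : x ∈ S := by
  obtain ⟨P, hP⟩ := sc_sylow hx hC
  obtain ⟨y, hy⟩ := exists_prime_orderOf_dvd_card' (G := S) p hS
  have hy' : orderOf (y : G) = p := by rw [Subgroup.orderOf_coe]; exact hy
  have hpg : IsPGroup p (Subgroup.zpowers (y : G)) := by
    apply IsPGroup.of_card (n := 1)
    rw [Nat.card_zpowers, hy', pow_one]
  obtain ⟨Q, hQ⟩ := hpg.exists_le_sylow
  obtain ⟨g, hg⟩ := MulAction.exists_smul_eq G P Q
  have hyQ : (y : G) ∈ (Q : Subgroup G) := hQ (Subgroup.mem_zpowers _)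
  rw [← hg, Sylow.coe_subgroup_smul, hP] at hyQ
  obtain ⟨z, hz, hzy⟩ := hyQ
  -- hzy : MulAut.conj g z = y
  have hzy' : g * z * g⁻¹ = (y : G) := by simpa [MulAut.conj_apply] using hzy
  have hzS : z ∈ S := by
    have : z = g⁻¹ * (y : G) * g⁻¹⁻¹ := by rw [← hzy']; group
    rw [this]
    exact hSn.conj_mem _ y.2 _
  have hz1 : z ≠ 1 := by
    intro h
    rw [h] at hzy'
    have : (y : G) = 1 := by rw [← hzy']; group
    rw [this, orderOf_one] at hy'
    exact hp.out.one_lt.ne hy'
  have hxz := sc_mem_zpowers_of_mem_of_ne_one hp.out hx hz hz1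
  exact (Subgroup.zpowers_le.mpr hzS) hxz

end SylowPart

section NormalizerPart

variable {G : Type*} [Group G]

/-- the normalizer of `⟨x⟩` -/
abbrev scN (x : G) : Subgroup G := Subgroup.normalizer (Subgroup.zpowers x : Set G)

/-- the index `e = |N_G(⟨x⟩) : ⟨x⟩|` -/
noncomputable def scE (x : G) : ℕ := (Subgroup.zpowers x).relIndex (scN x)

theorem sc_zpowers_le_scN (x : G) : Subgroup.zpowers x ≤ scN x := Subgroup.le_normalizer

theorem sc_centralizer_zpowers (x : G) :
    Subgroup.centralizer (Subgroup.zpowers x : Set G) = Subgroup.centralizer ({x} : Set G) := by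
  apply le_antisymm
  · apply Subgroup.centralizer_le
    intro y hy
    rw [Set.mem_singleton_iff] at hy
    subst hy
    exact Subgroup.mem_zpowers y
  · intro g hg
    rw [Subgroup.mem_centralizer_iff] at hg ⊢
    intro h hh
    have h1 : x * g = g * x := hg x rfl
    obtain ⟨k, rfl⟩ := Subgroup.mem_zpowers_iff.mp hh
    exact (Commute.zpow_left (show Commute x g from h1) k).eq

/-- `MulAut` of a cyclic group is commutative -/
theorem sc_mulAut_comm {H : Type*} [Group H] [IsCyclic H] (a b : MulAut H) : a * b = b * a := by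
  apply (IsCyclic.mulAutMulEquiv H).injective
  rw [map_mul, map_mul, mul_comm]

/-- commutators of elements of `N_G(⟨x⟩)` lie in `⟨x⟩` -/
theorem sc_commutator_mem {x : G}
    (hC : Subgroup.centralizer ({x} : Set G) = Subgroup.zpowers x) {n m : G}
    (hn : n ∈ scN x) (hm : m ∈ scN x) : n * m * n⁻¹ * m⁻¹ ∈ Subgroup.zpowers x := by
  let φ := (Subgroup.zpowers x).normalizerMonoidHom
  let n' : scN x := ⟨n, hn⟩
  let m' : scN x := ⟨m, hm⟩
  have h1 : φ (n' * m' * n'⁻¹ * m'⁻¹) = 1 := by
    rw [map_mul, map_mul, map_mul, map_inv, map_inv, sc_mulAut_comm (φ n') (φ m')]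
    group
  have h2 : (n' * m' * n'⁻¹ * m'⁻¹) ∈ φ.ker := h1
  rw [Subgroup.normalizerMonoidHom_ker, Subgroup.mem_subgroupOf, sc_centralizer_zpowers, hC] at h2
  exact h2

theorem scE_mul_card (x : G) : scE x * orderOf x = Nat.card (scN x) := by
  unfold scE
  rw [← Nat.card_zpowers x]
  have h := Subgroup.relIndex_mul_relIndex ⊥ (Subgroup.zpowers x) (scN x) bot_le
    (sc_zpowers_le_scN x)
  rw [Subgroup.relIndex_bot_left, Subgroup.relIndex_bot_left] at h
  rw [mul_comm]; exact h

variable [Finite G]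

theorem scE_pos (x : G) : 0 < scE x := by
  unfold scE
  have : (Subgroup.zpowers x).relIndex (scN x) ≠ 0 := by
    unfold Subgroup.relIndex
    exact Subgroup.index_ne_zero_of_finite
  omega

/-- `e` divides `p - 1` -/
theorem scE_dvd {p : ℕ} (hp : p.Prime) {x : G} (hx : orderOf x = p)
    (hC : Subgroup.centralizer ({x} : Set G) = Subgroup.zpowers x) : scE x ∣ p - 1 := by
  have key := Subgroup.card_dvd_of_injective _
    (QuotientGroup.kerLift_injective (Subgroup.zpowers x).normalizerMonoidHom)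
  rw [Subgroup.normalizerMonoidHom_ker, sc_centralizer_zpowers, hC, ← Subgroup.index,
    ← Subgroup.relIndex] at key
  have h2 : Nat.card (MulAut (Subgroup.zpowers x)) = p - 1 := by
    rw [IsCyclic.card_mulAut, Nat.card_zpowers, hx, Nat.totient_prime hp]
  rw [h2] at key
  exact key

end NormalizerPart

section Counting

variable {G : Type*} [Group G] [Finite G]

theorem sc_card_subtype_ne {α : Type*} [Finite α] (a : α) :
    Nat.card {y : α // y ≠ a} = Nat.card α - 1 := by
  classical
  have := Fintype.ofFinite α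
  rw [Nat.card_eq_fintype_card, Nat.card_eq_fintype_card, Fintype.card_subtype_compl,
    Fintype.card_subtype_eq]

omit [Finite G] in
/-- nontrivial elements of `⟨x⟩` have order `p` -/
theorem sc_orderOf_of_mem {p : ℕ} (hp : p.Prime) {x : G} (hx : orderOf x = p)
    {y : G} (hy : y ∈ Subgroup.zpowers x) (hy1 : y ≠ 1) : orderOf y = p := by
  have h1 : orderOf y ∣ p := hx ▸ orderOf_dvd_of_mem_zpowers hy
  rcases (Nat.dvd_prime hp).mp h1 with h | h
  · exact absurd (orderOf_eq_one_iff.mp h) hy1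
  · exact h

/-- every element of order `p` is conjugate to a nontrivial element of `⟨x⟩` -/
theorem sc_exists_conj_of_order {p : ℕ} [hp : Fact p.Prime] {x : G} (hx : orderOf x = p)
    (hC : Subgroup.centralizer ({x} : Set G) = Subgroup.zpowers x) {g : G} (hg : orderOf g = p) :
    ∃ h z : G, z ∈ Subgroup.zpowers x ∧ z ≠ 1 ∧ h * z * h⁻¹ = g := by
  obtain ⟨P, hP⟩ := sc_sylow hx hC
  have hpg : IsPGroup p (Subgroup.zpowers g) := by
    apply IsPGroup.of_card (n := 1)
    rw [Nat.card_zpowers, hg, pow_one]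
  obtain ⟨Q, hQ⟩ := hpg.exists_le_sylow
  obtain ⟨h, hh⟩ := MulAction.exists_smul_eq G P Q
  have hgQ : g ∈ (Q : Subgroup G) := hQ (Subgroup.mem_zpowers _)
  rw [← hh, Sylow.coe_subgroup_smul, hP] at hgQ
  obtain ⟨z, hz, hzg⟩ := hgQ
  have hzg' : h * z * h⁻¹ = g := by simpa [MulAut.conj_apply] using hzg
  refine ⟨h, z, hz, ?_, hzg'⟩
  intro h1
  rw [h1] at hzg'
  have : g = 1 := by rw [← hzg']; group
  rw [this, orderOf_one] at hg
  exact hp.out.one_lt.ne hg

/-- an element conjugating a nontrivial element of `⟨x⟩` into `⟨x⟩` normalizes `⟨x⟩` -/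
theorem sc_mem_scN_of_conj {p : ℕ} (hp : p.Prime) {x : G} (hx : orderOf x = p)
    {y y' g : G} (hy : y ∈ Subgroup.zpowers x) (hy1 : y ≠ 1) (hy' : y' ∈ Subgroup.zpowers x)
    (hg : g * y * g⁻¹ = y') : g ∈ scN x := by
  have hy'1 : y' ≠ 1 := by
    intro h
    rw [h] at hg
    apply hy1
    have : y = g⁻¹ * (g * y * g⁻¹) * g := by group
    rw [this, hg]; group
  have hxy : x ∈ Subgroup.zpowers y := sc_mem_zpowers_of_mem_of_ne_one hp hx hy hy1
  have hxy' : x ∈ Subgroup.zpowers y' := sc_mem_zpowers_of_mem_of_ne_one hp hx hy' hy'1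
  have hpow : ∀ k : ℤ, g * y ^ k * g⁻¹ = y' ^ k := by
    intro k
    rw [← hg]
    simp [conj_zpow]
  rw [Subgroup.mem_normalizer_iff]
  intro w
  constructor
  · intro hw
    have hw' : w ∈ Subgroup.zpowers y := (Subgroup.zpowers_le.mpr hxy) hw
    obtain ⟨k, rfl⟩ := Subgroup.mem_zpowers_iff.mp hw'
    rw [hpow k]
    exact Subgroup.zpow_mem _ hy' k
  · intro hw
    have hw' : g * w * g⁻¹ ∈ Subgroup.zpowers y' := (Subgroup.zpowers_le.mpr hxy') hw
    obtain ⟨k, hk⟩ := Subgroup.mem_zpowers_iff.mp hw'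
    rw [← hpow k] at hk
    have : w = y ^ k := by
      have h1 : g⁻¹ * (g * y ^ k * g⁻¹) * g = g⁻¹ * (g * w * g⁻¹) * g := by rw [hk]
      have h2 : g⁻¹ * (g * y ^ k * g⁻¹) * g = y ^ k := by group
      have h3 : g⁻¹ * (g * w * g⁻¹) * g = w := by group
      rw [h2, h3] at h1
      exact h1.symm
    rw [this]
    exact Subgroup.zpow_mem _ hy k

/-- the orbit of a nontrivial element of `⟨x⟩` under `N_G(⟨x⟩)` has `e` elements -/
theorem sc_ncard_orbit {p : ℕ} (hp : p.Prime) {x : G} (hx : orderOf x = p)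
    (hC : Subgroup.centralizer ({x} : Set G) = Subgroup.zpowers x)
    (y : Subgroup.zpowers x) (hy1 : y ≠ 1) :
    (MulAction.orbit (scN x) y).ncard = scE x := by
  rw [← MulAction.index_stabilizer]
  have hstab : MulAction.stabilizer (scN x) y = (Subgroup.zpowers x).subgroupOf (scN x) := by
    ext n
    rw [MulAction.mem_stabilizer_iff, Subgroup.mem_subgroupOf]
    have hy1' : (y : G) ≠ 1 := fun h => hy1 (Subtype.ext h)
    have hxy : x ∈ Subgroup.zpowers (y : G) := sc_mem_zpowers_of_mem_of_ne_one hp hx y.2 hy1'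
    constructor
    · intro h
      have h1 : (n : G) * (y : G) * (n : G)⁻¹ = (y : G) := congrArg Subtype.val h
      have h2 : Commute (y : G) (n : G) := by
        have : (n : G) * (y : G) = (y : G) * (n : G) := by
          have := congrArg (· * (n : G)) h1
          simpa [mul_assoc] using this
        exact this.symm
      apply sc_mem_zpowers_of_commute hC
      obtain ⟨k, hk⟩ := Subgroup.mem_zpowers_iff.mp hxy
      have h3 : Commute ((y : G) ^ k) (n : G) := Commute.zpow_left h2 k
      rw [hk] at h3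
      exact h3.eq
    · intro h
      apply Subtype.ext
      change (n : G) * (y : G) * (n : G)⁻¹ = (y : G)
      obtain ⟨k, hk⟩ := Subgroup.mem_zpowers_iff.mp h
      obtain ⟨j, hj⟩ := Subgroup.mem_zpowers_iff.mp y.2
      rw [← hk, ← hj]
      have : Commute (x ^ k) (x ^ j) := (Commute.refl x).zpow_zpow k j
      rw [this.eq]; group
  rw [hstab]
  rfl

/-- the number `t` of classes of elements of order `p` satisfies `t * e = p - 1` -/
theorem sc_card_classes_mul {p : ℕ} [hp : Fact p.Prime] {x : G} (hx : orderOf x = p)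
    (hC : Subgroup.centralizer ({x} : Set G) = Subgroup.zpowers x) :
    Nat.card {C : ConjClasses G // ∃ g ∈ C.carrier, orderOf g = p} * scE x = p - 1 := by
  classical
  let A := {y : Subgroup.zpowers x // y ≠ 1}
  let T := {C : ConjClasses G // ∃ g ∈ C.carrier, orderOf g = p}
  have hA : ∀ y : A, orderOf ((y : Subgroup.zpowers x) : G) = p := fun y =>
    sc_orderOf_of_mem hp.out hx y.1.2 (fun h => y.2 (Subtype.ext h))
  let f : A → T := fun y => ⟨ConjClasses.mk ((y : Subgroup.zpowers x) : G),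
    ((y : Subgroup.zpowers x) : G), ConjClasses.mem_carrier_mk, hA y⟩
  have hcardA : Nat.card A = p - 1 := by
    rw [sc_card_subtype_ne, Nat.card_zpowers, hx]
  have hfsurj : Function.Surjective f := by
    rintro ⟨C, g, hgC, hg⟩
    obtain ⟨h, z, hz, hz1, hzg⟩ := sc_exists_conj_of_order hx hC hg
    refine ⟨⟨⟨z, hz⟩, fun h => hz1 (congrArg Subtype.val h)⟩, ?_⟩
    apply Subtype.ext
    change ConjClasses.mk z = C
    rw [← ConjClasses.mem_carrier_iff_mk_eq.mp hgC, ConjClasses.mk_eq_mk_iff_isConj, isConj_iff]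
    exact ⟨h, hzg⟩
  have hfiber : ∀ c : T, Nat.card {y : A // f y = c} = scE x := by
    intro c
    obtain ⟨y₀, rfl⟩ := hfsurj c
    rw [← sc_ncard_orbit hp.out hx hC y₀.1 y₀.2, ← Nat.card_coe_set_eq]
    let φ : {y : A // f y = f y₀} → MulAction.orbit (scN x) (y₀ : Subgroup.zpowers x) :=
      fun y => ⟨y.1.1, by
        have h1 : ConjClasses.mk ((y.1.1 : Subgroup.zpowers x) : G) =
            ConjClasses.mk ((y₀.1 : Subgroup.zpowers x) : G) := congrArg Subtype.val y.2
        rw [ConjClasses.mk_eq_mk_iff_isConj, isConj_comm, isConj_iff] at h1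
        obtain ⟨g, hg⟩ := h1
        have hgN : g ∈ scN x := sc_mem_scN_of_conj hp.out hx y₀.1.2
          (fun h => y₀.2 (Subtype.ext h)) y.1.1.2 hg
        exact ⟨⟨g, hgN⟩, Subtype.ext hg⟩⟩
    apply Nat.card_eq_of_bijective φ
    constructor
    · intro y y' h
      apply Subtype.ext
      apply Subtype.ext
      have h' : (φ y).1 = (φ y').1 := congrArg Subtype.val h
      exact h'
    · rintro ⟨w, n, hn⟩
      have hw1 : w ≠ 1 := by
        intro h
        rw [h] at hn
        apply y₀.2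
        have : (n : G) * ((y₀.1 : Subgroup.zpowers x) : G) * (n : G)⁻¹ = 1 :=
          congrArg Subtype.val hn
        apply Subtype.ext
        have h2 : ((y₀.1 : Subgroup.zpowers x) : G) =
          (n : G)⁻¹ * ((n : G) * ((y₀.1 : Subgroup.zpowers x) : G) * (n : G)⁻¹) * (n : G) := by
          group
        rw [h2, this]; simp
      refine ⟨⟨⟨w, hw1⟩, ?_⟩, rfl⟩
      apply Subtype.ext
      change ConjClasses.mk (w : G) = ConjClasses.mk ((y₀.1 : Subgroup.zpowers x) : G)
      rw [ConjClasses.mk_eq_mk_iff_isConj, isConj_comm, isConj_iff]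
      exact ⟨n, congrArg Subtype.val hn⟩
  have := Fintype.ofFinite T
  have hsigma : Nat.card A = ∑ c : T, Nat.card {y : A // f y = c} := by
    rw [← Nat.card_sigma]
    exact Nat.card_congr (Equiv.sigmaFiberEquiv f).symm
  rw [← hcardA, hsigma]
  simp only [hfiber, Finset.sum_const, Finset.card_univ, smul_eq_mul, Nat.card_eq_fintype_card]
  rfl

end Counting

section NormalSubgroups

variable {G : Type*} [Group G] [Finite G]

/-- Frattini: a normal subgroup containing `x` supplements `N_G(⟨x⟩)` -/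
theorem sc_sup_eq_top {p : ℕ} [hp : Fact p.Prime] {x : G} (hx : orderOf x = p)
    (hC : Subgroup.centralizer ({x} : Set G) = Subgroup.zpowers x) (S : Subgroup G) [S.Normal]
    (hxS : x ∈ S) : scN x ⊔ S = ⊤ := by
  obtain ⟨P, hP⟩ := sc_sylow hx hC
  have hPS : (P : Subgroup G) ≤ S := by
    rw [hP]; exact Subgroup.zpowers_le.mpr hxS
  have := Sylow.normalizer_sup_eq_top' P hPS
  change Subgroup.normalizer ((P : Subgroup G) : Set G) ⊔ S = ⊤ at this
  rw [hP] at this
  exact this

/-- a normal subgroup containing `x` contains the commutator subgroup -/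
theorem sc_commutator_le_of_mem {p : ℕ} [hp : Fact p.Prime] {x : G} (hx : orderOf x = p)
    (hC : Subgroup.centralizer ({x} : Set G) = Subgroup.zpowers x) (S : Subgroup G) [hSn : S.Normal]
    (hxS : x ∈ S) : commutator G ≤ S := by
  have htop := sc_sup_eq_top hx hC S hxS
  have hdecomp : ∀ g : G, ∃ n ∈ scN x, ∃ s ∈ S, g = n * s := by
    intro g
    have hg : g ∈ scN x ⊔ S := by rw [htop]; exact Subgroup.mem_top g
    obtain ⟨n, hn, s, hs, hns⟩ := Subgroup.mem_sup_of_normal_right.mp hg
    exact ⟨n, hn, s, hs, hns.symm⟩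
  rw [_root_.commutator_def, Subgroup.commutator_le]
  intro g₁ _ g₂ _
  obtain ⟨n₁, hn₁, s₁, hs₁, rfl⟩ := hdecomp g₁
  obtain ⟨n₂, hn₂, s₂, hs₂, rfl⟩ := hdecomp g₂
  rw [← QuotientGroup.eq_one_iff, commutatorElement_def]
  have h1 : ((s₁ : G) : G ⧸ S) = 1 := (QuotientGroup.eq_one_iff _).mpr hs₁
  have h2 : ((s₂ : G) : G ⧸ S) = 1 := (QuotientGroup.eq_one_iff _).mpr hs₂
  have h3 : ((n₁ * n₂ * n₁⁻¹ * n₂⁻¹ : G) : G ⧸ S) = 1 :=
    (QuotientGroup.eq_one_iff _).mpr
      ((Subgroup.zpowers_le.mpr hxS) (sc_commutator_mem hC hn₁ hn₂))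
  simp only [QuotientGroup.mk_mul, QuotientGroup.mk_inv, h1, h2, mul_one] at h3 ⊢
  exact h3

/-- the index of a normal subgroup containing `x` divides `e` -/
theorem sc_index_dvd_of_mem {p : ℕ} [hp : Fact p.Prime] {x : G} (hx : orderOf x = p)
    (hC : Subgroup.centralizer ({x} : Set G) = Subgroup.zpowers x) (S : Subgroup G) [hSn : S.Normal]
    (hxS : x ∈ S) : S.index ∣ scE x := by
  have htop := sc_sup_eq_top hx hC S hxS
  have h1 : S.relIndex (scN x ⊔ S) = S.relIndex (scN x) := Subgroup.relIndex_sup_right _ _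
  rw [htop, Subgroup.relIndex_top_right] at h1
  rw [h1]
  exact Subgroup.relIndex_dvd_of_le_left (scN x) (Subgroup.zpowers_le.mpr hxS)

/-- a normal `p'`-subgroup meets `N_G(⟨x⟩)` trivially -/
theorem sc_inf_scN_eq_bot {p : ℕ} (hp : p.Prime) {x : G} (hx : orderOf x = p)
    (hC : Subgroup.centralizer ({x} : Set G) = Subgroup.zpowers x) (K : Subgroup G) [hKn : K.Normal]
    (hK : ¬ p ∣ Nat.card K) : K ⊓ scN x = ⊥ := by
  have hKx := sc_inf_zpowers_eq_bot hp hx K hK
  rw [eq_bot_iff]
  rintro n ⟨hnK, hnN⟩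
  rw [Subgroup.mem_bot]
  have h1 : n * x * n⁻¹ * x⁻¹ ∈ K := by
    have : x * n⁻¹ * x⁻¹ ∈ K := hKn.conj_mem _ (K.inv_mem hnK) x
    have h2 := K.mul_mem hnK this
    simpa [mul_assoc] using h2
  have h2 : n * x * n⁻¹ * x⁻¹ ∈ Subgroup.zpowers x := by
    have : n * x * n⁻¹ ∈ Subgroup.zpowers x :=
      ((Subgroup.mem_normalizer_iff.mp hnN) x).mp (Subgroup.mem_zpowers x)
    exact (Subgroup.zpowers x).mul_mem this ((Subgroup.zpowers x).inv_mem (Subgroup.mem_zpowers x))
  have h3 : n * x * n⁻¹ * x⁻¹ ∈ K ⊓ Subgroup.zpowers x := ⟨h1, h2⟩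
  rw [hKx, Subgroup.mem_bot] at h3
  have h4 : x * n = n * x := by
    have : n * x * n⁻¹ = x := by
      have := mul_inv_eq_one.mp h3
      exact this
    calc x * n = (n * x * n⁻¹) * n := by rw [this]
      _ = n * x := by group
  have h5 : n ∈ K ⊓ Subgroup.zpowers x := ⟨hnK, sc_mem_zpowers_of_commute hC h4⟩
  rw [hKx, Subgroup.mem_bot] at h5
  exact h5

/-- for a normal `p'`-subgroup `K`, `|N_G(⟨x⟩)|` divides `|G : K|` -/
theorem sc_card_scN_dvd_index {p : ℕ} (hp : p.Prime) {x : G} (hx : orderOf x = p)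
    (hC : Subgroup.centralizer ({x} : Set G) = Subgroup.zpowers x) (K : Subgroup G) [hKn : K.Normal]
    (hK : ¬ p ∣ Nat.card K) : Nat.card (scN x) ∣ K.index := by
  have h1 : K.relIndex (scN x) ∣ K.index := Subgroup.relIndex_dvd_index_of_normal K (scN x)
  have h2 : K.relIndex (scN x) = Nat.card (scN x) := by
    rw [← Subgroup.inf_relIndex_right, sc_inf_scN_eq_bot hp hx hC K hK, Subgroup.relIndex_bot_left]
  rwa [h2] at h1

/-- for a normal `p'`-subgroup `K`, `|K|` divides `|G : N_G(⟨x⟩)|` -/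
theorem sc_card_dvd_index_scN {p : ℕ} (hp : p.Prime) {x : G} (hx : orderOf x = p)
    (hC : Subgroup.centralizer ({x} : Set G) = Subgroup.zpowers x) (K : Subgroup G) [hKn : K.Normal]
    (hK : ¬ p ∣ Nat.card K) : Nat.card K ∣ (scN x).index := by
  obtain ⟨c, hc⟩ := sc_card_scN_dvd_index hp hx hC K hK
  have h1 : Nat.card K * K.index = Nat.card G := K.card_mul_index
  have h2 : Nat.card (scN x) * (scN x).index = Nat.card G := (scN x).card_mul_index
  have hpos : 0 < Nat.card (scN x) := Nat.card_pos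
  have h3 : Nat.card (scN x) * (Nat.card K * c) = Nat.card (scN x) * (scN x).index := by
    rw [h2, ← h1, hc]; ring
  have h4 := Nat.eq_of_mul_eq_mul_left hpos h3
  exact ⟨c, h4.symm⟩

/-- the number of subgroups of order `p` is `|G : N_G(⟨x⟩)|` -/
theorem sc_card_subgroups {p : ℕ} [hp : Fact p.Prime] {x : G} (hx : orderOf x = p)
    (hC : Subgroup.centralizer ({x} : Set G) = Subgroup.zpowers x) :
    Nat.card {H : Subgroup G // Nat.card H = p} = (scN x).index := by
  obtain ⟨P, hP⟩ := sc_sylow hx hC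
  have h1 : Nat.card (Sylow p G) = (scN x).index := by
    rw [Sylow.card_eq_index_normalizer P]
    change (Subgroup.normalizer ((P : Subgroup G) : Set G)).index = _
    rw [hP]
  rw [← h1]
  symm
  let f : Sylow p G → {H : Subgroup G // Nat.card H = p} :=
    fun Q => ⟨(Q : Subgroup G), sc_card_sylow hx hC Q⟩
  apply Nat.card_eq_of_bijective f
  constructor
  · intro Q Q' h
    exact Sylow.ext (congrArg Subtype.val h)
  · rintro ⟨H, hH⟩
    have hpg : IsPGroup p H := IsPGroup.of_card (n := 1) (by rw [hH, pow_one])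
    have hidx : ¬ p ∣ H.index := by
      intro hdiv
      apply sc_sq_not_dvd hx hC
      rw [← H.card_mul_index, hH, pow_two]
      exact mul_dvd_mul_left p hdiv
    exact ⟨hpg.toSylow hidx, Subtype.ext (hpg.toSylow_coe hidx)⟩

/-- a normal `p'`-subgroup has order `≡ 1 mod p` -/
theorem sc_card_mod {p : ℕ} [hp : Fact p.Prime] {x : G} (hx : orderOf x = p)
    (hC : Subgroup.centralizer ({x} : Set G) = Subgroup.zpowers x) (K : Subgroup G) [hKn : K.Normal]
    (hK : ¬ p ∣ Nat.card K) : Nat.card K % p = 1 := by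
  have hKx := sc_inf_zpowers_eq_bot hp.out hx K hK
  have hpg : IsPGroup p (Subgroup.zpowers x) := by
    apply IsPGroup.of_card (n := 1)
    rw [Nat.card_zpowers, hx, pow_one]
  let φ : Subgroup.zpowers x →* MulAut K := (MulAut.conjNormal (H := K)).comp (Subgroup.zpowers x).subtype
  let _ : MulAction (Subgroup.zpowers x) K := MulAction.compHom K φ
  have hsmul : ∀ (z : Subgroup.zpowers x) (k : K), ((z • k : K) : G) = (z : G) * k * (z : G)⁻¹ := by
    intro z k
    rfl
  have hfix : MulAction.fixedPoints (Subgroup.zpowers x) K = {1} := by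
    ext k
    rw [MulAction.mem_fixedPoints, Set.mem_singleton_iff]
    constructor
    · intro h
      have h1 := h ⟨x, Subgroup.mem_zpowers x⟩
      have h2 : x * (k : G) * x⁻¹ = (k : G) := by
        have := congrArg Subtype.val h1
        rwa [hsmul] at this
      have h3 : x * (k : G) = (k : G) * x := by
        calc x * (k : G) = (x * (k : G) * x⁻¹) * x := by group
          _ = (k : G) * x := by rw [h2]
      have h4 : (k : G) ∈ K ⊓ Subgroup.zpowers x := ⟨k.2, sc_mem_zpowers_of_commute hC h3⟩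
      rw [hKx, Subgroup.mem_bot] at h4
      exact Subtype.ext h4
    · rintro rfl z
      apply Subtype.ext
      rw [hsmul]
      simp
  have key := hpg.card_modEq_card_fixedPoints K
  rw [hfix] at key
  have h1 : Nat.card ({1} : Set K) = 1 := by simp
  rw [h1] at key
  have h2 : 1 % p = 1 := Nat.mod_eq_of_lt hp.out.one_lt
  unfold Nat.ModEq at key
  rw [key, h2]

end NormalSubgroups

section QuotientPart

variable {G : Type*} [Group G] [Finite G]

omit [Finite G] in
/-- the image of `x` modulo a normal `p'`-subgroup still has order `p` -/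
theorem sc_orderOf_mk {p : ℕ} (hp : p.Prime) {x : G} (hx : orderOf x = p)
    (K : Subgroup G) [hKn : K.Normal] (hK : ¬ p ∣ Nat.card K) :
    orderOf (QuotientGroup.mk x : G ⧸ K) = p := by
  have h1 : orderOf (QuotientGroup.mk x : G ⧸ K) ∣ p := by
    have := orderOf_map_dvd (QuotientGroup.mk' K) x
    rwa [hx] at this
  rcases (Nat.dvd_prime hp).mp h1 with h | h
  · exfalso
    have h2 : (QuotientGroup.mk x : G ⧸ K) = 1 := orderOf_eq_one_iff.mp h
    have h3 : x ∈ K := (QuotientGroup.eq_one_iff x).mp h2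
    apply hK
    have h4 : orderOf (⟨x, h3⟩ : K) = p := by
      rw [← Subgroup.orderOf_coe]; exact hx
    rw [← h4]
    exact orderOf_dvd_natCard _
  · exact h

/-- the image of `x` modulo a normal `p'`-subgroup is still self-centralizing -/
theorem sc_centralizer_mk {p : ℕ} (hp : p.Prime) {x : G} (hx : orderOf x = p)
    (hC : Subgroup.centralizer ({x} : Set G) = Subgroup.zpowers x)
    (K : Subgroup G) [hKn : K.Normal] (hK : ¬ p ∣ Nat.card K) :
    Subgroup.centralizer ({(QuotientGroup.mk x : G ⧸ K)} : Set (G ⧸ K)) =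
      Subgroup.zpowers (QuotientGroup.mk x : G ⧸ K) := by
  have hKx := sc_inf_zpowers_eq_bot hp hx K hK
  apply le_antisymm
  · intro q hq
    obtain ⟨g, rfl⟩ := QuotientGroup.mk_surjective q
    rw [Subgroup.mem_centralizer_iff] at hq
    have h1 : (QuotientGroup.mk x : G ⧸ K) * QuotientGroup.mk g = QuotientGroup.mk g * QuotientGroup.mk x :=
      hq _ rfl
    have h2 : g * x * g⁻¹ * x⁻¹ ∈ K := by
      rw [← QuotientGroup.eq_one_iff]
      simp only [QuotientGroup.mk_mul, QuotientGroup.mk_inv]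
      rw [← h1]; group
    obtain ⟨u, huK, hu⟩ := sc_comm_surj hC K hKx h2
    have h3 : u * x * u⁻¹ = g * x * g⁻¹ := mul_right_cancel hu
    have h4 : x * (u⁻¹ * g) = (u⁻¹ * g) * x := by
      have : u⁻¹ * (u * x * u⁻¹) * g = u⁻¹ * (g * x * g⁻¹) * g := by rw [h3]
      have e1 : u⁻¹ * (u * x * u⁻¹) * g = x * (u⁻¹ * g) := by group
      have e2 : u⁻¹ * (g * x * g⁻¹) * g = (u⁻¹ * g) * x := by group
      rw [e1, e2] at this
      exact this
    obtain ⟨k, hk⟩ := Subgroup.mem_zpowers_iff.mp (sc_mem_zpowers_of_commute hC h4)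
    rw [Subgroup.mem_zpowers_iff]
    refine ⟨k, ?_⟩
    have h5 : g = u * x ^ k := by rw [hk]; group
    rw [h5, QuotientGroup.mk_mul, (QuotientGroup.eq_one_iff u).mpr huK, one_mul,
      QuotientGroup.mk_zpow]
  · rw [Subgroup.zpowers_le, Subgroup.mem_centralizer_iff]
    intro h hh
    rw [Set.mem_singleton_iff] at hh
    rw [hh]

/-- if `x ∉ G'` then `e = 1` -/
theorem scE_eq_one_of_not_mem {p : ℕ} [hp : Fact p.Prime] {x : G} (hx : orderOf x = p)
    (hC : Subgroup.centralizer ({x} : Set G) = Subgroup.zpowers x)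
    (hxG : x ∉ commutator G) : scE x = 1 := by
  have hK : ¬ p ∣ Nat.card (commutator G) := fun h => hxG (sc_mem_of_dvd_card hx hC _ h)
  have hcent := sc_centralizer_mk hp.out hx hC (commutator G) hK
  have hord := sc_orderOf_mk hp.out hx (commutator G) hK
  have htop : Subgroup.centralizer ({(QuotientGroup.mk x : G ⧸ commutator G)} : Set _) = ⊤ := by
    rw [eq_top_iff]
    intro q _
    rw [Subgroup.mem_centralizer_iff]
    intro h _
    exact mul_comm (G := Abelianization G) h q
  have hidx : (commutator G).index = p := by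
    rw [Subgroup.index_eq_card, ← Subgroup.card_top (G := G ⧸ commutator G), ← htop, hcent,
      Nat.card_zpowers, hord]
  have h1 := sc_card_scN_dvd_index hp.out hx hC (commutator G) hK
  rw [hidx, ← scE_mul_card, hx] at h1
  have h2 : scE x * p ∣ 1 * p := by rwa [one_mul]
  have h3 := Nat.dvd_of_mul_dvd_mul_right hp.out.pos h2
  exact Nat.dvd_one.mp h3

/-- **Burnside**: if `e = 1` then `G'` is a normal `p`-complement -/
theorem sc_commutator_of_scE_eq_one {p : ℕ} [hp : Fact p.Prime] {x : G} (hx : orderOf x = p)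
    (hC : Subgroup.centralizer ({x} : Set G) = Subgroup.zpowers x)
    (he : scE x = 1) : (commutator G).index = p ∧ ¬ p ∣ Nat.card (commutator G) := by
  obtain ⟨P, hP⟩ := sc_sylow hx hC
  have hNle : scN x ≤ Subgroup.zpowers x := by
    have : (Subgroup.zpowers x).relIndex (scN x) = 1 := he
    exact Subgroup.relIndex_eq_one.mp this
  have hPN : Subgroup.normalizer (P : Set G) ≤ Subgroup.centralizer (P : Set G) := by
    change Subgroup.normalizer ((P : Subgroup G) : Set G) ≤
      Subgroup.centralizer ((P : Subgroup G) : Set G)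
    rw [hP, sc_centralizer_zpowers, hC]
    exact hNle
  let K := (MonoidHom.transferSylow P hPN).ker
  have hcompl : Subgroup.IsComplement' K P := MonoidHom.ker_transferSylow_isComplement' P hPN
  have hKcard : ¬ p ∣ Nat.card K := MonoidHom.not_dvd_card_ker_transferSylow P hPN
  have hKidx : K.index = p := by
    have := hcompl.symm.index_eq_card
    rw [this, hP, Nat.card_zpowers, hx]
  have hKn : K.Normal := MonoidHom.normal_ker _
  have h1 : K ≤ commutator G :=
    sc_le_commutator hC K (sc_inf_zpowers_eq_bot hp.out hx K hKcard)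
  have h2 : commutator G ≤ K := by
    have hcard : Nat.card (G ⧸ K) = p := by rw [← Subgroup.index_eq_card, hKidx]
    have hcyc : IsCyclic (G ⧸ K) := isCyclic_of_prime_card hcard
    let _ : CommGroup (G ⧸ K) := IsCyclic.commGroup
    have := Abelianization.commutator_subset_ker (QuotientGroup.mk' K)
    rwa [QuotientGroup.ker_mk'] at this
  have h3 : commutator G = K := le_antisymm h2 h1
  rw [h3]
  exact ⟨hKidx, hKcard⟩

end QuotientPart

end Cfsg.Agent.Lib.Helper75
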