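import Mathlib
import Cfsg.Prelude.Def_Solvable
import Cfsg.Agent.Lib.Helper75.SelfCent

/-!
# Self-centralizing element of prime order: the `p'`-core and the derived series
-/

set_option autoImplicit false

namespace Cfsg.Agent.Lib.Helper75

open Subgroup

section PPrimeCore

variable {G : Type*} [Group G]

theorem ppc_characteristic_aux (S : Set (Subgroup G))
    (h : ∀ (φ : G ≃* G) (N : Subgroup G), N ∈ S → N.map φ.toMonoidHom ∈ S) :
    (sSup S).Characteristic := by
  rw [Subgroup.characteristic_iff_map_le]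
  intro φ
  rw [Subgroup.map_le_iff_le_comap]
  refine sSup_le fun N hN => ?_
  rw [← Subgroup.map_le_iff_le_comap]
  exact le_sSup (h φ N hN)

theorem ppc_characteristic (p : ℕ) : (Cfsg.pPrimeCore p G).Characteristic := by
  apply ppc_characteristic_aux
  rintro φ N ⟨hN, hp⟩
  refine ⟨hN.map _ φ.surjective, ?_⟩
  have : Nat.card (N.map φ.toMonoidHom) = Nat.card N :=
    Subgroup.card_map_of_injective (f := φ.toMonoidHom) φ.injective
  rwa [this]

theorem ppc_normal (p : ℕ) : (Cfsg.pPrimeCore p G).Normal := by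
  have := ppc_characteristic (G := G) p
  infer_instance

theorem le_ppc {p : ℕ} {N : Subgroup G} (hN : N.Normal) (hp : (Nat.card N).Coprime p) :
    N ≤ Cfsg.pPrimeCore p G :=
  le_sSup ⟨hN, hp⟩

theorem ppc_card_sup_dvd (A B : Subgroup G) [B.Normal] :
    Nat.card (A ⊔ B : Subgroup G) ∣ Nat.card A * Nat.card B := by
  have h1 : Nat.card (B.subgroupOf (A ⊔ B)) * B.relIndex (A ⊔ B) = Nat.card (A ⊔ B : Subgroup G) :=
    Subgroup.card_mul_index _
  rw [Subgroup.relIndex_sup_right] at h1
  have h2 : Nat.card (B.subgroupOf (A ⊔ B)) = Nat.card B :=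
    Nat.card_congr (Subgroup.subgroupOfEquivOfLe le_sup_right).toEquiv
  rw [← h1, h2, mul_comm]
  exact Nat.mul_dvd_mul_right (Subgroup.relIndex_dvd_card B A) _

theorem ppc_coprime [Finite G] (p : ℕ) : (Nat.card (Cfsg.pPrimeCore p G)).Coprime p := by
  classical
  have hfin : Set.Finite {N : Subgroup G | N.Normal ∧ (Nat.card N).Coprime p} := Set.toFinite _
  have : Cfsg.pPrimeCore p G = hfin.toFinset.sup id := by
    rw [Finset.sup_id_eq_sSup]; simp [Cfsg.pPrimeCore]
  rw [this]
  have key : (hfin.toFinset.sup id).Normal ∧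
      (Nat.card (hfin.toFinset.sup id : Subgroup G)).Coprime p := by
    refine Finset.sup_induction (p := fun H : Subgroup G => H.Normal ∧ (Nat.card H).Coprime p)
      ?_ ?_ ?_
    · exact ⟨inferInstance, by simp⟩
    · rintro A ⟨hA, hA'⟩ B ⟨hB, hB'⟩
      have := hA; have := hB
      refine ⟨inferInstance, ?_⟩
      exact Nat.Coprime.coprime_dvd_left (ppc_card_sup_dvd A B) (Nat.Coprime.mul_left hA' hB')
    · intro N hN
      simpa using hN
  exact key.2

theorem ppc_not_dvd [Finite G] {p : ℕ} (hp : p.Prime) : ¬ p ∣ Nat.card (Cfsg.pPrimeCore p G) := by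
  intro h
  have := ppc_coprime (G := G) p
  rw [Nat.coprime_comm, hp.coprime_iff_not_dvd] at this
  exact this h

end PPrimeCore

section Transfer

variable {G : Type*} [Group G]

/-- conjugates of `x` are again self-centralizing of order `p` -/
theorem sc_conj {p : ℕ} {x : G} (hx : orderOf x = p)
    (hC : Subgroup.centralizer ({x} : Set G) = Subgroup.zpowers x) (g : G) :
    orderOf (g * x * g⁻¹) = p ∧
      Subgroup.centralizer ({g * x * g⁻¹} : Set G) = Subgroup.zpowers (g * x * g⁻¹) := by
  constructor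
  · rw [← hx]
    exact orderOf_injective (MulAut.conj g).toMonoidHom (MulAut.conj g).injective x
  · apply le_antisymm
    · intro y hy
      rw [Subgroup.mem_centralizer_iff] at hy
      have h1 : g * x * g⁻¹ * y = y * (g * x * g⁻¹) := hy _ rfl
      have h2 : x * (g⁻¹ * y * g) = (g⁻¹ * y * g) * x := by
        have e1 : x * (g⁻¹ * y * g) = g⁻¹ * (g * x * g⁻¹ * y) * g := by group
        have e2 : (g⁻¹ * y * g) * x = g⁻¹ * (y * (g * x * g⁻¹)) * g := by group
        rw [e1, e2, h1]
      obtain ⟨k, hk⟩ := Subgroup.mem_zpowers_iff.mp (sc_mem_zpowers_of_commute hC h2)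
      rw [Subgroup.mem_zpowers_iff]
      refine ⟨k, ?_⟩
      rw [conj_zpow, hk]; group
    · rw [Subgroup.zpowers_le, Subgroup.mem_centralizer_iff]
      intro h hh
      rw [Set.mem_singleton_iff] at hh
      rw [hh]

/-- `x` is still self-centralizing in any subgroup containing it -/
theorem sc_subgroup {x : G}
    (hC : Subgroup.centralizer ({x} : Set G) = Subgroup.zpowers x) (H : Subgroup G) (hxH : x ∈ H) :
    Subgroup.centralizer ({(⟨x, hxH⟩ : H)} : Set H) = Subgroup.zpowers (⟨x, hxH⟩ : H) := by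
  apply le_antisymm
  · intro y hy
    rw [Subgroup.mem_centralizer_iff] at hy
    have h1 : (⟨x, hxH⟩ : H) * y = y * ⟨x, hxH⟩ := hy _ rfl
    have h2 : x * (y : G) = (y : G) * x := congrArg Subtype.val h1
    obtain ⟨k, hk⟩ := Subgroup.mem_zpowers_iff.mp (sc_mem_zpowers_of_commute hC h2)
    rw [Subgroup.mem_zpowers_iff]
    refine ⟨k, ?_⟩
    apply Subtype.ext
    rw [Subgroup.coe_zpow]
    exact hk
  · rw [Subgroup.zpowers_le, Subgroup.mem_centralizer_iff]
    intro h hh
    rw [Set.mem_singleton_iff] at hh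
    rw [hh]

end Transfer

section Simple

variable {G : Type*} [Group G] [Finite G]

/-- `x` is not in the `p'`-core -/
theorem sc_not_mem_ppc {p : ℕ} (hp : p.Prime) {x : G} (hx : orderOf x = p) :
    x ∉ Cfsg.pPrimeCore p G := by
  intro h
  apply ppc_not_dvd (G := G) hp
  have h4 : orderOf (⟨x, h⟩ : Cfsg.pPrimeCore p G) = p := by
    rw [← Subgroup.orderOf_coe]; exact hx
  have h5 := orderOf_dvd_natCard (⟨x, h⟩ : Cfsg.pPrimeCore p G)
  rw [h4] at h5
  exact h5

/-- the `p'`-core lies in the commutator subgroup -/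
theorem sc_ppc_le_commutator {p : ℕ} (hp : p.Prime) {x : G} (hx : orderOf x = p)
    (hC : Subgroup.centralizer ({x} : Set G) = Subgroup.zpowers x) :
    Cfsg.pPrimeCore p G ≤ commutator G := by
  have := ppc_normal (G := G) p
  exact sc_le_commutator hC _ (sc_inf_zpowers_eq_bot hp hx _ (ppc_not_dvd hp))

/-- a subgroup of `G'`, normal in `G'`, of order divisible by `p` is all of `G'` -/
theorem sc_normal_in_commutator_top {p : ℕ} [hp : Fact p.Prime] {x : G} (hx : orderOf x = p)
    (hC : Subgroup.centralizer ({x} : Set G) = Subgroup.zpowers x)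
    (hxD : x ∈ commutator G)
    (L : Subgroup (commutator G)) [hL : L.Normal] (hdiv : p ∣ Nat.card L) : L = ⊤ := by
  have hDn : (commutator G).Normal := inferInstance
  -- all conjugates of x lie in L
  have hconj : ∀ g : G, ∃ h : g * x * g⁻¹ ∈ commutator G,
      (⟨g * x * g⁻¹, h⟩ : commutator G) ∈ L := by
    intro g
    have hmem : g * x * g⁻¹ ∈ commutator G := hDn.conj_mem x hxD g
    refine ⟨hmem, ?_⟩
    obtain ⟨ho, hc⟩ := sc_conj hx hC g
    have ho' : orderOf (⟨g * x * g⁻¹, hmem⟩ : commutator G) = p := by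
      rw [← Subgroup.orderOf_coe]; exact ho
    have hc' := sc_subgroup hc (commutator G) hmem
    exact sc_mem_of_dvd_card ho' hc' L hdiv
  have hle : Subgroup.normalClosure ({x} : Set G) ≤ L.map (commutator G).subtype := by
    unfold Subgroup.normalClosure
    rw [Subgroup.closure_le]
    intro y hy
    rw [Group.mem_conjugatesOfSet_iff] at hy
    obtain ⟨a, ha, hay⟩ := hy
    rw [Set.mem_singleton_iff] at ha
    subst ha
    rw [isConj_iff] at hay
    obtain ⟨g, rfl⟩ := hay
    obtain ⟨h1, h2⟩ := hconj g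
    exact ⟨⟨g * a * g⁻¹, h1⟩, h2, rfl⟩
  have hD : commutator G ≤ Subgroup.normalClosure ({x} : Set G) :=
    sc_commutator_le_of_mem hx hC _ (Subgroup.subset_normalClosure (Set.mem_singleton x))
  rw [eq_top_iff]
  intro d _
  obtain ⟨d', hd', hdd⟩ := hle (hD d.2)
  have : d' = d := Subtype.ext hdd
  rwa [← this]

/-- a subgroup of `G'`, normal in `G'`, of order prime to `p` lies in the `p'`-core of `G` -/
theorem sc_normal_in_commutator_le_ppc {p : ℕ}
    (L : Subgroup (commutator G)) [hL : L.Normal] (hdiv : (Nat.card L).Coprime p) :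
    L ≤ (Cfsg.pPrimeCore p G).subgroupOf (commutator G) := by
  have h1 : L ≤ Cfsg.pPrimeCore p (commutator G) := le_ppc hL hdiv
  have := ppc_characteristic (G := commutator G) p
  have hKn : ((Cfsg.pPrimeCore p (commutator G)).map (commutator G).subtype).Normal :=
    inferInstance
  have hKc : (Nat.card ((Cfsg.pPrimeCore p (commutator G)).map (commutator G).subtype)).Coprime p := by
    rw [Subgroup.card_map_of_injective (Subgroup.subtype_injective _)]
    exact ppc_coprime p
  have h2 := le_ppc hKn hKc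
  intro d hd
  rw [Subgroup.mem_subgroupOf]
  exact h2 ⟨d, h1 hd, rfl⟩

/-- if `e ≠ 1`, then `G' / O_{p'}(G)` is simple -/
theorem sc_simple_quotient {p : ℕ} [hp : Fact p.Prime] {x : G} (hx : orderOf x = p)
    (hC : Subgroup.centralizer ({x} : Set G) = Subgroup.zpowers x) (he : scE x ≠ 1)
    (h : ((Cfsg.pPrimeCore p G).subgroupOf (commutator G)).Normal) :
    IsSimpleGroup (↥(commutator G) ⧸ (Cfsg.pPrimeCore p G).subgroupOf (commutator G)) := by
  have hxD : x ∈ commutator G := by
    by_contra h'
    exact he (scE_eq_one_of_not_mem hx hC h')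
  have hnt : Nontrivial (↥(commutator G) ⧸ (Cfsg.pPrimeCore p G).subgroupOf (commutator G)) := by
    rw [QuotientGroup.nontrivial_iff]
    intro htop
    have : (⟨x, hxD⟩ : commutator G) ∈ (Cfsg.pPrimeCore p G).subgroupOf (commutator G) := by
      rw [htop]; exact Subgroup.mem_top _
    rw [Subgroup.mem_subgroupOf] at this
    exact sc_not_mem_ppc hp.out hx this
  refine { toNontrivial := hnt, eq_bot_or_eq_top_of_normal := ?_ }
  intro H hH
  let L := H.comap (QuotientGroup.mk' ((Cfsg.pPrimeCore p G).subgroupOf (commutator G)))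
  have hLn : L.Normal := hH.comap _
  by_cases hdiv : p ∣ Nat.card L
  · right
    have hL := sc_normal_in_commutator_top hx hC hxD L hdiv
    rw [eq_top_iff]
    intro q _
    obtain ⟨d, rfl⟩ := QuotientGroup.mk_surjective q
    have : d ∈ L := by rw [hL]; exact Subgroup.mem_top d
    exact this
  · left
    have hcop : (Nat.card L).Coprime p := by
      rw [Nat.coprime_comm, hp.out.coprime_iff_not_dvd]; exact hdiv
    have hL := sc_normal_in_commutator_le_ppc L hcop
    rw [eq_bot_iff]
    intro q hq
    obtain ⟨d, rfl⟩ := QuotientGroup.mk_surjective q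
    have hd : d ∈ L := hq
    rw [Subgroup.mem_bot]
    exact (QuotientGroup.eq_one_iff d).mpr (hL hd)

/-- if `e = 1`, then `G' = O_{p'}(G)` -/
theorem sc_commutator_eq_ppc {p : ℕ} [hp : Fact p.Prime] {x : G} (hx : orderOf x = p)
    (hC : Subgroup.centralizer ({x} : Set G) = Subgroup.zpowers x) (he : scE x = 1) :
    commutator G = Cfsg.pPrimeCore p G := by
  apply le_antisymm
  · apply le_ppc inferInstance
    rw [Nat.coprime_comm, hp.out.coprime_iff_not_dvd]
    exact (sc_commutator_of_scE_eq_one hx hC he).2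
  · exact sc_ppc_le_commutator hp.out hx hC

end Simple

end Cfsg.Agent.Lib.Helper75
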