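import Mathlib
import Cfsg.Agent.Lib.Helper75.SelfCent2

/-!
# Self-centralizing element of prime order: normal subgroups of order `1 + n p`
-/

set_option autoImplicit false

namespace Cfsg.Agent.Lib.Helper75

open Subgroup
open scoped commutatorElement

section Derived

variable {G : Type*} [Group G] [Finite G]

omit [Finite G] in
/-- `|G| = |G : N| * e * p` -/
theorem sc_card_eq {p : ℕ} {x : G} (hx : orderOf x = p) :
    Nat.card G = (scN x).index * (scE x * p) := by
  rw [← hx, scE_mul_card, mul_comm]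
  exact ((scN x).card_mul_index).symm

/-- if `e = 1`: `|G'| = |G : N|`, `G/G'` cyclic of order `p` -/
theorem sc_caseB {p : ℕ} [hp : Fact p.Prime] {x : G} (hx : orderOf x = p)
    (hC : Subgroup.centralizer ({x} : Set G) = Subgroup.zpowers x) (he : scE x = 1) :
    Nat.card (commutator G) = (scN x).index ∧ IsCyclic (G ⧸ commutator G) ∧
      (commutator G).index = p := by
  obtain ⟨hidx, _⟩ := sc_commutator_of_scE_eq_one hx hC he
  refine ⟨?_, ?_, hidx⟩
  · have h1 := (commutator G).card_mul_index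
    rw [hidx, sc_card_eq hx, he, one_mul] at h1
    exact Nat.eq_of_mul_eq_mul_right hp.out.pos h1
  · have hcard : Nat.card (G ⧸ commutator G) = p := by rw [← Subgroup.index_eq_card, hidx]
    exact isCyclic_of_prime_card hcard

omit [Finite G] in
/-- if `N ⊔ S = ⊤` with `S` normal, then `G' ≤ ⟨x⟩ ⊔ S` -/
theorem sc_commutator_le_sup {x : G}
    (hC : Subgroup.centralizer ({x} : Set G) = Subgroup.zpowers x) (S : Subgroup G) [hSn : S.Normal]
    (htop : scN x ⊔ S = ⊤) : commutator G ≤ Subgroup.zpowers x ⊔ S := by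
  have hdecomp : ∀ g : G, ∃ n ∈ scN x, ∃ s ∈ S, g = n * s := by
    intro g
    have hg : g ∈ scN x ⊔ S := by rw [htop]; exact Subgroup.mem_top g
    obtain ⟨n, hn, s, hs, hns⟩ := Subgroup.mem_sup_of_normal_right.mp hg
    exact ⟨n, hn, s, hs, hns.symm⟩
  rw [_root_.commutator_def, Subgroup.commutator_le]
  intro g₁ _ g₂ _
  obtain ⟨n₁, hn₁, s₁, hs₁, rfl⟩ := hdecomp g₁
  obtain ⟨n₂, hn₂, s₂, hs₂, rfl⟩ := hdecomp g₂
  -- the commutator is congruent to ⁅n₁, n₂⁆ modulo S
  have hz : n₁ * n₂ * n₁⁻¹ * n₂⁻¹ ∈ Subgroup.zpowers x := sc_commutator_mem hC hn₁ hn₂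
  have hS : (n₁ * n₂ * n₁⁻¹ * n₂⁻¹)⁻¹ * ⁅n₁ * s₁, n₂ * s₂⁆ ∈ S := by
    rw [← QuotientGroup.eq_one_iff, commutatorElement_def]
    have h1 : ((s₁ : G) : G ⧸ S) = 1 := (QuotientGroup.eq_one_iff _).mpr hs₁
    have h2 : ((s₂ : G) : G ⧸ S) = 1 := (QuotientGroup.eq_one_iff _).mpr hs₂
    simp only [QuotientGroup.mk_mul, QuotientGroup.mk_inv, h1, h2, mul_one]
    group
  have : ⁅n₁ * s₁, n₂ * s₂⁆ =
      (n₁ * n₂ * n₁⁻¹ * n₂⁻¹) * ((n₁ * n₂ * n₁⁻¹ * n₂⁻¹)⁻¹ * ⁅n₁ * s₁, n₂ * s₂⁆) := by group
  rw [this]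
  exact Subgroup.mul_mem_sup hz hS

omit [Finite G] in
/-- `⁅⟨x⟩ ⊔ S, ⟨x⟩ ⊔ S⁆ ≤ S` for normal `S` -/
theorem sc_commutator_sup_le (x : G) (S : Subgroup G) [hSn : S.Normal] :
    ⁅Subgroup.zpowers x ⊔ S, Subgroup.zpowers x ⊔ S⁆ ≤ S := by
  rw [Subgroup.commutator_le]
  intro g₁ hg₁ g₂ hg₂
  obtain ⟨z₁, hz₁, s₁, hs₁, rfl⟩ := Subgroup.mem_sup_of_normal_right.mp hg₁
  obtain ⟨z₂, hz₂, s₂, hs₂, rfl⟩ := Subgroup.mem_sup_of_normal_right.mp hg₂
  rw [← QuotientGroup.eq_one_iff, commutatorElement_def]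
  have h1 : ((s₁ : G) : G ⧸ S) = 1 := (QuotientGroup.eq_one_iff _).mpr hs₁
  have h2 : ((s₂ : G) : G ⧸ S) = 1 := (QuotientGroup.eq_one_iff _).mpr hs₂
  obtain ⟨k₁, rfl⟩ := Subgroup.mem_zpowers_iff.mp hz₁
  obtain ⟨k₂, rfl⟩ := Subgroup.mem_zpowers_iff.mp hz₂
  simp only [QuotientGroup.mk_mul, QuotientGroup.mk_inv, h1, h2, mul_one, QuotientGroup.mk_zpow]
  have hc : Commute ((x : G ⧸ S) ^ k₁) ((x : G ⧸ S) ^ k₂) := (Commute.refl _).zpow_zpow k₁ k₂
  rw [hc.eq]; group

/-- a normal `p'`-subgroup of order `|G : N|`, with `e ≠ 1`, forces `G'' ≠ G'` -/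
theorem sc_caseA {p : ℕ} [hp : Fact p.Prime] {x : G} (hx : orderOf x = p)
    (hC : Subgroup.centralizer ({x} : Set G) = Subgroup.zpowers x) (he : scE x ≠ 1)
    (S : Subgroup G) [hSn : S.Normal] (hS : ¬ p ∣ Nat.card S) (hcard : Nat.card S = (scN x).index) :
    derivedSeries G 2 ≠ derivedSeries G 1 := by
  have hxD : x ∈ commutator G := by
    by_contra h'
    exact he (scE_eq_one_of_not_mem hx hC h')
  have hdisj : Disjoint S (scN x) := disjoint_iff.mpr (sc_inf_scN_eq_bot hp.out hx hC S hS)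
  have hmul : Nat.card S * Nat.card (scN x) = Nat.card G := by
    rw [hcard, mul_comm]; exact (scN x).card_mul_index
  have hcompl := Subgroup.isComplement'_of_card_mul_and_disjoint hmul hdisj
  have htop : scN x ⊔ S = ⊤ := by rw [sup_comm]; exact hcompl.sup_eq_top
  have h1 := sc_commutator_le_sup hC S htop
  have h2 : derivedSeries G 2 ≤ S := by
    rw [derivedSeries_succ, derivedSeries_one]
    exact (Subgroup.commutator_mono h1 h1).trans (sc_commutator_sup_le x S)
  intro heq
  rw [derivedSeries_one] at heq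
  have hxS : x ∈ S := h2 (heq ▸ hxD)
  apply hS
  have h4 : orderOf (⟨x, hxS⟩ : S) = p := by
    rw [← Subgroup.orderOf_coe]; exact hx
  have h5 := orderOf_dvd_natCard (⟨x, hxS⟩ : S)
  rw [h4] at h5
  exact h5

/-- if `e ≠ 1` and `G'' ≠ G'`: `|G''| = |G : N|` and `|G'| = p |G : N|` -/
theorem sc_caseC {p : ℕ} [hp : Fact p.Prime] {x : G} (hx : orderOf x = p)
    (hC : Subgroup.centralizer ({x} : Set G) = Subgroup.zpowers x) (he : scE x ≠ 1)
    (hne : derivedSeries G 2 ≠ derivedSeries G 1) :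
    Nat.card (derivedSeries G 2) = (scN x).index ∧
      Nat.card (commutator G) = p * (scN x).index := by
  have hxD : x ∈ commutator G := by
    by_contra h'
    exact he (scE_eq_one_of_not_mem hx hC h')
  have hD2 : derivedSeries G 2 = (commutator (commutator G)).map (commutator G).subtype := by
    rw [derivedSeries_succ, derivedSeries_one, Subgroup.map_subtype_commutator]
  have hD2n : (derivedSeries G 2).Normal := derivedSeries_normal G 2
  have hD2le : derivedSeries G 2 ≤ commutator G := by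
    rw [← derivedSeries_one]
    exact derivedSeries_antitone G (by norm_num)
  -- x ∉ G''
  have hxD2 : x ∉ derivedSeries G 2 := by
    intro hx2
    apply hne
    rw [derivedSeries_one]
    exact le_antisymm hD2le (sc_commutator_le_of_mem hx hC _ hx2)
  -- work inside D = G'
  have ho' : orderOf (⟨x, hxD⟩ : commutator G) = p := by
    rw [← Subgroup.orderOf_coe]; exact hx
  have hc' := sc_subgroup hC (commutator G) hxD
  have hx' : (⟨x, hxD⟩ : commutator G) ∉ commutator (commutator G) := by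
    intro h
    apply hxD2
    rw [hD2]
    exact ⟨⟨x, hxD⟩, h, rfl⟩
  have he' := scE_eq_one_of_not_mem ho' hc' hx'
  obtain ⟨hidx, hndvd⟩ := sc_commutator_of_scE_eq_one ho' hc' he'
  have hcardD2 : Nat.card (derivedSeries G 2) = Nat.card (commutator (commutator G)) := by
    rw [hD2, Subgroup.card_map_of_injective (Subgroup.subtype_injective _)]
  have hcardD : Nat.card (commutator G) = Nat.card (derivedSeries G 2) * p := by
    rw [hcardD2, ← hidx]
    exact ((commutator (commutator G)).card_mul_index).symm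
  have hndvd2 : ¬ p ∣ Nat.card (derivedSeries G 2) := by rwa [hcardD2]
  -- |G''| divides ν
  obtain ⟨c, hc⟩ := sc_card_dvd_index_scN hp.out hx hC (derivedSeries G 2) hndvd2
  -- index of G' divides e
  obtain ⟨d, hd⟩ := sc_index_dvd_of_mem hx hC (commutator G) hxD
  have hG1 : Nat.card G = (scN x).index * (scE x * p) := sc_card_eq hx
  have hG2 : Nat.card G = Nat.card (commutator G) * (commutator G).index :=
    ((commutator G).card_mul_index).symm
  have hpos : 0 < Nat.card (derivedSeries G 2) := Nat.card_pos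
  have hpos2 : 0 < (commutator G).index := by
    have : (commutator G).index ≠ 0 := Subgroup.index_ne_zero_of_finite
    omega
  have hppos : 0 < p := hp.out.pos
  -- combine: ν * e * p = |G''| * p * idx, ν = |G''| * c, e = idx * d  ⇒ c * d = 1
  have hcd : c * d = 1 := by
    have h3 : Nat.card (derivedSeries G 2) * c * ((commutator G).index * d * p) =
        Nat.card (derivedSeries G 2) * p * (commutator G).index := by
      rw [← hc, ← hd, ← hG1, hG2, hcardD]
    have h4 : (Nat.card (derivedSeries G 2) * p * (commutator G).index) * (c * d) =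
        (Nat.card (derivedSeries G 2) * p * (commutator G).index) * 1 := by
      rw [mul_one]
      calc (Nat.card (derivedSeries G 2) * p * (commutator G).index) * (c * d)
          = Nat.card (derivedSeries G 2) * c * ((commutator G).index * d * p) := by ring
        _ = _ := h3
    have hpos3 : 0 < Nat.card (derivedSeries G 2) * p * (commutator G).index :=
      Nat.mul_pos (Nat.mul_pos hpos hppos) hpos2
    exact Nat.eq_of_mul_eq_mul_left hpos3 h4
  have hc1 : c = 1 := Nat.eq_one_of_mul_eq_one_right hcd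
  rw [hc1, mul_one] at hc
  refine ⟨hc.symm, ?_⟩
  rw [hcardD, hc, mul_comm]

end Derived

end Cfsg.Agent.Lib.Helper75
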