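import Mathlib
import Cfsg.Agent.Lib.Helper32.SLMD.Defs2

/-!
# SLMD-[N-CA2] (helper75 hedge, for helper32's project S2332), `_of` form

`ca2_of`: `dim C_V(A₂) + 1 = c + q`, taking the two [N-MULT] consequences of `M1 ρ`
(`m1_char`: `χ(qEl s a) = c − 1` off the identity, `m1_dim`: `D + 1 = c + q^(k+1)`) as hypotheses.
-/

set_option autoImplicit false
set_option linter.unusedSectionVars false
set_option linter.unusedVariables false

namespace Cfsg.Agent.Lib.Helper32.SLMD.CA2

open Matrix Cfsg.Agent.Lib.Helper41 Cfsg.Agent.Lib.Helper39 Module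

variable {F : Type*} [Field F] [Fintype F] [DecidableEq F] {k : ℕ}
variable {V : Type*} [AddCommGroup V] [Module ℂ V] [FiniteDimensional ℂ V]

/-- `ρ(wE)` carries `C_V(A₁)` into `C_V(A₂)` and back: equal dimensions -/
theorem finrank_a2_eq_a1 (ρ : Representation ℂ (GG F k) V) :
    finrank ℂ ↥(eigenSub ρ (a2Hom : _ →* GG F k) 1) =
      finrank ℂ ↥(eigenSub ρ (a1Hom : _ →* GG F k) 1) := by
  have h12 : ∀ v ∈ eigenSub ρ (a1Hom : _ →* GG F k) 1,
      ρ (wE : GG F k) v ∈ eigenSub ρ (a2Hom : _ →* GG F k) 1 := by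
    intro v hv
    refine conj_eigenSub ρ a1Hom a2Hom (wE : GG F k) (fun n' => n') ?_ 1 1 (fun _ => rfl) hv
    intro n'
    rw [a2Hom_apply, a1Hom_apply, ← wE_conj_a1El]
    group
  have h21 : ∀ v ∈ eigenSub ρ (a2Hom : _ →* GG F k) 1,
      ρ ((wE : GG F k)⁻¹) v ∈ eigenSub ρ (a1Hom : _ →* GG F k) 1 := by
    intro v hv
    refine conj_eigenSub ρ a2Hom a1Hom ((wE : GG F k)⁻¹) (fun n' => n') ?_ 1 1 (fun _ => rfl) hv
    intro n'
    rw [a2Hom_apply, a1Hom_apply, ← wE_conj_a1El, inv_inv]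
  apply le_antisymm
  · let f : ↥(eigenSub ρ (a2Hom : _ →* GG F k) 1) →ₗ[ℂ] ↥(eigenSub ρ (a1Hom : _ →* GG F k) 1) :=
      (ρ ((wE : GG F k)⁻¹)).restrict h21
    apply LinearMap.finrank_le_finrank_of_injective (f := f)
    intro x y hxy
    have h1 : ρ ((wE : GG F k)⁻¹) x.1 = ρ ((wE : GG F k)⁻¹) y.1 := congrArg Subtype.val hxy
    have h2 := congrArg (ρ (wE : GG F k)) h1
    rw [← Module.End.mul_apply, ← Module.End.mul_apply, ← map_mul, mul_inv_cancel, map_one,
      Module.End.one_apply, Module.End.one_apply] at h2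
    exact Subtype.ext h2
  · let f : ↥(eigenSub ρ (a1Hom : _ →* GG F k) 1) →ₗ[ℂ] ↥(eigenSub ρ (a2Hom : _ →* GG F k) 1) :=
      (ρ (wE : GG F k)).restrict h12
    apply LinearMap.finrank_le_finrank_of_injective (f := f)
    intro x y hxy
    have h1 : ρ (wE : GG F k) x.1 = ρ (wE : GG F k) y.1 := congrArg Subtype.val hxy
    have h2 := congrArg (ρ ((wE : GG F k)⁻¹)) h1
    rw [← Module.End.mul_apply, ← Module.End.mul_apply, ← map_mul, inv_mul_cancel, map_one,
      Module.End.one_apply, Module.End.one_apply] at h2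
    exact Subtype.ext h2

theorem a1El_eq_qEl (a : Fin k → F) : (a1El a : GG F k) = qEl 0 a := by
  rw [qEl, x12_zero, one_mul]

theorem ca2_of (ρ : Representation ℂ (GG F k) V)
    (hchar : ∀ (s : F) (a : Fin k → F), (s ≠ 0 ∨ a ≠ 0) →
      ρ.character (qEl s a) = (cQ ρ : ℂ) - 1)
    (hdim : finrank ℂ V + 1 = cQ ρ + Fintype.card F ^ (k + 1)) :
    finrank ℂ ↥(eigenSub ρ (a2Hom : _ →* GG F k) 1) + 1 = cQ ρ + Fintype.card F := by
  classical
  rw [finrank_a2_eq_a1]
  have h := sum_twist_character ρ (a1Hom : _ →* GG F k) 1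
  simp only [MonoidHom.one_apply, inv_one, Units.val_one, one_mul] at h
  have hcard : Fintype.card (Multiplicative (Fin k → F)) = Fintype.card F ^ k := by
    rw [Fintype.card_multiplicative, Fintype.card_fun, Fintype.card_fin]
  have hsum : ∑ a : Multiplicative (Fin k → F), ρ.character (a1Hom a) =
      (finrank ℂ V : ℂ) + ((Fintype.card F : ℂ) ^ k - 1) * ((cQ ρ : ℂ) - 1) := by
    rw [← Finset.add_sum_erase Finset.univ _ (Finset.mem_univ (1 : Multiplicative (Fin k → F)))]
    have h1 : ρ.character ((a1Hom : _ →* GG F k) 1) = (finrank ℂ V : ℂ) := by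
      rw [map_one, Representation.char_one]
    rw [h1]
    congr 1
    have h2 : ∀ a ∈ (Finset.univ : Finset (Multiplicative (Fin k → F))).erase 1,
        ρ.character ((a1Hom : _ →* GG F k) a) = (cQ ρ : ℂ) - 1 := by
      intro a ha
      rw [a1Hom_apply, a1El_eq_qEl]
      apply hchar
      right
      intro h0
      apply Finset.ne_of_mem_erase ha
      exact Multiplicative.toAdd.injective h0
    rw [Finset.sum_congr rfl h2, Finset.sum_const, Finset.card_erase_of_mem (Finset.mem_univ _),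
      Finset.card_univ, hcard, nsmul_eq_mul]
    have hpos : 1 ≤ Fintype.card F ^ k := Nat.one_le_pow _ _ Fintype.card_pos
    push_cast [Nat.cast_sub hpos]
    ring
  rw [hsum, hcard] at h
  have hD : (finrank ℂ V : ℂ) = (cQ ρ : ℂ) + (Fintype.card F : ℂ) ^ (k + 1) - 1 := by
    have := congrArg (fun n : ℕ => (n : ℂ)) hdim
    push_cast at this
    linear_combination this
  have hq0 : ((Fintype.card F : ℂ)) ^ k ≠ 0 := by
    apply pow_ne_zero
    exact_mod_cast Fintype.card_ne_zero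
  have key : ((Fintype.card F : ℂ)) ^ k *
      ((finrank ℂ ↥(eigenSub ρ (a1Hom : _ →* GG F k) 1) : ℂ) + 1) =
      ((Fintype.card F : ℂ)) ^ k * ((cQ ρ : ℂ) + (Fintype.card F : ℂ)) := by
    push_cast at h
    rw [hD] at h
    linear_combination (-1 : ℂ) * h
  have key2 := mul_left_cancel₀ hq0 key
  exact_mod_cast key2

end Cfsg.Agent.Lib.Helper32.SLMD.CA2
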