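import Mathlib
import Cfsg.Agent.Lib.Helper94.SPMD.Defs

/-!
# SPMD-[C-CASEB] (helper75, for helper94's project S2333): `card_stdPairs_le_of_aniso`

Case B of the standard-pair count: every singular vector lies in the radical of the polar form.
No Chevalley-Warning needed: if `z ⟂ x₁, y₁` and `Q z ≠ 0`, pick `c` with `c² = Q x₁ / Q z` (squaring is
bijective on a finite field of characteristic two); then `x₁ + c z` is singular but not orthogonal to `y₁`.
Hence `V = F x₁ ⊕ F y₁ ⊕ R`, `R = {Q = 0}`, `|R| = q^(n-2)`; `{Q = α}` injects into `P¹(F) × R` and each fibre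
`{y | B(x,y) = 1, Q y = β}` into `Bool × R`.
-/

set_option autoImplicit false

namespace Cfsg.Agent.Lib.Helper94.SPMD.CaseB

open QuadraticMap

variable {F : Type*} [Field F] {n : ℕ}

theorem fadd_self (h2 : (2 : F) = 0) (a : F) : a + a = 0 := by
  rw [← two_mul, h2, zero_mul]

theorem vadd_self (h2 : (2 : F) = 0) (v : Fin n → F) : v + v = 0 := by
  rw [← two_smul F v, h2, zero_smul]

theorem polar_self0 (h2 : (2 : F) = 0) (Q : QuadraticForm F (Fin n → F)) (x : Fin n → F) :
    polar Q x x = 0 := by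
  rw [QuadraticMap.polar_self, two_smul, fadd_self h2]

theorem sq_inj (h2 : (2 : F) = 0) {a b : F} (h : a * a = b * b) : a = b := by
  have h3 : (a + b) * (a + b) = 0 := by
    have e : (a + b) * (a + b) = a * a + b * b + 2 * (a * b) := by ring
    rw [e, h2, zero_mul, add_zero, h, fadd_self h2]
  have h4 : a + b = 0 := mul_self_eq_zero.mp h3
  have h5 : a = -b := eq_neg_of_add_eq_zero_left h4
  rw [h5]
  exact neg_eq_of_add_eq_zero_left (fadd_self h2 b)

theorem exists_sq [Finite F] (h2 : (2 : F) = 0) (c : F) : ∃ d : F, d * d = c := by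
  have hinj : Function.Injective (fun d : F => d * d) := fun a b h => sq_inj h2 h
  exact (Finite.injective_iff_surjective.mp hinj) c

/-- the standing hypotheses of Case B -/
structure Ctx (Q : QuadraticForm F (Fin n → F)) : Prop where
  h2 : (2 : F) = 0
  hsing : ∀ x, Q x = 0 → ∀ y, polar Q x y = 0

variable {Q : QuadraticForm F (Fin n → F)}

theorem Q_ne_zero_of_polar (C : Ctx Q) {x₁ y₁ : Fin n → F} (h1 : polar Q x₁ y₁ = 1) : Q x₁ ≠ 0 := by
  intro h0
  have h := C.hsing x₁ h0 y₁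
  rw [h1] at h
  exact one_ne_zero h

theorem Q_zero_of_perp [Finite F] (C : Ctx Q) {x₁ y₁ : Fin n → F} (h1 : polar Q x₁ y₁ = 1)
    {z : Fin n → F} (hx : polar Q z x₁ = 0) (hy : polar Q z y₁ = 0) : Q z = 0 := by
  by_contra hz
  obtain ⟨c, hc⟩ := exists_sq C.h2 (Q x₁ / Q z)
  have hv : Q (x₁ + c • z) = 0 := by
    rw [QuadraticMap.map_add Q, QuadraticMap.map_smul, polar_smul_right, polar_comm, hx, hc,
      smul_eq_mul, smul_eq_mul, mul_zero, add_zero, div_mul_cancel₀ _ hz]
    exact fadd_self C.h2 _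
  have h := C.hsing _ hv y₁
  rw [polar_add_left, polar_smul_left, hy, h1, smul_eq_mul, mul_zero, add_zero] at h
  exact one_ne_zero h

/-- the projection to the radical along `F x₁ + F y₁` -/
def proj (Q : QuadraticForm F (Fin n → F)) (x₁ y₁ z : Fin n → F) : Fin n → F :=
  z + polar Q z y₁ • x₁ + polar Q z x₁ • y₁

theorem Q_proj [Finite F] (C : Ctx Q) {x₁ y₁ : Fin n → F} (h1 : polar Q x₁ y₁ = 1)
    (z : Fin n → F) : Q (proj Q x₁ y₁ z) = 0 := by
  apply Q_zero_of_perp C h1
  · unfold proj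
    rw [polar_add_left, polar_add_left, polar_smul_left, polar_smul_left, polar_self0 C.h2,
      polar_comm _ y₁ x₁, h1, smul_eq_mul, smul_eq_mul, mul_zero, add_zero, mul_one]
    exact fadd_self C.h2 _
  · unfold proj
    rw [polar_add_left, polar_add_left, polar_smul_left, polar_smul_left, polar_self0 C.h2,
      h1, smul_eq_mul, smul_eq_mul, mul_zero, add_zero, mul_one]
    exact fadd_self C.h2 _

theorem decomp (h2 : (2 : F) = 0) (Q : QuadraticForm F (Fin n → F)) (x₁ y₁ z : Fin n → F) :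
    polar Q z y₁ • x₁ + polar Q z x₁ • y₁ + proj Q x₁ y₁ z = z := by
  unfold proj
  have e1 := vadd_self h2 (polar Q z y₁ • x₁)
  have e2 := vadd_self h2 (polar Q z x₁ • y₁)
  calc polar Q z y₁ • x₁ + polar Q z x₁ • y₁ + (z + polar Q z y₁ • x₁ + polar Q z x₁ • y₁)
      = z + (polar Q z y₁ • x₁ + polar Q z y₁ • x₁) + (polar Q z x₁ • y₁ + polar Q z x₁ • y₁) := by
        abel
    _ = z := by rw [e1, e2, add_zero, add_zero]

/-- value of `Q` on `a x₁ + b y₁ + r`, `r` singular -/
theorem Q_comb (C : Ctx Q) {x₁ y₁ : Fin n → F} (h1 : polar Q x₁ y₁ = 1) (a b : F)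
    {r : Fin n → F} (hr : Q r = 0) :
    Q (a • x₁ + b • y₁ + r) = a * a * Q x₁ + a * b + b * b * Q y₁ := by
  rw [QuadraticMap.map_add Q, hr, polar_comm, C.hsing r hr, add_zero, add_zero, QuadraticMap.map_add Q,
    QuadraticMap.map_smul, QuadraticMap.map_smul, polar_smul_left, polar_smul_right, h1]
  simp only [smul_eq_mul, mul_one]
  ring

theorem polar_comb_y (C : Ctx Q) {x₁ y₁ : Fin n → F} (h1 : polar Q x₁ y₁ = 1) (a b : F)
    {r : Fin n → F} (hr : Q r = 0) : polar Q (a • x₁ + b • y₁ + r) y₁ = a := by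
  rw [polar_add_left, polar_add_left, polar_smul_left, polar_smul_left, polar_self0 C.h2, h1,
    C.hsing r hr]
  simp

theorem polar_comb_x (C : Ctx Q) {x₁ y₁ : Fin n → F} (h1 : polar Q x₁ y₁ = 1) (a b : F)
    {r : Fin n → F} (hr : Q r = 0) : polar Q (a • x₁ + b • y₁ + r) x₁ = b := by
  rw [polar_add_left, polar_add_left, polar_smul_left, polar_smul_left, polar_self0 C.h2,
    polar_comm _ y₁ x₁, h1, C.hsing r hr]
  simp

theorem proj_comb (C : Ctx Q) {x₁ y₁ : Fin n → F} (h1 : polar Q x₁ y₁ = 1) (a b : F)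
    {r : Fin n → F} (hr : Q r = 0) : proj Q x₁ y₁ (a • x₁ + b • y₁ + r) = r := by
  unfold proj
  rw [polar_comb_y C h1 a b hr, polar_comb_x C h1 a b hr]
  have e1 := vadd_self C.h2 (a • x₁)
  have e2 := vadd_self C.h2 (b • y₁)
  calc a • x₁ + b • y₁ + r + a • x₁ + b • y₁ = r + (a • x₁ + a • x₁) + (b • y₁ + b • y₁) := by abel
    _ = r := by rw [e1, e2, add_zero, add_zero]

/-- the singular vectors -/
abbrev Rad (Q : QuadraticForm F (Fin n → F)) : Type _ := {r : Fin n → F // Q r = 0}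

/-- coordinates with respect to a base pair -/
noncomputable def coords [Finite F] (C : Ctx Q) {x₁ y₁ : Fin n → F} (h1 : polar Q x₁ y₁ = 1) :
    (Fin n → F) ≃ F × F × Rad Q where
  toFun z := (polar Q z y₁, polar Q z x₁, ⟨proj Q x₁ y₁ z, Q_proj C h1 z⟩)
  invFun p := p.1 • x₁ + p.2.1 • y₁ + p.2.2.1
  left_inv z := decomp C.h2 Q x₁ y₁ z
  right_inv p := by
    obtain ⟨a, b, r, hr⟩ := p
    simp only
    rw [polar_comb_y C h1 a b hr, polar_comb_x C h1 a b hr]
    congr 2
    exact Subtype.ext (proj_comb C h1 a b hr)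

theorem card_rad [Fintype F] {q : ℕ} (hq : Fintype.card F = q) (hn : 2 ≤ n) (C : Ctx Q)
    {x₁ y₁ : Fin n → F} (h1 : polar Q x₁ y₁ = 1) : Nat.card (Rad Q) = q ^ (n - 2) := by
  have hqpos : 0 < q := by rw [← hq]; exact Fintype.card_pos
  have h := Nat.card_congr (coords C h1)
  rw [Nat.card_fun, Nat.card_prod, Nat.card_prod, Nat.card_eq_fintype_card (α := F), hq,
    Nat.card_eq_fintype_card (α := Fin n), Fintype.card_fin] at h
  obtain ⟨m, rfl⟩ : ∃ m, n = m + 2 := ⟨n - 2, by omega⟩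
  rw [Nat.add_sub_cancel]
  have h' : q * q * q ^ m = q * q * Nat.card (Rad Q) := by
    rw [mul_assoc q q (Nat.card (Rad Q)), ← h]; ring
  exact (Nat.eq_of_mul_eq_mul_left (Nat.mul_pos hqpos hqpos) h').symm

/-- the point of the projective line through `(a, b)` -/
noncomputable def tau (a b : F) : Option F := by
  classical
  exact if b = 0 then none else some (a / b)

theorem tau_inj (h2 : (2 : F) = 0) {α β a b a' b' : F} (hα : α ≠ 0)
    (h : a * a * α + a * b + b * b * β = α) (h' : a' * a' * α + a' * b' + b' * b' * β = α)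
    (ht : tau a b = tau a' b') : a = a' ∧ b = b' := by
  classical
  unfold tau at ht
  by_cases hb : b = 0
  · have hb' : b' = 0 := by
      by_contra hb'
      rw [if_pos hb, if_neg hb'] at ht
      cases ht
    subst hb
    subst hb'
    simp only [mul_zero, add_zero, zero_mul] at h h'
    have e1 : a * a = 1 := mul_right_cancel₀ hα (h.trans (one_mul α).symm)
    have e2 : a' * a' = 1 := mul_right_cancel₀ hα (h'.trans (one_mul α).symm)
    exact ⟨sq_inj h2 (e1.trans e2.symm), rfl⟩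
  · have hb' : b' ≠ 0 := by
      intro hb'
      rw [if_neg hb, if_pos hb'] at ht
      cases ht
    rw [if_neg hb, if_neg hb'] at ht
    have ht' : a / b = a' / b' := Option.some.inj ht
    obtain ⟨t, hta, hta'⟩ : ∃ t, a = t * b ∧ a' = t * b' :=
      ⟨a / b, (div_mul_cancel₀ a hb).symm, by rw [ht']; exact (div_mul_cancel₀ a' hb').symm⟩
    subst hta
    subst hta'
    have k1 : b * b * (t * t * α + t + β) = α := by linear_combination h
    have k2 : b' * b' * (t * t * α + t + β) = α := by linear_combination h'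
    have hK : t * t * α + t + β ≠ 0 := by
      intro hK
      rw [hK, mul_zero] at k1
      exact hα k1.symm
    have e3 : b * b = b' * b' := mul_right_cancel₀ hK (k1.trans k2.symm)
    have e4 : b = b' := sq_inj h2 e3
    exact ⟨by rw [e4], e4⟩

theorem root_eq {α a a' : F} (hα : α ≠ 0) (h : a * a * α + a = 0)
    (h' : a' * a' * α + a' = 0) (hd : a = 0 ↔ a' = 0) : a = a' := by
  by_cases ha : a = 0
  · rw [ha, hd.mp ha]
  · have ha' : a' ≠ 0 := fun h0 => ha (hd.mpr h0)
    have e1 : a * (a * α + 1) = 0 := by rw [← h]; ring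
    have e2 : a' * (a' * α + 1) = 0 := by rw [← h']; ring
    have f1 : a * α + 1 = 0 := (mul_eq_zero.mp e1).resolve_left ha
    have f2 : a' * α + 1 = 0 := (mul_eq_zero.mp e2).resolve_left ha'
    have f3 : a * α = a' * α := add_right_cancel (f1.trans f2.symm)
    exact mul_right_cancel₀ hα f3

theorem card_X_le [Fintype F] {q : ℕ} (hq : Fintype.card F = q) (C : Ctx Q)
    {x₁ y₁ : Fin n → F} (h1 : polar Q x₁ y₁ = 1) :
    Nat.card {x : Fin n → F // Q x = Q x₁} ≤ (q + 1) * Nat.card (Rad Q) := by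
  classical
  let f : {x : Fin n → F // Q x = Q x₁} → Option F × Rad Q := fun x =>
    (tau (polar Q x.1 y₁) (polar Q x.1 x₁), ⟨proj Q x₁ y₁ x.1, Q_proj C h1 x.1⟩)
  have hf : Function.Injective f := by
    rintro ⟨x, hx⟩ ⟨x', hx'⟩ h
    have ht : tau (polar Q x y₁) (polar Q x x₁) = tau (polar Q x' y₁) (polar Q x' x₁) :=
      congrArg Prod.fst h
    have hr : proj Q x₁ y₁ x = proj Q x₁ y₁ x' := congrArg (fun p => (p.2 : Rad Q).1) h
    have d := decomp C.h2 Q x₁ y₁ x
    have d' := decomp C.h2 Q x₁ y₁ x'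
    have q1 := Q_comb C h1 (polar Q x y₁) (polar Q x x₁) (Q_proj C h1 x)
    have q2 := Q_comb C h1 (polar Q x' y₁) (polar Q x' x₁) (Q_proj C h1 x')
    rw [d, hx] at q1
    rw [d', hx'] at q2
    obtain ⟨ea, eb⟩ := tau_inj C.h2 (Q_ne_zero_of_polar C h1) q1.symm q2.symm ht
    apply Subtype.ext
    show x = x'
    rw [← d, ← d', ea, eb, hr]
  have h := Nat.card_le_card_of_injective f hf
  rwa [Nat.card_prod, Finite.card_option, Nat.card_eq_fintype_card (α := F), hq] at h

theorem card_Y_le [Fintype F] (C : Ctx Q) (x : Fin n → F) (β : F) :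
    Nat.card {y : Fin n → F // polar Q x y = 1 ∧ Q y = β} ≤ 2 * Nat.card (Rad Q) := by
  classical
  by_cases hne : Nonempty {y : Fin n → F // polar Q x y = 1 ∧ Q y = β}
  · obtain ⟨⟨y₀, h1, hβ⟩⟩ := hne
    let f : {y : Fin n → F // polar Q x y = 1 ∧ Q y = β} → Bool × Rad Q := fun y =>
      (decide (polar Q y.1 y₀ = 0), ⟨proj Q x y₀ y.1, Q_proj C h1 y.1⟩)
    have key : ∀ y : Fin n → F, polar Q x y = 1 → Q y = β →
        polar Q y y₀ * polar Q y y₀ * Q x + polar Q y y₀ = 0 := by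
      intro y hy1 hyβ
      have q1 := Q_comb C h1 (polar Q y y₀) (polar Q y x) (Q_proj C h1 y)
      rw [decomp C.h2 Q x y₀ y, polar_comm Q y x, hy1, hyβ, hβ, mul_one, mul_one, one_mul] at q1
      have q2 : 0 + β = polar Q y y₀ * polar Q y y₀ * Q x + polar Q y y₀ + β := by
        rw [zero_add]; exact q1
      exact (add_right_cancel q2).symm
    have hf : Function.Injective f := by
      rintro ⟨y, hy1, hyβ⟩ ⟨y', hy1', hyβ'⟩ h
      have hdec : decide (polar Q y y₀ = 0) = decide (polar Q y' y₀ = 0) := congrArg Prod.fst h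
      have hr : proj Q x y₀ y = proj Q x y₀ y' := congrArg (fun p => (p.2 : Rad Q).1) h
      have hd : polar Q y y₀ = 0 ↔ polar Q y' y₀ = 0 := by
        simpa using hdec
      have ea := root_eq (Q_ne_zero_of_polar C h1) (key y hy1 hyβ) (key y' hy1' hyβ') hd
      have d := decomp C.h2 Q x y₀ y
      have d' := decomp C.h2 Q x y₀ y'
      apply Subtype.ext
      show y = y'
      rw [← d, ← d', ea, hr, polar_comm Q y x, polar_comm Q y' x, hy1, hy1']
    have h := Nat.card_le_card_of_injective f hf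
    rwa [Nat.card_prod, Nat.card_eq_fintype_card (α := Bool), Fintype.card_bool] at h
  · rw [not_nonempty_iff] at hne
    rw [Nat.card_of_isEmpty]
    exact Nat.zero_le _

theorem main [Fintype F] {q : ℕ} (hq : Fintype.card F = q) (h2 : (2 : F) = 0)
    (hn : 2 ≤ n) (Q : QuadraticForm F (Fin n → F))
    (hsing : ∀ x, Q x = 0 → ∀ y, QuadraticMap.polar Q x y = 0) (x₁ y₁ : Fin n → F)
    (h1 : QuadraticMap.polar Q x₁ y₁ = 1) :
    Nat.card (stdPairs Q (Q x₁) (Q y₁)) ≤ 2 * (q + 1) * q ^ (2 * (n - 2)) := by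
  classical
  have C : Ctx Q := ⟨h2, hsing⟩
  let X := {x : Fin n → F // Q x = Q x₁}
  let Y : X → Type _ := fun x => {y : Fin n → F // polar Q x.1 y = 1 ∧ Q y = Q y₁}
  let e : ↥(stdPairs Q (Q x₁) (Q y₁)) ≃ Σ x : X, Y x :=
    { toFun := fun p => ⟨⟨p.1.1, p.2.2.1⟩, ⟨p.1.2, p.2.1, p.2.2.2⟩⟩
      invFun := fun s => ⟨(s.1.1, s.2.1), s.2.2.1, s.1.2, s.2.2.2⟩
      left_inv := fun p => rfl
      right_inv := fun s => rfl }
  rw [Nat.card_congr e, Nat.card_sigma]
  calc ∑ x : X, Nat.card (Y x) ≤ ∑ _x : X, 2 * Nat.card (Rad Q) :=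
        Finset.sum_le_sum (fun x _ => card_Y_le C x.1 (Q y₁))
    _ = Nat.card X * (2 * Nat.card (Rad Q)) := by
        rw [Finset.sum_const, Finset.card_univ, smul_eq_mul, Nat.card_eq_fintype_card (α := X)]
    _ ≤ ((q + 1) * Nat.card (Rad Q)) * (2 * Nat.card (Rad Q)) :=
        Nat.mul_le_mul_right _ (card_X_le hq C h1)
    _ = 2 * (q + 1) * q ^ (2 * (n - 2)) := by
        rw [card_rad hq hn C h1, two_mul (n - 2), pow_add]; ring

end Cfsg.Agent.Lib.Helper94.SPMD.CaseB

namespace Cfsg.Agent.Lib.Helper94.SPMD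

open Matrix Module

section C
variable {F : Type*} [Field F] [Fintype F] {n : ℕ}

/-- **[C-CASEB]** Case B: every singular vector lies in the radical of the polar form -/
theorem card_stdPairs_le_of_aniso {q : ℕ} (hq : Fintype.card F = q) (h2 : (2 : F) = 0)
    (hn : 2 ≤ n) (Q : QuadraticForm F (Fin n → F))
    (hsing : ∀ x, Q x = 0 → ∀ y, QuadraticMap.polar Q x y = 0) (x₁ y₁ : Fin n → F)
    (h1 : QuadraticMap.polar Q x₁ y₁ = 1) :
    Nat.card (stdPairs Q (Q x₁) (Q y₁)) ≤ 2 * (q + 1) * q ^ (2 * (n - 2)) :=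
  CaseB.main hq h2 hn Q hsing x₁ y₁ h1

end C

end Cfsg.Agent.Lib.Helper94.SPMD
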