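import Mathlib
import Cfsg.Agent.Lib.Helper75.MajorSubWeight

/-!
# The number of characters of height zero and an arbitrary subsection (`p = 2`)

Shared library by helper75 (for S4541): the abstract trace argument behind
`k₀(B) ≤ α · 2^q` for a `2`-block `B` with a subsection `(u, b)` such that `b` has defect `q`.
-/

set_option autoImplicit false

namespace Cfsg.Agent.Lib.Helper75

open Cfsg Cfsg.Agent.Lib.Helper16 Cfsg.Agent.Lib.Helper82
open scoped ComplexConjugate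

section Abstract

variable {Ξ X : Type*} {M : Ideal AlgInt}

/-- **the abstract trace argument**: odd integers `T χ` (`χ` of height zero) with
`k₀ ≤ 2^q T χ` and `∑ T χ ≤ 2^q l`. -/
theorem height_zero_trace_abstract (hM : IsPModular 2 M) (k q : ℕ) (s : Finset Ξ)
    (Q : Ξ → Ξ → ℤ) (ρ : Ξ → ℂ) (hρ : ∀ ξ ∈ s, ρ ξ ^ (2 ^ k) = 1)
    (t t0 : Finset X) (ht0 : t0 ⊆ t) (n : X → Ξ → ℤ) (l : ℕ)
    (hdiag : ∀ (χ : X) (j : ℕ), ∃ r : ℝ, 0 ≤ r ∧ formA s Q ρ n χ χ j = (r : ℂ))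
    (htrace : ∀ j ∈ (Finset.range (2 ^ k)).filter (fun j => j.Coprime (2 ^ k)),
      ∑ χ ∈ t, formA s Q ρ n χ χ j = ((2 ^ q * l : ℕ) : ℂ))
    (hidem : ∀ ψ ∈ t, ∀ j ∈ (Finset.range (2 ^ k)).filter (fun j => j.Coprime (2 ^ k)),
      ∑ χ ∈ t, formA s Q ρ n χ ψ j * conj (formA s Q ρ n χ ψ j) =
        (2 : ℂ) ^ q * formA s Q ρ n ψ ψ j)
    (hunit : ∀ χ ∈ t0, ∀ ψ ∈ t0, ¬ (2 : ℤ) ∣ ∑ ξ ∈ s, ∑ ξ' ∈ s, n χ ξ * Q ξ ξ' * n ψ ξ') :
    ∃ T : X → ℤ, (∀ χ ∈ t0, Odd (T χ) ∧ (t0.card : ℤ) ≤ 2 ^ q * T χ) ∧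
      ∑ χ ∈ t0, T χ ≤ ((2 ^ q * l : ℕ) : ℤ) := by
  classical
  have : Fact (Nat.Prime 2) := ⟨Nat.prime_two⟩
  have hMp : M.IsPrime := isPModular_isPrime hM
  have hMtop : M ≠ ⊤ := hMp.ne_top
  set J := (Finset.range (2 ^ k)).filter (fun j => j.Coprime (2 ^ k)) with hJ
  have hJcard : J.card = (2 ^ k).totient := card_filter_coprime_range _
  have hφ : 0 < (2 ^ k).totient := Nat.totient_pos.mpr (pow_pos (by norm_num) k)
  have hφZ : (0 : ℤ) < ((2 ^ k).totient : ℤ) := by exact_mod_cast hφ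
  have hφR : (0 : ℝ) < ((2 ^ k).totient : ℝ) := by exact_mod_cast hφ
  have hμprod : ∀ i ∈ s ×ˢ s, (ρ i.1 * conj (ρ i.2)) ^ 2 ^ k = 1 := by
    intro i hi
    rw [Finset.mem_product] at hi
    exact pow_mul_conj_pow_eq_one (hρ _ hi.1) (hρ _ hi.2)
  have hprodsum : ∀ χ ψ : X, ∑ i ∈ s ×ˢ s, n χ i.1 * Q i.1 i.2 * n ψ i.2 =
      ∑ ξ ∈ s, ∑ ξ' ∈ s, n χ ξ * Q ξ ξ' * n ψ ξ' := fun χ ψ => Finset.sum_product _ _ _
  -- the integers `T χ`
  have hT : ∀ χ : X, ∃ Tχ : ℤ, ∑ j ∈ J, formA s Q ρ n χ χ j =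
      (((((2 ^ k).totient : ℤ) * Tχ : ℤ)) : ℂ) ∧ 0 ≤ Tχ ∧
      (2 : ℤ) ∣ Tχ - ∑ ξ ∈ s, ∑ ξ' ∈ s, n χ ξ * Q ξ ξ' * n χ ξ' := by
    intro χ
    obtain ⟨Tχ, h1, h2, -⟩ := real_trace_structure hM k (s ×ˢ s)
      (fun i => n χ i.1 * Q i.1 i.2 * n χ i.2) (fun i => ρ i.1 * conj (ρ i.2)) hμprod
      (by
        intro j
        rw [← formA_eq_sum_prod s Q ρ n χ χ j]
        obtain ⟨r, -, hr⟩ := hdiag χ j
        rw [hr, Complex.conj_ofReal])
    simp_rw [← formA_eq_sum_prod s Q ρ n χ χ] at h1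
    refine ⟨Tχ, h1, ?_, ?_⟩
    · have hnn := int_nonneg_of_sum (fun j => formA s Q ρ n χ χ j)
        (fun j _ => hdiag χ j) _ h1
      by_contra hneg
      push Not at hneg
      nlinarith
    · rw [← hprodsum]
      exact h2
  choose Tf hTf using hT
  refine ⟨Tf, ?_, ?_⟩
  · intro ψ hψ
    have hψt := ht0 hψ
    constructor
    · -- parity
      have h2 := (hTf ψ).2.2
      have h3 := hunit ψ hψ ψ hψ
      rw [← Int.not_even_iff_odd, even_iff_two_dvd]
      intro h4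
      apply h3
      have := dvd_sub h4 h2
      rwa [sub_sub_cancel] at this
    · -- the lower bound
      have hne : ∀ χ ∈ t0, ∀ j ∈ J, formA s Q ρ n χ ψ j ≠ 0 := by
        intro χ hχ j _ h0
        have h3 := memLocalIdeal_sum_pow_sub hM k (s ×ˢ s)
          (fun i => n χ i.1 * Q i.1 i.2 * n ψ i.2) (fun i => ρ i.1 * conj (ρ i.2)) hμprod j
        rw [← formA_eq_sum_prod s Q ρ n χ ψ j, h0, zero_sub] at h3
        have h4 := memLocalIdeal_neg h3
        rw [neg_neg, memLocalIdeal_intCast_iff hM, hprodsum] at h4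
        exact hunit χ hχ ψ hψ (by exact_mod_cast h4)
      have hlow : ∀ χ ∈ t0, ((2 ^ k).totient : ℝ) ≤
          ∑ j ∈ J, Complex.normSq (formA s Q ρ n χ ψ j) := by
        intro χ hχ
        have h5 := normSq_trace_ge hM k (s ×ˢ s)
          (fun i => n χ i.1 * Q i.1 i.2 * n ψ i.2) (fun i => ρ i.1 * conj (ρ i.2)) hμprod 0
          (by
            intro j _
            rw [pow_zero, div_one]
            exact memLocalRing_of_isIntegral hMtop
              (isIntegral_sum_int_mul_pow _ _ _ (pow_pos (by norm_num : 0 < 2) k) hμprod j))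
          (by
            intro j hj
            rw [← formA_eq_sum_prod s Q ρ n χ ψ j]
            exact hne χ hχ j hj)
        simp_rw [← formA_eq_sum_prod s Q ρ n χ ψ] at h5
        rw [pow_zero, mul_one] at h5
        exact h5
      -- the total
      have htot : ∑ χ ∈ t, ∑ j ∈ J, Complex.normSq (formA s Q ρ n χ ψ j) =
          (2 : ℝ) ^ q * (((2 ^ k).totient : ℝ) * (Tf ψ : ℝ)) := by
        have hC : ((∑ χ ∈ t, ∑ j ∈ J, Complex.normSq (formA s Q ρ n χ ψ j) : ℝ) : ℂ) =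
            (((2 : ℝ) ^ q * (((2 ^ k).totient : ℝ) * (Tf ψ : ℝ)) : ℝ) : ℂ) := by
          rw [Finset.sum_comm]
          push_cast
          have h6 : ∀ j ∈ J, ∑ χ ∈ t, (Complex.normSq (formA s Q ρ n χ ψ j) : ℂ) =
              (2 : ℂ) ^ q * formA s Q ρ n ψ ψ j := by
            intro j hj
            rw [← hidem ψ hψt j hj]
            apply Finset.sum_congr rfl
            intro χ _
            rw [Complex.mul_conj]
          rw [Finset.sum_congr rfl h6, ← Finset.mul_sum, (hTf ψ).1]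
          push_cast
          ring
        exact_mod_cast hC
      have hsub : ∑ χ ∈ t0, ∑ j ∈ J, Complex.normSq (formA s Q ρ n χ ψ j) ≤
          ∑ χ ∈ t, ∑ j ∈ J, Complex.normSq (formA s Q ρ n χ ψ j) :=
        Finset.sum_le_sum_of_subset_of_nonneg ht0
          (fun χ _ _ => Finset.sum_nonneg (fun j _ => Complex.normSq_nonneg _))
      have hlow2 : (t0.card : ℝ) * ((2 ^ k).totient : ℝ) ≤
          ∑ χ ∈ t0, ∑ j ∈ J, Complex.normSq (formA s Q ρ n χ ψ j) := by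
        have := Finset.sum_le_sum hlow
        rw [Finset.sum_const, nsmul_eq_mul] at this
        exact this
      have h7 : (t0.card : ℝ) * ((2 ^ k).totient : ℝ) ≤
          (2 : ℝ) ^ q * (((2 ^ k).totient : ℝ) * (Tf ψ : ℝ)) := by
        rw [← htot]
        exact hlow2.trans hsub
      have h8 : (t0.card : ℝ) ≤ (2 : ℝ) ^ q * (Tf ψ : ℝ) := by
        have h9 : ((2 ^ k).totient : ℝ) * (t0.card : ℝ) ≤
            ((2 ^ k).totient : ℝ) * ((2 : ℝ) ^ q * (Tf ψ : ℝ)) := by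
          calc ((2 ^ k).totient : ℝ) * (t0.card : ℝ)
              = (t0.card : ℝ) * ((2 ^ k).totient : ℝ) := by ring
            _ ≤ (2 : ℝ) ^ q * (((2 ^ k).totient : ℝ) * (Tf ψ : ℝ)) := h7
            _ = ((2 ^ k).totient : ℝ) * ((2 : ℝ) ^ q * (Tf ψ : ℝ)) := by ring
        exact le_of_mul_le_mul_left h9 hφR
      exact_mod_cast h8
  · -- the sum of the `T χ`
    have hsumT : ∑ χ ∈ t, Tf χ = ((2 ^ q * l : ℕ) : ℤ) := by
      have h1 : ∑ χ ∈ t, ∑ j ∈ J, formA s Q ρ n χ χ j =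
          (((2 ^ k).totient * (2 ^ q * l) : ℕ) : ℂ) := by
        rw [Finset.sum_comm, Finset.sum_congr rfl htrace, Finset.sum_const, hJcard, nsmul_eq_mul]
        push_cast
        ring
      have h2 : ∑ χ ∈ t, ∑ j ∈ J, formA s Q ρ n χ χ j =
          (((((2 ^ k).totient : ℤ) * ∑ χ ∈ t, Tf χ : ℤ)) : ℂ) := by
        rw [Finset.mul_sum]
        push_cast
        apply Finset.sum_congr rfl
        intro χ _
        rw [(hTf χ).1]
        push_cast
        rfl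
      rw [h1] at h2
      have h3 : (((2 ^ k).totient : ℤ) * ((2 ^ q * l : ℕ) : ℤ)) =
          ((2 ^ k).totient : ℤ) * ∑ χ ∈ t, Tf χ := by
        exact_mod_cast h2
      exact (mul_left_cancel₀ hφZ.ne' h3).symm
    rw [← hsumT]
    exact Finset.sum_le_sum_of_subset_of_nonneg ht0 (fun χ _ _ => (hTf χ).2.1)

/-- the arithmetic behind `k₀ ≤ α · 2^q` -/
theorem height_zero_count_arith (t0 : Finset X) (T : X → ℤ) (P l : ℕ) (hP : 0 < P)
    (hT : ∀ χ ∈ t0, Odd (T χ) ∧ (t0.card : ℤ) ≤ (P : ℤ) * T χ)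
    (hsum : ∑ χ ∈ t0, T χ ≤ ((P * l : ℕ) : ℤ)) :
    (Odd (Nat.sqrt l) → t0.card ≤ Nat.sqrt l * P) ∧
    (¬ Odd (Nat.sqrt l) → (Nat.sqrt l + 1) * t0.card ≤ l * P) ∧
    (l ≤ 3 → t0.card ≤ P) := by
  obtain ⟨k0, hk0⟩ : ∃ k0 : ℕ, k0 = t0.card := ⟨_, rfl⟩
  obtain ⟨r, hr⟩ : ∃ r : ℕ, r = Nat.sqrt l := ⟨_, rfl⟩
  have hr1 : r * r ≤ l := by rw [hr]; exact Nat.sqrt_le l
  have hr2 : l < (r + 1) * (r + 1) := by rw [hr]; exact Nat.lt_succ_sqrt l
  rw [← hk0, ← hr]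
  rw [← hk0] at hT
  have hPZ : (0 : ℤ) < (P : ℤ) := by exact_mod_cast hP
  -- a uniform lower bound `m ≤ T χ` gives `k0 * m ≤ P * l`
  have hunif : ∀ m : ℤ, (∀ χ ∈ t0, m ≤ T χ) → (k0 : ℤ) * m ≤ (P : ℤ) * (l : ℤ) := by
    intro m hm
    have h1 := Finset.sum_le_sum hm
    rw [Finset.sum_const, nsmul_eq_mul] at h1
    have h2 := h1.trans hsum
    push_cast at h2
    rw [hk0]
    exact h2
  have hA : Odd r → k0 ≤ r * P := by
    intro hodd
    by_contra hcon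
    push Not at hcon
    have hconZ : (r : ℤ) * (P : ℤ) < (k0 : ℤ) := by exact_mod_cast hcon
    have hm : ∀ χ ∈ t0, (r : ℤ) + 2 ≤ T χ := by
      intro χ hχ
      obtain ⟨hoddT, hlow⟩ := hT χ hχ
      have h1 : (r : ℤ) < T χ := by
        by_contra h
        push Not at h
        have : (P : ℤ) * T χ ≤ (P : ℤ) * (r : ℤ) := mul_le_mul_of_nonneg_left h hPZ.le
        nlinarith
      have hoddr : Odd (r : ℤ) := by exact_mod_cast hodd
      obtain ⟨a, ha⟩ := hoddT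
      obtain ⟨c, hc⟩ := hoddr
      omega
    have h2 := hunif _ hm
    have hk0pos : (0 : ℤ) < (k0 : ℤ) := lt_of_le_of_lt (by positivity) hconZ
    have h3 : (l : ℤ) < ((r : ℤ) + 1) * ((r : ℤ) + 1) := by exact_mod_cast hr2
    nlinarith
  have hB : ¬ Odd r → (r + 1) * k0 ≤ l * P := by
    intro hnodd
    by_contra hcon
    push Not at hcon
    have hconZ : (l : ℤ) * (P : ℤ) < ((r : ℤ) + 1) * (k0 : ℤ) := by exact_mod_cast hcon
    have heven : Even (r : ℤ) := by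
      have : Even r := Nat.not_odd_iff_even.mp hnodd
      exact_mod_cast this
    have hm : ∀ χ ∈ t0, (r : ℤ) + 1 ≤ T χ := by
      intro χ hχ
      obtain ⟨hoddT, hlow⟩ := hT χ hχ
      have h1 : (l : ℤ) < ((r : ℤ) + 1) * T χ := by
        have h2 : ((r : ℤ) + 1) * (k0 : ℤ) ≤ ((r : ℤ) + 1) * ((P : ℤ) * T χ) :=
          mul_le_mul_of_nonneg_left hlow (by positivity)
        have h3 : (l : ℤ) * (P : ℤ) < (P : ℤ) * (((r : ℤ) + 1) * T χ) := by nlinarith
        have h4 : (P : ℤ) * (l : ℤ) < (P : ℤ) * (((r : ℤ) + 1) * T χ) := by linarith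
        exact lt_of_mul_lt_mul_left h4 hPZ.le
      have h5 : (r : ℤ) * (r : ℤ) ≤ (l : ℤ) := by exact_mod_cast hr1
      have h6 : (r : ℤ) ≤ T χ := by
        by_contra h
        push Not at h
        have h7 : T χ ≤ (r : ℤ) - 1 := by omega
        have hr0 : (0 : ℤ) ≤ (r : ℤ) := by positivity
        nlinarith
      obtain ⟨a, ha⟩ := hoddT
      obtain ⟨c, hc⟩ := heven
      omega
    have h2 := hunif _ hm
    nlinarith
  refine ⟨hA, hB, ?_⟩
  intro hl
  have hr01 : r ≤ 1 := by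
    by_contra h
    push Not at h
    have : 2 * 2 ≤ r * r := Nat.mul_le_mul h h
    omega
  interval_cases r
  · have := hB (by decide)
    have hl0 : l = 0 := by omega
    rw [hl0] at this
    omega
  · have := hA (by decide)
    omega

end Abstract

end Cfsg.Agent.Lib.Helper75
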