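import Mathlib
import Cfsg.Agent.Lib.Helper75.BroueUnit
import Cfsg.Agent.Lib.Helper75.SubsecHeightZero
import Cfsg.Agent.Lib.Helper75.MajorSubMain

/-!
# `k₀(B) ≤ α · 2^q` for a `2`-block with an arbitrary subsection `(u, b)`, `b` of defect `q`

Shared library by helper75 (for S4541).
-/

set_option autoImplicit false
set_option linter.unusedSectionVars false
set_option linter.style.haveILetI false

namespace Cfsg.Agent.Lib.Helper75

open Cfsg Finset Cfsg.Agent.Lib.Helper16 Cfsg.Agent.Lib.Helper78 Cfsg.Agent.Lib.Helper79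
  Cfsg.Agent.Lib.Helper82
open scoped ComplexConjugate

universe u

section MainHZ

variable {G : Type u} [Group G] [Fintype G] {M : Ideal AlgInt}

open scoped Classical in
/-- **Héthelyi–Külshammer–Sambale**: `k₀(B) ≤ α · 2^q` for a `2`-block `B` with a subsection
`(y, b)` such that `b` has defect `q`; here `α = ⌊√l(b)⌋` if this is odd and
`α = l(b) / (⌊√l(b)⌋ + 1)` otherwise. -/
theorem height_zero_count_of_subsection (hM : IsPModular 2 M) (B : Set (IrrCharacter G))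
    (y : G) (hy : ∃ k : ℕ, orderOf y = 2 ^ k)
    (H : Subgroup G) [Fintype H] (hH : ∀ g : G, g ∈ H ↔ Commute y g)
    (b : Set (IrrCharacter H)) (hind : IsInducedBlock M H b B) :
    (Odd (Nat.sqrt (blockRank 2 b)) →
      (Finset.univ.filter (fun χ : IrrCharacter G =>
        χ ∈ B ∧ blockHeight 2 B (χ : G → ℂ) = 0)).card ≤
        Nat.sqrt (blockRank 2 b) * 2 ^ blockDefect 2 b) ∧
    (¬ Odd (Nat.sqrt (blockRank 2 b)) →
      (Nat.sqrt (blockRank 2 b) + 1) * (Finset.univ.filter (fun χ : IrrCharacter G =>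
        χ ∈ B ∧ blockHeight 2 B (χ : G → ℂ) = 0)).card ≤
        blockRank 2 b * 2 ^ blockDefect 2 b) ∧
    (blockRank 2 b ≤ 3 →
      (Finset.univ.filter (fun χ : IrrCharacter G =>
        χ ∈ B ∧ blockHeight 2 B (χ : G → ℂ) = 0)).card ≤ 2 ^ blockDefect 2 b) := by
  have hp : Nat.Prime 2 := Nat.prime_two
  have : Fact (Nat.Prime 2) := ⟨Nat.prime_two⟩
  have hMp : M.IsPrime := isPModular_isPrime hM
  have hb : IsPBlock M b := hind.1
  have hB : IsPBlock M B := hind.2.1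
  obtain ⟨k, hk⟩ := hy
  -- the central element
  have hyH : y ∈ H := (hH y).mpr (Commute.refl y)
  obtain ⟨z, hz⟩ : ∃ z : H, (z : G) = y := ⟨⟨y, hyH⟩, rfl⟩
  have hzc : z ∈ Subgroup.center H := by
    rw [Subgroup.mem_center_iff]
    intro h
    apply Subtype.ext
    simp only [Subgroup.coe_mul, hz]
    exact ((hH h).mp h.2).eq.symm
  have hzn : z ^ 2 ^ k = 1 := by
    apply Subtype.ext
    simp only [Subgroup.coe_pow, hz, Subgroup.coe_one]
    rw [← hk]
    exact pow_orderOf_eq_one y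
  set sb := Finset.univ.filter (fun ξ : IrrCharacter H => ξ ∈ b) with hsb
  set sB := Finset.univ.filter (fun χ : IrrCharacter G => χ ∈ B) with hsB
  set sB0 := Finset.univ.filter (fun χ : IrrCharacter G =>
    χ ∈ B ∧ blockHeight 2 B (χ : G → ℂ) = 0) with hsB0
  set J := (Finset.range (2 ^ k)).filter (fun j => j.Coprime (2 ^ k)) with hJ
  have hpow : ∀ j ∈ J, (∀ g : G, g ∈ H ↔ Commute (((z ^ j : H) : G)) g) ∧
      (∃ k' : ℕ, orderOf (((z ^ j : H) : G)) = 2 ^ k') ∧ (z ^ j) ^ 2 ^ k = 1 ∧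
      z ^ j ∈ Subgroup.center H := by
    intro j hj
    simp only [hJ, Finset.mem_filter, Finset.mem_range] at hj
    have hcop : (orderOf y).Coprime j := by rw [hk]; exact hj.2.symm
    have hord : orderOf (y ^ j) = 2 ^ k := by rw [hcop.orderOf_pow, hk]
    rw [Subgroup.coe_pow, hz]
    refine ⟨?_, ⟨k, hord⟩, ?_, Subgroup.pow_mem _ hzc j⟩
    · intro g
      rw [hH g]
      constructor
      · intro h
        exact h.pow_left j
      · intro h
        obtain ⟨m, hm⟩ := exists_pow_eq_self_of_coprime hcop.symm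
        rw [← hm]
        exact h.pow_left m
    · rw [← pow_mul, mul_comm, pow_mul, hzn, one_pow]
  have hcoe : ∀ j : ℕ, (z : G) ^ j = ((z ^ j : H) : G) := fun j => (Subgroup.coe_pow H z j).symm
  have hw : (0 : ℝ) < ((2 : ℕ) : ℝ) ^ blockDefect 2 b / (Nat.card H : ℝ) := by
    apply div_pos (pow_pos (by norm_num) _)
    exact_mod_cast Nat.card_pos
  have hA : ∀ (χ ψ : IrrCharacter G) (j : ℕ), formA sb (blockQ 2 b)
        (fun ξ => cScalar ξ z) (fun (χ : IrrCharacter G) ξ => (resMult H χ ξ : ℤ)) χ ψ j =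
      ((2 : ℕ) : ℂ) ^ blockDefect 2 b * secM 2 ((z : G) ^ j) H b (χ : G → ℂ) (ψ : G → ℂ) :=
    fun χ ψ j => formA_eq_pow_mul_secM hM H hb χ ψ hzc j
  have hgram := isGram_blockQ hM H hb
  have hsub : sB0 ⊆ sB := by
    intro χ hχ
    simp only [hsB0, hsB, Finset.mem_filter, Finset.mem_univ, true_and] at hχ ⊢
    exact hχ.1
  have htrace : ∀ j ∈ J, ∑ χ ∈ sB, formA sb (blockQ 2 b)
        (fun ξ => cScalar ξ z) (fun (χ : IrrCharacter G) ξ => (resMult H χ ξ : ℤ)) χ χ j =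
      ((2 ^ blockDefect 2 b * blockRank 2 b : ℕ) : ℂ) := by
    intro j hj
    obtain ⟨hHj, hordj, -, -⟩ := hpow j hj
    simp_rw [hA]
    rw [← Finset.mul_sum]
    have h1 := sum_secM_self hM ((z : G) ^ j) (by rw [hcoe]; exact hordj) H
      (by rw [hcoe]; exact hHj) hb
    have h2 : ∑ χ ∈ sB, secM 2 ((z : G) ^ j) H b (χ : G → ℂ) (χ : G → ℂ) =
        ∑ χ : IrrCharacter G, secM 2 ((z : G) ^ j) H b (χ : G → ℂ) (χ : G → ℂ) := by
      rw [hsB, Finset.sum_filter]
      apply Finset.sum_congr rfl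
      intro χ _
      split_ifs with hχ
      · rfl
      · rw [secM_eq_zero_of_not_mem_left hM ((z : G) ^ j) (by rw [hcoe]; exact hordj) H
          (by rw [hcoe]; exact hHj) hind χ hχ]
    rw [h2, h1]
    push_cast
    ring
  have hidem : ∀ ψ ∈ sB, ∀ j ∈ J, ∑ χ ∈ sB, formA sb (blockQ 2 b)
        (fun ξ => cScalar ξ z) (fun (χ : IrrCharacter G) ξ => (resMult H χ ξ : ℤ)) χ ψ j *
        conj (formA sb (blockQ 2 b)
        (fun ξ => cScalar ξ z) (fun (χ : IrrCharacter G) ξ => (resMult H χ ξ : ℤ)) χ ψ j) =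
      (2 : ℂ) ^ blockDefect 2 b * formA sb (blockQ 2 b)
        (fun ξ => cScalar ξ z) (fun (χ : IrrCharacter G) ξ => (resMult H χ ξ : ℤ)) ψ ψ j := by
    intro ψ hψ j hj
    obtain ⟨hHj, hordj, -, -⟩ := hpow j hj
    simp_rw [hA]
    have h1 := sum_secM_mul_conj hM ((z : G) ^ j) (by rw [hcoe]; exact hordj) H
      (by rw [hcoe]; exact hHj) hb (ψ : G → ℂ)
    have h2 : ∑ χ ∈ sB, secM 2 ((z : G) ^ j) H b (χ : G → ℂ) (ψ : G → ℂ) *
          conj (secM 2 ((z : G) ^ j) H b (χ : G → ℂ) (ψ : G → ℂ)) =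
        secM 2 ((z : G) ^ j) H b (ψ : G → ℂ) (ψ : G → ℂ) := by
      rw [← h1, hsB, Finset.sum_filter]
      apply Finset.sum_congr rfl
      intro χ _
      split_ifs with hχ
      · rw [secM_conj, ← secM_conj 2 ((z : G) ^ j) H b (ψ : G → ℂ) (χ : G → ℂ), mul_comm]
      · rw [secM_eq_zero_of_not_mem_right hM ((z : G) ^ j) (by rw [hcoe]; exact hordj) H
          (by rw [hcoe]; exact hHj) hind _ χ hχ, zero_mul]
    rw [← h2, Finset.mul_sum, Finset.mul_sum]
    apply Finset.sum_congr rfl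
    intro χ _
    rw [map_mul, map_pow, Complex.conj_natCast]
    push_cast
    ring
  have hunit : ∀ χ ∈ sB0, ∀ ψ ∈ sB0, ¬ (2 : ℤ) ∣ ∑ ξ ∈ sb, ∑ ξ' ∈ sb,
      (resMult H χ ξ : ℤ) * blockQ 2 b ξ ξ' * (resMult H ψ ξ' : ℤ) := by
    intro χ hχ ψ hψ
    simp only [hsB0, Finset.mem_filter, Finset.mem_univ, true_and] at hχ hψ
    have := not_dvd_sum_resMult_blockQ_of_induced hM H hind hχ.1 hψ.1 hχ.2 hψ.2
    exact_mod_cast this
  obtain ⟨T, hT1, hT2⟩ := height_zero_trace_abstract hM k (blockDefect 2 b) sb (blockQ 2 b)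
    (fun ξ => cScalar ξ z) (fun ξ _ => cScalar_pow_eq_one ξ hzc hzn) sB sB0 hsub
    (fun (χ : IrrCharacter G) ξ => (resMult H χ ξ : ℤ)) (blockRank 2 b)
    (fun χ j => sesq_self_nonneg hgram hw.le _) htrace hidem hunit
  · have hP : 0 < 2 ^ blockDefect 2 b := pow_pos (by norm_num) _
    exact height_zero_count_arith sB0 T (2 ^ blockDefect 2 b) (blockRank 2 b) hP
      (by
        intro χ hχ
        obtain ⟨h1, h2⟩ := hT1 χ hχ
        refine ⟨h1, ?_⟩
        push_cast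
        exact h2) hT2

end MainHZ

end Cfsg.Agent.Lib.Helper75
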