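import Mathlib
import Cfsg.Agent.Lib.Helper16.PIndex
import Cfsg.Agent.Lib.Helper16.BrauerIdem
import Cfsg.Agent.Lib.Helper75.PrincipalLambda

/-!
# Sums of block idempotent coefficients over a subgroup (helper75, for S4583)

* `sum_blockCoeff_subgroup_mul`: pairing the coefficients of the idempotent of `B`, restricted to a
  subgroup `H`, against a function on `H` (no normality needed).
* `sum_not_mem_centralizer_subgroup_memLocalIdeal`: for a `p`-subgroup `P ≤ H` and a class
  function `F` of `G` with locally integral values, the sum of `F` over the elements of `H` not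
  centralizing `P` lies in the local ideal.
-/

set_option autoImplicit false
set_option linter.style.haveILetI false
set_option linter.unusedSectionVars false

namespace Cfsg.Agent.Lib.Helper75

open Cfsg Cfsg.Agent.Lib.Helper16
open scoped ComplexConjugate

section A

variable {G : Type*} [Group G] [Fintype G] (H : Subgroup G) [Fintype H]

open scoped Classical in
/-- Pairing the coefficients of the sum of block idempotents of `G`, restricted to a subgroup `H`,
against a function on `H`. -/
theorem sum_blockCoeff_subgroup_mul (B : Set (IrrCharacter G)) (ψ : H → ℂ) :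
    ∑ h : H, blockCoeff B (h : G) * ψ h = (Nat.card H : ℂ) / (Nat.card G : ℂ) *
      ∑ χ ∈ Finset.univ.filter (fun χ : IrrCharacter G => χ ∈ B),
        (χ : G → ℂ) 1 * classInner ψ (fun h : H => (χ : G → ℂ) h) := by
  have hN0 : (Nat.card H : ℂ) ≠ 0 := by exact_mod_cast Nat.card_pos.ne'
  simp only [Cfsg.Agent.Lib.Helper16.blockCoeff_eq_sum, Finset.mul_sum, Finset.sum_mul]
  rw [Finset.sum_comm]
  refine Finset.sum_congr rfl fun χ _ => ?_
  unfold classInner
  rw [Finset.mul_sum, Finset.mul_sum, Finset.mul_sum]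
  refine Finset.sum_congr rfl fun n _ => ?_
  field_simp

end A

section B

variable {G : Type*} [Group G] [Fintype G] {M : Ideal AlgInt}

/-- Conjugation action of `P ≤ H` on the elements of `H` in a given `G`-class that do not
centralize `P`. -/
@[reducible] def subgroupFibreAction (P H : Subgroup G) (hPH : P ≤ H) (c : ConjClasses G) :
    MulAction P {h : H // (h : G) ∉ Subgroup.centralizer (P : Set G) ∧
      ConjClasses.mk (h : G) = c} where
  smul u x := ⟨⟨(u : G) * (x.1 : G) * (u : G)⁻¹,
      H.mul_mem (H.mul_mem (hPH u.2) x.1.2) (H.inv_mem (hPH u.2))⟩, by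
    intro hy
    apply x.2.1
    have hy' : (u : G) * (x.1 : G) * (u : G)⁻¹ ∈ Subgroup.centralizer (P : Set G) := hy
    have huC : ∀ v : G, v ∈ P → (u : G)⁻¹ * v * (u : G) ∈ P := fun v hv =>
      P.mul_mem (P.mul_mem (P.inv_mem u.2) hv) u.2
    rw [Subgroup.mem_centralizer_iff] at hy' ⊢
    intro v hv
    have h1 := hy' ((u : G) * v * (u : G)⁻¹)
      (P.mul_mem (P.mul_mem u.2 hv) (P.inv_mem u.2))
    have : (u : G)⁻¹ * ((u : G) * v * (u : G)⁻¹ * ((u : G) * (x.1 : G) * (u : G)⁻¹)) * (u : G) =
        (u : G)⁻¹ * ((u : G) * (x.1 : G) * (u : G)⁻¹ * ((u : G) * v * (u : G)⁻¹)) * (u : G) := by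
      rw [h1]
    calc v * (x.1 : G) = (u : G)⁻¹ * ((u : G) * v * (u : G)⁻¹ *
          ((u : G) * (x.1 : G) * (u : G)⁻¹)) * (u : G) := by group
      _ = (u : G)⁻¹ * ((u : G) * (x.1 : G) * (u : G)⁻¹ * ((u : G) * v * (u : G)⁻¹)) * (u : G) :=
          this
      _ = (x.1 : G) * v := by group, by
    refine Eq.trans ?_ x.2.2
    rw [ConjClasses.mk_eq_mk_iff_isConj]
    exact isConj_iff.mpr ⟨(u : G)⁻¹, by
      show (u : G)⁻¹ * ((u : G) * (x.1 : G) * (u : G)⁻¹) * (u : G)⁻¹⁻¹ = (x.1 : G)
      group⟩⟩
  one_smul x := by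
    apply Subtype.ext
    apply Subtype.ext
    show ((1 : P) : G) * (x.1 : G) * ((1 : P) : G)⁻¹ = (x.1 : G)
    simp
  mul_smul s s' x := by
    apply Subtype.ext
    apply Subtype.ext
    show ((s * s' : P) : G) * (x.1 : G) * ((s * s' : P) : G)⁻¹ =
      (s : G) * ((s' : G) * (x.1 : G) * (s' : G)⁻¹) * (s : G)⁻¹
    simp only [Subgroup.coe_mul, mul_inv_rev]
    group

/-- The fibres of `h ↦ class of h` on the elements of `H` outside the centralizer of the
`p`-group `P ≤ H` have cardinality divisible by `p`. -/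
theorem dvd_card_subgroupFibre {p : ℕ} [Fact p.Prime] (P H : Subgroup G) (hP : IsPGroup p P)
    (hPH : P ≤ H) (c : ConjClasses G) :
    p ∣ Nat.card {h : H // (h : G) ∉ Subgroup.centralizer (P : Set G) ∧
      ConjClasses.mk (h : G) = c} := by
  classical
  let _ := subgroupFibreAction P H hPH c
  by_contra hnd
  obtain ⟨x, hx⟩ := hP.nonempty_fixed_point_of_prime_not_dvd_card
    {h : H // (h : G) ∉ Subgroup.centralizer (P : Set G) ∧ ConjClasses.mk (h : G) = c} hnd
  apply x.2.1
  rw [Subgroup.mem_centralizer_iff]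
  intro u hu
  have hfix : (⟨u, hu⟩ : P) • x = x := hx ⟨u, hu⟩
  have hfix' : u * (x.1 : G) * u⁻¹ = (x.1 : G) :=
    congrArg (fun y : {h : H // (h : G) ∉ Subgroup.centralizer (P : Set G) ∧
      ConjClasses.mk (h : G) = c} => ((y.1 : H) : G)) hfix
  exact (mul_inv_eq_iff_eq_mul.mp hfix')

open scoped Classical in
/-- For a `p`-subgroup `P ≤ H` and a class function `F` of `G` with locally integral values, the
sum of `F` over the elements of `H` not centralizing `P` lies in the local ideal. -/
theorem sum_not_mem_centralizer_subgroup_memLocalIdeal {p : ℕ} [Fact p.Prime]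
    (hM : IsPModular p M) (P H : Subgroup G) [Fintype H] (hP : IsPGroup p P) (hPH : P ≤ H)
    {F : G → ℂ} (hF : IsClassFunction G F) (hFR : ∀ g, MemLocalRing M (F g)) :
    MemLocalIdeal M (∑ h ∈ Finset.univ.filter
      (fun h : H => (h : G) ∉ Subgroup.centralizer (P : Set G)), F (h : G)) := by
  have hMp := isPModular_isPrime hM
  rw [← Finset.sum_fiberwise_of_maps_to
    (s := Finset.univ.filter (fun h : H => (h : G) ∉ Subgroup.centralizer (P : Set G)))
    (t := (Finset.univ : Finset (ConjClasses G)))
    (g := fun h : H => ConjClasses.mk (h : G))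
    (fun _ _ => Finset.mem_univ _)]
  apply memLocalIdeal_sum
  intro c _
  have hconst : ∀ h ∈ (Finset.univ.filter
      (fun h : H => (h : G) ∉ Subgroup.centralizer (P : Set G))).filter
      (fun h : H => ConjClasses.mk (h : G) = c), F (h : G) = F (classRep c) := by
    intro h hh
    have h2 := (Finset.mem_filter.mp hh).2
    obtain ⟨d, hd⟩ := isConj_iff.mp (isConj_classRep_mk (h : G))
    rw [← h2]
    conv_lhs => rw [← hd, hF]
  rw [Finset.sum_congr rfl hconst, Finset.sum_const, nsmul_eq_mul]
  apply memLocalIdeal_mul_right _ (hFR _)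
  rw [memLocalIdeal_natCast_iff hM]
  have hcard : ((Finset.univ.filter
      (fun h : H => (h : G) ∉ Subgroup.centralizer (P : Set G))).filter
      (fun h : H => ConjClasses.mk (h : G) = c)).card =
      Nat.card {h : H // (h : G) ∉ Subgroup.centralizer (P : Set G) ∧
        ConjClasses.mk (h : G) = c} := by
    rw [Nat.card_eq_fintype_card, Fintype.card_subtype, Finset.filter_filter]
  rw [hcard]
  exact dvd_card_subgroupFibre P H hP hPH c

end B

end Cfsg.Agent.Lib.Helper75
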