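import Mathlib
import Cfsg.Agent.S0915
import Cfsg.Agent.Lib.Helper75.PrimeCoreBlock
import Cfsg.Agent.Lib.Helper25.PLength2
import Cfsg.Agent.Lib.Helper22.PPrimeCore
import Cfsg.Agent.Lib.Helper76.PCore
import Cfsg.Agent.Lib.Helper82.NormalSylowBlocks

/-!
# The principal block idempotent of a group with a normal Sylow `p`-subgroup (helper75)

If `L` has a normal Sylow `p`-subgroup, its principal block consists of the irreducible characters
with `O_{p'}(L)` in the kernel, and the idempotent coefficient at `h` is `1/|O_{p'}(L)|` for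
`h ∈ O_{p'}(L)` and `0` otherwise.
-/

set_option autoImplicit false
set_option linter.style.haveILetI false
set_option linter.unusedSectionVars false

namespace Cfsg.Agent.Lib.Helper75

open Cfsg Cfsg.Agent.Lib.Helper16 Cfsg.Agent.Lib.Helper77
open scoped ComplexConjugate

section C

variable {L : Type*} [Group L] [Finite L]

/-- In a `p`-solvable group with trivial `p'`-core all irreducible characters lie in the principal
block. -/
theorem principalBlock_eq_univ_of_isPSolvable {p : ℕ} [Fact p.Prime] {M : Ideal AlgInt}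
    (hM : IsPModular p M) (hsolv : IsPSolvable p L) (hcore : pPrimeCore p L = ⊥) :
    principalBlock M L = Set.univ := by
  ext χ
  simp only [Set.mem_univ, iff_true]
  exact Cfsg.Agent.S0915.result p M hM hsolv hcore (oneIrr L) χ

open scoped Classical in
/-- The idempotent coefficients of the principal block of a `p`-solvable group. -/
theorem blockCoeff_principalBlock_of_isPSolvable {p : ℕ} [Fact p.Prime] {M : Ideal AlgInt}
    (hM : IsPModular p M) (hsolv : IsPSolvable p L) (h : L) :
    blockCoeff (principalBlock M L) h =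
      if h ∈ pPrimeCore p L then (Nat.card (pPrimeCore p L) : ℂ)⁻¹ else 0 := by
  haveI : Fintype L := Fintype.ofFinite L
  set K := pPrimeCore p L with hK
  haveI : Fintype (L ⧸ K) := Fintype.ofFinite _
  have hp : ¬ p ∣ Nat.card K := by
    have hc := Cfsg.Agent.Lib.Helper76.pPrimeCore_coprime (G := L) p
    exact fun hdvd => (Nat.Prime.coprime_iff_not_dvd Fact.out).mp hc.symm hdvd
  have hsolvQ : IsPSolvable p (L ⧸ K) :=
    Cfsg.Agent.Lib.Helper76.IsPSolvable_of_surjective p (QuotientGroup.mk' K)
      (QuotientGroup.mk'_surjective K) hsolv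
  have hcoreQ : pPrimeCore p (L ⧸ K) = ⊥ := Cfsg.Agent.Lib.Helper22.pPrimeCore_quotient_eq_bot p
  have huniv := principalBlock_eq_univ_of_isPSolvable hM hsolvQ hcoreQ
  unfold blockCoeff
  rw [finsum_principalBlock_eq_finsum_quotient K hM hp
    (fun χ : IrrCharacter L => (χ : L → ℂ) 1 * conj ((χ : L → ℂ) h)), huniv]
  rw [finsum_mem_univ, finsum_eq_sum_of_fintype]
  simp only [inflate_apply]
  have hcardK : (Nat.card K : ℂ) ≠ 0 := by exact_mod_cast Nat.card_pos.ne'
  have hcardL : (Nat.card L : ℂ) = (Nat.card (L ⧸ K) : ℂ) * (Nat.card K : ℂ) := by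
    rw [← Nat.cast_mul, ← Subgroup.card_eq_card_quotient_mul_card_subgroup]
  by_cases hh : h ∈ K
  · rw [if_pos hh]
    have h1 : ((h : L) : L ⧸ K) = ((1 : L) : L ⧸ K) := by
      rw [QuotientGroup.mk_one]
      exact (QuotientGroup.eq_one_iff h).mpr hh
    rw [h1]
    have h2 := Cfsg.Agent.Lib.Helper78.second_orthogonality_of_isConj
      (g := ((1 : L) : L ⧸ K)) (h := ((1 : L) : L ⧸ K)) (IsConj.refl _)
    rw [h2]
    have h3 : Nat.card (Subgroup.centralizer ({((1 : L) : L ⧸ K)} : Set (L ⧸ K))) =
        Nat.card (L ⧸ K) := by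
      rw [QuotientGroup.mk_one]
      have : Subgroup.centralizer ({(1 : L ⧸ K)} : Set (L ⧸ K)) = ⊤ := by
        ext x
        simp [Subgroup.mem_centralizer_singleton_iff]
      rw [this, Subgroup.card_top]
    rw [h3, hcardL]
    have hQ0 : (Nat.card (L ⧸ K) : ℂ) ≠ 0 := by exact_mod_cast Nat.card_pos.ne'
    field_simp
  · rw [if_neg hh]
    have hnc : ¬ IsConj ((1 : L) : L ⧸ K) ((h : L) : L ⧸ K) := by
      intro hc
      rw [QuotientGroup.mk_one, isConj_one_right] at hc
      exact hh ((QuotientGroup.eq_one_iff h).mp hc)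
    rw [Cfsg.Agent.Lib.Helper78.second_orthogonality_of_not_isConj hnc, mul_zero]

open scoped Classical in
/-- The idempotent coefficients of the principal block of a group with a normal Sylow
`p`-subgroup. -/
theorem blockCoeff_principalBlock_of_normal_sylow {p : ℕ} [Fact p.Prime] {M : Ideal AlgInt}
    (hM : IsPModular p M) (Q : Sylow p L) (hQ : (Q : Subgroup L).Normal) (h : L) :
    blockCoeff (principalBlock M L) h =
      if h ∈ pPrimeCore p L then (Nat.card (pPrimeCore p L) : ℂ)⁻¹ else 0 :=
  blockCoeff_principalBlock_of_isPSolvable hM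
    (Cfsg.Agent.Lib.Helper25.isPSolvable_of_normal_sylow p Q hQ) h

end C

end Cfsg.Agent.Lib.Helper75
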