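import Mathlib
import Cfsg.Agent.S0919
import Cfsg.Agent.S0936
import Cfsg.Agent.Lib.Helper75.SylowOver1
import Cfsg.Agent.Lib.Helper75.SylowOver2

/-!
# The principal block idempotent summed over a subgroup containing a Sylow subgroup (helper75)

* `blockCoeff_principal_sub_normalizer`: the principal block idempotents of `G` and of `N_G(P)`,
  `P` a Sylow `p`-subgroup, have congruent coefficients at the elements centralizing `P`.
* `sum_blockCoeff_principal_not_memLocalIdeal`: for `P ≤ H`, the sum over `H` of the coefficients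
  of the principal block idempotent of `G` is a local unit.
* `exists_principal_over_of_sylow_le`: for `P ≤ H` and `η ∈ B₀(H)` of `p'`-degree, some
  `χ ∈ B₀(G)` of `p'`-degree has `η` as a constituent of its restriction to `H`.
-/

set_option autoImplicit false
set_option linter.style.haveILetI false
set_option linter.unusedSectionVars false

namespace Cfsg.Agent.Lib.Helper75

open Cfsg Cfsg.Agent.Lib.Helper16
open scoped ComplexConjugate

universe u

section D

variable {G : Type u} [Group G] [Fintype G] {M : Ideal AlgInt}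

/-- The principal block idempotents of `G` and of the normalizer of a Sylow `p`-subgroup `P` have
congruent coefficients at the elements centralizing `P`. -/
theorem blockCoeff_principal_sub_normalizer {p : ℕ} [Fact p.Prime] (hM : IsPModular p M)
    (P : Sylow p G) [Fintype (Subgroup.normalizer ((P : Subgroup G) : Set G))]
    (n : Subgroup.normalizer ((P : Subgroup G) : Set G))
    (hn : (n : G) ∈ Subgroup.centralizer ((P : Subgroup G) : Set G)) :
    MemLocalIdeal M (blockCoeff (principalBlock M G) (n : G) -
      blockCoeff (principalBlock M (Subgroup.normalizer ((P : Subgroup G) : Set G))) n) := by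
  have hMp := isPModular_isPrime hM
  have hP : IsPGroup p (P : Subgroup G) := P.isPGroup'
  have hPL : (P : Subgroup G) ≤ Subgroup.normalizer ((P : Subgroup G) : Set G) :=
    Subgroup.le_normalizer
  have hCL : Subgroup.centralizer ((P : Subgroup G) : Set G) ≤
      Subgroup.normalizer ((P : Subgroup G) : Set G) :=
    Subgroup.centralizer_le_normalizer _
  have hB : IsPBlock M (principalBlock M (Subgroup.normalizer ((P : Subgroup G) : Set G))) :=
    ⟨oneIrr _, rfl⟩
  have hdef := Cfsg.Agent.S0919.result p M hM (P : Subgroup G)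
    (Subgroup.normalizer ((P : Subgroup G) : Set G)) hP hPL hCL le_rfl
    (principalBlock M (Subgroup.normalizer ((P : Subgroup G) : Set G))) hB
  have hind : IsInducedBlock M (Subgroup.normalizer ((P : Subgroup G) : Set G))
      (principalBlock M (Subgroup.normalizer ((P : Subgroup G) : Set G)))
      (principalBlock M G) :=
    (Cfsg.Agent.S0936.result p M hM (Subgroup.normalizer ((P : Subgroup G) : Set G))
      (principalBlock M (Subgroup.normalizer ((P : Subgroup G) : Set G))) hdef).mpr rfl
  have hidx : ¬ p ∣ ((P : Subgroup G).subgroupOf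
      (Subgroup.normalizer ((P : Subgroup G) : Set G))).index := by
    intro hdvd
    have h1 : (P : Subgroup G).relIndex (Subgroup.normalizer ((P : Subgroup G) : Set G)) *
        (Subgroup.normalizer ((P : Subgroup G) : Set G)).index = (P : Subgroup G).index :=
      Subgroup.relIndex_mul_index hPL
    apply P.not_dvd_index
    rw [← h1]
    exact Dvd.dvd.mul_right hdvd _
  haveI hnor : ((P : Subgroup G).subgroupOf
      (Subgroup.normalizer ((P : Subgroup G) : Set G))).Normal := Subgroup.normal_in_normalizer
  have hPsub : IsPGroup p ((P : Subgroup G).subgroupOf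
      (Subgroup.normalizer ((P : Subgroup G) : Set G))) :=
    hP.comap_of_injective (Subgroup.normalizer ((P : Subgroup G) : Set G)).subtype
      (Subgroup.subtype_injective _)
  have hDβ : IsDefectGroup p M
      (principalBlock M (Subgroup.normalizer ((P : Subgroup G) : Set G)))
      ((P : Subgroup G).subgroupOf (Subgroup.normalizer ((P : Subgroup G) : Set G))) :=
    Cfsg.Agent.Lib.Helper82.isDefectGroup_of_normal_sylow hM _ hPsub hidx hB
  exact blockCoeff_sub_blockCoeff_of_isInducedBlock hM (P : Subgroup G) hP hDβ hind n hn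


open scoped Classical in
/-- For a Sylow `p`-subgroup `P ≤ H`, the sum over `H` of the coefficients of the principal block
idempotent of `G` is a unit of the local ring. -/
theorem sum_blockCoeff_principal_not_memLocalIdeal {p : ℕ} [Fact p.Prime] (hM : IsPModular p M)
    (P : Sylow p G) (H : Subgroup G) [Fintype H] (hPH : (P : Subgroup G) ≤ H) :
    MemLocalRing M (∑ h : H, blockCoeff (principalBlock M G) (h : G)) ∧
      ¬ MemLocalIdeal M (∑ h : H, blockCoeff (principalBlock M G) (h : G)) := by
  have hMp := isPModular_isPrime hM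
  have hp : p.Prime := Fact.out
  have hB : IsPBlock M (principalBlock M G) := ⟨oneIrr G, rfl⟩
  have hER : ∀ g : G, MemLocalRing M (blockCoeff (principalBlock M G) g) :=
    fun g => blockCoeff_memLocalRing hB g
  have hEcl : IsClassFunction G (fun g => blockCoeff (principalBlock M G) g) :=
    fun g h => blockCoeff_conj _ g h
  refine ⟨memLocalRing_sum _ _ (fun h _ => hER _), ?_⟩
  haveI : Fintype (Subgroup.normalizer ((P : Subgroup G) : Set G)) := Fintype.ofFinite _
  have hP : IsPGroup p (P : Subgroup G) := P.isPGroup'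
  have hPL : (P : Subgroup G) ≤ Subgroup.normalizer ((P : Subgroup G) : Set G) :=
    Subgroup.le_normalizer
  have hCL : Subgroup.centralizer ((P : Subgroup G) : Set G) ≤
      Subgroup.normalizer ((P : Subgroup G) : Set G) :=
    Subgroup.centralizer_le_normalizer _
  -- the normal Sylow subgroup of the normalizer
  have hQn : ((P.subtype hPL : Sylow p (Subgroup.normalizer ((P : Subgroup G) : Set G))) :
      Subgroup (Subgroup.normalizer ((P : Subgroup G) : Set G))).Normal := by
    rw [Sylow.coe_subtype]
    exact Subgroup.normal_in_normalizer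
  set K := pPrimeCore p (Subgroup.normalizer ((P : Subgroup G) : Set G)) with hK
  set K' : Subgroup G := K.map (Subgroup.normalizer ((P : Subgroup G) : Set G)).subtype with hK'
  have hcardK' : Nat.card K' = Nat.card K :=
    Subgroup.card_map_of_injective (Subgroup.subtype_injective _)
  have hpK : ¬ p ∣ Nat.card K := by
    have hc := Cfsg.Agent.Lib.Helper76.pPrimeCore_coprime
      (G := Subgroup.normalizer ((P : Subgroup G) : Set G)) p
    exact fun hdvd => (Nat.Prime.coprime_iff_not_dvd hp).mp hc.symm hdvd
  have hK0 : (Nat.card K : ℂ) ≠ 0 := by exact_mod_cast Nat.card_pos.ne'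
  -- split the sum
  have hsplit := Finset.sum_filter_add_sum_filter_not (Finset.univ : Finset H)
    (fun h : H => (h : G) ∈ Subgroup.centralizer ((P : Subgroup G) : Set G))
    (fun h : H => blockCoeff (principalBlock M G) (h : G))
  have hS1 := sum_not_mem_centralizer_subgroup_memLocalIdeal hM (P : Subgroup G) H hP hPH hEcl hER
  -- the part inside the centralizer
  have hS2 : MemLocalIdeal M
      (∑ h ∈ Finset.univ.filter
          (fun h : H => (h : G) ∈ Subgroup.centralizer ((P : Subgroup G) : Set G)),
        blockCoeff (principalBlock M G) (h : G) -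
      ∑ h ∈ Finset.univ.filter
          (fun h : H => (h : G) ∈ Subgroup.centralizer ((P : Subgroup G) : Set G)),
        (if (h : G) ∈ K' then (Nat.card K : ℂ)⁻¹ else 0)) := by
    rw [← Finset.sum_sub_distrib]
    apply memLocalIdeal_sum
    intro h hh
    have hhC : (h : G) ∈ Subgroup.centralizer ((P : Subgroup G) : Set G) :=
      (Finset.mem_filter.mp hh).2
    have h1 := blockCoeff_principal_sub_normalizer hM P ⟨(h : G), hCL hhC⟩ hhC
    rw [blockCoeff_principalBlock_of_normal_sylow hM (P.subtype hPL) hQn] at h1
    have hiff : (⟨(h : G), hCL hhC⟩ : Subgroup.normalizer ((P : Subgroup G) : Set G)) ∈ K ↔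
        (h : G) ∈ K' := by
      rw [hK', Subgroup.mem_map]
      constructor
      · intro hm
        exact ⟨_, hm, rfl⟩
      · rintro ⟨x, hx, hxe⟩
        have : x = ⟨(h : G), hCL hhC⟩ := Subtype.ext hxe
        rwa [← this]
    by_cases hm : (h : G) ∈ K'
    · rw [if_pos hm]
      rw [if_pos (hiff.mpr hm)] at h1
      exact h1
    · rw [if_neg hm]
      rw [if_neg (fun h' => hm (hiff.mp h'))] at h1
      exact h1
  -- count
  set A : Subgroup G := Subgroup.centralizer ((P : Subgroup G) : Set G) ⊓ K' ⊓ H with hA
  have hcount : ∑ h ∈ Finset.univ.filter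
      (fun h : H => (h : G) ∈ Subgroup.centralizer ((P : Subgroup G) : Set G)),
      (if (h : G) ∈ K' then (Nat.card K : ℂ)⁻¹ else 0) = (Nat.card A : ℂ) * (Nat.card K : ℂ)⁻¹ := by
    rw [← Finset.sum_filter, Finset.sum_const, nsmul_eq_mul, Finset.filter_filter]
    congr 2
    have hAH : A ≤ H := inf_le_right
    rw [← Nat.card_congr (Subgroup.subgroupOfEquivOfLe hAH).toEquiv, Nat.card_eq_fintype_card,
      Fintype.card_subtype]
    congr 1
    ext h
    simp only [Finset.mem_filter, Finset.mem_univ, true_and, Subgroup.mem_subgroupOf, hA,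
      Subgroup.mem_inf]
    constructor
    · rintro ⟨h1, h2⟩
      exact ⟨⟨h1, h2⟩, h.2⟩
    · rintro ⟨⟨h1, h2⟩, _⟩
      exact ⟨h1, h2⟩
  have hAK : Nat.card A ∣ Nat.card K := by
    rw [← hcardK']
    exact Subgroup.card_dvd_of_le (inf_le_left.trans inf_le_right)
  have hpA : ¬ p ∣ Nat.card A := fun h => hpK (h.trans hAK)
  intro hcon
  rw [← hsplit] at hcon
  -- the inside part lies in the ideal
  have h3 : MemLocalIdeal M (∑ h ∈ Finset.univ.filter
      (fun h : H => (h : G) ∈ Subgroup.centralizer ((P : Subgroup G) : Set G)),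
      blockCoeff (principalBlock M G) (h : G)) := by
    have := memLocalIdeal_sub hcon hS1
    rwa [add_sub_cancel_right] at this
  have h4 : MemLocalIdeal M ((Nat.card A : ℂ) * (Nat.card K : ℂ)⁻¹) := by
    rw [← hcount]
    have := memLocalIdeal_sub h3 hS2
    rwa [sub_sub_cancel] at this
  have h5 : MemLocalIdeal M ((Nat.card A : ℂ)) := by
    have := memLocalIdeal_mul_right h4 (memLocalRing_natCast hMp.ne_top (Nat.card K))
    rwa [mul_assoc, inv_mul_cancel₀ hK0, mul_one] at this
  rw [memLocalIdeal_natCast_iff hM] at h5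
  exact hpA h5


open scoped Classical in
/-- **Characters of `p'`-degree in the principal block over a subgroup containing a Sylow
subgroup.**  If `P ≤ H` for a Sylow `p`-subgroup `P` of `G` and `η ∈ B₀(H)` has degree prime to
`p`, then some `χ ∈ B₀(G)` of degree prime to `p` has `η` as a constituent of `χ_H`. -/
theorem exists_principal_over_of_sylow_le {p : ℕ} [Fact p.Prime] (hM : IsPModular p M)
    (P : Sylow p G) (H : Subgroup G) [Fintype H] (hPH : (P : Subgroup G) ≤ H)
    (η : IrrCharacter H) (hη : η ∈ principalBlock M H)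
    (hdeg : ¬ p ∣ charDegree (η : H → ℂ)) :
    ∃ χ : IrrCharacter G, χ ∈ principalBlock M G ∧ ¬ p ∣ charDegree (χ : G → ℂ) ∧
      classInner (fun h : H => (χ : G → ℂ) h) (η : H → ℂ) ≠ 0 := by
  haveI hMp : M.IsPrime := isPModular_isPrime hM
  have hp : p.Prime := Fact.out
  by_contra hcon
  push Not at hcon
  obtain ⟨hcR, hcI⟩ := sum_blockCoeff_principal_not_memLocalIdeal hM P H hPH
  set B := principalBlock M G with hB
  set E := blockIdem M (oneIrr G) with hEdef
  have hE : E ∈ centerOrder G M := blockIdem_mem _
  set Y := resAlgC H E with hYdef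
  have hY : Y ∈ centerOrder H M := resAlgC_mem_centerOrder H hE
  have hcoef : ∀ h : H, (Y : MonoidAlgebra ℂ H).coeff h = blockCoeff B (h : G) := by
    intro h
    show (resAlg H (E : MonoidAlgebra ℂ G)).coeff h = _
    rw [coeff_resAlg, coeff_blockIdem]
    rfl
  have h2 := sameBlock_omegaHom_congr (χ := oneIrr H) (ψ := η) hη hY
  have hω1 : omegaHom (oneIrr H) Y = ∑ h : H, blockCoeff B (h : G) := by
    rw [omegaHom_apply]
    unfold omega
    simp only [hcoef]
    show (∑ h : H, blockCoeff B (h : G) * (1 : ℂ)) / (1 : ℂ) = _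
    simp
  set d := charDegree (η : H → ℂ) with hd
  have hd0 : (d : ℂ) ≠ 0 := by
    exact_mod_cast (Cfsg.Agent.Lib.Helper79.irr_charDegree_pos η).ne'
  -- every term is divisible by `p`
  have hterm : ∀ χ : IrrCharacter G, χ ∈ B →
      p ∣ charDegree (χ : G → ℂ) * resMult H χ η := by
    intro χ hχ
    by_cases hdvd : p ∣ charDegree (χ : G → ℂ)
    · exact Dvd.dvd.mul_right hdvd _
    · have h0 := hcon χ hχ hdvd
      have : resMult H χ η = 0 := by
        by_contra hne
        exact (resMult_ne_zero_iff H χ η).mp hne h0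
      rw [this, mul_zero]
      exact dvd_zero _
  have hsum : p ∣ ∑ χ ∈ Finset.univ.filter (fun χ : IrrCharacter G => χ ∈ B),
      charDegree (χ : G → ℂ) * resMult H χ η :=
    Finset.dvd_sum fun χ hχ => hterm χ (Finset.mem_filter.mp hχ).2
  obtain ⟨T, hT⟩ := hsum
  have hidx : ¬ p ∣ H.index := by
    intro hdvd
    exact P.not_dvd_index (hdvd.trans (Subgroup.index_dvd_of_le hPH))
  have hωη : omegaHom η Y = (p : ℂ) * (T : ℂ) * ((H.index * d : ℕ) : ℂ)⁻¹ := by
    rw [omegaHom_apply]
    unfold omega
    simp only [hcoef]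
    rw [sum_blockCoeff_subgroup_mul H B (η : H → ℂ),
      Cfsg.Agent.Lib.Helper79.irr_apply_one_eq_charDegree η]
    have hsumC : ∑ χ ∈ Finset.univ.filter (fun χ : IrrCharacter G => χ ∈ B),
        (χ : G → ℂ) 1 * classInner (η : H → ℂ) (fun h : H => (χ : G → ℂ) h) =
        ((p * T : ℕ) : ℂ) := by
      rw [← hT]
      push_cast
      refine Finset.sum_congr rfl fun χ _ => ?_
      rw [← Cfsg.Agent.Lib.Helper78.classInner_conj_symm, resMult_spec, Complex.conj_natCast,
        Cfsg.Agent.Lib.Helper79.irr_apply_one_eq_charDegree χ]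
    rw [hsumC]
    have hG0 : (Nat.card G : ℂ) ≠ 0 := by exact_mod_cast Nat.card_pos.ne'
    have hH0 : (Nat.card H : ℂ) ≠ 0 := by exact_mod_cast Nat.card_pos.ne'
    have hi0 : (H.index : ℂ) ≠ 0 := by
      exact_mod_cast H.index_ne_zero_of_finite
    have hcard : (Nat.card G : ℂ) = (Nat.card H : ℂ) * (H.index : ℂ) := by
      rw [← Nat.cast_mul, Subgroup.card_mul_index]
    rw [hcard, ← hd]
    push_cast
    field_simp
  have hunit : MemLocalRing M (((H.index * d : ℕ) : ℂ)⁻¹) :=
    memLocalRing_inv_natCast hM (fun h => (hp.dvd_mul.mp h).elim hidx hdeg)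
  have hηI : MemLocalIdeal M (omegaHom η Y) := by
    rw [hωη]
    exact memLocalIdeal_mul_right
      (memLocalIdeal_mul_right (memLocalIdeal_p hM) (memLocalRing_natCast hMp.ne_top T)) hunit
  rw [hω1] at h2
  have := memLocalIdeal_add h2 hηI
  rw [sub_add_cancel] at this
  exact hcI this

end D

end Cfsg.Agent.Lib.Helper75
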