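import Mathlib
import Cfsg.Agent.Lib.Helper75.SylowOver3
import Cfsg.Agent.Lib.Helper16.BlockTransport
import Cfsg.Agent.Lib.Helper80.CharBasic

/-!
# Constituents in a tower of subgroups, and extensions over a `p`-power index normal subgroup
(helper75, for S4583)
-/

set_option autoImplicit false
set_option linter.style.haveILetI false
set_option linter.unusedSectionVars false

namespace Cfsg.Agent.Lib.Helper75

open Cfsg Cfsg.Agent.Lib.Helper16
open scoped ComplexConjugate

universe u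

section E

variable {G : Type u} [Group G] [Fintype G]

/-- Constituents in a tower `N ≤ H ≤ G`: if `η` is a constituent of `χ_H` and `θ` is a constituent
of `η_N`, then `θ` is a constituent of `χ_N`. -/
theorem classInner_res_ne_zero_of_tower (N H : Subgroup G) [Fintype N] [Fintype H] (hNH : N ≤ H)
    (χ : IrrCharacter G) (η : IrrCharacter H) (θ : IrrCharacter N)
    (hη : classInner (fun h : H => (χ : G → ℂ) h) (η : H → ℂ) ≠ 0)
    (hθ : classInner (fun n : N => (η : H → ℂ) (Subgroup.inclusion hNH n)) (θ : N → ℂ) ≠ 0) :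
    classInner (fun n : N => (χ : G → ℂ) n) (θ : N → ℂ) ≠ 0 := by
  classical
  have hres : IsCharacter H (fun h : H => (χ : G → ℂ) h) :=
    isCharacter_res H (Cfsg.Agent.Lib.Helper78.IsIrrCharacter.isCharacter χ.2)
  have hexp := Cfsg.Agent.Lib.Helper78.IsCharacter.eq_sum_irr hres
  -- the restriction to `N` as a sum
  have hfun : (fun n : N => (χ : G → ℂ) n) =
      ∑ ψ : IrrCharacter H, (resMult H χ ψ : ℂ) •
        (fun n : N => (ψ : H → ℂ) (Subgroup.inclusion hNH n)) := by
    funext n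
    have h1 := congrFun hexp (Subgroup.inclusion hNH n)
    simp only [Finset.sum_apply, Pi.smul_apply, smul_eq_mul] at h1 ⊢
    rw [show ((Subgroup.inclusion hNH n : H) : G) = (n : G) from rfl] at h1
    rw [h1]
    refine Finset.sum_congr rfl fun ψ _ => ?_
    rw [resMult_spec]
  -- multiplicities on `N`
  have hnat : ∀ ψ : IrrCharacter H, ∃ k : ℕ,
      classInner (fun n : N => (ψ : H → ℂ) (Subgroup.inclusion hNH n)) (θ : N → ℂ) = k := by
    intro ψ
    have hc : IsCharacter N (fun n : N => (ψ : H → ℂ) (Subgroup.inclusion hNH n)) :=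
      Cfsg.Agent.Lib.Helper80.isCharacter_comp (Subgroup.inclusion hNH)
        (Cfsg.Agent.Lib.Helper78.IsIrrCharacter.isCharacter ψ.2)
    exact Cfsg.Agent.Lib.Helper78.IsCharacter.exists_nat_classInner hc θ
  choose k hk using hnat
  rw [hfun, Cfsg.Agent.Lib.Helper78.classInner_sum_left]
  simp only [Cfsg.Agent.Lib.Helper78.classInner_smul_left, hk]
  have hmη : resMult H χ η ≠ 0 := (resMult_ne_zero_iff H χ η).mpr hη
  have hkη : k η ≠ 0 := by
    intro h0
    apply hθ
    rw [hk, h0, Nat.cast_zero]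
  have hpos : 0 < ∑ ψ : IrrCharacter H, resMult H χ ψ * k ψ := by
    apply Finset.sum_pos'
    · intro ψ _
      exact Nat.zero_le _
    · exact ⟨η, Finset.mem_univ _, Nat.mul_pos (Nat.pos_of_ne_zero hmη) (Nat.pos_of_ne_zero hkη)⟩
  have : (∑ ψ : IrrCharacter H, (resMult H χ ψ : ℂ) * (k ψ : ℂ)) =
      ((∑ ψ : IrrCharacter H, resMult H χ ψ * k ψ : ℕ) : ℂ) := by
    push_cast
    rfl
  rw [this]
  exact_mod_cast hpos.ne'

end E


section F

variable {G : Type u} [Group G] [Fintype G] {M : Ideal AlgInt}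

/-- An irreducible character of `NP` (`P` a `p`-group, `N` normal) whose restriction to `N` is an
irreducible character in the principal block of `N` lies in the principal block of `NP`. -/
theorem extension_mem_principalBlock {p : ℕ} [Fact p.Prime] (hM : IsPModular p M)
    (N : Subgroup G) [hN : N.Normal] (P : Subgroup G) (hP : IsPGroup p P) [Fintype N]
    [Fintype ↥(N ⊔ P)] (θ : IrrCharacter N) (hθ : θ ∈ principalBlock M N)
    (η : IrrCharacter ↥(N ⊔ P))
    (hext : ∀ n : N, (η : ↥(N ⊔ P) → ℂ) (Subgroup.inclusion le_sup_left n) = (θ : N → ℂ) n) :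
    η ∈ principalBlock M ↥(N ⊔ P) := by
  classical
  haveI hMp : M.IsPrime := isPModular_isPrime hM
  have hp : p.Prime := Fact.out
  haveI : Fintype (N.subgroupOf (N ⊔ P)) := Fintype.ofFinite _
  haveI hN' : (N.subgroupOf (N ⊔ P)).Normal := Subgroup.normal_subgroupOf
  -- the index is a power of `p`
  have hidx : ∃ k : ℕ, (N.subgroupOf (N ⊔ P)).index = p ^ k := by
    have h1 : (N.subgroupOf (N ⊔ P)).index = N.relIndex P :=
      Subgroup.relIndex_sup_left (K := N) (H := P)
    obtain ⟨n, hn⟩ := IsPGroup.iff_card.mp hP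
    have h2 : N.relIndex P ∣ p ^ n := by
      rw [← hn]
      exact Subgroup.index_dvd_card _
    obtain ⟨k, -, hk⟩ := (Nat.dvd_prime_pow hp).mp h2
    exact ⟨k, by rw [h1, hk]⟩
  obtain ⟨k, hk⟩ := hidx
  set e : N.subgroupOf (N ⊔ P) ≃* N := Subgroup.subgroupOfEquivOfLe le_sup_left with he
  set θ' : IrrCharacter (N.subgroupOf (N ⊔ P)) := irrPull e θ with hθ'
  have hres : (fun n : N.subgroupOf (N ⊔ P) => (η : ↥(N ⊔ P) → ℂ) n) =
      (θ' : N.subgroupOf (N ⊔ P) → ℂ) := by
    funext n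
    rw [hθ', irrPull_apply, ← hext]
    rfl
  have h1 : classInner (fun n : N.subgroupOf (N ⊔ P) => (η : ↥(N ⊔ P) → ℂ) n)
      (θ' : N.subgroupOf (N ⊔ P) → ℂ) ≠ 0 := by
    rw [hres, Cfsg.Agent.Lib.Helper78.classInner_irr_self θ'.2]
    exact one_ne_zero
  have h2 : classInner (fun n : N.subgroupOf (N ⊔ P) => (oneIrr ↥(N ⊔ P) : ↥(N ⊔ P) → ℂ) n)
      (oneIrr (N.subgroupOf (N ⊔ P)) : N.subgroupOf (N ⊔ P) → ℂ) ≠ 0 := by
    have : (fun n : N.subgroupOf (N ⊔ P) => (oneIrr ↥(N ⊔ P) : ↥(N ⊔ P) → ℂ) n) =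
        (oneIrr (N.subgroupOf (N ⊔ P)) : N.subgroupOf (N ⊔ P) → ℂ) := rfl
    rw [this, Cfsg.Agent.Lib.Helper78.classInner_irr_self (oneIrr (N.subgroupOf (N ⊔ P))).2]
    exact one_ne_zero
  have hsame : SameBlock M (θ' : N.subgroupOf (N ⊔ P) → ℂ)
      (oneIrr (N.subgroupOf (N ⊔ P)) : N.subgroupOf (N ⊔ P) → ℂ) := by
    have h3 : SameBlock M (fun _ : N => (1 : ℂ)) (θ : N → ℂ) := hθ
    have h4 := (sameBlock_comp_mulEquiv_iff (M := M) e (θ : N → ℂ) (fun _ : N => (1 : ℂ))).mpr
      (sameBlock_symm h3)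
    exact h4
  have h5 := sameBlock_of_constituents_sameBlock (N.subgroupOf (N ⊔ P)) hM hk h1 h2 hsame
  exact sameBlock_symm h5

end F

end Cfsg.Agent.Lib.Helper75
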