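import Mathlib

/-!
# S3043-[CYC] (helper90's project S3043), formalized by helper75

`cyclic_of_fpf`: a finite abelian group acting fixed-point-freely on a nontrivial finite abelian
group is cyclic (Mathlib only).

Proof: `R` = the (commutative) subring of `AddMonoid.End V` generated by the image of `A`;
`W` a simple `R`-submodule of `V`; `P = ann_R W` is a maximal ideal; `A → R ⧸ P` is injective by
fixed-point-freeness, and a finite subgroup of the units of a domain is cyclic.
-/

set_option autoImplicit false

namespace Cfsg.Agent.Lib.Helper75.TIInv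

open scoped IsMulCommutative in
/-- **S3043-[CYC]** a finite abelian group acting fixed-point-freely on a nontrivial finite
abelian group is cyclic. -/
theorem cyclic_of_fpf {A V : Type*} [CommGroup A] [Finite A] [AddCommGroup V] [Finite V]
    [Nontrivial V] (ρ : A →* AddMonoid.End V)
    (hfpf : ∀ a : A, a ≠ 1 → ∀ v : V, ρ a v = v → v = 0) : IsCyclic A := by
  classical
  have hcomm : ∀ x ∈ Set.range ρ, ∀ y ∈ Set.range ρ, x * y = y * x := by
    rintro _ ⟨a, rfl⟩ _ ⟨b, rfl⟩
    rw [← map_mul, ← map_mul, mul_comm]
  have hRc := Subring.isMulCommutative_closure hcomm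
  let R : Subring (AddMonoid.End V) := Subring.closure (Set.range ρ)
  have : IsMulCommutative R := hRc
  let _ : CommRing R := inferInstance
  -- an atom in the lattice of `R`-submodules of `V`
  obtain ⟨W, hW⟩ := IsAtomic.exists_atom (Submodule R V)
  have : IsSimpleModule R W := isSimpleModule_iff_isAtom.2 hW
  have hmax : (Module.annihilator R W).IsMaximal := IsSimpleModule.annihilator_isMaximal
  let P : Ideal R := Module.annihilator R W
  have : P.IsMaximal := hmax
  let ρ' : A →* R :=
    { toFun := fun a => ⟨ρ a, Subring.subset_closure ⟨a, rfl⟩⟩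
      map_one' := by ext; simp
      map_mul' := fun a b => by ext; simp }
  let f : A →* R ⧸ P := (Ideal.Quotient.mk P : R →* R ⧸ P).comp ρ'
  refine isCyclic_of_injective_ringHom f ?_
  rw [injective_iff_map_eq_one]
  intro a ha
  by_contra hne
  have h1 : ρ' a - 1 ∈ P := by
    rw [← Ideal.Quotient.eq_zero_iff_mem, map_sub, map_one, sub_eq_zero]
    exact ha
  obtain ⟨w, hwW, hw0⟩ := (Submodule.ne_bot_iff W).1 hW.1
  have h2 := (Module.mem_annihilator.1 h1) ⟨w, hwW⟩
  have h3 : (ρ' a - 1) • w = 0 := by
    have := congrArg Subtype.val h2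
    simpa using this
  have h4 : ρ a w = w := by
    have : (ρ' a - 1) • w = ρ a w - w := by
      rw [sub_smul, one_smul]; rfl
    rw [this, sub_eq_zero] at h3
    exact h3
  exact hw0 (hfpf a hne w h4)

end Cfsg.Agent.Lib.Helper75.TIInv
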