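import Mathlib
import Cfsg.Agent.Lib.Helper90.TIInvDefs
import Cfsg.Agent.Lib.Helper20.DihQuatLift
import Cfsg.Agent.Lib.Helper75.TIInvCyc

/-!
# S3043-[B2d] (helper90's project S3043), formalized by helper75

`caseB_dihedral`: in case B with `|M| = 2^e + 1` and a nontrivial normal elementary abelian
2-subgroup `Q`, the normalizer `N_G(M)` is dihedral of order `2 (2^e + 1)`.
-/

set_option autoImplicit false

namespace Cfsg.Agent.Lib.Helper75.TIInv

open Cfsg.Agent.Lib.Helper90.TIInv Cfsg.Agent.Lib.Helper20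

variable {G : Type*} [Group G] [Finite G] {M : Subgroup G} {z : G}

open scoped IsMulCommutative in
/-- `M` is cyclic: it acts fixed-point-freely by conjugation on `Q`. -/
theorem caseB_M_cyclic (h : Hyp M z) (b : Basic M z)
    (Q : Subgroup G) (hQn : Q.Normal) (hQ1 : Q ≠ ⊥)
    (hQe : ∀ a ∈ Q, a ^ 2 = 1) (hQa : IsMulCommutative Q) : IsCyclic ↥M := by
  classical
  let _ : CommGroup ↥M :=
    { (inferInstance : Group ↥M) with
      mul_comm := fun x y => Subtype.ext (b.comm x x.2 y y.2) }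
  have : IsMulCommutative ↥Q := hQa
  let _ : CommGroup ↥Q := inferInstance
  have : Nontrivial (Additive ↥Q) := by
    have : Nontrivial ↥Q := (Subgroup.nontrivial_iff_ne_bot Q).2 hQ1
    exact inferInstanceAs (Nontrivial ↥Q)
  have : Finite (Additive ↥Q) := inferInstanceAs (Finite ↥Q)
  let ρ : ↥M →* AddMonoid.End (Additive ↥Q) :=
    { toFun := fun x =>
        { toFun := fun q => Additive.ofMul
            (⟨(x : G) * ((Additive.toMul q : ↥Q) : G) * (x : G)⁻¹,
              hQn.conj_mem _ (Additive.toMul q : ↥Q).2 _⟩ : ↥Q)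
          map_zero' := by
            apply Additive.toMul.injective
            apply Subtype.ext
            simp
          map_add' := fun q q' => by
            apply Additive.toMul.injective
            apply Subtype.ext
            simp [mul_assoc] }
      map_one' := by
        ext q : 1
        refine Additive.toMul.injective (Subtype.ext ?_)
        show ((1 : ↥M) : G) * ((Additive.toMul q : ↥Q) : G) * ((1 : ↥M) : G)⁻¹ =
          ((Additive.toMul q : ↥Q) : G)
        simp
      map_mul' := fun x y => by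
        ext q : 1
        refine Additive.toMul.injective (Subtype.ext ?_)
        show ((x * y : ↥M) : G) * ((Additive.toMul q : ↥Q) : G) * ((x * y : ↥M) : G)⁻¹ =
          (x : G) * ((y : G) * ((Additive.toMul q : ↥Q) : G) * (y : G)⁻¹) * (x : G)⁻¹
        simp [mul_assoc] }
  refine cyclic_of_fpf ρ ?_
  intro x hx q hq
  by_contra hq0
  -- `q ≠ 1` is an involution centralizing `x`
  set q' : ↥Q := Additive.toMul q with hq'
  have hq1 : (q' : G) ≠ 1 := by
    intro h1
    apply hq0
    apply Additive.toMul.injective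
    apply Subtype.ext
    exact h1
  have hcomm : (x : G) * (q' : G) * (x : G)⁻¹ = (q' : G) := by
    have := congrArg (fun t : Additive ↥Q => ((Additive.toMul t : ↥Q) : G)) hq
    exact this
  have hx1 : (x : G) ≠ 1 := fun h1 => hx (Subtype.ext h1)
  have hodd := h.odd (x : G) x.2 hx1
  have hmem : (q' : G) ∈ Subgroup.centralizer ({(x : G)} : Set G) := by
    rw [Subgroup.mem_centralizer_iff]
    intro y hy
    rw [Set.mem_singleton_iff] at hy
    subst hy
    calc (x : G) * (q' : G) = ((x : G) * (q' : G) * (x : G)⁻¹) * (x : G) := by group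
      _ = (q' : G) * (x : G) := by rw [hcomm]
  have ho2 : orderOf (q' : G) = 2 := by
    refine orderOf_eq_prime (hQe _ q'.2) hq1
  have hdvd : 2 ∣ Nat.card ↥(Subgroup.centralizer ({(x : G)} : Set G)) := by
    have := orderOf_dvd_natCard (⟨(q' : G), hmem⟩ : ↥(Subgroup.centralizer ({(x : G)} : Set G)))
    rwa [Subgroup.orderOf_mk, ho2] at this
  exact (Nat.not_even_iff_odd.2 hodd) (even_iff_two_dvd.2 hdvd)

/-- **S3043-[B2d]** -/
theorem caseB_dihedral (h : Hyp M z) (b : Basic M z) {e : ℕ} (hB : CaseB M z e)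
    (hm : Nat.card M = 2 ^ e + 1) (Q : Subgroup G) (hQn : Q.Normal) (hQ1 : Q ≠ ⊥)
    (hQe : ∀ a ∈ Q, a ^ 2 = 1) (hQa : IsMulCommutative Q) :
    Nonempty (↥(Nm M) ≃* DihedralGroup (2 ^ e + 1)) := by
  classical
  have hcyc : IsCyclic ↥M := caseB_M_cyclic h b Q hQn hQ1 hQe hQa
  obtain ⟨x, hx⟩ := hcyc.exists_generator
  have hox : orderOf x = 2 ^ e + 1 := by
    rw [orderOf_eq_card_of_forall_mem_zpowers hx, hm]
  set a : G := (x : G) with ha_def
  have hoa : orderOf a = 2 ^ e + 1 := by
    rw [ha_def, Subgroup.orderOf_coe, hox]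
  have haM : a ∈ M := x.2
  have ha : a ^ (2 ^ e + 1) = 1 := by rw [← hoa]; exact pow_orderOf_eq_one a
  have hzz : z * z = 1 := by
    have := pow_orderOf_eq_one z
    rwa [h.hz, pow_two] at this
  have hz1 : z ≠ 1 := by
    intro h1
    have := h.hz
    rw [h1, orderOf_one] at this
    omega
  have hab : z * a * z⁻¹ = a⁻¹ := b.inv a haM
  have hzp : Subgroup.zpowers a ≤ M := by
    rw [Subgroup.zpowers_le]; exact haM
  have hba : z ∉ Subgroup.zpowers a := fun hmem => b.zM (hzp hmem)
  have hMz : ∀ y ∈ M, y ∈ Subgroup.zpowers a := by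
    intro y hy
    have := hx ⟨y, hy⟩
    rw [Subgroup.mem_zpowers_iff] at this ⊢
    obtain ⟨k, hk⟩ := this
    refine ⟨k, ?_⟩
    have := congrArg (Subtype.val) hk
    simpa using this
  -- `H = {1, z}`
  have hzH : z ∈ Hz M z := by
    refine Subgroup.mem_inf.2 ⟨h.zN, ?_⟩
    rw [Subgroup.mem_centralizer_iff]
    intro y hy
    rw [Set.mem_singleton_iff] at hy
    rw [hy]
  have hH2 : ∀ k ∈ Hz M z, k = 1 ∨ k = z := by
    intro k hk
    by_contra hne
    rw [not_or] at hne
    have hcard : Nat.card ↥(Hz M z) = 2 := hB.2.1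
    obtain ⟨y, hy1, hy2⟩ := (Nat.card_eq_two_iff' (1 : ↥(Hz M z))).1 hcard
    have e1 : (⟨k, hk⟩ : ↥(Hz M z)) = y := hy2 _ (fun hh => hne.1 (congrArg Subtype.val hh))
    have e2 : (⟨z, hzH⟩ : ↥(Hz M z)) = y := hy2 _ (fun hh => hz1 (congrArg Subtype.val hh))
    exact hne.2 (congrArg Subtype.val (e1.trans e2.symm))
  have : NeZero (2 ^ e + 1) := ⟨Nat.succ_ne_zero _⟩
  refine nonempty_mulEquiv_dihedral a z (2 ^ e + 1) ha hzz hab hoa hba (Nm M) ?_
  intro g
  constructor
  · intro hg
    obtain ⟨a', ha', k, hk, rfl⟩ := b.mulH g hg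
    obtain ⟨i, hi⟩ := exists_pw_of_mem_zpowers ha (hMz a' ha')
    rcases hH2 k hk with rfl | rfl
    · left; exact ⟨i, by rw [mul_one, hi]⟩
    · right
      refine ⟨-i, ?_⟩
      rw [hi, mul_pw_of_inv ha hab i]
  · rintro (⟨i, rfl⟩ | ⟨i, rfl⟩)
    · exact Subgroup.le_normalizer (hzp (pw_mem_zpowers i))
    · exact Subgroup.mul_mem _ h.zN (Subgroup.le_normalizer (hzp (pw_mem_zpowers i)))

end Cfsg.Agent.Lib.Helper75.TIInv
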