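import Mathlib
import Cfsg.Agent.Lib.Helper75.TIInvCyc

/-!
# S3043-[B1d] (helper90's project S3043), formalized by helper75

`cyclic_of_sl2`: an abelian subgroup of odd order of `SL₂(F)`, `F` a finite field of
characteristic 2, is cyclic (it acts fixed-point-freely on `F²`).
-/

set_option autoImplicit false

namespace Cfsg.Agent.Lib.Helper75.TIInv

/-- In characteristic 2 an element of `SL₂(F)` fixing a nonzero vector squares to `1`. -/
theorem sl2_sq_eq_one_of_fix {F : Type*} [Field F] [CharP F 2]
    (g : Matrix.SpecialLinearGroup (Fin 2) F) (v : Fin 2 → F) (hv : v ≠ 0)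
    (hfix : (g : Matrix (Fin 2) (Fin 2) F).mulVec v = v) : g * g = 1 := by
  set m : Matrix (Fin 2) (Fin 2) F := (g : Matrix (Fin 2) (Fin 2) F) with hm
  have hdet : m.det = 1 := g.2
  have hch : m ^ 2 - m.trace • m + (1 : Matrix (Fin 2) (Fin 2) F) = 0 := by
    have h := Matrix.aeval_self_charpoly m
    rw [Matrix.charpoly_fin_two, hdet] at h
    simp only [map_add, map_sub, map_mul, map_pow, Polynomial.aeval_X, Polynomial.aeval_C,
      map_one, Algebra.algebraMap_eq_smul_one, smul_mul_assoc, one_mul] at h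
    exact h
  have h2 : (2 : F) = 0 := CharP.ofNat_eq_zero F 2
  have hvv : v + v = 0 := by
    rw [← two_smul F v, h2, zero_smul]
  -- apply to `v`
  have h1 := congrArg (fun A : Matrix (Fin 2) (Fin 2) F => A.mulVec v) hch
  simp only [Matrix.add_mulVec, Matrix.sub_mulVec, pow_two, ← Matrix.mulVec_mulVec,
    Matrix.smul_mulVec, Matrix.one_mulVec, Matrix.zero_mulVec, hfix] at h1
  have htr : m.trace • v = 0 := by
    have : v - m.trace • v + v = (v + v) - m.trace • v := by abel
    rw [this, hvv, zero_sub, neg_eq_zero] at h1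
    exact h1
  have htr0 : m.trace = 0 := by
    rcases smul_eq_zero.1 htr with h | h
    · exact h
    · exact absurd h hv
  rw [htr0, zero_smul, sub_zero] at hch
  have hsq : m ^ 2 = 1 := by
    have : m ^ 2 = -1 := eq_neg_of_add_eq_zero_left hch
    rw [this]
    have h11 : (1 : Matrix (Fin 2) (Fin 2) F) + 1 = 0 := by
      rw [← two_smul F (1 : Matrix (Fin 2) (Fin 2) F), h2, zero_smul]
    exact neg_eq_of_add_eq_zero_left h11
  apply Subtype.ext
  rw [Matrix.SpecialLinearGroup.coe_mul, Matrix.SpecialLinearGroup.coe_one, ← pow_two]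
  exact hsq

variable {G : Type*} [Group G] [Finite G]

/-- **S3043-[B1d]** -/
theorem cyclic_of_sl2 {F : Type} [Field F] [Fintype F] [CharP F 2]
    (e : G ≃* Matrix.SpecialLinearGroup (Fin 2) F) (A : Subgroup G)
    (hA : ∀ x ∈ A, ∀ y ∈ A, x * y = y * x) (hodd : Odd (Nat.card A)) : IsCyclic ↥A := by
  classical
  let _ : CommGroup ↥A :=
    { (inferInstance : Group ↥A) with
      mul_comm := fun x y => Subtype.ext (hA x x.2 y y.2) }
  let ρ : ↥A →* AddMonoid.End (Fin 2 → F) :=
    { toFun := fun a =>
        { toFun := fun v => ((e (a : G) : Matrix.SpecialLinearGroup (Fin 2) F) :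
            Matrix (Fin 2) (Fin 2) F).mulVec v
          map_zero' := Matrix.mulVec_zero _
          map_add' := Matrix.mulVec_add _ }
      map_one' := by
        ext v : 1
        show ((e ((1 : ↥A) : G) : Matrix.SpecialLinearGroup (Fin 2) F) :
            Matrix (Fin 2) (Fin 2) F).mulVec v = v
        simp
      map_mul' := fun a b => by
        ext v : 1
        show ((e ((a * b : ↥A) : G) : Matrix.SpecialLinearGroup (Fin 2) F) :
            Matrix (Fin 2) (Fin 2) F).mulVec v =
          ((e (a : G) : Matrix.SpecialLinearGroup (Fin 2) F) :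
            Matrix (Fin 2) (Fin 2) F).mulVec
            (((e (b : G) : Matrix.SpecialLinearGroup (Fin 2) F) :
            Matrix (Fin 2) (Fin 2) F).mulVec v)
        rw [Subgroup.coe_mul, map_mul, Matrix.SpecialLinearGroup.coe_mul, Matrix.mulVec_mulVec] }
  refine cyclic_of_fpf ρ ?_
  intro a ha v hv
  by_contra hv0
  have hfix : ((e (a : G) : Matrix.SpecialLinearGroup (Fin 2) F) :
      Matrix (Fin 2) (Fin 2) F).mulVec v = v := hv
  have hsq := sl2_sq_eq_one_of_fix (e (a : G)) v hv0 hfix
  have ha2 : a ^ 2 = 1 := by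
    apply Subtype.ext
    apply e.injective
    rw [Subgroup.coe_pow, map_pow, pow_two, hsq, Subgroup.coe_one, map_one]
  have hd2 : orderOf a ∣ 2 := orderOf_dvd_of_pow_eq_one ha2
  have hdA : orderOf a ∣ Nat.card A := orderOf_dvd_natCard a
  have hcop : Nat.Coprime (Nat.card A) 2 := Nat.Coprime.symm (Nat.coprime_two_left.2 hodd)
  have h1 : orderOf a = 1 := Nat.eq_one_of_dvd_coprimes hcop hdA hd2
  exact ha (orderOf_eq_one_iff.1 h1)

end Cfsg.Agent.Lib.Helper75.TIInv
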