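import Mathlib
import Cfsg.Prelude.Def_GeometricClasses
import Cfsg.Agent.Lib.Helper99.TWDefs

set_option autoImplicit false
set_option linter.unusedSectionVars false
set_option linter.unusedSimpArgs false

/-!
# S5707 modules [S2] `exists_cdata2` and [S4] `exists_cdata4` (helper75, for helper99)
-/

namespace Cfsg.Agent.Lib.Helper75.TW

open Cfsg.Agent.Lib.Helper99.TW Matrix

section General

variable {F : Type*} [Field F] {k : ℕ}

/-- the `J`-adjoint: `star Y i j = Y (rev j) (rev i)` -/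
def adj (Y : Matrix (Fin k) (Fin k) F) : Matrix (Fin k) (Fin k) F :=
  fun i j => Y (Fin.rev j) (Fin.rev i)

theorem adj_apply (Y : Matrix (Fin k) (Fin k) F) (i j : Fin k) :
    adj Y i j = Y (Fin.rev j) (Fin.rev i) := rfl

theorem adj_adj (Y : Matrix (Fin k) (Fin k) F) : adj (adj Y) = Y := by
  ext i j
  simp [adj]

theorem transpose_mul_Jm (Y : Matrix (Fin k) (Fin k) F) (i j : Fin k) :
    (Yᵀ * Jm k F) i j = Y (Fin.rev j) i := by
  rw [Matrix.mul_apply, Finset.sum_eq_single (Fin.rev j)]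
  · simp [Jm]
  · intro l _ hl
    have : ¬ j = Fin.rev l := by
      intro h
      apply hl
      rw [h, Fin.rev_rev]
    simp [Jm, this]
  · intro h
    exact absurd (Finset.mem_univ _) h

theorem Jm_mul (Y : Matrix (Fin k) (Fin k) F) (i j : Fin k) :
    (Jm k F * Y) i j = Y (Fin.rev i) j := by
  rw [Matrix.mul_apply, Finset.sum_eq_single (Fin.rev i)]
  · simp [Jm]
  · intro l _ hl
    simp [Jm, hl]
  · intro h
    exact absurd (Finset.mem_univ _) h

theorem adjoint_iff (Y Y' : Matrix (Fin k) (Fin k) F) :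
    Yᵀ * Jm k F = Jm k F * Y' ↔ Y' = adj Y := by
  constructor
  · intro h
    ext i j
    have := congrFun (congrFun h (Fin.rev i)) j
    rw [transpose_mul_Jm, Jm_mul, Fin.rev_rev] at this
    rw [adj_apply, ← this]
  · intro h
    ext i j
    rw [transpose_mul_Jm, Jm_mul, h, adj_apply, Fin.rev_rev]

end General

section S2

variable {F : Type*} [Field F]

/-- [S2] -/
theorem exists_cdata2 (h2 : (2 : F) = 0) : ∃ D : CData 2 F, D.h = 1 := by
  have hneg : ∀ x : F, -x = x := by
    intro x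
    have : x + x = 0 := by linear_combination x * h2
    linear_combination -this
  refine ⟨{
    s := { carrier := {N | N 0 0 = N 1 1}
           add_mem' := by
             intro a b ha hb
             have ha' : a 0 0 = a 1 1 := ha
             have hb' : b 0 0 = b 1 1 := hb
             show (a + b) 0 0 = (a + b) 1 1
             rw [Matrix.add_apply, Matrix.add_apply, ha', hb']
           zero_mem' := by
             show (0 : Matrix (Fin 2) (Fin 2) F) 0 0 = (0 : Matrix (Fin 2) (Fin 2) F) 1 1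
             rfl
           smul_mem' := by
             intro c a ha
             have ha' : a 0 0 = a 1 1 := ha
             show (c • a) 0 0 = (c • a) 1 1
             rw [Matrix.smul_apply, Matrix.smul_apply, ha'] }
    one_mem := by
      show (1 : Matrix (Fin 2) (Fin 2) F) 0 0 = (1 : Matrix (Fin 2) (Fin 2) F) 1 1
      simp
    q := fun N => N 0 0 ^ 2 + N 0 1 * N 1 0
    sq := by
      intro N hN
      have hN' : N 0 0 = N 1 1 := hN
      ext i j
      fin_cases i <;> fin_cases j <;>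
        simp [Matrix.mul_apply, Fin.sum_univ_two, Matrix.smul_apply, ← hN']
      · ring
      · linear_combination (N 0 0 * N 0 1) * h2
      · linear_combination (N 0 0 * N 1 0) * h2
      · ring
    selfadj := by
      intro N hN
      have hN' : N 0 0 = N 1 1 := hN
      rw [adjoint_iff]
      ext i j
      fin_cases i <;> fin_cases j <;> simp [adj, hN', Fin.rev]
    inv := by
      intro g N hN _
      have hN' : N 0 0 = N 1 1 := hN
      show ((g : Matrix (Fin 2) (Fin 2) F) * N *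
        ((g⁻¹ : GL (Fin 2) F) : Matrix (Fin 2) (Fin 2) F)) 0 0 =
        ((g : Matrix (Fin 2) (Fin 2) F) * N *
        ((g⁻¹ : GL (Fin 2) F) : Matrix (Fin 2) (Fin 2) F)) 1 1
      have htr : Matrix.trace ((g : Matrix (Fin 2) (Fin 2) F) * N *
          ((g⁻¹ : GL (Fin 2) F) : Matrix (Fin 2) (Fin 2) F)) = Matrix.trace N := by
        rw [Matrix.trace_mul_cycle, ← Units.val_mul, inv_mul_cancel, Units.val_one, Matrix.one_mul]
      rw [Matrix.trace_fin_two, Matrix.trace_fin_two, hN'] at htr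
      have h3 : N 1 1 + N 1 1 = 0 := by linear_combination (N 1 1) * h2
      rw [h3] at htr
      linear_combination htr - (((g : Matrix (Fin 2) (Fin 2) F) * N *
        ((g⁻¹ : GL (Fin 2) F) : Matrix (Fin 2) (Fin 2) F)) 1 1) * h2
    S := !![0, 1; 1, 0]
    nu := !![0, 1; 0, 0]
    S_mem := by
      show (!![0, 1; 1, 0] : Matrix (Fin 2) (Fin 2) F) 0 0 = (!![0, 1; 1, 0] : Matrix (Fin 2) (Fin 2) F) 1 1
      simp
    nu_mem := by
      show (!![0, 1; 0, 0] : Matrix (Fin 2) (Fin 2) F) 0 0 = (!![0, 1; 0, 0] : Matrix (Fin 2) (Fin 2) F) 1 1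
      simp
    S_sq := by
      ext i j
      fin_cases i <;> fin_cases j <;> simp [Matrix.mul_apply, Fin.sum_univ_two]
    nu_sq := by
      ext i j
      fin_cases i <;> fin_cases j <;> simp [Matrix.mul_apply, Fin.sum_univ_two]
    anti := by
      ext i j
      fin_cases i <;> fin_cases j <;> simp
    h := 1
    h_ne := by decide
    S_zero := by
      intro l
      fin_cases l <;> simp
    S_h := by
      intro l
      fin_cases l <;> simp
    nu_h := by
      intro l
      fin_cases l <;> simp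
    nuS_h := by
      intro l
      fin_cases l <;> simp }, rfl⟩

end S2

section S4

variable {F : Type*} [Field F]

theorem rev4_0 : Fin.rev (0 : Fin 4) = 3 := rfl
theorem rev4_1 : Fin.rev (1 : Fin 4) = 2 := rfl
theorem rev4_2 : Fin.rev (2 : Fin 4) = 1 := rfl
theorem rev4_3 : Fin.rev (3 : Fin 4) = 0 := rfl

/-- the 5-dimensional Clifford subspace `E₅` of `M₄(F)` (plus scalars) -/
def s4 (F : Type*) [Field F] : Submodule F (Matrix (Fin 4) (Fin 4) F) where
  carrier := {N | (∀ i, N i (Fin.rev i) = 0) ∧ (∀ i j, N i j = N (Fin.rev j) (Fin.rev i)) ∧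
    N 0 0 = N 1 1}
  add_mem' := by
    rintro a b ⟨ha1, ha2, ha3⟩ ⟨hb1, hb2, hb3⟩
    refine ⟨fun i => ?_, fun i j => ?_, ?_⟩
    · rw [Matrix.add_apply, ha1, hb1, add_zero]
    · rw [Matrix.add_apply, Matrix.add_apply, ← ha2, ← hb2]
    · rw [Matrix.add_apply, Matrix.add_apply, ha3, hb3]
  zero_mem' := ⟨fun _ => rfl, fun _ _ => rfl, rfl⟩
  smul_mem' := by
    rintro c a ⟨ha1, ha2, ha3⟩
    refine ⟨fun i => ?_, fun i j => ?_, ?_⟩
    · rw [Matrix.smul_apply, ha1, smul_zero]
    · rw [Matrix.smul_apply, Matrix.smul_apply, ← ha2]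
    · rw [Matrix.smul_apply, Matrix.smul_apply, ha3]

theorem mem_s4 (N : Matrix (Fin 4) (Fin 4) F) : N ∈ s4 F ↔
    (∀ i, N i (Fin.rev i) = 0) ∧ (∀ i j, N i j = N (Fin.rev j) (Fin.rev i)) ∧ N 0 0 = N 1 1 :=
  Iff.rfl

/-- the explicit shape of the members of `s4` -/
theorem s4_explicit {N : Matrix (Fin 4) (Fin 4) F} (hN : N ∈ s4 F) :
    N = !![N 0 0, N 0 1, N 0 2, 0; N 1 0, N 0 0, 0, N 0 2; N 2 0, 0, N 0 0, N 0 1;
      0, N 2 0, N 1 0, N 0 0] := by
  obtain ⟨h1, h2, h3⟩ := hN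
  have e03 := h1 0
  have e12 := h1 1
  have e21 := h1 2
  have e30 := h1 3
  rw [rev4_0] at e03
  rw [rev4_1] at e12
  rw [rev4_2] at e21
  rw [rev4_3] at e30
  have e33 := h2 3 3
  have e22 := h2 2 2
  have e23 := h2 2 3
  have e13 := h2 1 3
  have e32 := h2 3 2
  have e31 := h2 3 1
  simp only [rev4_1, rev4_2, rev4_3] at e33 e22 e23 e13 e32 e31
  ext i j
  fin_cases i <;> fin_cases j <;> simp [e03, e12, e21, e30, e33, e22, e23, e13, e32, e31, h3]

theorem s4_sq (h2 : (2 : F) = 0) {N : Matrix (Fin 4) (Fin 4) F} (hN : N ∈ s4 F) :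
    N * N = (N 0 0 ^ 2 + N 0 2 * N 2 0 + N 0 1 * N 1 0) • (1 : Matrix (Fin 4) (Fin 4) F) := by
  obtain ⟨n, b2, b1, c2, c1, rfl⟩ : ∃ n b2 b1 c2 c1 : F,
      N = !![n, b2, b1, 0; c2, n, 0, b1; c1, 0, n, b2; 0, c1, c2, n] :=
    ⟨_, _, _, _, _, s4_explicit hN⟩
  ext i j
  fin_cases i <;> fin_cases j <;> simp [Matrix.mul_apply, Fin.sum_univ_four]
  all_goals first
    | ring1
    | linear_combination (n * b2) * h2
    | linear_combination (n * b1) * h2
    | linear_combination (b2 * b1) * h2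
    | linear_combination (c2 * n) * h2
    | linear_combination (c2 * b1) * h2
    | linear_combination (c1 * n) * h2
    | linear_combination (c1 * b2) * h2
    | linear_combination (c1 * c2) * h2

theorem s4_selfadj {N : Matrix (Fin 4) (Fin 4) F} (hN : N ∈ s4 F) :
    Nᵀ * Jm 4 F = Jm 4 F * N := by
  rw [adjoint_iff]
  ext i j
  rw [adj_apply]
  exact hN.2.1 i j

theorem diag_eq_of_sq (h2 : (2 : F) = 0) (M : Matrix (Fin 4) (Fin 4) F) (q : F)
    (hM1 : ∀ i, M i (Fin.rev i) = 0) (hM2 : ∀ i j, M i j = M (Fin.rev j) (Fin.rev i))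
    (hMM : M * M = q • (1 : Matrix (Fin 4) (Fin 4) F)) : M 0 0 = M 1 1 := by
  have e00 := congrFun (congrFun hMM 0) 0
  have e11 := congrFun (congrFun hMM 1) 1
  simp [Matrix.mul_apply, Fin.sum_univ_four] at e00 e11
  have m03 := hM1 0
  have m12 := hM1 1
  rw [rev4_0] at m03
  rw [rev4_1] at m12
  have m13 := hM2 1 3
  have m31 := hM2 3 1
  simp only [rev4_1, rev4_3] at m13 m31
  rw [m03] at e00
  rw [m12, m13, m31] at e11
  have hsq : (M 0 0 + M 1 1) ^ 2 = 0 := by
    linear_combination e00 - e11 + (M 1 1 * M 1 1 + M 0 0 * M 1 1) * h2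
  have h0 : M 0 0 + M 1 1 = 0 := by
    exact pow_eq_zero_iff (two_ne_zero) |>.mp hsq
  linear_combination h0 - (M 1 1) * h2

theorem s4_inv (h2 : (2 : F) = 0) (g : GL (Fin 4) F) (N : Matrix (Fin 4) (Fin 4) F)
    (hN : N ∈ s4 F)
    (hg : ∀ Y Y' : Matrix (Fin 4) (Fin 4) F, Yᵀ * Jm 4 F = Jm 4 F * Y' →
      ((g : Matrix (Fin 4) (Fin 4) F) * Y * ((g⁻¹ : GL (Fin 4) F) : Matrix (Fin 4) (Fin 4) F))ᵀ *
          Jm 4 F =
        Jm 4 F * ((g : Matrix (Fin 4) (Fin 4) F) * Y' *
          ((g⁻¹ : GL (Fin 4) F) : Matrix (Fin 4) (Fin 4) F))) :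
    (g : Matrix (Fin 4) (Fin 4) F) * N * ((g⁻¹ : GL (Fin 4) F) : Matrix (Fin 4) (Fin 4) F) ∈
      s4 F := by
  obtain ⟨h1, h2', h3⟩ := hN
  set Y : Matrix (Fin 4) (Fin 4) F := fun i j => if i.val + j.val < 3 then N i j else 0 with hY
  have hdec : N = Y + adj Y := by
    ext i j
    rw [Matrix.add_apply, adj_apply]
    show N i j = (if i.val + j.val < 3 then N i j else 0) +
      (if (Fin.rev j).val + (Fin.rev i).val < 3 then N (Fin.rev j) (Fin.rev i) else 0)
    have hi := i.2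
    have hj := j.2
    rw [Fin.val_rev, Fin.val_rev]
    rcases lt_trichotomy (i.val + j.val) 3 with h | h | h
    · rw [if_pos h, if_neg (by omega), add_zero]
    · rw [if_neg (by omega), if_neg (by omega), add_zero]
      have hj' : j = Fin.rev i := by
        apply Fin.ext
        rw [Fin.val_rev]
        omega
      rw [hj']
      exact h1 i
    · rw [if_neg (by omega), if_pos (by omega), zero_add]
      exact h2' i j
  set Z := (g : Matrix (Fin 4) (Fin 4) F) * Y * ((g⁻¹ : GL (Fin 4) F) : Matrix (Fin 4) (Fin 4) F)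
    with hZ
  have hadjZ : (g : Matrix (Fin 4) (Fin 4) F) * adj Y *
      ((g⁻¹ : GL (Fin 4) F) : Matrix (Fin 4) (Fin 4) F) = adj Z :=
    (adjoint_iff _ _).mp (hg Y (adj Y) ((adjoint_iff _ _).mpr rfl))
  have hM : (g : Matrix (Fin 4) (Fin 4) F) * N *
      ((g⁻¹ : GL (Fin 4) F) : Matrix (Fin 4) (Fin 4) F) = Z + adj Z := by
    rw [hdec, Matrix.mul_add, Matrix.add_mul, hadjZ]
  have hM1 : ∀ i, (Z + adj Z) i (Fin.rev i) = 0 := by
    intro i
    rw [Matrix.add_apply, adj_apply, Fin.rev_rev]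
    linear_combination (Z i (Fin.rev i)) * h2
  have hM2 : ∀ i j, (Z + adj Z) i j = (Z + adj Z) (Fin.rev j) (Fin.rev i) := by
    intro i j
    rw [Matrix.add_apply, Matrix.add_apply, adj_apply, adj_apply, Fin.rev_rev, Fin.rev_rev,
      add_comm]
  have hNN := s4_sq h2 (show N ∈ s4 F from ⟨h1, h2', h3⟩)
  have hMM : (Z + adj Z) * (Z + adj Z) =
      (N 0 0 ^ 2 + N 0 2 * N 2 0 + N 0 1 * N 1 0) • (1 : Matrix (Fin 4) (Fin 4) F) := by
    rw [← hM]
    have e1 : (g : Matrix (Fin 4) (Fin 4) F) * N *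
        ((g⁻¹ : GL (Fin 4) F) : Matrix (Fin 4) (Fin 4) F) *
        ((g : Matrix (Fin 4) (Fin 4) F) * N *
        ((g⁻¹ : GL (Fin 4) F) : Matrix (Fin 4) (Fin 4) F)) =
        (g : Matrix (Fin 4) (Fin 4) F) * (N * N) *
        ((g⁻¹ : GL (Fin 4) F) : Matrix (Fin 4) (Fin 4) F) := by
      have e2 : ((g⁻¹ : GL (Fin 4) F) : Matrix (Fin 4) (Fin 4) F) *
          (g : Matrix (Fin 4) (Fin 4) F) = 1 := by
        rw [← Units.val_mul, inv_mul_cancel, Units.val_one]
      calc _ = (g : Matrix (Fin 4) (Fin 4) F) * N *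
          (((g⁻¹ : GL (Fin 4) F) : Matrix (Fin 4) (Fin 4) F) *
          (g : Matrix (Fin 4) (Fin 4) F)) * N *
          ((g⁻¹ : GL (Fin 4) F) : Matrix (Fin 4) (Fin 4) F) := by
            simp only [Matrix.mul_assoc]
        _ = _ := by
            rw [e2, Matrix.mul_one]
            simp only [Matrix.mul_assoc]
    rw [e1, hNN, Matrix.mul_smul, Matrix.smul_mul, Matrix.mul_one, ← Units.val_mul,
      mul_inv_cancel, Units.val_one]
  rw [hM]
  exact ⟨hM1, hM2, diag_eq_of_sq h2 _ _ hM1 hM2 hMM⟩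

/-- [S4] -/
theorem exists_cdata4 (h2 : (2 : F) = 0) :
    ∃ D : CData 4 F, D.h = 2 ∧ ∀ N ∈ D.s, ∀ l, (Jm 4 F * N) l l = 0 := by
  refine ⟨{
    s := s4 F
    one_mem := by
      refine ⟨fun i => ?_, fun i j => ?_, ?_⟩
      · fin_cases i <;> simp [Fin.rev]
      · fin_cases i <;> fin_cases j <;> simp [Fin.rev]
      · simp
    q := fun N => N 0 0 ^ 2 + N 0 2 * N 2 0 + N 0 1 * N 1 0
    sq := fun N hN => s4_sq h2 hN
    selfadj := fun N hN => s4_selfadj hN
    inv := fun g N hN hg => s4_inv h2 g N hN hg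
    S := !![0, 0, 1, 0; 0, 0, 0, 1; 1, 0, 0, 0; 0, 1, 0, 0]
    nu := !![0, 0, 1, 0; 0, 0, 0, 1; 0, 0, 0, 0; 0, 0, 0, 0]
    S_mem := by
      refine ⟨fun i => ?_, fun i j => ?_, ?_⟩
      · fin_cases i <;> simp [Fin.rev]
      · fin_cases i <;> fin_cases j <;> simp [Fin.rev]
      · simp
    nu_mem := by
      refine ⟨fun i => ?_, fun i j => ?_, ?_⟩
      · fin_cases i <;> simp [Fin.rev]
      · fin_cases i <;> fin_cases j <;> simp [Fin.rev]
      · simp
    S_sq := by
      ext i j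
      fin_cases i <;> fin_cases j <;> simp [Matrix.mul_apply, Fin.sum_univ_four]
    nu_sq := by
      ext i j
      fin_cases i <;> fin_cases j <;> simp [Matrix.mul_apply, Fin.sum_univ_four]
    anti := by
      ext i j
      fin_cases i <;> fin_cases j <;> simp [Matrix.mul_apply, Fin.sum_univ_four]
    h := 2
    h_ne := by decide
    S_zero := by
      intro l
      fin_cases l <;> simp
    S_h := by
      intro l
      fin_cases l <;> simp
    nu_h := by
      intro l
      fin_cases l <;> simp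
    nuS_h := by
      intro l
      fin_cases l <;> simp [Matrix.mul_apply, Fin.sum_univ_four] }, rfl, ?_⟩
  intro N hN l
  rw [Jm_mul]
  have := hN.1 (Fin.rev l)
  rw [Fin.rev_rev] at this
  exact this

end S4

end Cfsg.Agent.Lib.Helper75.TW
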